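import Groth.Agent.DualCore.Residue
import Mathlib.RingTheory.HopkinsLevitzki
import Mathlib.RingTheory.Artinian.Module
import Mathlib.Data.Int.Interval

/-!
# Top nonvanishing, and the zero-dimensional case
-/

set_option autoImplicit false

universe u

open CategoryTheory CategoryTheory.Limits DerivedCategory IsLocalRing

attribute [local instance] HasDerivedCategory.standard

namespace Groth.DualCore

variable {A : Type u} [CommRing A] [IsNoetherianRing A] [IsLocalRing A] {ω : Dual.D A}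

/-- `Hom(M, ω⟦-d⟧) ≠ 0` for `d = dim M`. -/
theorem nontrivial_hom_supportDim (hω : Dual.IsDualizing A ω) (hn : Dual.IsNormalized A ω)
    (M : Type u) [AddCommGroup M] [Module A M] [Module.Finite A M] (d : ℕ)
    (hd : Module.supportDim A M = (d : ℕ)) : Nontrivial (Dual.inD A M ⟶ ω⟦(-(d : ℤ))⟧) := by
  by_contra htop
  rw [not_nontrivial_iff_subsingleton] at htop
  obtain ⟨a, ha⟩ := exists_isGE hω
  obtain ⟨a', b', hfid⟩ := hω.finite_injective_dimension
  obtain ⟨r⟩ := exists_injRep ω a' b' hfid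
  obtain ⟨hvan, hsupp⟩ := bound ω a hω.finite_cohomology hn (d + 1) M (lt_natCast_succ_iff.2 hd.le)
  obtain ⟨l, hl⟩ : ∃ l : LTSeries (Module.support A M), l.length = d :=
    Order.le_krullDim_iff.1 hd.ge
  let p : PrimeSpectrum A := l.head.1
  have hfinV : ∀ i, Module.Finite A (Dual.inD A M ⟶ ω⟦i⟧) := fun i =>
    finite_hom ω a hω.finite_cohomology i M
  -- `p` is outside the support of every `Hom(M, ω⟦i⟧)`
  have hout : ∀ i : ℤ, p ∉ Module.support A (Dual.inD A M ⟶ ω⟦i⟧) := by
    intro i hi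
    haveI : Nontrivial (Dual.inD A M ⟶ ω⟦i⟧) :=
      Module.nonempty_support_iff.1 ⟨p, hi⟩
    have hi₁ : -(d : ℤ) < i ∧ i ≤ 0 := by
      by_contra hc
      rcases eq_or_ne i (-(d : ℤ)) with rfl | hne
      · exact not_subsingleton _ htop
      · exact not_subsingleton _ (hvan i (by lia))
    have hlong : (d : WithBot ℕ∞) ≤ Module.supportDim A (Dual.inD A M ⟶ ω⟦i⟧) :=
      Order.le_krullDim_iff.2 ⟨LTSeries.mk l.length
        (fun k => ⟨(l k).1, Module.mem_support_mono (l.monotone (Fin.zero_le k)) hi⟩)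
        (fun _ _ hkj => l.strictMono hkj), hl⟩
    have := natCast_le_natCast.1 (hlong.trans (hsupp i hi₁.2))
    lia
  have hwit : ∀ i : ℤ, ∃ s ∈ p.asIdeal.primeCompl, ∀ v : Dual.inD A M ⟶ ω⟦i⟧, s • v = 0 := by
    intro i
    haveI := hfinV i
    have h := hout i
    rw [Module.support_eq_zeroLocus, PrimeSpectrum.mem_zeroLocus, Set.not_subset] at h
    obtain ⟨s, hs, hsp⟩ := h
    exact ⟨s, hsp, Module.mem_annihilator.1 hs⟩
  choose σ hσp hσ using hwit
  let s := ∏ i ∈ Finset.Icc (-(d : ℤ)) 0, σ i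
  have hkill : ∀ i, ∀ x : Dual.HD A (Q.obj (r.DC M)) i, s • x = 0 := by
    intro i x
    apply (r.HDEquiv M i).injective
    rw [map_smul, map_zero]
    by_cases hi : i ∈ Finset.Icc (-(d : ℤ)) 0
    · show (∏ k ∈ Finset.Icc (-(d : ℤ)) 0, σ k) • _ = 0
      rw [← Finset.mul_prod_erase _ _ hi, mul_comm, mul_smul, hσ i, smul_zero]
    · haveI : Subsingleton (Dual.inD A M ⟶ ω⟦i⟧) := hvan i (by simp at hi; lia)
      exact Subsingleton.elim _ _
  haveI : IsGE (Q.obj (r.DC M)) (-(d : ℤ)) := (isGE_iff _ _).2 fun i hi =>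
    haveI := hvan i (Or.inl (by lia))
    ModuleCat.isZero_iff_subsingleton.2 (r.HDEquiv M i).toEquiv.subsingleton
  haveI : IsLE (Q.obj (r.DC M)) 0 := (isLE_iff _ _).2 fun i hi =>
    haveI := hvan i (Or.inr hi)
    ModuleCat.isZero_iff_subsingleton.2 (r.HDEquiv M i).toEquiv.subsingleton
  obtain ⟨k, hk⟩ := exists_pow_smul_id_eq_zero (Q.obj (r.DC M)) (-(d : ℤ)) 0 s hkill
  have hann : s ^ k ∈ Module.annihilator A M := by
    rw [Module.mem_annihilator]
    intro x
    apply (r.η_bijective hω M).1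
    rw [map_smul, map_zero, ← Category.id_comp (r.η x), ← Linear.smul_comp, hk, zero_comp]
  have hp : p ∈ Module.support A M := l.head.2
  rw [Module.support_eq_zeroLocus, PrimeSpectrum.mem_zeroLocus] at hp
  have hsp : s ∈ p.asIdeal.primeCompl := prod_mem fun i _ => hσp i
  exact hsp (p.isPrime.mem_of_pow_mem k (hp hann))

/-- In dimension zero a normalized dualizing complex is the injective hull of the residue field. -/
theorem nonempty_iso_hull (h0 : ringKrullDim A = 0) (hω : Dual.IsDualizing A ω)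
    (hn : Dual.IsNormalized A ω) (E : Type u) [AddCommGroup E] [Module A E]
    (f : ResidueField A →ₗ[A] E) (hf : InjHull.IsInjectiveHull f) :
    Nonempty (ω ≅ Dual.inD A E) := by
  haveI : Ring.KrullDimLE 0 A := Ring.krullDimLE_iff.2 h0.le
  haveI : IsArtinianRing A := IsNoetherianRing.isArtinianRing_of_krullDimLE_zero
  obtain ⟨a, ha⟩ := exists_isGE hω
  have hvan : ∀ (M : Type u) [AddCommGroup M] [Module A M], Module.Finite A M → ∀ i : ℤ,
      (i < 0 ∨ 0 < i) → Subsingleton (Dual.inD A M ⟶ ω⟦i⟧) := fun M _ _ _ i hi =>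
    subsingleton_hom_of_supportDim ω a hω.finite_cohomology hn (d := 0)
      ((Module.supportDim_le_ringKrullDim A M).trans h0.le) i (by simpa using hi)
  obtain ⟨r, ra, rb⟩ := exists_injRep' ω 0 0 hvan
  haveI : r.I.IsStrictlyGE 0 := by have := r.hGE; rwa [ra] at this
  haveI : r.I.IsStrictlyLE 0 := by have := r.hLE; rwa [rb] at this
  obtain ⟨Y, ⟨eY⟩⟩ := CochainComplex.exists_iso_single r.I 0
  let ω₀ : Dual.inD A Y ≅ ω :=
    ((singleFunctorIsoCompQ (ModuleCat.{u} A) 0).app (ModuleCat.of A Y)) ≪≫ Q.mapIso eY.symm ≪≫ r.iso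
  have hY : Module.Injective A Y :=
    (Module.Baer.of_equiv (((HomologicalComplex.eval _ _ 0).mapIso eY : r.I.X 0 ≅ _) ≪≫
      (HomologicalComplex.singleObjXSelf (ComplexShape.up ℤ) 0 Y : _ ≅ Y)).toLinearEquiv
      (Module.Baer.of_injective (r.injective 0))).injective
  obtain ⟨n, hnv, ⟨ev⟩⟩ := r.residue_single_degree (maximalIdeal A) hω
  obtain rfl : n = 0 := by
    by_contra hne
    haveI : Subsingleton (Dual.inD A (A ⧸ maximalIdeal A) ⟶ ω⟦n⟧) := hn n hne
    exact not_subsingleton (A ⧸ maximalIdeal A) ev.symm.toEquiv.subsingleton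
  -- `Hom_A(κ, Y) ≅ κ`
  let Ψ : (ResidueField A →ₗ[A] Y) →ₗ[A] (Dual.inD A (ResidueField A) ⟶ Dual.inD A Y) :=
    { toFun := inDmap, map_add' := inDmap_add, map_smul' := inDmap_smul }
  have hΨ : Function.Bijective Ψ :=
    ⟨fun g g' h => congrArg ModuleCat.Hom.hom
      ((DerivedCategory.singleFunctor (ModuleCat.{u} A) 0).map_injective h),
     fun v => ⟨_, (DerivedCategory.singleFunctor (ModuleCat.{u} A) 0).map_preimage v⟩⟩
  let φ : (ResidueField A →ₗ[A] Y) ≃ₗ[A] (A ⧸ maximalIdeal A) :=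
    (LinearEquiv.ofBijective Ψ hΨ).trans ((Linear.homCongr A (Iso.refl _)
      (ω₀ ≪≫ ((shiftFunctorZero (Dual.D A) ℤ).app ω).symm)).trans ev)
  haveI hsimp : IsSimpleModule A (A ⧸ maximalIdeal A) := isSimple_residue _
  haveI : IsSimpleModule A (ResidueField A) := hsimp
  haveI : IsSimpleModule A (ResidueField A →ₗ[A] Y) := IsSimpleModule.congr φ
  haveI := IsSimpleModule.nontrivial A (ResidueField A →ₗ[A] Y)
  obtain ⟨g, hg⟩ := exists_ne (0 : ResidueField A →ₗ[A] Y)
  obtain ⟨h, hh⟩ := hY.out f hf.injective g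
  have hinj : Function.Injective h := by
    rw [← LinearMap.ker_eq_bot]
    by_contra hne
    refine hf.essential _ hne ((Submodule.eq_bot_iff _).2 ?_)
    rintro x ⟨hx, y, rfl⟩
    have hgy : g y = 0 := (hh y).symm.trans hx
    rw [← map_zero g] at hgy
    rw [LinearMap.injective_of_ne_zero hg hgy, map_zero]
  have hsurj : Function.Surjective h := by
    obtain ⟨ρ, hρ⟩ := hf.isInjective.out h hinj LinearMap.id
    rw [← LinearMap.range_eq_top]
    by_contra hne
    have hker : LinearMap.ker ρ ≠ ⊥ := by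
      intro hbot
      refine hne (LinearMap.range_eq_top.2 fun y => ⟨ρ y, ?_⟩)
      exact (LinearMap.ker_eq_bot.1 hbot) (hρ (ρ y))
    obtain ⟨S, hS, hSle⟩ : ∃ S : Submodule A Y, IsSimpleModule A S ∧ S ≤ LinearMap.ker ρ := by
      obtain ⟨y, hy, hy0⟩ := Submodule.exists_mem_ne_zero_of_ne_bot hker
      haveI : Module.Finite A (A ∙ y) := Module.Finite.span_singleton A y
      haveI : IsArtinian A (A ∙ y) := inferInstance
      rcases IsAtomic.eq_bot_or_exists_atom_le (⊤ : Submodule A (A ∙ y)) with htop | ⟨S, hS, -⟩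
      · have h1 : (⟨y, Submodule.mem_span_singleton_self y⟩ : A ∙ y) = 0 :=
          (Submodule.mem_bot A).1 (htop ▸ Submodule.mem_top)
        exact absurd (congrArg Subtype.val h1) hy0
      · refine ⟨S.map (A ∙ y).subtype, ?_, ?_⟩
        · haveI := isSimpleModule_iff_isAtom.2 hS
          exact IsSimpleModule.congr (Submodule.equivMapOfInjective _ (A ∙ y).injective_subtype S).symm
        · rintro _ ⟨z, -, rfl⟩
          exact (Submodule.span_singleton_le_iff_mem _ _).2 hy z.2
    obtain ⟨I, hI, ⟨eS⟩⟩ := isSimpleModule_iff_quot_maximal.1 hS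
    obtain rfl := IsLocalRing.eq_maximalIdeal hI
    let g' : ResidueField A →ₗ[A] Y := S.subtype ∘ₗ eS.symm.toLinearMap
    obtain ⟨c, hc⟩ := IsSimpleModule.toSpanSingleton_surjective A hg g'
    obtain ⟨y, hy, hy0⟩ := Submodule.exists_mem_ne_zero_of_ne_bot
      (fun hbot : S = ⊥ => (isSimpleModule_iff_isAtom.1 hS).1 hbot)
    obtain ⟨k, hk⟩ := eS.symm.surjective ⟨y, hy⟩
    have hyg : y = h (c • f k) := by
      refine Eq.trans ?_ ((map_smul h c (f k)).trans (congrArg (c • ·) (hh k))).symm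
      calc y = g' k := (congrArg Subtype.val hk).symm
        _ = c • g k := (LinearMap.congr_fun hc k).symm
    apply hy0
    have := hSle hy
    rw [LinearMap.mem_ker, hyg, hρ] at this
    rw [hyg]
    simp only [LinearMap.id_apply] at this
    rw [this, map_zero]
  exact ⟨ω₀.symm ≪≫ (DerivedCategory.singleFunctor (ModuleCat.{u} A) 0).mapIso
    (LinearEquiv.ofBijective h ⟨hinj, hsurj⟩).symm.toModuleIso⟩

end Groth.DualCore
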