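import Groth.Agent.DualCore.ModuleHom
import Groth.Prelude.Def_CAlg
import Mathlib.RingTheory.KrullDimension.Regular
import Mathlib.RingTheory.Ideal.AssociatedPrime.Finiteness
import Mathlib.RingTheory.Ideal.KrullsHeightTheorem
import Mathlib.RingTheory.Regular.Category

/-!
# Vanishing of `Hom(M, ω⟦i⟧)` for normalized `ω`, and depth
-/

set_option autoImplicit false

universe u

open CategoryTheory CategoryTheory.Limits IsLocalRing
open scoped Pointwise

attribute [local instance] HasDerivedCategory.standard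

namespace Groth.DualCore

variable {A : Type u} [CommRing A]

section SupportDim

variable {M N P : Type*} [AddCommGroup M] [Module A M] [AddCommGroup N] [Module A N]
  [AddCommGroup P] [Module A P]

lemma supportDim_le_of_subset_union (h : Module.support A N ⊆ Module.support A M ∪ Module.support A P) :
    Module.supportDim A N ≤ max (Module.supportDim A M) (Module.supportDim A P) := by
  refine iSup_le fun l => ?_
  rcases h l.head.2 with h₀ | h₀
  · refine le_max_of_le_left ?_
    exact le_iSup_of_le (LTSeries.mk l.length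
      (fun k => (⟨(l k).1, Module.mem_support_mono (l.monotone (Fin.zero_le k)) h₀⟩ : Module.support A M))
      fun _ _ hkj => l.strictMono hkj) le_rfl
  · refine le_max_of_le_right ?_
    exact le_iSup_of_le (LTSeries.mk l.length
      (fun k => (⟨(l k).1, Module.mem_support_mono (l.monotone (Fin.zero_le k)) h₀⟩ : Module.support A P))
      fun _ _ hkj => l.strictMono hkj) le_rfl

lemma supportDim_le_of_exact_mid {f : M →ₗ[A] N} {g : N →ₗ[A] P} (h : Function.Exact f g) :
    Module.supportDim A N ≤ max (Module.supportDim A M) (Module.supportDim A P) := by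
  refine supportDim_le_of_subset_union fun p hp => ?_
  contrapose hp
  simp only [Set.mem_union, not_or, Module.notMem_support_iff'] at hp ⊢
  intro m
  obtain ⟨r, hr, e₁⟩ := hp.2 (g m)
  rw [← map_smul, h] at e₁
  obtain ⟨m', hm'⟩ := e₁
  obtain ⟨s, hs, e₂⟩ := hp.1 m'
  exact ⟨_, p.asIdeal.primeCompl.mul_mem hs hr, by rw [mul_smul, ← hm', ← map_smul, e₂, map_zero]⟩

lemma natCast_le_natCast {a b : ℕ} : ((a : ℕ) : WithBot ℕ∞) ≤ (b : ℕ) ↔ a ≤ b := by norm_cast

lemma natCast_lt_natCast {a b : ℕ} : ((a : ℕ) : WithBot ℕ∞) < (b : ℕ) ↔ a < b := by norm_cast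

lemma lt_natCast_succ_iff {x : WithBot ℕ∞} {n : ℕ} : x < ((n + 1 : ℕ) : WithBot ℕ∞) ↔ x ≤ (n : ℕ) := by
  induction x using WithBot.recBotCoe with
  | bot => simp
  | coe a =>
    induction a using ENat.recTopCoe with
    | top =>
      constructor <;> intro h
      · exact absurd h (not_lt.2 le_top)
      · exact absurd (le_antisymm le_top h) (fun h' => ENat.coe_ne_top n (WithBot.coe_injective h'))
    | coe b => norm_cast; exact Nat.lt_succ_iff

lemma add_one_le_natCast_succ_iff {x : WithBot ℕ∞} {n : ℕ} :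
    x + 1 ≤ ((n + 1 : ℕ) : WithBot ℕ∞) ↔ x ≤ (n : ℕ) := by
  induction x using WithBot.recBotCoe with
  | bot => simp
  | coe a =>
    induction a using ENat.recTopCoe with
    | top =>
      constructor <;> intro h
      · exact absurd (le_antisymm le_top h)
          (fun h' => ENat.coe_ne_top (n + 1) (WithBot.coe_injective h'))
      · exact absurd (le_antisymm le_top h) (fun h' => ENat.coe_ne_top n (WithBot.coe_injective h'))
    | coe b => norm_cast; lia

variable (A) in
lemma exists_supportDim_eq [IsLocalRing A] [IsNoetherianRing A] (M : Type u) [AddCommGroup M]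
    [Module A M] [Nontrivial M] : ∃ d : ℕ, Module.supportDim A M = d := by
  have h1 := Module.supportDim_ne_bot_of_nontrivial A M
  have h2 : Module.supportDim A M ≠ ⊤ :=
    ((Module.supportDim_le_ringKrullDim A M).trans_lt ringKrullDim_lt_top).ne
  induction hx : Module.supportDim A M using WithBot.recBotCoe with
  | bot => exact absurd hx h1
  | coe a =>
    induction a using ENat.recTopCoe with
    | top => exact absurd hx h2
    | coe b => exact ⟨b, rfl⟩

end SupportDim

variable [IsNoetherianRing A] (ω : Dual.D A)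

section Basic

omit [IsNoetherianRing A] in
lemma subsingleton_hom_of_subsingleton (M : Type u) [AddCommGroup M] [Module A M] [Subsingleton M]
    (i : ℤ) : Subsingleton (Dual.inD A M ⟶ ω⟦i⟧) := by
  refine ⟨fun u v => ?_⟩
  rw [← map1_id ω i u, ← map1_id ω i v, show (LinearMap.id : M →ₗ[A] M) = 0 from
    LinearMap.ext fun _ => Subsingleton.elim _ _, map1_apply, map1_apply, inDmap_zero, zero_comp,
    zero_comp]

omit [IsNoetherianRing A] in
lemma subsingleton_hom_congr {M N : Type u} [AddCommGroup M] [Module A M] [AddCommGroup N]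
    [Module A N] (e : M ≃ₗ[A] N) (i : ℤ) [Subsingleton (Dual.inD A N ⟶ ω⟦i⟧)] :
    Subsingleton (Dual.inD A M ⟶ ω⟦i⟧) :=
  (map1_injective_of_rightInverse ω i e.symm.toLinearMap e.toLinearMap
    (LinearMap.ext e.symm_apply_apply)).subsingleton

omit [IsNoetherianRing A] in
lemma nontrivial_hom_congr {M N : Type u} [AddCommGroup M] [Module A M] [AddCommGroup N]
    [Module A N] (e : M ≃ₗ[A] N) (i : ℤ) [Nontrivial (Dual.inD A N ⟶ ω⟦i⟧)] :
    Nontrivial (Dual.inD A M ⟶ ω⟦i⟧) :=
  (map1_injective_of_rightInverse ω i e.toLinearMap e.symm.toLinearMap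
    (LinearMap.ext e.apply_symm_apply)).nontrivial

omit [IsNoetherianRing A] in
lemma subsingleton_hom_of_exact {M N P : Type u} [AddCommGroup M] [Module A M] [AddCommGroup N]
    [Module A N] [AddCommGroup P] [Module A P] (f : M →ₗ[A] N) (g : N →ₗ[A] P)
    (hf : Function.Injective f) (hg : Function.Surjective g) (hfg : Function.Exact f g) (i : ℤ)
    [Subsingleton (Dual.inD A M ⟶ ω⟦i⟧)] [Subsingleton (Dual.inD A P ⟶ ω⟦i⟧)] :
    Subsingleton (Dual.inD A N ⟶ ω⟦i⟧) := by
  refine subsingleton_of_forall_eq 0 fun u => ?_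
  obtain ⟨v, rfl⟩ := (map1_exact_mid f g hf hg hfg ω i u).1 (Subsingleton.elim _ _)
  rw [Subsingleton.elim v 0, map_zero]

omit [IsNoetherianRing A] in
lemma annihilator_le_annihilator_hom (M : Type u) [AddCommGroup M] [Module A M] (i : ℤ) :
    Module.annihilator A M ≤ Module.annihilator A (Dual.inD A M ⟶ ω⟦i⟧) := by
  intro r hr
  rw [Module.mem_annihilator] at hr ⊢
  intro u
  rw [← map1_smul_id, show r • (LinearMap.id : M →ₗ[A] M) = 0 from LinearMap.ext fun m => hr m,
    map1_apply, inDmap_zero, zero_comp]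

lemma supportDim_hom_le (a : ℤ) [DerivedCategory.IsGE ω a]
    (hK : ∀ i, Module.Finite A (Dual.HD A ω i))
    (M : Type u) [AddCommGroup M] [Module A M] [Module.Finite A M] (i : ℤ) :
    Module.supportDim A (Dual.inD A M ⟶ ω⟦i⟧) ≤ Module.supportDim A M := by
  haveI := finite_hom ω a hK i M
  refine Order.krullDim_le_of_strictMono
    (fun p => ⟨p.1, ?_⟩) (fun _ _ h => h)
  obtain ⟨q, hq⟩ := p
  rw [Module.support_eq_zeroLocus] at hq ⊢
  exact PrimeSpectrum.zeroLocus_anti_mono_ideal (annihilator_le_annihilator_hom ω M i) hq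


/-- For a prime `p ≠ 𝔪` and `N ≅ A/p` of support dimension `≤ n`: some `x ∈ 𝔪` is regular on `N` and
`dim N/xN < n`. -/
lemma exists_regular_of_prime [IsLocalRing A] (N : Type u) [AddCommGroup N] [Module A N]
    [Module.Finite A N] (p : PrimeSpectrum A) (e : N ≃ₗ[A] A ⧸ p.1) (hp : p.1 ≠ maximalIdeal A)
    {n : ℕ} (h : Module.supportDim A N ≤ (n : ℕ)) :
    ∃ x ∈ maximalIdeal A, IsSMulRegular N x ∧ Module.supportDim A (QuotSMulTop x N) < (n : ℕ) := by
  obtain ⟨x, hxm, hxp⟩ := SetLike.exists_of_lt (lt_of_le_of_ne (le_maximalIdeal p.2.ne_top) hp)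
  have hreg : IsSMulRegular N x := by
    refine isSMulRegular_iff_right_eq_zero_of_smul.2 fun v hv => ?_
    apply e.injective
    rw [map_zero]
    obtain ⟨w, hw⟩ := Submodule.Quotient.mk_surjective _ (e v)
    have : (Submodule.Quotient.mk (x • w) : A ⧸ p.1) = 0 := by
      rw [Submodule.Quotient.mk_smul, hw, ← map_smul, hv, map_zero]
    rw [← hw, Submodule.Quotient.mk_eq_zero]
    rw [Submodule.Quotient.mk_eq_zero, smul_eq_mul] at this
    exact (p.2.mem_or_mem this).resolve_left hxp
  refine ⟨x, hxm, hreg, ?_⟩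
  have h' := Module.supportDim_quotSMulTop_succ_eq_supportDim hreg hxm
  rcases subsingleton_or_nontrivial (QuotSMulTop x N) with hQ | hQ
  · rw [Module.supportDim_eq_bot_of_subsingleton]
    exact WithBot.bot_lt_coe _
  · obtain ⟨e, he⟩ := exists_supportDim_eq A (QuotSMulTop x N)
    rw [he] at h' ⊢
    rw [← h'] at h
    have : e + 1 ≤ n := by exact_mod_cast h
    exact natCast_lt_natCast.2 (by lia)

omit [IsNoetherianRing A] in
lemma smul_exact (M : Type u) [AddCommGroup M] [Module A M] (x : A) :
    Function.Exact (x • LinearMap.id : M →ₗ[A] M) (Submodule.mkQ (x • ⊤ : Submodule A M)) := by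
  refine LinearMap.exact_iff.2 ?_
  rw [Submodule.ker_mkQ]
  ext m
  simp [Submodule.mem_smul_pointwise_iff_exists]

omit [IsNoetherianRing A] in
lemma smul_injective {M : Type u} [AddCommGroup M] [Module A M] {x : A} (hx : IsSMulRegular M x) :
    Function.Injective (x • LinearMap.id : M →ₗ[A] M) := fun _ _ h => hx h

omit [IsNoetherianRing A] in
/-- `x` is surjective on `Hom(M, ω⟦i⟧)` when `Hom(M/xM, ω⟦i+1⟧) = 0`. -/
lemma smul_surjective {M : Type u} [AddCommGroup M] [Module A M] {x : A} (hx : IsSMulRegular M x)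
    (i j : ℤ) (h : i + 1 = j) [Subsingleton (Dual.inD A (QuotSMulTop x M) ⟶ ω⟦j⟧)]
    (u : Dual.inD A M ⟶ ω⟦i⟧) : ∃ v, x • v = u := by
  obtain ⟨v, hv⟩ := (map1_exact_left (x • LinearMap.id : M →ₗ[A] M) (Submodule.mkQ (x • ⊤)) (smul_injective hx)
    (Submodule.mkQ_surjective _) (smul_exact M x) ω i j h u).1 (Subsingleton.elim _ _)
  exact ⟨v, by rw [← hv, map1_smul_id]⟩

/-- `Hom(M, ω⟦i⟧) / x` embeds into `Hom(M/xM, ω⟦i+1⟧)`. -/
lemma supportDim_quot_hom_le (a : ℤ) [DerivedCategory.IsGE ω a]
    (hK : ∀ i, Module.Finite A (Dual.HD A ω i))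
    {M : Type u} [AddCommGroup M] [Module A M] [Module.Finite A M] {x : A} (hx : IsSMulRegular M x)
    (i j : ℤ) (h : i + 1 = j) :
    Module.supportDim A (QuotSMulTop x (Dual.inD A M ⟶ ω⟦i⟧)) ≤
      Module.supportDim A (Dual.inD A (QuotSMulTop x M) ⟶ ω⟦j⟧) := by
  have hex := map1_exact_left (x • LinearMap.id : M →ₗ[A] M) (Submodule.mkQ (x • ⊤)) (smul_injective hx)
    (Submodule.mkQ_surjective _) (smul_exact M x) ω i j h
  have hker : LinearMap.ker (delta (x • LinearMap.id : M →ₗ[A] M) (Submodule.mkQ (x • ⊤)) (smul_injective hx)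
      (Submodule.mkQ_surjective _) (smul_exact M x) ω i j h) =
        x • (⊤ : Submodule A (Dual.inD A M ⟶ ω⟦i⟧)) := by
    rw [LinearMap.exact_iff.1 hex]
    ext u
    rw [LinearMap.mem_range, Submodule.mem_smul_pointwise_iff_exists]
    exact ⟨fun ⟨v, hv⟩ => ⟨v, Submodule.mem_top, by rw [← hv, map1_smul_id]⟩,
      fun ⟨v, _, hv⟩ => ⟨v, by rw [map1_smul_id, hv]⟩⟩
  exact Module.supportDim_le_of_injective (Submodule.liftQ _ _ hker.ge)
    (LinearMap.ker_eq_bot.1 (Submodule.ker_liftQ_eq_bot' _ _ hker.symm))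

end Basic

section Normalized

variable [IsLocalRing A] (a : ℤ) [DerivedCategory.IsGE ω a]
  (hK : ∀ i, Module.Finite A (Dual.HD A ω i)) (hn : Dual.IsNormalized A ω)

include hK a in
lemma subsingleton_of_smul_surjective {M : Type u} [AddCommGroup M] [Module A M] [Module.Finite A M]
    {x : A} (hx : x ∈ maximalIdeal A) (i : ℤ) (h : ∀ u : Dual.inD A M ⟶ ω⟦i⟧, ∃ v, x • v = u) :
    Subsingleton (Dual.inD A M ⟶ ω⟦i⟧) := by
  haveI := finite_hom ω a hK i M
  refine subsingleton_of_forall_eq 0 fun u => ?_
  have := Submodule.eq_bot_of_le_smul_of_le_jacobson_bot (maximalIdeal A)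
    (⊤ : Submodule A (Dual.inD A M ⟶ ω⟦i⟧)) Module.Finite.fg_top
    (fun w _ => by obtain ⟨v, rfl⟩ := h w; exact Submodule.smul_mem_smul hx trivial)
    (maximalIdeal_le_jacobson _)
  exact (Submodule.mem_bot A).1 (this ▸ Submodule.mem_top)

/-- Vanishing range and support bound, for modules of support dimension `< n`. -/
def Bound (n : ℕ) (M : Type u) [AddCommGroup M] [Module A M] : Prop :=
  (∀ i : ℤ, i ≤ -(n : ℤ) ∨ 0 < i → Subsingleton (Dual.inD A M ⟶ ω⟦i⟧)) ∧
    ∀ i : ℤ, i ≤ 0 → Module.supportDim A (Dual.inD A M ⟶ ω⟦i⟧) ≤ ((-i).toNat : ℕ)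

include hn hK a in
lemma bound : ∀ (n : ℕ) (M : Type u) [AddCommGroup M] [Module A M] [Module.Finite A M],
    Module.supportDim A M < (n : ℕ) → Bound ω n M := by
  intro n
  induction n with
  | zero =>
    intro M _ _ _ h
    haveI : Subsingleton M := by
      by_contra hM
      rw [not_subsingleton_iff_nontrivial] at hM
      obtain ⟨d, hd⟩ := exists_supportDim_eq A M
      rw [hd, natCast_lt_natCast] at h
      lia
    haveI := subsingleton_hom_of_subsingleton ω M
    exact ⟨fun i _ => inferInstance,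
      fun i _ => by rw [Module.supportDim_eq_bot_of_subsingleton]; exact bot_le⟩
  | succ n ih =>
    intro M _ _ hM h
    rw [lt_natCast_succ_iff] at h
    induction hM using IsNoetherianRing.induction_on_isQuotientEquivQuotientPrime A with
    | subsingleton N =>
      haveI := subsingleton_hom_of_subsingleton ω N
      exact ⟨fun i _ => inferInstance,
        fun i _ => by rw [Module.supportDim_eq_bot_of_subsingleton]; exact bot_le⟩
    | exact N₁ N₂ N₃ f g hf hg hfg h₁ h₃ =>
      have b₁ := h₁ ((Module.supportDim_le_of_injective f hf).trans h)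
      have b₃ := h₃ ((Module.supportDim_le_of_surjective g hg).trans h)
      refine ⟨fun i hi => ?_, fun i hi => ?_⟩
      · haveI := b₁.1 i hi; haveI := b₃.1 i hi
        exact subsingleton_hom_of_exact ω f g hf hg hfg i
      · have hm := map1_exact_mid f g hf hg hfg ω i
        exact le_trans (supportDim_le_of_exact_mid hm) (max_le (b₃.2 i hi) (b₁.2 i hi))
    | quotient N p e =>
      by_cases hp : p.1 = maximalIdeal A
      · have e' : N ≃ₗ[A] ResidueField A := e.trans (Submodule.quotEquivOfEq _ _ hp)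
        refine ⟨fun i hi => ?_, fun i hi => ?_⟩
        · haveI := hn i (by lia)
          exact subsingleton_hom_congr ω e' i
        · refine (supportDim_hom_le ω a hK N i).trans ?_
          rw [Module.supportDim_eq_of_equiv e']
          show Module.supportDim A (A ⧸ maximalIdeal A) ≤ _
          rw [Module.supportDim_quotient_eq_ringKrullDim,
            ringKrullDim_eq_zero_of_isField ((Ideal.Quotient.maximal_ideal_iff_isField_quotient _).1
              inferInstance)]
          exact (natCast_le_natCast (a := 0)).2 (Nat.zero_le _)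
      · obtain ⟨x, hxm, hreg, hQ⟩ := exists_regular_of_prime N p e hp h
        obtain ⟨bQ, bQd⟩ := ih _ hQ
        have hvan : ∀ i : ℤ, i ≤ -((n + 1 : ℕ) : ℤ) ∨ 0 ≤ i →
            Subsingleton (Dual.inD A N ⟶ ω⟦i⟧) := fun i hi => by
          haveI := bQ (i + 1) (by lia)
          exact subsingleton_of_smul_surjective ω a hK hxm i (smul_surjective ω hreg i _ rfl)
        refine ⟨fun i hi => hvan i (by lia), fun i hi => ?_⟩
        rcases hi.eq_or_lt with rfl | hi
        · haveI := hvan 0 (Or.inr le_rfl)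
          rw [Module.supportDim_eq_bot_of_subsingleton]
          exact bot_le
        · haveI := finite_hom ω a hK i N
          refine (Module.supportDim_le_supportDim_quotSMulTop_succ hxm).trans ?_
          obtain ⟨k, hk⟩ : ∃ k : ℕ, (-i).toNat = k + 1 := ⟨(-i).toNat - 1, by lia⟩
          rw [hk, add_one_le_natCast_succ_iff]
          refine (supportDim_quot_hom_le ω a hK hreg i (i + 1) rfl).trans ((bQd _ (by lia)).trans ?_)
          rw [natCast_le_natCast]
          lia

include hn hK a in
lemma subsingleton_hom_of_supportDim {M : Type u} [AddCommGroup M] [Module A M] [Module.Finite A M]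
    {d : ℕ} (hd : Module.supportDim A M ≤ (d : ℕ)) (i : ℤ) (hi : i < -(d : ℤ) ∨ 0 < i) :
    Subsingleton (Dual.inD A M ⟶ ω⟦i⟧) :=
  (bound ω a hK hn (d + 1) M (lt_natCast_succ_iff.2 hd)).1 i (by lia)

include hn hK a in
lemma subsingleton_hom_of_pos (M : Type u) [AddCommGroup M] [Module A M] [Module.Finite A M]
    (i : ℤ) (hi : 0 < i) : Subsingleton (Dual.inD A M ⟶ ω⟦i⟧) := by
  rcases subsingleton_or_nontrivial M with h | h
  · exact subsingleton_hom_of_subsingleton ω M i
  · obtain ⟨d, hd⟩ := exists_supportDim_eq A M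
    exact subsingleton_hom_of_supportDim ω a hK hn hd.le i (Or.inr hi)

include hn hK a in
lemma nontrivial_hom_residueField (hω : Nontrivial (ω ⟶ ω)) :
    Nontrivial (Dual.inD A (ResidueField A) ⟶ ω⟦(0 : ℤ)⟧) := by
  by_contra hc
  rw [not_nontrivial_iff_subsingleton] at hc
  have key : ∀ (n : ℕ) (M : Type u) [AddCommGroup M] [Module A M] [Module.Finite A M],
      Module.supportDim A M < (n : ℕ) → ∀ i : ℤ, Subsingleton (Dual.inD A M ⟶ ω⟦i⟧) := by
    intro n
    induction n with
    | zero =>
      intro M _ _ _ h i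
      exact (bound ω a hK hn 0 M h).1 i (by lia)
    | succ n ih =>
      intro M _ _ hM h
      rw [lt_natCast_succ_iff] at h
      induction hM using IsNoetherianRing.induction_on_isQuotientEquivQuotientPrime A with
      | subsingleton N => intro i; exact subsingleton_hom_of_subsingleton ω N i
      | exact N₁ N₂ N₃ f g hf hg hfg h₁ h₃ =>
        intro i
        haveI := h₁ ((Module.supportDim_le_of_injective f hf).trans h) i
        haveI := h₃ ((Module.supportDim_le_of_surjective g hg).trans h) i
        exact subsingleton_hom_of_exact ω f g hf hg hfg i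
      | quotient N p e =>
        intro i
        by_cases hp : p.1 = maximalIdeal A
        · have e' : N ≃ₗ[A] ResidueField A := e.trans (Submodule.quotEquivOfEq _ _ hp)
          haveI : Subsingleton (Dual.inD A (ResidueField A) ⟶ ω⟦i⟧) := by
            rcases eq_or_ne i 0 with rfl | hi
            · exact hc
            · exact hn i hi
          exact subsingleton_hom_congr ω e' i
        · obtain ⟨x, hxm, hreg, hQ⟩ := exists_regular_of_prime N p e hp h
          haveI := ih _ hQ (i + 1)
          exact subsingleton_of_smul_surjective ω a hK hxm i (smul_surjective ω hreg i _ rfl)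
  obtain ⟨d, hd⟩ := exists_supportDim_eq A A
  have hA : ∀ i, Subsingleton (Dual.HD A ω i) := fun i =>
    haveI := key (d + 1) A (lt_natCast_succ_iff.2 hd.le) i
    (homAEquiv ω i).symm.toEquiv.subsingleton
  haveI := isGE_of_HD ω 1 fun i _ => hA i
  haveI : DerivedCategory.IsLE ω 0 := by
    rw [DerivedCategory.isLE_iff]
    exact fun i _ => ModuleCat.isZero_iff_subsingleton.2 (hA i)
  exact (not_subsingleton (ω ⟶ ω)) ⟨fun u v =>
    (DerivedCategory.TStructure.t.zero u 0 1).trans (DerivedCategory.TStructure.t.zero v 0 1).symm⟩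

include hn hK a in
lemma subsingleton_hom_of_regular : ∀ (rs : List A) (M : Type u) [AddCommGroup M] [Module A M]
    [Module.Finite A M], RingTheory.Sequence.IsWeaklyRegular M rs → (∀ r ∈ rs, r ∈ maximalIdeal A) →
    ∀ i : ℤ, -(rs.length : ℤ) < i → Subsingleton (Dual.inD A M ⟶ ω⟦i⟧) := by
  intro rs
  induction rs with
  | nil => intro M _ _ _ _ _ i hi; exact subsingleton_hom_of_pos ω a hK hn M i (by simpa using hi)
  | cons x rs ih =>
    intro M _ _ _ hreg hmem i hi
    obtain ⟨hx, hrest⟩ := (RingTheory.Sequence.isWeaklyRegular_cons_iff M x rs).1 hreg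
    haveI := ih (QuotSMulTop x M) hrest (fun r hr => hmem r (List.mem_cons_of_mem _ hr)) (i + 1)
      (by simp only [List.length_cons] at hi; lia)
    exact subsingleton_of_smul_surjective ω a hK (hmem x List.mem_cons_self) i
      (smul_surjective ω hx i _ rfl)

include hn hK a in
/-- A depth witness: `Hom(M, ω⟦-n⟧) ≠ 0` and an `M`-regular sequence of length `n`. -/
lemma exists_depth_witness (hω : Nontrivial (ω ⟶ ω)) :
    ∀ (d : ℕ) (M : Type u) [AddCommGroup M] [Module A M] [Module.Finite A M] [Nontrivial M],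
      Module.supportDim A M ≤ (d : ℕ) → ∃ n : ℕ, n ≤ d ∧
        Nontrivial (Dual.inD A M ⟶ ω⟦(-(n : ℤ))⟧) ∧ ∃ rs : List A, rs.length = n ∧
          RingTheory.Sequence.IsWeaklyRegular M rs ∧ ∀ r ∈ rs, r ∈ maximalIdeal A := by
  intro d
  induction d using Nat.strong_induction_on with
  | h d ih =>
    intro M _ _ _ _ hd
    by_cases hreg : ∃ x ∈ maximalIdeal A, IsSMulRegular M x
    · obtain ⟨x, hxm, hx⟩ := hreg
      have h' := Module.supportDim_quotSMulTop_succ_eq_supportDim hx hxm
      haveI : Nontrivial (QuotSMulTop x M) := by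
        refine Submodule.Quotient.nontrivial_iff.2 fun htop => ?_
        have := Submodule.eq_bot_of_le_smul_of_le_jacobson_bot (maximalIdeal A)
          (⊤ : Submodule A M) Module.Finite.fg_top (by
            intro w _
            obtain ⟨v, -, rfl⟩ := (Submodule.mem_smul_pointwise_iff_exists w x ⊤).1 (htop.symm ▸ Submodule.mem_top)
            exact Submodule.smul_mem_smul hxm trivial) (maximalIdeal_le_jacobson _)
        exact top_ne_bot this
      obtain ⟨e, he⟩ := exists_supportDim_eq A (QuotSMulTop x M)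
      rw [he] at h'
      rw [← h'] at hd
      have hed : e + 1 ≤ d := by exact_mod_cast hd
      obtain ⟨n, hne, hnt, rs, hrs, hreg', hmem⟩ := ih e (by lia) _ he.le
      refine ⟨n + 1, by lia, ?_, x :: rs, by simp [hrs],
        (RingTheory.Sequence.isWeaklyRegular_cons_iff M x rs).2 ⟨hx, hreg'⟩, ?_⟩
      · by_contra hc
        rw [not_nontrivial_iff_subsingleton] at hc
        -- `Hom(M/xM, ω⟦-n⟧)` is squeezed between `Hom(M, ω⟦-n-1⟧)` and `Hom(M, ω⟦-n⟧)`
        haveI : Subsingleton (Dual.inD A M ⟶ ω⟦(-(n : ℤ))⟧) :=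
          subsingleton_hom_of_regular ω a hK hn (x :: rs) M ((RingTheory.Sequence.isWeaklyRegular_cons_iff M x rs).2 ⟨hx, hreg'⟩)
            (List.forall_mem_cons.2 ⟨hxm, hmem⟩) _ (by simp [hrs])
        refine not_subsingleton (Dual.inD A (QuotSMulTop x M) ⟶ ω⟦(-(n : ℤ))⟧) ?_
        refine subsingleton_of_forall_eq 0 fun u => ?_
        obtain ⟨v, rfl⟩ := (map1_exact_right (x • LinearMap.id : M →ₗ[A] M) (Submodule.mkQ (x • ⊤)) (smul_injective hx)
          (Submodule.mkQ_surjective _) (smul_exact M x) ω (-((n + 1 : ℕ) : ℤ)) (-(n : ℤ)) (by lia) u).1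
          (Subsingleton.elim _ _)
        rw [Subsingleton.elim v 0, map_zero]
      · intro r hr
        rcases List.mem_cons.1 hr with rfl | hr
        · exact hxm
        · exact hmem r hr
    · push Not at hreg
      refine ⟨0, Nat.zero_le _, ?_, [], rfl, RingTheory.Sequence.IsWeaklyRegular.nil A M, by simp⟩
      have hass : maximalIdeal A ∈ associatedPrimes A M := by
        have hsub : (maximalIdeal A : Set A) ⊆ ⋃ p ∈ associatedPrimes A M, (p : Set A) := by
          rw [biUnion_associatedPrimes_eq_compl_regular]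
          exact fun r hr => hreg r hr
        obtain ⟨p, hp, hle⟩ := (Ideal.subset_union_prime_finite (associatedPrimes.finite A M)
          (f := fun p => p) ⊤ ⊤ fun p hp _ _ => hp.isPrime).1 hsub
        exact (le_antisymm (le_maximalIdeal hp.isPrime.ne_top) hle) ▸ hp
      obtain ⟨-, f, hf⟩ := (isAssociatedPrime_iff_exists_injective_linearMap _ M).1 hass
      haveI : Nontrivial (Dual.inD A (A ⧸ maximalIdeal A) ⟶ ω⟦(0 : ℤ)⟧) :=
        nontrivial_hom_residueField ω a hK hn hω
      haveI := subsingleton_hom_of_pos ω a hK hn (M ⧸ LinearMap.range f) 1 one_pos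
      have hex := map1_exact_left f (LinearMap.range f).mkQ hf (Submodule.mkQ_surjective _)
        (LinearMap.exact_map_mkQ_range f) ω 0 1 rfl
      have hs : Function.Surjective (map1 ω 0 f) := fun u =>
        (hex u).1 (Subsingleton.elim _ _)
      exact hs.nontrivial

end Normalized

end Groth.DualCore
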