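import Groth.Agent.DualCore.DualHomology
import Mathlib.RingTheory.SimpleModule.Basic

/-!
# `Hom(A/𝔪, ω⟦i⟧)` is `A/𝔪` in exactly one degree
-/

set_option autoImplicit false

universe u

open CategoryTheory CategoryTheory.Limits DerivedCategory HomologicalComplex

attribute [local instance] HasDerivedCategory.standard

namespace Groth.DualCore

variable {A : Type u} [CommRing A] (m : Ideal A) [m.IsMaximal]

/-- A module killed by a maximal ideal is semisimple. -/
lemma isSemisimple_of_killed (V : Type*) [AddCommGroup V] [Module A V]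
    (h : ∀ a ∈ m, ∀ v : V, a • v = 0) : IsSemisimpleModule A V := by
  letI := Ideal.Quotient.field m
  haveI : RingHomSurjective (Ideal.Quotient.mk m) := ⟨Ideal.Quotient.mk_surjective⟩
  have ht : Module.IsTorsionBySet A V (m : Set A) := fun v a => h a a.2 v
  letI := ht.module
  let l : V →ₛₗ[Ideal.Quotient.mk m] V :=
    { toFun := id, map_add' := fun _ _ => rfl, map_smul' := fun _ _ => rfl }
  exact (LinearMap.isSemisimpleModule_iff_of_bijective l Function.bijective_id).2 inferInstance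

lemma isSimple_residue : IsSimpleModule A (A ⧸ m) :=
  isSimpleModule_iff_isCoatom.2 (Ideal.isMaximal_def.1 inferInstance)

/-- A nonzero module killed by `m` surjects onto `A/m`. -/
lemma exists_surjective_to_residue (V : Type*) [AddCommGroup V] [Module A V] [Nontrivial V]
    (h : ∀ a ∈ m, ∀ v : V, a • v = 0) :
    ∃ g : V →ₗ[A] A ⧸ m, Function.Surjective g := by
  haveI := isSemisimple_of_killed m V h
  obtain ⟨v, hv⟩ := exists_ne (0 : V)
  let f : (A ⧸ m) →ₗ[A] V := Submodule.liftQ m (LinearMap.toSpanSingleton A V v) fun a ha =>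
    h a ha v
  have hf : Function.Injective f := by
    haveI := isSimple_residue m
    refine LinearMap.injective_of_ne_zero fun h0 => hv ?_
    have h1 : f (Submodule.Quotient.mk 1) = 0 := LinearMap.congr_fun h0 _
    exact ((one_smul A v).symm.trans h1)
  obtain ⟨g, hg⟩ := IsSemisimpleModule.extension_property f hf LinearMap.id
  exact ⟨g, fun x => ⟨f x, LinearMap.congr_fun hg x⟩⟩

/-- `X` killed by `m` termwise: each cohomology is a retract of `X`. -/
lemma exists_retraction (X : CochainComplex (ModuleCat.{u} A) ℤ)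
    (h : ∀ n, ∀ a ∈ m, ∀ v : X.X n, a • v = 0) (p : ℤ) :
    (∀ a ∈ m, ∀ v : X.homology p, a • v = 0) ∧
    ∃ (i : (single _ (ComplexShape.up ℤ) p).obj (X.homology p) ⟶ X)
      (π : X ⟶ (single _ (ComplexShape.up ℤ) p).obj (X.homology p)), i ≫ π = 𝟙 _ := by
  have hZ : ∀ a ∈ m, ∀ v : X.cycles p, a • v = 0 := fun a ha v =>
    (ModuleCat.mono_iff_injective (X.iCycles p)).1 inferInstance (by
      rw [map_smul, map_zero, h p a ha])
  have hH : ∀ a ∈ m, ∀ v : X.homology p, a • v = 0 := fun a ha v => by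
    obtain ⟨c, rfl⟩ := (ModuleCat.epi_iff_surjective (X.homologyπ p)).1 inferInstance v
    rw [← map_smul, hZ a ha, map_zero]
  refine ⟨hH, ?_⟩
  haveI := isSemisimple_of_killed m _ hZ
  haveI := isSemisimple_of_killed m _ (h p)
  obtain ⟨s, hs⟩ := IsSemisimpleModule.lifting_property (X.homologyπ p).hom
    ((ModuleCat.epi_iff_surjective (X.homologyπ p)).1 inferInstance) LinearMap.id
  obtain ⟨φ, hφ⟩ := IsSemisimpleModule.extension_property (X.iCycles p).hom
    ((ModuleCat.mono_iff_injective (X.iCycles p)).1 inferInstance) (X.homologyπ p).hom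
  let s' : X.homology p ⟶ X.cycles p := ModuleCat.ofHom s
  let φ' : X.X p ⟶ X.homology p := ModuleCat.ofHom φ
  have hs' : s' ≫ X.homologyπ p = 𝟙 _ := ModuleCat.hom_ext hs
  have hφ' : X.iCycles p ≫ φ' = X.homologyπ p := ModuleCat.hom_ext hφ
  refine ⟨mkHomFromSingle (s' ≫ X.iCycles p) (fun k _ => by rw [Category.assoc, iCycles_d, comp_zero]),
    mkHomToSingle φ' (fun k hk => by
      rw [← X.toCycles_i k p, Category.assoc, hφ', toCycles_comp_homologyπ]), ?_⟩
  apply from_single_hom_ext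
  rw [comp_f, mkHomFromSingle_f, mkHomToSingle_f, id_f]
  simp only [Category.assoc, reassoc_of% hφ', reassoc_of% hs', Iso.hom_inv_id]

namespace InjRep

variable {ω : Dual.D A} (r : InjRep ω)

omit [m.IsMaximal] in
lemma DC_killed (n : ℤ) : ∀ a ∈ m, ∀ φ : (r.DC (A ⧸ m)).X n, a • φ = 0 := by
  intro a ha
  show ∀ φ : A ⧸ m →ₗ[A] r.I.X n, a • φ = 0
  intro φ
  refine LinearMap.ext fun x => ?_
  rw [LinearMap.smul_apply, LinearMap.zero_apply, ← map_smul]
  obtain ⟨y, rfl⟩ := Submodule.Quotient.mk_surjective m x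
  rw [← Submodule.Quotient.mk_smul, (Submodule.Quotient.mk_eq_zero m).2 (show a • y ∈ m from Ideal.mul_mem_right y m ha),
    map_zero]

/-- Nonvanishing in degrees `p` and `i` gives an embedding `Hom(κ, ω⟦i⟧) → F_{i-p}(κ)`. -/
lemma exists_injective_to_F (p i : ℤ) [Nontrivial (Dual.inD A (A ⧸ m) ⟶ ω⟦p⟧)] :
    ∃ f : (Dual.inD A (A ⧸ m) ⟶ ω⟦i⟧) →ₗ[A] r.F (A ⧸ m) (i - p), Function.Injective f := by
  obtain ⟨hH, ι, π, hιπ⟩ := exists_retraction m (r.DC (A ⧸ m)) (r.DC_killed m) p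
  haveI : Nontrivial ((r.DC (A ⧸ m)).homology p) := (r.homologyEquiv (A ⧸ m) p).toEquiv.nontrivial
  let H := (r.DC (A ⧸ m)).homology p
  obtain ⟨g, hg⟩ := exists_surjective_to_residue m H hH
  haveI := isSemisimple_of_killed m H hH
  obtain ⟨s, hs⟩ := IsSemisimpleModule.lifting_property g hg LinearMap.id
  -- `Hom(κ, ω⟦i⟧) → Hom(H, ω⟦i⟧)`
  let f₁ : (Dual.inD A (A ⧸ m) ⟶ ω⟦i⟧) →ₗ[A] (Dual.inD A H ⟶ ω⟦i⟧) := map1 ω i g
  have hf₁ : Function.Injective f₁ := map1_injective_of_rightInverse ω i g s hs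
  -- `Hom(H, ω⟦i⟧) → Hom(single p H, ω⟦i-p⟧)`
  let σ : ((singleFunctor (ModuleCat.{u} A) p).obj (ModuleCat.of A H) ⟶ ω⟦i - p⟧) →ₗ[A]
      (Dual.inD A H ⟶ ω⟦i⟧) :=
    { toFun := fun u => (singleShiftIso H p).inv ≫ u⟦p⟧' ≫
        (shiftFunctorAdd' (Dual.D A) (i - p) p i (by lia)).inv.app ω
      map_add' := fun u v => by simp
      map_smul' := fun c u => by simp [Functor.map_smul] }
  have hσ : Function.Bijective σ := by
    refine ⟨fun u v h => (shiftFunctor (Dual.D A) p).map_injective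
      ((cancel_mono _).1 ((cancel_epi _).1 h)), fun v => ?_⟩
    obtain ⟨u, hu⟩ := (shiftFunctor (Dual.D A) p).map_surjective ((singleShiftIso H p).hom ≫ v ≫
      (shiftFunctorAdd' (Dual.D A) (i - p) p i (by lia)).hom.app ω)
    exact ⟨u, by show _ ≫ u⟦p⟧' ≫ _ = v; rw [hu]; simp⟩
  let q : Q.obj (r.DC (A ⧸ m)) ⟶ (singleFunctor (ModuleCat.{u} A) p).obj (ModuleCat.of A H) :=
    Q.map π ≫ ((singleFunctorIsoCompQ (ModuleCat.{u} A) p).app _).inv
  have hq : Epi q := by
    haveI : IsSplitEpi q := IsSplitEpi.mk'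
      ⟨((singleFunctorIsoCompQ (ModuleCat.{u} A) p).app _).hom ≫ Q.map ι, by
        simp only [q, Category.assoc]
        have h : Q.map ι ≫ Q.map π = 𝟙 _ :=
          ((Q.map_comp ι π).symm.trans (congrArg Q.map hιπ)).trans (Q.map_id _)
        erw [reassoc_of% h, Iso.hom_inv_id]⟩
    infer_instance
  refine ⟨pre A q ω (i - p) ∘ₗ (LinearEquiv.ofBijective σ hσ).symm.toLinearMap ∘ₗ f₁, ?_⟩
  have hpre : Function.Injective (pre A q ω (i - p)) := fun u v h => (cancel_epi q).1 h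
  exact hpre.comp ((LinearEquiv.ofBijective σ hσ).symm.injective.comp hf₁)

variable [IsNoetherianRing A] (hω : Dual.IsDualizing A ω)
include hω r

/-- `Hom(κ, ω⟦i⟧)` is `κ` in exactly one degree. -/
theorem residue_single_degree : ∃ n : ℤ,
    (∀ i : ℤ, i ≠ n → Subsingleton (Dual.inD A (A ⧸ m) ⟶ ω⟦i⟧)) ∧
      Nonempty ((Dual.inD A (A ⧸ m) ⟶ ω⟦n⟧) ≃ₗ[A] (A ⧸ m)) := by
  haveI : Nontrivial (A ⧸ m) := Ideal.Quotient.nontrivial_iff.2 (Ideal.IsMaximal.ne_top inferInstance)
  haveI := isSimple_residue m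
  obtain ⟨n, hn⟩ : ∃ n : ℤ, Nontrivial (Dual.inD A (A ⧸ m) ⟶ ω⟦n⟧) := by
    by_contra hall
    simp only [not_exists, not_nontrivial_iff_subsingleton] at hall
    have hz : IsZero (Q.obj (r.DC (A ⧸ m))) := by
      haveI : IsGE (Q.obj (r.DC (A ⧸ m))) 1 := (isGE_iff _ _).2 fun i _ =>
        haveI := hall i
        ModuleCat.isZero_iff_subsingleton.2 (r.HDEquiv (A ⧸ m) i).toEquiv.subsingleton
      haveI : IsLE (Q.obj (r.DC (A ⧸ m))) 0 := (isLE_iff _ _).2 fun i _ =>
        haveI := hall i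
        ModuleCat.isZero_iff_subsingleton.2 (r.HDEquiv (A ⧸ m) i).toEquiv.subsingleton
      exact TStructure.t.isZero _ 0 1 zero_lt_one
    haveI : Subsingleton (r.F (A ⧸ m) 0) := ⟨fun u v => hz.eq_of_src u v⟩
    exact not_subsingleton (A ⧸ m) (r.η_bijective hω (A ⧸ m)).1.subsingleton
  refine ⟨n, fun i hi => ?_, ?_⟩
  · obtain ⟨f, hf⟩ := r.exists_injective_to_F m n i
    haveI := r.subsingleton_F hω (A ⧸ m) (i - n) (by lia)
    exact hf.subsingleton
  · obtain ⟨f, hf⟩ := r.exists_injective_to_F m n n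
    have key : ∀ (j : ℤ), j = 0 → ∀ g : (Dual.inD A (A ⧸ m) ⟶ ω⟦n⟧) →ₗ[A] r.F (A ⧸ m) j,
        Function.Injective g → Nonempty ((Dual.inD A (A ⧸ m) ⟶ ω⟦n⟧) ≃ₗ[A] (A ⧸ m)) := by
      intro j hj g hg
      subst hj
      let g' := (LinearEquiv.ofBijective _ (r.η_bijective hω (A ⧸ m))).symm.toLinearMap ∘ₗ g
      have hg' : Function.Injective g' := (LinearEquiv.ofBijective _
        (r.η_bijective hω (A ⧸ m))).symm.injective.comp hg
      refine ⟨LinearEquiv.ofBijective g' ⟨hg', LinearMap.surjective_of_ne_zero fun h0 => ?_⟩⟩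
      obtain ⟨u, v, huv⟩ := hn
      exact huv (hg' (by rw [h0]; rfl))
    exact key _ (sub_self n) f hf

end InjRep

end Groth.DualCore
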