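import Groth.Agent.DualCore.LocalFamilies
import Groth.Agent.DualCore.Residue
import Groth.Agent.DualCore.Normalized
import Groth.Agent.DualCore.DimZero
import Mathlib.RingTheory.TensorProduct.Quotient
import Mathlib.RingTheory.Ideal.Height
import Mathlib.RingTheory.Localization.Ideal

/-!
# Dualizing complexes at primes; the dimension function
-/

set_option autoImplicit false

universe u

open CategoryTheory CategoryTheory.Limits DerivedCategory TensorProduct IsLocalRing

attribute [local instance] HasDerivedCategory.standard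

namespace Groth.DualCore

variable {A : Type u} [CommRing A] [IsNoetherianRing A]

/-- On a local ring every dualizing complex has a normalized shift. -/
theorem exists_normalized [IsLocalRing A] {ω : Dual.D A} (hω : Dual.IsDualizing A ω) :
    ∃ n : ℤ, Dual.IsNormalized A (ω⟦n⟧) ∧
      Nontrivial (Dual.inD A (ResidueField A) ⟶ ω⟦n⟧) ∧
      ∀ i, i ≠ n → Subsingleton (Dual.inD A (ResidueField A) ⟶ ω⟦i⟧) := by
  obtain ⟨a, b, h⟩ := hω.finite_injective_dimension
  obtain ⟨r⟩ := exists_injRep ω a b h
  obtain ⟨n, hn, ⟨e⟩⟩ := r.residue_single_degree (maximalIdeal A) hω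
  refine ⟨n, fun i hi => ?_, e.toEquiv.nontrivial, hn⟩
  haveI : Subsingleton (Dual.inD A (ResidueField A) ⟶ ω⟦n + i⟧) := hn (n + i) (by lia)
  exact (homShiftEquiv (Dual.inD A (ResidueField A)) ω n (n + i) i rfl).toEquiv.subsingleton

/-- `Hom(X, ω⟦n⟧⟦i - n⟧) ≅ Hom(X, ω⟦i⟧)`: nonvanishing translates. -/
lemma nontrivial_shift_iff (X ω : Dual.D A) (n i j : ℤ) (h : n + j = i) :
    Nontrivial (X ⟶ ω⟦n⟧⟦j⟧) ↔ Nontrivial (X ⟶ ω⟦i⟧) :=
  (homShiftEquiv X ω n i j h).toEquiv.nontrivial_congr

section AtPrime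

variable (p : Ideal A) [p.IsPrime]

/-- `Aₚ ⊗ M ≅ Mₚ` detects the support. -/
lemma mem_support_iff_tensor (M : Type*) [AddCommGroup M] [Module A M] :
    Nontrivial (LocalizedModule p.primeCompl M) ↔ Nontrivial (Localization.AtPrime p ⊗[A] M) :=
  haveI : IsLocalizedModule p.primeCompl (TensorProduct.mk A (Localization.AtPrime p) M 1) :=
    (isLocalizedModule_iff_isBaseChange p.primeCompl (Localization.AtPrime p) _).2
      (TensorProduct.isBaseChange A M _)
  (IsLocalizedModule.linearEquiv p.primeCompl (LocalizedModule.mkLinearMap p.primeCompl M)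
    (TensorProduct.mk A (Localization.AtPrime p) M 1)).toEquiv.nontrivial_congr

variable {ω : Dual.D A}

lemma isDualizing_atPrime (hω : Dual.IsDualizing A ω) :
    Dual.IsDualizing (Localization.AtPrime p) ((extD A (Localization.AtPrime p)).obj ω) :=
  isDualizing_extD p.primeCompl hω

/-- `Hom(M, ω⟦i⟧)ₚ ≅ Hom(Mₚ, ωₚ⟦i⟧)`. -/
lemma nontrivial_localized_hom_iff (hω : Dual.IsDualizing A ω) (M : Type u) [AddCommGroup M]
    [Module A M] [Module.Finite A M] (i : ℤ) :
    Nontrivial (LocalizedModule p.primeCompl (Dual.inD A M ⟶ ω⟦i⟧)) ↔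
      Nontrivial (Dual.inD (Localization.AtPrime p) (Localization.AtPrime p ⊗[A] M) ⟶
        ((extD A (Localization.AtPrime p)).obj ω)⟦i⟧) := by
  obtain ⟨a, b, ha, -⟩ := exists_bounds hω
  exact (mem_support_iff_tensor p _).trans
    (extHomInDEquiv (B := Localization.AtPrime p) M ω a i).toEquiv.nontrivial_congr

/-- `Aₚ ⊗ A/p` is the residue field of `Aₚ`. -/
noncomputable def tensorQuotEquivResidueField :
    Localization.AtPrime p ⊗[A] (A ⧸ p) ≃ₗ[Localization.AtPrime p]
      ResidueField (Localization.AtPrime p) :=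
  (Algebra.TensorProduct.quotIdealMapEquivTensorQuot (Localization.AtPrime p) p).symm.toLinearEquiv.trans
    (Submodule.quotEquivOfEq _ _ Localization.AtPrime.map_eq_maximalIdeal)

lemma hom_atPrime_residue_iff (hω : Dual.IsDualizing A ω) (i : ℤ) :
    Nontrivial (LocalizedModule p.primeCompl (Dual.inD A (A ⧸ p) ⟶ ω⟦i⟧)) ↔
      Nontrivial (Dual.inD (Localization.AtPrime p) (ResidueField (Localization.AtPrime p)) ⟶
        ((extD A (Localization.AtPrime p)).obj ω)⟦i⟧) :=
  (nontrivial_localized_hom_iff p hω (A ⧸ p) i).trans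
    (Linear.homCongr (Localization.AtPrime p)
      ((singleFunctor (ModuleCat.{u} (Localization.AtPrime p)) 0).mapIso
        (tensorQuotEquivResidueField p).toModuleIso) (Iso.refl _)).toEquiv.nontrivial_congr

end AtPrime

/-- The degree attached to a prime: the unique `i` with `Hom(κ(p), ωₚ⟦i⟧) ≠ 0`. -/
theorem existsUnique_degree {ω : Dual.D A} (hω : Dual.IsDualizing A ω) (p : PrimeSpectrum A) :
    ∃! i : ℤ, Nontrivial (LocalizedModule p.asIdeal.primeCompl (Dual.inD A (A ⧸ p.asIdeal) ⟶ ω⟦i⟧)) := by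
  haveI : IsNoetherianRing (Localization.AtPrime p.asIdeal) :=
    IsLocalization.isNoetherianRing p.asIdeal.primeCompl _ inferInstance
  obtain ⟨n, -, hne, hvan⟩ := exists_normalized (isDualizing_atPrime p.asIdeal hω)
  refine ⟨n, (hom_atPrime_residue_iff p.asIdeal hω n).2 hne, fun i hi => ?_⟩
  by_contra hin
  haveI := (hom_atPrime_residue_iff p.asIdeal hω i).1 hi
  exact not_subsingleton _ (hvan i hin)

open Classical in
/-- The degree function of `ω`. -/
noncomputable def degree {ω : Dual.D A} (hω : Dual.IsDualizing A ω) (p : PrimeSpectrum A) : ℤ :=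
  (existsUnique_degree hω p).exists.choose

lemma degree_iff {ω : Dual.D A} (hω : Dual.IsDualizing A ω) (p : PrimeSpectrum A) (i : ℤ) :
    Nontrivial (LocalizedModule p.asIdeal.primeCompl (Dual.inD A (A ⧸ p.asIdeal) ⟶ ω⟦i⟧)) ↔
      i = degree hω p :=
  ⟨fun h => (existsUnique_degree hω p).unique h (existsUnique_degree hω p).exists.choose_spec,
    fun h => h ▸ (existsUnique_degree hω p).exists.choose_spec⟩

/-- Normalizing shift at `q`. -/
lemma isNormalized_degree {ω : Dual.D A} (hω : Dual.IsDualizing A ω) (q : PrimeSpectrum A) :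
    Dual.IsNormalized (Localization.AtPrime q.asIdeal)
      (((extD A (Localization.AtPrime q.asIdeal)).obj ω)⟦degree hω q⟧) := by
  intro j hj
  by_contra h
  rw [not_subsingleton_iff_nontrivial, nontrivial_shift_iff _ _ _ (degree hω q + j) j rfl,
    ← hom_atPrime_residue_iff q.asIdeal hω, degree_iff hω q] at h
  lia

/-- **The dimension function property.** -/
theorem degree_covBy {ω : Dual.D A} (hω : Dual.IsDualizing A ω) (p q : PrimeSpectrum A) (h : p ⋖ q) :
    degree hω p = degree hω q - 1 := by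
  set i := degree hω p with hi
  have hp : Nontrivial (LocalizedModule p.asIdeal.primeCompl
      (Dual.inD A (A ⧸ p.asIdeal) ⟶ ω⟦i⟧)) := (degree_iff hω p i).2 rfl
  have hq : Nontrivial (LocalizedModule q.asIdeal.primeCompl
      (Dual.inD A (A ⧸ p.asIdeal) ⟶ ω⟦i⟧)) :=
    Module.mem_support_mono h.le hp
  let B := Localization.AtPrime q.asIdeal
  haveI : IsNoetherianRing B := IsLocalization.isNoetherianRing q.asIdeal.primeCompl _ inferInstance
  let ω' := ((extD A B).obj ω)⟦degree hω q⟧
  have hω' : Dual.IsDualizing B ω' := isDualizing_shift (isDualizing_atPrime q.asIdeal hω) _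
  have hn : Dual.IsNormalized B ω' := isNormalized_degree hω q
  obtain ⟨a, b, ha, -⟩ := exists_bounds hω'
  let P : Ideal B := p.asIdeal.map (algebraMap A B)
  haveI hP : P.IsPrime := IsLocalization.isPrime_of_isPrime_disjoint q.asIdeal.primeCompl B _ p.2
    (Set.disjoint_left.2 fun x hx hxp => hx (h.le hxp))
  have hPcomap : P.comap (algebraMap A B) = p.asIdeal :=
    IsLocalization.comap_map_of_isPrime_disjoint q.asIdeal.primeCompl B
      p.2 (Set.disjoint_left.2 fun x hx hxp => hx (h.le hxp))
  -- `B/P` has dimension `≤ 1`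
  have hdim : Module.supportDim B (B ⧸ P) ≤ ((1 : ℕ) : WithBot ℕ∞) := by
    rw [Module.supportDim_quotient_eq_ringKrullDim, ringKrullDim_quotient, Nat.cast_one,
      Order.krullDim_le_one_iff]
    rintro ⟨r, hr⟩
    have hcom : ∀ s : PrimeSpectrum B, s ∈ PrimeSpectrum.zeroLocus (P : Set B) →
        s.asIdeal.comap (algebraMap A B) = p.asIdeal ∨ s.asIdeal.comap (algebraMap A B) = q.asIdeal := by
      intro s hs
      have hle : s.asIdeal.comap (algebraMap A B) ≤ q.asIdeal :=
        (Ideal.comap_mono (le_maximalIdeal s.2.ne_top)).trans_eq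
          (IsLocalization.AtPrime.under_maximalIdeal B q.asIdeal)
      have hge : p.asIdeal ≤ s.asIdeal.comap (algebraMap A B) := hPcomap ▸ Ideal.comap_mono hs
      rcases h.eq_or_eq (c := ⟨s.asIdeal.comap (algebraMap A B), inferInstance⟩) hge hle with e | e
      · exact Or.inl (congrArg PrimeSpectrum.asIdeal e)
      · exact Or.inr (congrArg PrimeSpectrum.asIdeal e)
    rcases hcom r hr with e | e
    · refine Or.inl fun s hs => ?_
      obtain ⟨s, hs'⟩ := s
      have : s.asIdeal.comap (algebraMap A B) ≤ r.asIdeal.comap (algebraMap A B) := Ideal.comap_mono hs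
      show r.asIdeal ≤ s.asIdeal
      rw [← IsLocalization.map_under q.asIdeal.primeCompl B r.asIdeal,
        ← IsLocalization.map_under q.asIdeal.primeCompl B s.asIdeal]
      refine Ideal.map_mono ?_
      show r.asIdeal.comap (algebraMap A B) ≤ s.asIdeal.comap (algebraMap A B)
      rw [e]
      exact hPcomap ▸ Ideal.comap_mono hs'
    · refine Or.inr fun s hs => ?_
      obtain ⟨s, hs'⟩ := s
      show s.asIdeal ≤ r.asIdeal
      rw [← IsLocalization.map_under q.asIdeal.primeCompl B r.asIdeal,
        ← IsLocalization.map_under q.asIdeal.primeCompl B s.asIdeal]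
      refine Ideal.map_mono ?_
      show s.asIdeal.comap (algebraMap A B) ≤ r.asIdeal.comap (algebraMap A B)
      rw [e]
      exact (Ideal.comap_mono (le_maximalIdeal s.2.ne_top)).trans_eq
        (IsLocalization.AtPrime.under_maximalIdeal B q.asIdeal)
  -- some element of `𝔪` is regular on `B/P`
  have hPne : P ≠ maximalIdeal B := fun e => h.lt.ne (PrimeSpectrum.ext (by
    rw [← hPcomap, e]
    exact IsLocalization.AtPrime.under_maximalIdeal B q.asIdeal))
  obtain ⟨x, hxm, hreg, -⟩ := exists_regular_of_prime (B ⧸ P) ⟨P, hP⟩ (LinearEquiv.refl B _) hPne hdim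
  have e1 := (nontrivial_localized_hom_iff q.asIdeal hω (A ⧸ p.asIdeal) i).1 hq
  have e2 : Nontrivial (Dual.inD B (B ⧸ P) ⟶ ω'⟦i - degree hω q⟧) := by
    rw [nontrivial_shift_iff _ _ _ i _ (by lia)]
    exact (Linear.homCongr B ((singleFunctor (ModuleCat.{u} B) 0).mapIso
      (Algebra.TensorProduct.quotIdealMapEquivTensorQuot B p.asIdeal).symm.toLinearEquiv.toModuleIso)
      (Iso.refl _)).toEquiv.nontrivial_congr.1 e1
  by_contra hne
  rcases lt_or_ge (i - degree hω q) (-1) with hlt | hge
  · exact not_subsingleton _ (subsingleton_hom_of_supportDim ω' a hω'.finite_cohomology hn hdim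
      (i - degree hω q) (Or.inl (by simpa using hlt)))
  · exact not_subsingleton _ (subsingleton_hom_of_regular ω' a hω'.finite_cohomology hn [x] (B ⧸ P)
      ((RingTheory.Sequence.isWeaklyRegular_cons_iff _ x []).2
        ⟨hreg, RingTheory.Sequence.IsWeaklyRegular.nil B _⟩)
      (by simpa using hxm) (i - degree hω q) (by simp; lia))

/-- In a local ring with normalized `ω` the degree of `p` is `-dim A/p`. -/
theorem degree_normalized [IsLocalRing A] {ω : Dual.D A} (hω : Dual.IsDualizing A ω)
    (hn : Dual.IsNormalized A ω) (p : PrimeSpectrum A) (e : ℕ)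
    (he : ringKrullDim (A ⧸ p.asIdeal) = e) : degree hω p = -(e : ℤ) := by
  obtain ⟨a, ha⟩ := exists_isGE hω
  have hd : Module.supportDim A (A ⧸ p.asIdeal) = (e : ℕ) := by
    rw [Module.supportDim_quotient_eq_ringKrullDim, he]
  set i := degree hω p with hi
  have hp : p ∈ Module.support A (Dual.inD A (A ⧸ p.asIdeal) ⟶ ω⟦i⟧) := (degree_iff hω p i).2 rfl
  haveI : Nontrivial (Dual.inD A (A ⧸ p.asIdeal) ⟶ ω⟦i⟧) := Module.nonempty_support_iff.1 ⟨p, hp⟩
  obtain ⟨hvan, hsupp⟩ := bound ω a hω.finite_cohomology hn (e + 1) (A ⧸ p.asIdeal)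
    (lt_natCast_succ_iff.2 hd.le)
  have hrange : -(e : ℤ) ≤ i ∧ i ≤ 0 := by
    by_contra hc
    exact not_subsingleton _ (hvan i (by lia))
  have hge : ((e : ℕ) : WithBot ℕ∞) ≤ Module.supportDim A (Dual.inD A (A ⧸ p.asIdeal) ⟶ ω⟦i⟧) := by
    rw [← hd]
    refine Order.krullDim_le_of_strictMono (fun r => ⟨r.1, Module.mem_support_mono ?_ hp⟩)
      (fun _ _ hrs => hrs)
    obtain ⟨r, hr⟩ := r
    rw [Module.support_eq_zeroLocus, Ideal.annihilator_quotient, PrimeSpectrum.mem_zeroLocus] at hr
    exact hr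
  have := natCast_le_natCast.1 (hge.trans (hsupp i hrange.2))
  lia

/-- Localisations of `H^i(ω)` at minimal primes. -/
theorem localized_HD_minimal {ω : Dual.D A} (hω : Dual.IsDualizing A ω) (p : PrimeSpectrum A)
    (hp : p.asIdeal ∈ minimalPrimes A) (i : ℤ) :
    Nontrivial (LocalizedModule p.asIdeal.primeCompl (Dual.HD A ω i)) ↔ i = degree hω p := by
  let B := Localization.AtPrime p.asIdeal
  haveI : IsNoetherianRing B := IsLocalization.isNoetherianRing p.asIdeal.primeCompl _ inferInstance
  have hdim : ringKrullDim B = 0 := by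
    rw [IsLocalization.AtPrime.ringKrullDim_eq_height p.asIdeal B,
      Ideal.height_eq_zero_iff.2 hp]
    rfl
  let ω' := ((extD A B).obj ω)⟦degree hω p⟧
  have hω' : Dual.IsDualizing B ω' := isDualizing_shift (isDualizing_atPrime p.asIdeal hω) _
  have hn : Dual.IsNormalized B ω' := isNormalized_degree hω p
  obtain ⟨a, ha⟩ := exists_isGE hω'
  have key : ∀ j : ℤ, Nontrivial (Dual.inD B B ⟶ ω'⟦j⟧) ↔ j = 0 := by
    intro j
    refine ⟨fun h => ?_, ?_⟩
    · by_contra hj
      exact not_subsingleton _ (subsingleton_hom_of_supportDim ω' a hω'.finite_cohomology hn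
        (d := 0) ((Module.supportDim_self_eq_ringKrullDim B).trans hdim).le j (by simpa using lt_or_gt_of_ne hj))
    · rintro rfl
      have := nontrivial_hom_supportDim hω' hn B 0 ((Module.supportDim_self_eq_ringKrullDim B).trans hdim)
      simpa using this
  rw [mem_support_iff_tensor, (HDExtEquiv (B := B) ω i).toEquiv.nontrivial_congr,
    ← (homAEquiv ((extD A B).obj ω) i).toEquiv.nontrivial_congr,
    ← nontrivial_shift_iff _ _ (degree hω p) i (i - degree hω p) (by lia)]
  rw [key]
  lia

/-- Rings with dualizing complexes have bounded dimension. -/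
theorem exists_ringKrullDim_le {ω : Dual.D A} (hω : Dual.IsDualizing A ω) :
    ∃ N : ℕ, ringKrullDim A ≤ (N : ℕ) := by
  obtain ⟨a, b, hab⟩ := hω.finite_injective_dimension
  refine ⟨(b - a).toNat, iSup_le fun l => ?_⟩
  obtain ⟨m, hm, hle⟩ := Ideal.exists_le_maximal l.last.asIdeal l.last.2.ne_top
  let q : PrimeSpectrum A := ⟨m, hm.isPrime⟩
  let B := Localization.AtPrime m
  haveI : IsNoetherianRing B := IsLocalization.isNoetherianRing m.primeCompl _ inferInstance
  obtain ⟨d, hd⟩ := exists_supportDim_eq B B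
  let n := degree hω q
  let ω' := ((extD A B).obj ω)⟦n⟧
  have hω' : Dual.IsDualizing B ω' := isDualizing_shift (isDualizing_atPrime m hω) _
  have h1 := nontrivial_hom_supportDim hω' (isNormalized_degree hω q) B d hd
  rw [nontrivial_shift_iff _ _ _ (n + -(d : ℤ)) _ rfl,
    (homAEquiv ((extD A B).obj ω) _).toEquiv.nontrivial_congr,
    ← (HDExtEquiv (B := B) ω _).toEquiv.nontrivial_congr] at h1
  haveI : Nontrivial (Dual.HD A ω (n + -(d : ℤ))) := by
    by_contra hc
    rw [not_nontrivial_iff_subsingleton] at hc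
    exact not_subsingleton (B ⊗[A] Dual.HD A ω (n + -(d : ℤ))) inferInstance
  have hlow : a ≤ n + -(d : ℤ) := by
    by_contra hc
    haveI := hab A (n + -(d : ℤ)) (Or.inl (by lia))
    exact not_subsingleton _ (homAEquiv ω (n + -(d : ℤ))).symm.toEquiv.subsingleton
  have hhigh : n ≤ b := by
    by_contra hc
    haveI := hab (A ⧸ q.asIdeal) n (Or.inr (by lia))
    haveI := (degree_iff hω q n).2 rfl
    exact not_subsingleton (LocalizedModule q.asIdeal.primeCompl (Dual.inD A (A ⧸ q.asIdeal) ⟶ ω⟦n⟧))
      inferInstance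
  -- the chain lives below `m`
  let l' : LTSeries (PrimeSpectrum A) := l
  have hlen : ((l.length : ℕ) : WithBot ℕ∞) ≤ (d : ℕ) := by
    rw [← hd, Module.supportDim_self_eq_ringKrullDim,
      IsLocalization.AtPrime.ringKrullDim_eq_height m B]
    have : (l.length : ℕ∞) ≤ Order.height q := Order.length_le_height hle
    calc ((l.length : ℕ) : WithBot ℕ∞) = ((l.length : ℕ∞) : WithBot ℕ∞) := rfl
      _ ≤ (Order.height q : WithBot ℕ∞) := WithBot.coe_le_coe.2 this
      _ = (m.height : WithBot ℕ∞) := by rw [← PrimeSpectrum.height_eq_orderHeight]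
  have := natCast_le_natCast.1 hlen
  exact natCast_le_natCast.2 (show l.length ≤ (b - a).toNat by lia)

end Groth.DualCore
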