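import Groth.Agent.DualCore.Normalized

/-!
# Consequences for dualizing complexes: depth
-/

set_option autoImplicit false

universe u

open CategoryTheory CategoryTheory.Limits IsLocalRing
open scoped Pointwise

attribute [local instance] HasDerivedCategory.standard

namespace Groth.DualCore

variable {A : Type u} [CommRing A]

lemma exists_isGE {ω : Dual.D A} (hω : Dual.IsDualizing A ω) :
    ∃ a : ℤ, DerivedCategory.IsGE ω a := by
  obtain ⟨a, b, h⟩ := hω.finite_injective_dimension
  exact ⟨a, isGE_of_HD ω a fun i hi =>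
    haveI := h A i (Or.inl hi)
    (homAEquiv ω i).symm.toEquiv.subsingleton⟩

lemma nontrivial_end [Nontrivial A] {ω : Dual.D A} (hω : Dual.IsDualizing A ω) :
    Nontrivial (ω ⟶ ω) :=
  hω.toEnd_bijective.1.nontrivial

variable [IsNoetherianRing A] [IsLocalRing A] {ω : Dual.D A}

lemma hom_le_ringKrullDim (hω : Dual.IsDualizing A ω) (hn : Dual.IsNormalized A ω)
    (M : Type u) [AddCommGroup M] [Module A M] [Module.Finite A M] {d : ℕ}
    (hd : Module.supportDim A M ≤ (d : ℕ)) (i : ℤ) (hi : i < -(d : ℤ) ∨ 0 < i) :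
    Subsingleton (Dual.inD A M ⟶ ω⟦i⟧) := by
  obtain ⟨a, ha⟩ := exists_isGE hω
  exact subsingleton_hom_of_supportDim ω a hω.finite_cohomology hn hd i hi

/-- Depth of `M` equals the least `δ` with `Hom(M, ω⟦-δ⟧) ≠ 0`. -/
theorem depth_eq_iff (hω : Dual.IsDualizing A ω) (hn : Dual.IsNormalized A ω)
    (M : Type u) [AddCommGroup M] [Module A M] [Module.Finite A M] [Nontrivial M] (n : ℕ) :
    LocCoh.depth A M = n ↔ ((∀ δ : ℕ, δ < n → Subsingleton (Dual.inD A M ⟶ ω⟦(-(δ : ℤ))⟧)) ∧
      Nontrivial (Dual.inD A M ⟶ ω⟦(-(n : ℤ))⟧)) := by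
  obtain ⟨a, ha⟩ := exists_isGE hω
  obtain ⟨d, hd⟩ := exists_supportDim_eq A M
  obtain ⟨m, -, hm, rs, hlen, hreg, hmem⟩ :=
    exists_depth_witness ω a hω.finite_cohomology hn (nontrivial_end hω) d M hd.le
  have hlow : ∀ δ : ℕ, δ < m → Subsingleton (Dual.inD A M ⟶ ω⟦(-(δ : ℤ))⟧) := fun δ hδ =>
    subsingleton_hom_of_regular ω a hω.finite_cohomology hn rs M hreg hmem _ (by lia)
  have hdepth : LocCoh.depth A M = m := by
    unfold LocCoh.depth LocCoh.idealDepth
    rw [if_neg]
    · refine le_antisymm (iSup₂_le fun s hs => ?_) (le_iSup₂_of_le rs ⟨hreg, hmem⟩ (by rw [hlen]))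
      by_contra hlt
      rw [not_le, Nat.cast_lt] at hlt
      exact not_subsingleton _
        (subsingleton_hom_of_regular ω a hω.finite_cohomology hn s M hs.1 hs.2 (-(m : ℤ)) (by lia))
    · intro htop
      exact top_ne_bot (Submodule.eq_bot_of_le_smul_of_le_jacobson_bot (maximalIdeal A)
        (⊤ : Submodule A M) Module.Finite.fg_top htop.ge (maximalIdeal_le_jacobson _))
  rw [hdepth, Nat.cast_inj]
  constructor
  · rintro rfl
    exact ⟨hlow, hm⟩
  · rintro ⟨h₁, h₂⟩
    rcases lt_trichotomy m n with h | h | h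
    · exact absurd (h₁ m h) (not_subsingleton _)
    · exact h
    · exact absurd (hlow n h) (not_subsingleton _)

end Groth.DualCore
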