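import Groth.Agent.DualCore.InjRep
import Groth.Agent.DualCore.Depth
import Mathlib.Algebra.Homology.DerivedCategory.ShortExact

/-!
# Biduality for finite modules

`DC r M = Hom_A(M, I)` for an injective representative `r` of `ω`;
`F r j M = Hom_{D(A)}(DC r M, ω⟦j⟧)`.
-/

set_option autoImplicit false

universe u

open CategoryTheory CategoryTheory.Limits CategoryTheory.Pretriangulated DerivedCategory

attribute [local instance] HasDerivedCategory.standard

namespace Groth.DualCore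

namespace InjRep

variable {A : Type u} [CommRing A] {ω : Dual.D A} (r : InjRep ω)

variable (M : Type u) [AddCommGroup M] [Module A M]

/-- The complex `Hom_A(M, I)`. -/
noncomputable def DC : CochainComplex (ModuleCat.{u} A) ℤ where
  X n := ModuleCat.of A (M →ₗ[A] r.I.X n)
  d i j := ModuleCat.ofHom (LinearMap.llcomp A M (r.I.X i) (r.I.X j) (r.I.d i j).hom)
  shape i j h := by
    ext φ m
    show (r.I.d i j).hom (φ m) = 0
    rw [r.I.shape i j h]; rfl
  d_comp_d' i j k _ _ := by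
    ext φ m
    exact ConcreteCategory.congr_hom (r.I.d_comp_d i j k) (φ m)

variable {M} {N P : Type u} [AddCommGroup N] [Module A N] [AddCommGroup P] [Module A P]

/-- Functoriality of `DC`. -/
noncomputable def Dmap (f : M →ₗ[A] N) : r.DC N ⟶ r.DC M where
  f n := ModuleCat.ofHom (LinearMap.lcomp A (r.I.X n) f)
  comm' i j _ := by ext φ m; rfl

/-- Evaluation. -/
noncomputable def ev : M →ₗ[A] (r.DC M ⟶ r.I) where
  toFun m := { f := fun n => ModuleCat.ofHom (LinearMap.applyₗ (R := A) (M₂ := r.I.X n) m)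
               comm' := fun i j _ => by ext φ; rfl }
  map_add' m m' := by ext n φ; exact map_add (show M →ₗ[A] r.I.X n from φ) m m'
  map_smul' c m := by ext n φ; exact map_smul (show M →ₗ[A] r.I.X n from φ) c m

lemma Dmap_ev (f : M →ₗ[A] N) (m : M) : r.Dmap f ≫ r.ev m = r.ev (f m) := by
  ext n φ; rfl

lemma Dmap_comp (f : M →ₗ[A] N) (g : N →ₗ[A] P) : r.Dmap (g ∘ₗ f) = r.Dmap g ≫ r.Dmap f := by
  ext n φ m; rfl

lemma Dmap_id : r.Dmap (LinearMap.id : M →ₗ[A] M) = 𝟙 (r.DC M) := by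
  ext n φ m; rfl

lemma Dmap_add (f g : M →ₗ[A] N) : r.Dmap (f + g) = r.Dmap f + r.Dmap g := by
  ext n φ; exact LinearMap.ext fun m => map_add (show N →ₗ[A] r.I.X n from φ) (f m) (g m)

lemma Dmap_smul (c : A) (f : M →ₗ[A] N) : r.Dmap (c • f) = c • r.Dmap f := by
  ext n φ; exact LinearMap.ext fun m => map_smul (show N →ₗ[A] r.I.X n from φ) c (f m)

variable (M) in
/-- `F r j M = Hom(DC M, ω⟦j⟧)`. -/
abbrev F (j : ℤ) : Type (u + 1) := Q.obj (r.DC M) ⟶ ω⟦j⟧

/-- Covariant functoriality of `F`. -/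
noncomputable abbrev Fmap (j : ℤ) (f : M →ₗ[A] N) : r.F M j →ₗ[A] r.F N j :=
  pre A (Q.map (r.Dmap f)) ω j

/-- The biduality map. -/
noncomputable def η : M →ₗ[A] r.F M 0 where
  toFun m := Q.map (r.ev m) ≫ r.iso.hom ≫ (shiftFunctorZero (Dual.D A) ℤ).inv.app ω
  map_add' m m' := by rw [map_add, Functor.map_add, Preadditive.add_comp]
  map_smul' c m := by rw [map_smul, Functor.map_smul, Linear.smul_comp, RingHom.id_apply]

lemma Fmap_η (f : M →ₗ[A] N) (m : M) : r.Fmap 0 f (r.η m) = r.η (f m) := by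
  show Q.map (r.Dmap f) ≫ Q.map (r.ev m) ≫ _ = Q.map (r.ev (f m)) ≫ _
  rw [← Category.assoc, ← Functor.map_comp, Dmap_ev]

lemma Fmap_comp (j : ℤ) (f : M →ₗ[A] N) (g : N →ₗ[A] P) (u : r.F M j) :
    r.Fmap j (g ∘ₗ f) u = r.Fmap j g (r.Fmap j f u) := by
  show Q.map (r.Dmap _) ≫ u = Q.map (r.Dmap g) ≫ Q.map (r.Dmap f) ≫ u
  rw [Dmap_comp, Functor.map_comp, Category.assoc]

lemma Fmap_id (j : ℤ) (u : r.F M j) : r.Fmap j LinearMap.id u = u := by
  show Q.map (r.Dmap _) ≫ u = u
  rw [Dmap_id, CategoryTheory.Functor.map_id, Category.id_comp]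

lemma Fmap_add (j : ℤ) (f g : M →ₗ[A] N) (u : r.F M j) :
    r.Fmap j (f + g) u = r.Fmap j f u + r.Fmap j g u := by
  show Q.map (r.Dmap _) ≫ u = _
  rw [Dmap_add, Functor.map_add, Preadditive.add_comp]; rfl

lemma Fmap_zero (j : ℤ) (u : r.F M j) : r.Fmap j (0 : M →ₗ[A] N) u = 0 := by
  have := r.Fmap_add j (0 : M →ₗ[A] N) 0 u
  rw [add_zero] at this
  exact left_eq_add.1 this

lemma Fmap_sum {ι : Type*} (s : Finset ι) (j : ℤ) (f : ι → M →ₗ[A] N) (u : r.F M j) :
    r.Fmap j (∑ k ∈ s, f k) u = ∑ k ∈ s, r.Fmap j (f k) u := by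
  classical
  induction s using Finset.induction with
  | empty => rw [Finset.sum_empty, Finset.sum_empty, Fmap_zero]
  | insert a s ha ih => rw [Finset.sum_insert ha, Finset.sum_insert ha, Fmap_add, ih]

section SES

variable (f : M →ₗ[A] N) (g : N →ₗ[A] P) (hf : Function.Injective f)
  (hg : Function.Surjective g) (hfg : Function.Exact f g)

/-- `0 → DC P → DC N → DC M → 0`. -/
noncomputable abbrev DCses (hfg : Function.Exact f g) :
    ShortComplex (CochainComplex (ModuleCat.{u} A) ℤ) :=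
  ShortComplex.mk (r.Dmap g) (r.Dmap f) (by
    ext n φ
    exact LinearMap.ext fun m => show (show P →ₗ[A] r.I.X n from φ) (g (f m)) = 0 by
      rw [hfg.apply_apply_eq_zero, map_zero])

include hf hg in
lemma DCses_shortExact : (r.DCses f g hfg).ShortExact := by
  refine HomologicalComplex.shortExact_of_degreewise_shortExact _ fun n => ?_
  exact
    { exact := (ShortComplex.moduleCat_exact_iff _).2 fun (φ : N →ₗ[A] r.I.X n) hφ => by
        have hle : LinearMap.ker g ≤ LinearMap.ker φ := by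
          rw [LinearMap.exact_iff.1 hfg]
          rintro _ ⟨m, rfl⟩
          exact LinearMap.congr_fun hφ m
        refine ⟨(LinearMap.ker g).liftQ φ hle ∘ₗ
          (g.quotKerEquivOfSurjective hg).symm.toLinearMap, LinearMap.ext fun x => ?_⟩
        show (LinearMap.ker g).liftQ φ hle ((g.quotKerEquivOfSurjective hg).symm (g x)) = φ x
        rw [show g x = g.quotKerEquivOfSurjective hg (Submodule.Quotient.mk x) from rfl,
          LinearEquiv.symm_apply_apply]
        rfl
      mono_f := (ModuleCat.mono_iff_injective _).2 fun (φ : P →ₗ[A] r.I.X n) ψ h =>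
        LinearMap.ext fun x => by obtain ⟨y, rfl⟩ := hg x; exact LinearMap.congr_fun h y
      epi_g := (ModuleCat.epi_iff_surjective _).2 fun (φ : M →ₗ[A] r.I.X n) => by
        obtain ⟨ψ, hψ⟩ := (r.injective n).out f hf φ
        exact ⟨ψ, LinearMap.ext hψ⟩ }

/-- The connecting map `F j P → F (j+1) M`. -/
noncomputable def Fdelta (j k : ℤ) (h : j + 1 = k) : r.F P j →ₗ[A] r.F M k :=
  conn A (triangleOfSES (r.DCses_shortExact f g hf hg hfg)).mor₃ ω j k h

include hf hg in
lemma Fexact_mid (j : ℤ) (hfg : Function.Exact f g) : Function.Exact (r.Fmap j f) (r.Fmap j g) := by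
  intro u
  exact (exact_mid _ (triangleOfSES_distinguished (r.DCses_shortExact f g hf hg hfg)) ω j u).trans
    ⟨fun ⟨v, hv⟩ => ⟨v, hv⟩, fun ⟨v, hv⟩ => ⟨v, hv⟩⟩

lemma Fexact_left (j k : ℤ) (h : j + 1 = k) :
    Function.Exact (r.Fmap j g) (r.Fdelta f g hf hg hfg j k h) := by
  intro u
  exact (exact_left (R := A) _ (triangleOfSES_distinguished (r.DCses_shortExact f g hf hg hfg))
    ω j k h u).trans ⟨fun ⟨v, hv⟩ => ⟨v, hv⟩, fun ⟨v, hv⟩ => ⟨v, hv⟩⟩

lemma Fexact_right (j k : ℤ) (h : j + 1 = k) :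
    Function.Exact (r.Fdelta f g hf hg hfg j k h) (r.Fmap k f) := by
  intro u
  exact (exact_right (R := A) _ (triangleOfSES_distinguished (r.DCses_shortExact f g hf hg hfg))
    ω j k h u).trans ⟨fun ⟨v, hv⟩ => ⟨v, hv⟩, fun ⟨v, hv⟩ => ⟨v, hv⟩⟩

end SES

/-- Morphisms to `ω⟦j⟧` vanish for `j` large. -/
lemma subsingleton_F_of_large (j : ℤ) (hj : r.b - r.a < j) : Subsingleton (r.F M j) := by
  haveI := r.hGE
  haveI := r.hLE
  haveI : (r.I⟦j⟧).IsStrictlyGE (r.a - j) := r.I.isStrictlyGE_shift r.a j (r.a - j) (by lia)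
  haveI : (r.I⟦j⟧).IsStrictlyLE (r.b - j) := r.I.isStrictlyLE_shift r.b j (r.b - j) (by lia)
  haveI : (r.I⟦j⟧).IsKInjective := by
    haveI : ∀ n, Injective ((r.I⟦j⟧).X n) := fun n =>
      (Module.injective_iff_injective_object A (r.I.X (n + j))).1 (r.injective _)
    exact CochainComplex.isKInjective_of_injective _ (r.a - j)
  let e : Q.obj (r.I⟦j⟧) ≅ ω⟦j⟧ :=
    (Q.commShiftIso j).app r.I ≪≫ (shiftFunctor (Dual.D A) j).mapIso r.iso
  refine subsingleton_of_forall_eq 0 fun v => ?_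
  obtain ⟨f, hf⟩ := Q_map_surjective (v ≫ e.inv)
  have hf0 : f = 0 := by
    ext n : 1
    rcases lt_or_ge n r.a with hn | hn
    · haveI : Subsingleton (r.I.X n) :=
        ModuleCat.isZero_iff_subsingleton.1 (CochainComplex.isZero_of_isStrictlyGE _ r.a n hn)
      haveI : Subsingleton ((r.DC M).X n) := inferInstanceAs (Subsingleton (M →ₗ[A] r.I.X n))
      ext x
      rw [Subsingleton.elim x 0, map_zero, map_zero]
    · exact (CochainComplex.isZero_of_isStrictlyLE (r.I⟦j⟧) (r.b - j) n (by lia)).eq_of_tgt _ _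
  rw [hf0, Functor.map_zero] at hf
  rw [← cancel_mono e.inv, ← hf, zero_comp]

variable (hω : Dual.IsDualizing A ω)
include hω

/-- `DC A ≅ I`. -/
noncomputable def evOneIso : r.DC A ≅ r.I :=
  HomologicalComplex.Hom.isoOfComponents
    (fun n => (LinearMap.ringLmapEquivSelf A A (r.I.X n)).toModuleIso)
    (fun i j _ => by ext φ; rfl)

omit hω in
lemma evOneIso_hom : r.evOneIso.hom = r.ev (1 : A) := by ext n φ; rfl

lemma subsingleton_F_self (j : ℤ) (hj : j ≠ 0) : Subsingleton (r.F A j) := by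
  haveI := hω.ext_self_subsingleton j hj
  let c : Q.obj (r.DC A) ≅ ω := Q.mapIso r.evOneIso ≪≫ r.iso
  exact ⟨fun u v => by rw [← cancel_epi c.inv]; exact Subsingleton.elim _ _⟩

lemma η_self_bijective : Function.Bijective (r.η (M := A)) := by
  let c : Q.obj (r.DC A) ≅ ω := Q.mapIso r.evOneIso ≪≫ r.iso
  let z := (shiftFunctorZero (Dual.D A) ℤ).app ω
  have key : ∀ a : A, r.η a = c.hom ≫ (a • 𝟙 ω) ≫ z.inv := by
    intro a
    rw [show a = a • (1 : A) by rw [smul_eq_mul, mul_one], map_smul]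
    show a • (Q.map (r.ev 1) ≫ _) = _
    rw [smul_eq_mul, mul_one, ← evOneIso_hom]
    simp [c, z, Linear.smul_comp, Linear.comp_smul]
  constructor
  · intro a b hab
    rw [key, key, cancel_epi, cancel_mono] at hab
    exact hω.toEnd_bijective.1 hab
  · intro u
    obtain ⟨a, ha⟩ := hω.toEnd_bijective.2 (c.inv ≫ u ≫ z.hom)
    exact ⟨a, by rw [key, show a • 𝟙 ω = _ from ha]; simp⟩

lemma free_case (n : ℕ) : (∀ j ≠ 0, Subsingleton (r.F (Fin n → A) j)) ∧
    Function.Bijective (r.η (M := Fin n → A)) := by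
  have hid : (LinearMap.id : (Fin n → A) →ₗ[A] _) =
      ∑ k, LinearMap.single A (fun _ : Fin n => A) k ∘ₗ LinearMap.proj k := by
    apply LinearMap.ext
    intro x
    simp [LinearMap.coe_single, Finset.univ_sum_single]
  refine ⟨fun j hj => ?_, fun x y hxy => ?_, fun u => ?_⟩
  · haveI := r.subsingleton_F_self hω j hj
    refine subsingleton_of_forall_eq 0 fun u => ?_
    rw [← r.Fmap_id j u, hid, Fmap_sum]
    refine Finset.sum_eq_zero fun k _ => ?_
    rw [Fmap_comp, Subsingleton.elim (r.Fmap j (LinearMap.proj k) u) 0, map_zero]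
  · funext k
    have := congrArg (r.Fmap 0 (LinearMap.proj k)) hxy
    rw [Fmap_η, Fmap_η] at this
    exact (r.η_self_bijective hω).1 this
  · choose a ha using fun k => (r.η_self_bijective hω).2 (r.Fmap 0 (LinearMap.proj k) u)
    refine ⟨∑ k, LinearMap.single A (fun _ : Fin n => A) k (a k), ?_⟩
    conv_rhs => rw [← r.Fmap_id 0 u, hid, Fmap_sum]
    rw [map_sum]
    refine Finset.sum_congr rfl fun k _ => ?_
    rw [Fmap_comp, ← ha k, Fmap_η]

variable [IsNoetherianRing A]

lemma subsingleton_F_pos : ∀ (M : Type u) [AddCommGroup M] [Module A M] [Module.Finite A M] (j : ℤ),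
    0 < j → Subsingleton (r.F M j) := by
  suffices ∀ (n : ℕ) (M : Type u) [AddCommGroup M] [Module A M] [Module.Finite A M] (j : ℤ),
      0 < j → r.b - r.a < j + n → Subsingleton (r.F M j) from
    fun M _ _ _ j hj => this (r.b - r.a - j + 1).toNat M j hj (by lia)
  intro n
  induction n with
  | zero => intro M _ _ _ j _ hj; exact r.subsingleton_F_of_large j (by simpa using hj)
  | succ n ih =>
    intro M _ _ _ j hj hjn
    obtain ⟨m, g, hg, hex⟩ := exists_ses (A := A) M
    haveI := (r.free_case hω m).1 j (by lia)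
    haveI := ih (LinearMap.ker g) (j + 1) (by lia) (by lia)
    refine subsingleton_of_forall_eq 0 fun u => ?_
    obtain ⟨v, rfl⟩ := (r.Fexact_left _ g (Submodule.subtype_injective _) hg hex j (j + 1) rfl u).1
      (Subsingleton.elim _ _)
    rw [Subsingleton.elim v 0, map_zero]

lemma η_surjective (M : Type u) [AddCommGroup M] [Module A M] [Module.Finite A M] :
    Function.Surjective (r.η (M := M)) := by
  obtain ⟨m, g, hg, hex⟩ := exists_ses (A := A) M
  haveI := r.subsingleton_F_pos hω (LinearMap.ker g) 1 one_pos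
  intro u
  obtain ⟨v, rfl⟩ := (r.Fexact_left _ g (Submodule.subtype_injective _) hg hex 0 1 rfl u).1
    (Subsingleton.elim _ _)
  obtain ⟨x, rfl⟩ := (r.free_case hω m).2.2 v
  exact ⟨g x, (r.Fmap_η g x).symm⟩

/-- **Biduality**: `M → Hom(D M, ω)` is bijective for finite `M`. -/
theorem η_bijective (M : Type u) [AddCommGroup M] [Module A M] [Module.Finite A M] :
    Function.Bijective (r.η (M := M)) := by
  refine ⟨?_, r.η_surjective hω M⟩
  rw [← LinearMap.ker_eq_bot, LinearMap.ker_eq_bot']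
  intro x hx
  obtain ⟨m, g, hg, hex⟩ := exists_ses (A := A) M
  obtain ⟨y, rfl⟩ := hg x
  rw [← r.Fmap_η g y] at hx
  obtain ⟨v, hv⟩ := (r.Fexact_mid _ g (Submodule.subtype_injective _) hg 0 hex _).1 hx
  obtain ⟨k, rfl⟩ := r.η_surjective hω (LinearMap.ker g) v
  rw [Fmap_η] at hv
  rw [← (r.free_case hω m).2.1 hv]
  exact hex.apply_apply_eq_zero k

lemma subsingleton_F_neg : ∀ (n : ℕ) (M : Type u) [AddCommGroup M] [Module A M] [Module.Finite A M],
    Subsingleton (r.F M (-(n : ℤ) - 1)) := by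
  intro n
  induction n with
  | zero =>
    intro M _ _ _
    obtain ⟨m, g, hg, hex⟩ := exists_ses (A := A) M
    rw [show -((0 : ℕ) : ℤ) - 1 = -1 by lia]
    haveI := (r.free_case hω m).1 (-1) (by lia)
    refine subsingleton_of_forall_eq 0 fun u => ?_
    have h0 : r.Fdelta _ g (Submodule.subtype_injective _) hg hex (-1 : ℤ) 0 (by lia) u = 0 := by
      obtain ⟨k, hk⟩ := r.η_surjective hω (LinearMap.ker g)
        (r.Fdelta _ g (Submodule.subtype_injective _) hg hex (-1 : ℤ) 0 (by lia) u)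
      have h1 := (r.Fexact_right _ g (Submodule.subtype_injective _) hg hex (-1 : ℤ) 0 (by lia) _).2
        ⟨u, rfl⟩
      rw [← hk, Fmap_η] at h1
      have : k = 0 := Subtype.ext ((r.free_case hω m).2.1 (h1.trans (map_zero _).symm))
      rw [← hk, this, map_zero]
    obtain ⟨v, hv⟩ := (r.Fexact_left _ g (Submodule.subtype_injective _) hg hex (-1 : ℤ) 0 (by lia) u).1 h0
    rw [← hv, Subsingleton.elim v 0, map_zero]
  | succ n ih =>
    intro M _ _ _
    obtain ⟨m, g, hg, hex⟩ := exists_ses (A := A) M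
    haveI := (r.free_case hω m).1 (-((n + 1 : ℕ) : ℤ) - 1) (by lia)
    haveI := ih (LinearMap.ker g)
    refine subsingleton_of_forall_eq 0 fun u => ?_
    obtain ⟨v, rfl⟩ := (r.Fexact_left _ g (Submodule.subtype_injective _) hg hex
      (-((n + 1 : ℕ) : ℤ) - 1) (-(n : ℤ) - 1) (by lia) u).1 (Subsingleton.elim _ _)
    rw [Subsingleton.elim v 0, map_zero]

/-- `Hom(D M, ω⟦j⟧) = 0` for `j ≠ 0`. -/
theorem subsingleton_F (M : Type u) [AddCommGroup M] [Module A M] [Module.Finite A M] (j : ℤ)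
    (hj : j ≠ 0) : Subsingleton (r.F M j) := by
  rcases lt_or_gt_of_ne hj with h | h
  · have := r.subsingleton_F_neg hω (-j - 1).toNat M
    rwa [show -(((-j - 1).toNat : ℕ) : ℤ) - 1 = j by lia] at this
  · exact r.subsingleton_F_pos hω M j h

end InjRep

end Groth.DualCore
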