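import Groth.Agent.DualCore.Local
import Groth.Prelude.Def_DRing2

/-!
# Finite injective dimension as a complex
-/

set_option autoImplicit false

universe u

open CategoryTheory CategoryTheory.Limits DerivedCategory

attribute [local instance] HasDerivedCategory.standard

namespace Groth.DualCore

variable {A : Type u} [CommRing A]

/-- A bounded complex of injectives bounds cohomology and gives finite injective dimension. -/
theorem bounds_of_hasFiniteInjDim (K : Dual.D A) (h : DRing.HasFiniteInjDim A K) :
    ∃ a b : ℤ, IsGE K a ∧ IsLE K b ∧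
      ∀ (M : Type u) [AddCommGroup M] [Module A M] (i : ℤ), (i < a ∨ b < i) →
        Subsingleton (Dual.inD A M ⟶ K⟦i⟧) := by
  obtain ⟨a, b, E, hE, hinj, ⟨e⟩⟩ := h
  haveI hge : E.IsStrictlyGE a := (CochainComplex.isStrictlyGE_iff _ _).2 fun i hi => hE i (Or.inl hi)
  haveI hle : E.IsStrictlyLE b := (CochainComplex.isStrictlyLE_iff _ _).2 fun i hi => hE i (Or.inr hi)
  let r : InjRep K :=
    { I := E, a := a, b := b, hGE := hge, hLE := hle, injective := hinj, iso := e }
  refine ⟨a, b, TStructure.t.isGE_of_iso e a, TStructure.t.isLE_of_iso e b, fun M _ _ i hi => ?_⟩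
  haveI : Subsingleton
      ((CochainComplex.singleFunctor (ModuleCat.{u} A) 0 ⋙ Q).obj (ModuleCat.of A M) ⟶ K⟦i⟧) :=
    r.subsingleton_hom_Q
      ((CochainComplex.singleFunctor (ModuleCat.{u} A) 0).obj (ModuleCat.of A M)) 0 0 i (by
        show b < 0 + i ∨ 0 + i < a
        lia)
  exact subsingleton_hom_of_iso
    ((singleFunctorIsoCompQ (ModuleCat.{u} A) 0).app (ModuleCat.of A M)).symm _

end Groth.DualCore
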