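import Groth.Agent.DualCore.Transform
import Groth.Agent.DualCore.OfInjDim

/-!
# `Hom(K, L⟦i⟧)` is finite for `L` of finite injective dimension
-/

set_option autoImplicit false

universe u

open CategoryTheory CategoryTheory.Limits CategoryTheory.Pretriangulated DerivedCategory

attribute [local instance] HasDerivedCategory.standard

namespace Groth.DualCore

variable {A : Type u} [CommRing A]

/-- Maps from objects in high degrees into an object of finite injective dimension vanish. -/
lemma InjRep.subsingleton_hom_of_isGE {L : Dual.D A} (r : InjRep L) (X : Dual.D A) (p j : ℤ)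
    [IsGE X p] (hj : r.b < p + j) : Subsingleton (X ⟶ L⟦j⟧) := by
  obtain ⟨K, hK, ⟨e⟩⟩ := exists_iso_Q_obj_of_isGE X p
  haveI := r.hGE
  haveI := r.hLE
  haveI : (r.I⟦j⟧).IsStrictlyGE (r.a - j) := r.I.isStrictlyGE_shift r.a j (r.a - j) (by lia)
  haveI : (r.I⟦j⟧).IsStrictlyLE (r.b - j) := r.I.isStrictlyLE_shift r.b j (r.b - j) (by lia)
  haveI : (r.I⟦j⟧).IsKInjective := by
    haveI : ∀ n, Injective ((r.I⟦j⟧).X n) := fun n =>
      (Module.injective_iff_injective_object A (r.I.X (n + j))).1 (r.injective _)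
    exact CochainComplex.isKInjective_of_injective _ (r.a - j)
  let e' : Q.obj (r.I⟦j⟧) ≅ L⟦j⟧ :=
    (Q.commShiftIso j).app r.I ≪≫ (shiftFunctor (Dual.D A) j).mapIso r.iso
  refine subsingleton_of_forall_eq 0 fun v => ?_
  obtain ⟨f, hf⟩ := Q_map_surjective (e.inv ≫ v ≫ e'.inv)
  have hf0 : f = 0 := by
    ext n : 1
    rcases lt_or_ge n p with hn | hn
    · exact (CochainComplex.isZero_of_isStrictlyGE K p n hn).eq_of_src _ _
    · exact (CochainComplex.isZero_of_isStrictlyLE (r.I⟦j⟧) (r.b - j) n (by lia)).eq_of_tgt _ _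
  rw [hf0, Functor.map_zero] at hf
  rw [← cancel_epi e.inv, ← cancel_mono e'.inv, Category.assoc, ← hf, comp_zero, zero_comp]

variable [IsNoetherianRing A]

lemma finite_of_triangle {T : Triangle (Dual.D A)} (hT : T ∈ distTriang (Dual.D A)) (Y : Dual.D A)
    (i : ℤ) (h₁ : Module.Finite A (T.obj₁ ⟶ Y⟦i⟧)) (h₃ : Module.Finite A (T.obj₃ ⟶ Y⟦i⟧)) :
    Module.Finite A (T.obj₂ ⟶ Y⟦i⟧) := by
  haveI : IsNoetherian A (T.obj₁ ⟶ Y⟦i⟧) := isNoetherian_of_isNoetherianRing_of_finite A _
  haveI : IsNoetherian A (T.obj₃ ⟶ Y⟦i⟧) := isNoetherian_of_isNoetherianRing_of_finite A _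
  have hex : Function.Exact (pre A T.mor₂ Y i) (pre A T.mor₁ Y i) := fun u =>
    (exact_mid T hT Y i u).trans ⟨fun ⟨v, hv⟩ => ⟨v, hv⟩, fun ⟨v, hv⟩ => ⟨v, hv⟩⟩
  haveI := isNoetherian_of_range_eq_ker _ _ (LinearMap.exact_iff.1 hex).symm
  infer_instance

/-- `Hom(K, L⟦i⟧)` is finite for `K` with finite cohomology and `L` of finite injective dimension
with finite cohomology. -/
theorem finite_hom_of_injRep {K L : Dual.D A} (r : InjRep L)
    (hK : ∀ i, Module.Finite A (Dual.HD A K i)) (hL : ∀ i, Module.Finite A (Dual.HD A L i)) (i : ℤ) :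
    Module.Finite A (K ⟶ L⟦i⟧) := by
  let t := (TStructure.t : Triangulated.TStructure (Dual.D A))
  haveI := r.isGE_self
  let lo : ℤ := r.a - i
  let hi : ℤ := max lo (r.b - i + 1)
  let T := (t.triangleLEGE (hi - 1) hi (by lia)).obj K
  have hT : T ∈ distTriang (Dual.D A) := t.triangleLEGE_distinguished (hi - 1) hi _ K
  refine finite_of_triangle hT L i ?_ ?_
  · let X := T.obj₁
    haveI hXle : IsLE X (hi - 1) := inferInstanceAs (t.IsLE ((t.truncLE (hi - 1)).obj K) (hi - 1))
    let T' := (t.triangleLEGE (lo - 1) lo (by lia)).obj X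
    have hT' : T' ∈ distTriang (Dual.D A) := t.triangleLEGE_distinguished (lo - 1) lo _ X
    haveI h1 : IsLE T'.obj₁ (lo - 1) := inferInstanceAs (t.IsLE ((t.truncLE (lo - 1)).obj X) (lo - 1))
    haveI h3 : IsGE T'.obj₃ lo := inferInstanceAs (t.IsGE ((t.truncGE lo).obj X) lo)
    haveI h3' : IsLE T'.obj₃ (hi - 1) := by
      rw [isLE_iff]
      intro q hq
      exact (HomologySequence.exact₃ T' hT' q (q + 1) rfl).isZero_X₂
        ((isZero_of_isLE X (hi - 1) q hq).eq_of_src _ _)
        ((isZero_of_isLE T'.obj₁ (lo - 1) (q + 1) (by lia)).eq_of_tgt _ _)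
    refine finite_of_triangle hT' L i ?_ (finite_hom_bounded T'.obj₃ L lo (hi - 1) r.a (fun q => ?_) hL i)
    · haveI : IsGE (L⟦i⟧) lo := TStructure.t.isGE_shift L r.a i lo
      haveI : Subsingleton (T'.obj₁ ⟶ L⟦i⟧) := ⟨fun u v =>
        (TStructure.t.zero u (lo - 1) lo).trans (TStructure.t.zero v (lo - 1) lo).symm⟩
      exact Module.Finite.of_finite
    · rcases lt_or_ge q lo with hq | hq
      · haveI : Subsingleton (Dual.HD A T'.obj₃ q) :=
          ModuleCat.isZero_iff_subsingleton.1 (isZero_of_isGE T'.obj₃ lo q hq)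
        exact Module.Finite.of_finite
      rcases lt_or_ge (hi - 1) q with hq' | hq'
      · haveI : Subsingleton (Dual.HD A T'.obj₃ q) :=
          ModuleCat.isZero_iff_subsingleton.1 (isZero_of_isLE T'.obj₃ (hi - 1) q hq')
        exact Module.Finite.of_finite
      haveI h3K : IsGE T.obj₃ hi := inferInstanceAs (t.IsGE ((t.truncGE hi).obj K) hi)
      haveI : Epi ((homologyFunctor (ModuleCat.{u} A) q).map T.mor₁) :=
        (HomologySequence.epi_homologyMap_mor₁_iff T hT q).2
          ((isZero_of_isGE T.obj₃ hi q (by lia)).eq_of_tgt _ _)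
      haveI : Mono ((homologyFunctor (ModuleCat.{u} A) q).map T.mor₁) :=
        (HomologySequence.mono_homologyMap_mor₁_iff T hT (q - 1) q (by lia)).2
          ((isZero_of_isGE T.obj₃ hi (q - 1) (by lia)).eq_of_src _ _)
      haveI := isIso_of_mono_of_epi ((homologyFunctor (ModuleCat.{u} A) q).map T.mor₁)
      haveI : Module.Finite A ((homologyFunctor (ModuleCat.{u} A) q).obj T.obj₂) := hK q
      haveI : Module.Finite A (Dual.HD A X q) :=
        Module.Finite.equiv (asIso ((homologyFunctor (ModuleCat.{u} A) q).map T.mor₁)).toLinearEquiv.symm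
      haveI : Epi ((homologyFunctor (ModuleCat.{u} A) q).map T'.mor₂) :=
        (HomologySequence.epi_homologyMap_mor₂_iff T' hT' q (q + 1) rfl).2
          ((isZero_of_isLE T'.obj₁ (lo - 1) (q + 1) (by lia)).eq_of_tgt _ _)
      haveI : Module.Finite A ((homologyFunctor (ModuleCat.{u} A) q).obj T'.obj₂) :=
        ‹Module.Finite A (Dual.HD A X q)›
      exact Module.Finite.of_surjective ((homologyFunctor (ModuleCat.{u} A) q).map T'.mor₂).hom
        ((ModuleCat.epi_iff_surjective _).1 inferInstance)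
  · haveI h3K : IsGE T.obj₃ hi := inferInstanceAs (t.IsGE ((t.truncGE hi).obj K) hi)
    haveI := r.subsingleton_hom_of_isGE T.obj₃ hi i (by lia)
    exact Module.Finite.of_finite

end Groth.DualCore
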