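import Groth.Agent.DualCore.DoubleDual
import Groth.Agent.DualCore.Biduality
import Groth.Agent.DualCore.FiniteHomUnbounded
import Groth.Agent.FlatCxBase.Core
import Mathlib.Algebra.Homology.HomotopyCategory.HomComplexSingle
import Mathlib.Algebra.Homology.HomotopyCategory.DegreewiseSplit

/-!
# Biduality for complexes with finite cohomology

`E → Hom•(Hom•(E, I), I)` is a quasi-isomorphism when `I` is a bounded injective representative of a
dualizing complex and every cohomology module of `E` is finite.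
-/

set_option autoImplicit false
set_option linter.style.haveILetI false

universe u

open CategoryTheory CategoryTheory.Limits CochainComplex CochainComplex.HomComplex DerivedCategory
open Groth.LocCohTransform.RHomDual (θ θ_eq_zero_iff)

attribute [local instance] HasDerivedCategory.standard

namespace Groth.DualCore.BidualityCx

open DoubleDual

variable {A : Type u} [CommRing A] [IsNoetherianRing A] {ω : Dual.D A} (r : InjRep ω)

/-- The representative of a shift of `ω`. -/
noncomputable def shiftIso (i : ℤ) : Q.obj (r.I⟦i⟧) ≅ ω⟦i⟧ :=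
  (Q.commShiftIso i).app r.I ≪≫ (CategoryTheory.shiftFunctor (Dual.D A) i).mapIso r.iso

theorem exactAt_homCx (Y : DRing.Cx A) (i : ℤ) (h : Subsingleton (Q.obj Y ⟶ ω⟦i⟧)) :
    (DRing.homCx Y r.I).ExactAt i := by
  rw [HomologicalComplex.exactAt_iff' _ (i - 1) i (i + 1) (by simp) (by simp), ShortComplex.moduleCat_exact_iff]
  intro (z : Cochain Y r.I i) (hz : δ i (i + 1) z = 0)
  haveI : Subsingleton (Q.obj Y ⟶ Q.obj (r.I⟦i⟧)) :=
    @Equiv.subsingleton _ _ (Iso.homCongr (Iso.refl _) (shiftIso r i)) h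
  exact (θ_eq_zero_iff (i - 1) (by omega) (Cocycle.mk z (i + 1) rfl hz)).1 (Subsingleton.elim _ _)

theorem exactAt_of_isZero_homology {K : DRing.Cx A} {i : ℤ}
    (h : IsZero ((homologyFunctor (ModuleCat.{u} A) i).obj (Q.obj K))) : K.ExactAt i :=
  (HomologicalComplex.exactAt_iff_isZero_homology _ _).2
    (h.of_iso ((homologyFunctorFactors (ModuleCat.{u} A) i).app K).symm)

theorem isZero_of_exactAt {K : DRing.Cx A} {i : ℤ} (h : K.ExactAt i) :
    IsZero ((homologyFunctor (ModuleCat.{u} A) i).obj (Q.obj K)) :=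
  ((HomologicalComplex.exactAt_iff_isZero_homology _ _).1 h).of_iso
    ((homologyFunctorFactors (ModuleCat.{u} A) i).app K)

theorem isLE_Q (E : DRing.Cx A) (p : ℤ) [E.IsLE p] : DerivedCategory.IsLE (Q.obj E) p := by
  rw [DerivedCategory.isLE_iff]
  exact fun i hi => isZero_of_exactAt (E.exactAt_of_isLE p i hi)

theorem isGE_Q (E : DRing.Cx A) (p : ℤ) [E.IsGE p] : DerivedCategory.IsGE (Q.obj E) p := by
  rw [DerivedCategory.isGE_iff]
  exact fun i hi => isZero_of_exactAt (E.exactAt_of_isGE p i hi)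

theorem subsingleton_to_ω (X : Dual.D A) (p j : ℤ) [DerivedCategory.IsLE X p] (h : j + p < r.a) :
    Subsingleton (X ⟶ ω⟦j⟧) := by
  haveI := r.isGE_self
  haveI : DerivedCategory.IsGE (ω⟦j⟧) (r.a - j) := TStructure.t.isGE_shift ω r.a j (r.a - j)
  exact ⟨fun u v => (TStructure.t.zero u p (r.a - j) (by omega)).trans
    (TStructure.t.zero v p (r.a - j) (by omega)).symm⟩

/-- The double dual of a complex in degrees `≤ p` has no cohomology in high degrees. -/
theorem exactAt_DD_of_isLE (E : DRing.Cx A) (p i : ℤ) [E.IsLE p] (h : r.b - r.a + p < i) :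
    (DD r.I E).ExactAt i := by
  haveI := isLE_Q E p
  haveI : DerivedCategory.IsGE (Q.obj (DRing.homCx E r.I)) (r.a - p) := by
    rw [DerivedCategory.isGE_iff]
    exact fun j hj => isZero_of_exactAt (exactAt_homCx r E j (subsingleton_to_ω r _ p j (by omega)))
  exact exactAt_homCx r _ i (r.subsingleton_hom_of_isGE _ (r.a - p) i (by omega))

/-- The double dual of a complex in degrees `≥ q` has no cohomology in low degrees. -/
theorem exactAt_DD_of_isGE (E : DRing.Cx A) (q i : ℤ) [E.IsGE q] (h : i < r.a - r.b + q) :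
    (DD r.I E).ExactAt i := by
  haveI := isGE_Q E q
  haveI : DerivedCategory.IsLE (Q.obj (DRing.homCx E r.I)) (r.b - q) := by
    rw [DerivedCategory.isLE_iff]
    exact fun j hj => isZero_of_exactAt (exactAt_homCx r E j (r.subsingleton_hom_of_isGE _ q j (by omega)))
  exact exactAt_homCx r _ i (subsingleton_to_ω r _ (r.b - q) i (by omega))

theorem quasiIsoAt_of_exactAt {K L : DRing.Cx A} (f : K ⟶ L) (i : ℤ) (h : K.ExactAt i) (h' : L.ExactAt i) :
    QuasiIsoAt f i := by
  rw [quasiIsoAt_iff_isIso_homologyMap]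
  exact ((HomologicalComplex.exactAt_iff_isZero_homology _ _).1 h).isIso
    ((HomologicalComplex.exactAt_iff_isZero_homology _ _).1 h') _

theorem injective_X (n : ℤ) : Injective (r.I.X n) :=
  (Module.injective_iff_injective_object A (r.I.X n)).1 (r.injective n)

theorem dd_shortExact {S : ShortComplex (DRing.Cx A)} (hS : S.ShortExact) :
    (dualSC r.I (dualSC r.I S)).ShortExact :=
  dualSC_shortExact r.I (injective_X r) (dualSC_shortExact r.I (injective_X r) hS)

/-- Biduality at a degree is invariant under quasi-isomorphisms. -/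
theorem quasiIsoAt_δC_iff {E E' : DRing.Cx A} (g : E ⟶ E') [QuasiIso g] (i : ℤ) :
    QuasiIsoAt (δC r.I E) i ↔ QuasiIsoAt (δC r.I E') i := by
  haveI := quasiIso_pre r.I g
  haveI := quasiIso_pre r.I (preH g r.I)
  have h := δC_naturality r.I g
  constructor <;> intro h'
  · haveI := h'
    have : QuasiIsoAt (g ≫ δC r.I E') i := h ▸ inferInstance
    exact (quasiIsoAt_iff_comp_left g _ i).1 this
  · haveI := h'
    have : QuasiIsoAt (δC r.I E ≫ preH (preH g r.I) r.I) i := h ▸ inferInstance
    exact (quasiIsoAt_iff_comp_right (δC r.I E) (preH (preH g r.I) r.I) i).1 this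

open HomologicalComplex in
/-- The five lemma for the first term. -/
theorem isIso_homologyMap_τ₁ {S₁ S₂ : ShortComplex (DRing.Cx A)} (φ : S₁ ⟶ S₂) (h₁ : S₁.ShortExact)
    (h₂ : S₂.ShortExact) (i : ℤ) (e0 : Epi (homologyMap φ.τ₂ (i - 1))) (e1 : IsIso (homologyMap φ.τ₃ (i - 1)))
    (e3 : IsIso (homologyMap φ.τ₂ i)) (e4 : Mono (homologyMap φ.τ₃ i)) :
    IsIso (homologyMap φ.τ₁ i) := by
  have r : (ComplexShape.up ℤ).Rel (i - 1) i := by simp
  let R : ∀ {S : ShortComplex (DRing.Cx A)} (_ : S.ShortExact), ComposableArrows (ModuleCat.{u} A) 4 :=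
    fun {S} h => ComposableArrows.mk₄ (homologyMap S.g (i - 1)) (h.δ (i - 1) i r) (homologyMap S.f i) (homologyMap S.g i)
  have hR : ∀ {S : ShortComplex (DRing.Cx A)} (h : S.ShortExact), (R h).Exact := fun {S} h =>
    ComposableArrows.exact_of_δ₀ (h.homology_exact₃ (i - 1) i r).exact_toComposableArrows
      (ComposableArrows.exact_of_δ₀ (h.homology_exact₁ (i - 1) i r).exact_toComposableArrows
        (h.homology_exact₂ i).exact_toComposableArrows)
  have w : ∀ k, homologyMap S₁.g k ≫ homologyMap φ.τ₃ k = homologyMap φ.τ₂ k ≫ homologyMap S₂.g k := fun k => by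
    rw [← homologyMap_comp, ← homologyMap_comp, φ.comm₂₃]
  let Φ : R h₁ ⟶ R h₂ := ComposableArrows.homMk₄ (homologyMap φ.τ₂ (i - 1)) (homologyMap φ.τ₃ (i - 1))
    (homologyMap φ.τ₁ i) (homologyMap φ.τ₂ i) (homologyMap φ.τ₃ i) (w (i - 1))
    (HomologySequence.δ_naturality φ h₁ h₂ (i - 1) i r)
    (by
      show homologyMap S₁.f i ≫ homologyMap φ.τ₂ i = homologyMap φ.τ₁ i ≫ homologyMap S₂.f i
      rw [← homologyMap_comp, ← homologyMap_comp, φ.comm₁₂])
    (w i)
  exact Abelian.isIso_of_epi_of_isIso_of_isIso_of_mono (hR h₁) (hR h₂) Φ e0 e1 e3 e4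

/-- The double dual map is a quasi-isomorphism for an acyclic complex. -/
theorem quasiIsoAt_δC_of_acyclic (E : DRing.Cx A) (hE : ∀ i, E.ExactAt i) (i : ℤ) : QuasiIsoAt (δC r.I E) i := by
  haveI : E.IsLE (i + r.a - r.b - 1) := (CochainComplex.isLE_iff _ _).2 fun j _ => hE j
  exact quasiIsoAt_of_exactAt _ i (hE i) (exactAt_DD_of_isLE r E (i + r.a - r.b - 1) i (by omega))

/-- Biduality is invariant under shifts. -/
theorem quasiIso_δC_shift_iff (E : DRing.Cx A) :
    QuasiIso (δC r.I (E⟦(1 : ℤ)⟧)) ↔ QuasiIso (δC r.I E) := by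
  let S := mappingCone.triangleRotateShortComplex (𝟙 E)
  have hS : S.ShortExact := HomologicalComplex.shortExact_of_degreewise_shortExact _ fun n =>
    (mappingCone.triangleRotateShortComplexSplitting (𝟙 E) n).shortExact
  have hC : ∀ i, QuasiIsoAt (δC r.I S.X₂) i := quasiIsoAt_δC_of_acyclic r _ fun i =>
    (HomologicalComplex.exactAt_iff_isZero_homology _ _).2 (by
      rw [IsZero.iff_id_eq_zero, ← HomologicalComplex.homologyMap_id]
      exact ((mappingCone.homotopyToZeroOfId E).homologyMap_eq i).trans (HomologicalComplex.homologyMap_zero _ _ _))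
  haveI h2 : QuasiIso (δSC r.I S).τ₂ := ⟨hC⟩
  constructor <;> intro h
  · refine ⟨fun i => ?_⟩
    rw [quasiIsoAt_iff_isIso_homologyMap]
    haveI h3 : QuasiIso (δSC r.I S).τ₃ := h
    exact isIso_homologyMap_τ₁ (δSC r.I S) hS (dd_shortExact r hS) i inferInstance inferInstance inferInstance
      inferInstance
  · exact HomologicalComplex.HomologySequence.quasiIso_τ₃ (δSC r.I S) hS (dd_shortExact r hS) h h2

section Module

variable (M : ModuleCat.{u} A)

/-- The dual of a module. -/
noncomputable def dualSingleIso :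
    DRing.homCx ((CochainComplex.singleFunctor (ModuleCat.{u} A) 0).obj M) r.I ≅ r.DC M :=
  HomologicalComplex.Hom.isoOfComponents
    (fun n => LinearEquiv.toModuleIso
      { toFun := fun z : Cochain _ r.I n => ((HomologicalComplex.singleObjXSelf (.up ℤ) 0 M).inv ≫ z.v 0 n (zero_add n)).hom
        invFun := fun φ => Cochain.fromSingleMk (ModuleCat.ofHom φ : M ⟶ r.I.X n) (zero_add n)
        map_add' := fun z z' => LinearMap.ext fun x => rfl
        map_smul' := fun a z => LinearMap.ext fun x => rfl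
        left_inv := fun z => (Cochain.fromSingleEquiv (zero_add n)).left_inv z
        right_inv := fun φ => congrArg ModuleCat.Hom.hom
          ((Cochain.fromSingleEquiv (zero_add n)).right_inv (ModuleCat.ofHom φ)) })
    (fun n m hnm => by
      change n + 1 = m at hnm
      subst hnm
      refine ModuleCat.hom_ext (LinearMap.ext fun (z : Cochain _ r.I n) => LinearMap.ext fun x => ?_)
      show r.I.d n (n + 1) (z.v 0 n (zero_add n) ((HomologicalComplex.singleObjXSelf (.up ℤ) 0 M).inv x)) =
        (δ n (n + 1) z).v 0 (n + 1) (zero_add _) ((HomologicalComplex.singleObjXSelf (.up ℤ) 0 M).inv x)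
      erw [Groth.DTenCalc.InternalHom.δ_v_apply rfl z 0 (0 + 1) n (n + 1) (zero_add n) rfl rfl]
      erw [show ((CochainComplex.singleFunctor (ModuleCat.{u} A) 0).obj M).d 0 (0 + 1) = 0 from rfl]
      erw [map_zero, smul_zero, sub_zero])

variable (hω : Dual.IsDualizing A ω) [Module.Finite A M]

include hω in
theorem quasiIso_δC_single :
    QuasiIso (δC r.I ((CochainComplex.singleFunctor (ModuleCat.{u} A) 0).obj M)) := by
  let E := (CochainComplex.singleFunctor (ModuleCat.{u} A) 0).obj M
  let e := dualSingleIso r M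
  let x := fun m : (M : Type u) => (HomologicalComplex.singleObjXSelf (.up ℤ) 0 M).inv m
  refine ⟨fun i => ?_⟩
  by_cases hi : i = 0
  swap
  · refine quasiIsoAt_of_exactAt _ i
      (HomologicalComplex.exactAt_single_obj _ _ _ _ hi) (exactAt_homCx r _ i ?_)
    haveI := r.subsingleton_F hω (M : Type u) i hi
    exact @Equiv.subsingleton _ _ (Iso.homCongr (Q.mapIso e) (Iso.refl (ω⟦i⟧))) ‹Subsingleton (r.F M i)›
  subst hi
  let z₀ := (shiftFunctorZero (Dual.D A) ℤ).inv.app ω
  have hev : ∀ m, (δC r.I E).f 0 (x m) = Cochain.ofHom (e.hom ≫ r.ev m) := fun m => by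
    refine Cochain.ext _ _ fun p t h => ModuleCat.hom_ext (LinearMap.ext fun (z : Cochain E r.I p) => ?_)
    obtain rfl : t = p := by omega
    show (evalAt r.I E 0 (x m)).v t t h z = _
    erw [evalAt_v]
    rw [zero_mul, Int.negOnePow_zero, Units.val_one, one_smul, Cochain.ofHom_v]
    rfl
  rw [quasiIsoAt_iff_isIso_homologyMap, ConcreteCategory.isIso_iff_bijective]
  refine ⟨(FlatCxBase.homologyMap_injective_iff _ (i := -1) (k := 1) (by simp) (by simp)).2 ?_,
    (FlatCxBase.homologyMap_surjective_iff _ (i := -1) (k := 1) (by simp) (by simp)).2 ?_⟩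
  · intro y _
    rintro ⟨(β : Cochain (DRing.homCx E r.I) r.I (-1)), hβ⟩
    obtain ⟨m, rfl⟩ : ∃ m, x m = y :=
      ⟨(HomologicalComplex.singleObjXSelf (.up ℤ) 0 M).hom y, Iso.hom_inv_id_apply _ _⟩
    rw [hev] at hβ
    have hom : Homotopy (e.hom ≫ r.ev m) 0 := (Cochain.equivHomotopy _ _).symm
      ⟨β, by rw [Cochain.ofHom_zero, add_zero]; exact hβ.symm⟩
    have h0 := Q_map_eq_zero_of_homotopy hom
    rw [Functor.map_comp, ← cancel_epi (Q.map e.inv), ← Functor.map_comp_assoc, e.inv_hom_id,
      CategoryTheory.Functor.map_id, Category.id_comp, comp_zero] at h0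
    have hm : m = 0 := (r.η_bijective hω (M : Type u)).1 (by
      rw [map_zero]
      show Q.map (r.ev m) ≫ _ = 0
      rw [h0, zero_comp])
    exact ⟨0, by rw [map_zero, hm]; exact (map_zero _).symm⟩
  · intro (y : Cochain (DRing.homCx E r.I) r.I 0) (hy : δ 0 1 y = 0)
    let g : DRing.homCx E r.I ⟶ r.I := Cocycle.homOf (Cocycle.mk y 1 rfl hy)
    obtain ⟨m, hm⟩ := (r.η_bijective hω (M : Type u)).2 (Q.map (e.inv ≫ g) ≫ r.iso.hom ≫ z₀)
    have hm' : Q.map (e.inv ≫ g - r.ev m) = 0 := by
      rw [Functor.map_sub, sub_eq_zero]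
      exact ((cancel_mono (r.iso.hom ≫ z₀)).1 hm).symm
    obtain ⟨hh⟩ := homotopy_of_Q_map_eq_zero hm'
    have hk : Homotopy (g - e.hom ≫ r.ev m) 0 := by
      refine ((Homotopy.ofEq ?_).trans (hh.compLeft e.hom)).trans (Homotopy.ofEq comp_zero)
      rw [Preadditive.comp_sub, Iso.hom_inv_id_assoc]
    refine ⟨x m, (Cochain.equivHomotopy _ _ hk).1, ?_, ?_⟩
    · show ((CochainComplex.singleFunctor (ModuleCat.{u} A) 0).obj M).d 0 1 (x m) = 0
      rfl
    · have hβ := (Cochain.equivHomotopy _ _ hk).2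
      simp only [Cochain.ofHom_zero, add_zero, Cochain.ofHom_sub] at hβ
      rw [hev]
      show Cochain.ofHom _ + δ (-1) 0 _ = y
      rw [← hβ]
      exact (add_sub_cancel (G := Cochain (DRing.homCx E r.I) r.I 0) _ _).trans (Cocycle.cochain_ofHom_homOf_eq_coe _)

end Module

variable (hω : Dual.IsDualizing A ω)

include hω in
theorem quasiIso_δC_singleAt (M : ModuleCat.{u} A) [Module.Finite A M] (n : ℤ) :
    QuasiIso (δC r.I ((CochainComplex.singleFunctor (ModuleCat.{u} A) n).obj M)) := by
  have step : ∀ n, QuasiIso (δC r.I ((CochainComplex.singleFunctor (ModuleCat.{u} A) n).obj M)) ↔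
      QuasiIso (δC r.I ((CochainComplex.singleFunctor (ModuleCat.{u} A) (n + 1)).obj M)) := fun n => by
    let c := ((CochainComplex.singleFunctors (ModuleCat.{u} A)).shiftIso 1 n (n + 1) (by omega)).app M
    rw [← quasiIso_δC_shift_iff r ((CochainComplex.singleFunctor (ModuleCat.{u} A) (n + 1)).obj M)]
    exact ⟨fun h => ⟨fun i => (quasiIsoAt_δC_iff r c.hom i).2 (h.quasiIsoAt i)⟩,
      fun h => ⟨fun i => (quasiIsoAt_δC_iff r c.hom i).1 (h.quasiIsoAt i)⟩⟩
  induction n using Int.induction_on with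
  | zero => exact quasiIso_δC_single r M hω
  | succ k ih => exact (step k).1 ih
  | pred k ih =>
    refine (step (-(k : ℤ) - 1)).2 ?_
    rwa [sub_add_cancel]

include hω in
/-- The bounded case. -/
theorem quasiIso_δC_bounded : ∀ (k : ℕ) (E : DRing.Cx A) (a b : ℤ), b < a + k → E.IsGE a → E.IsLE b →
    (∀ i, Module.Finite A (E.homology i)) → QuasiIso (δC r.I E) := by
  intro k
  induction k with
  | zero =>
    intro E a b hab hge hle _
    refine ⟨quasiIsoAt_δC_of_acyclic r E fun i => ?_⟩
    by_cases hi : i < a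
    · exact E.exactAt_of_isGE a i hi
    · exact E.exactAt_of_isLE b i (by omega)
  | succ k ih =>
    intro E a b hab hge hle hfin
    let S := E.shortComplexTruncLE (b - 1)
    have hS : S.ShortExact := E.shortComplexTruncLE_shortExact (b - 1)
    haveI : S.X₁.IsStrictlyLE (b - 1) := inferInstanceAs ((E.truncLE (b - 1)).IsStrictlyLE (b - 1))
    have h1qi : ∀ q ≤ b - 1, QuasiIsoAt S.f q := fun q hq => E.quasiIsoAt_ιTruncLE (b - 1) q hq
    have h1fin : ∀ i, Module.Finite A (S.X₁.homology i) := fun i => by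
      by_cases hi : i ≤ b - 1
      · have := h1qi i hi
        haveI : Module.Finite A (S.X₂.homology i) := hfin i
        exact Module.Finite.equiv (isoOfQuasiIsoAt S.f i).toLinearEquiv.symm
      · haveI := ModuleCat.subsingleton_of_isZero (S.X₁.isZero_of_isLE (b - 1) i (by omega))
        exact Module.Finite.of_finite
    have h1ge : S.X₁.IsGE a := by
      rw [CochainComplex.isGE_iff]
      intro i hi
      by_cases hi' : i ≤ b - 1
      · have := h1qi i hi'
        exact (quasiIsoAt_iff_exactAt' S.f i (E.exactAt_of_isGE a i hi)).1 this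
      · exact S.X₁.exactAt_of_isLE (b - 1) i (by omega)
    have p1 := ih S.X₁ a (b - 1) (by omega) h1ge inferInstance h1fin
    -- the top degree
    let π := E.shortComplexTruncLEX₃ToTruncGE (b - 1) b (by omega)
    haveI : QuasiIso π := inferInstanceAs (QuasiIso (HomologicalComplex.shortComplexTruncLEX₃ToTruncGE _ _))
    let G := E.truncGE b
    haveI : G.IsLE b := by
      rw [CochainComplex.isLE_iff]
      intro i hi
      have := E.quasiIsoAt_πTruncGE b i (by omega)
      exact (quasiIsoAt_iff_exactAt (E.πTruncGE b) i (E.exactAt_of_isLE b i hi)).1 this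
    haveI : (G.truncLE b).IsStrictlyGE b := by
      rw [CochainComplex.isStrictlyGE_iff]
      intro i hi
      exact (G.isZero_of_isStrictlyGE b i hi).of_iso (G.truncLEXIso b i hi)
    obtain ⟨M, ⟨eM⟩⟩ := (G.truncLE b).exists_iso_single b
    haveI : QuasiIso (G.ιTruncLE b) := (G.quasiIso_ιTruncLE_iff b).2 inferInstance
    haveI : Module.Finite A M := by
      haveI := hfin b
      have := E.quasiIsoAt_πTruncGE b b le_rfl
      exact Module.Finite.equiv ((isoOfQuasiIsoAt (E.πTruncGE b) b ≪≫ (isoOfQuasiIsoAt (G.ιTruncLE b) b).symm ≪≫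
        (HomologicalComplex.homologyFunctor _ _ b).mapIso eM ≪≫
          HomologicalComplex.singleObjHomologySelfIso (.up ℤ) b M).toLinearEquiv)
    have p3 : ∀ i, QuasiIsoAt (δC r.I S.X₃) i := fun i =>
      (quasiIsoAt_δC_iff r π i).2 ((quasiIsoAt_δC_iff r (G.ιTruncLE b) i).1
        ((quasiIsoAt_δC_iff r eM.hom i).2 ((quasiIso_δC_singleAt r hω M b).quasiIsoAt i)))
    haveI h3 : QuasiIso (δSC r.I S).τ₃ := ⟨p3⟩
    haveI h1 : QuasiIso (δSC r.I S).τ₁ := p1
    refine ⟨fun i => ?_⟩
    rw [quasiIsoAt_iff_isIso_homologyMap]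
    exact isIso_homologyMap_τ₂ (δSC r.I S) hS (dd_shortExact r hS) i inferInstance inferInstance inferInstance
      inferInstance

include hω in
/-- **Biduality**. -/
theorem quasiIso_δC (E : DRing.Cx A) (hfin : ∀ i, Module.Finite A (E.homology i)) : QuasiIso (δC r.I E) := by
  have hab : r.a ≤ r.b + 1 ∨ r.b + 1 < r.a := le_or_gt _ _
  refine ⟨fun i => ?_⟩
  rw [quasiIsoAt_iff_isIso_homologyMap]
  let d : ℤ := max 0 (r.b - r.a)
  let p := i - d - 2
  let q := i + d + 2
  have hd : r.b - r.a ≤ d := le_max_right _ _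
  have hd0 : 0 ≤ d := le_max_left _ _
  let S := E.shortComplexTruncLE p
  have hS : S.ShortExact := E.shortComplexTruncLE_shortExact p
  haveI : S.X₁.IsStrictlyLE p := inferInstanceAs ((E.truncLE p).IsStrictlyLE p)
  have z1 : ∀ j, p + d < j → IsIso (HomologicalComplex.homologyMap (δSC r.I S).τ₁ j) := fun j hj =>
    (quasiIsoAt_iff_isIso_homologyMap _ _).1
      (quasiIsoAt_of_exactAt _ j (S.X₁.exactAt_of_isLE p j (by omega)) (exactAt_DD_of_isLE r _ p j (by omega)))
  let π := E.shortComplexTruncLEX₃ToTruncGE p (p + 1) rfl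
  haveI : QuasiIso π := inferInstanceAs (QuasiIso (HomologicalComplex.shortComplexTruncLEX₃ToTruncGE _ _))
  let G := E.truncGE (p + 1)
  -- the window
  have hG : ∀ j, j = i ∨ j = i - 1 → QuasiIsoAt (δC r.I G) j := by
    intro j hj
    let S' := G.shortComplexTruncLE q
    have hS' : S'.ShortExact := G.shortComplexTruncLE_shortExact q
    haveI : S'.X₁.IsStrictlyLE q := inferInstanceAs ((G.truncLE q).IsStrictlyLE q)
    have hqi : ∀ l ≤ q, QuasiIsoAt S'.f l := fun l hl => G.quasiIsoAt_ιTruncLE q l hl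
    have h1ge : S'.X₁.IsGE (p + 1) := by
      rw [CochainComplex.isGE_iff]
      intro l hl
      have := hqi l (by omega)
      exact (quasiIsoAt_iff_exactAt' S'.f l (G.exactAt_of_isGE (p + 1) l hl)).1 this
    have h1fin : ∀ l, Module.Finite A (S'.X₁.homology l) := fun l => by
      by_cases hl : l ≤ q
      · have := hqi l hl
        refine @Module.Finite.equiv A _ _ _ _ _ _ _ ?_ (isoOfQuasiIsoAt S'.f l).toLinearEquiv.symm
        by_cases hl' : p + 1 ≤ l
        · have := E.quasiIsoAt_πTruncGE (p + 1) l hl'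
          haveI := hfin l
          exact Module.Finite.equiv (isoOfQuasiIsoAt (E.πTruncGE (p + 1)) l).toLinearEquiv
        · haveI : Subsingleton (S'.X₂.homology l) :=
            ModuleCat.subsingleton_of_isZero (G.isZero_of_isGE (p + 1) l (by omega))
          exact Module.Finite.of_finite
      · haveI := ModuleCat.subsingleton_of_isZero (S'.X₁.isZero_of_isLE q l (by omega))
        exact Module.Finite.of_finite
    haveI h1 : QuasiIso (δSC r.I S').τ₁ :=
      quasiIso_δC_bounded r hω (q - p).toNat S'.X₁ (p + 1) q (by omega) h1ge inferInstance h1fin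
    let π' := G.shortComplexTruncLEX₃ToTruncGE q (q + 1) rfl
    haveI : QuasiIso π' := inferInstanceAs (QuasiIso (HomologicalComplex.shortComplexTruncLEX₃ToTruncGE _ _))
    have z3 : ∀ l ≤ i, IsIso (HomologicalComplex.homologyMap (δSC r.I S').τ₃ l) := fun l hl =>
      (quasiIsoAt_iff_isIso_homologyMap _ _).1 ((quasiIsoAt_δC_iff r π' l).2
        (quasiIsoAt_of_exactAt _ l ((G.truncGE (q + 1)).exactAt_of_isGE (q + 1) l (by omega))
          (exactAt_DD_of_isGE r _ (q + 1) l (by omega))))
    haveI := z3 j (by omega)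
    haveI := z3 (j - 1) (by omega)
    rw [quasiIsoAt_iff_isIso_homologyMap]
    exact isIso_homologyMap_τ₂ (δSC r.I S') hS' (dd_shortExact r hS') j inferInstance inferInstance inferInstance
      inferInstance
  have z3 : ∀ j, j = i ∨ j = i - 1 → IsIso (HomologicalComplex.homologyMap (δSC r.I S).τ₃ j) := fun j hj =>
    (quasiIsoAt_iff_isIso_homologyMap _ _).1 ((quasiIsoAt_δC_iff r π j).2 (hG j hj))
  haveI := z1 i (by omega)
  haveI := z1 (i + 1) (by omega)
  haveI := z3 i (Or.inl rfl)
  haveI := z3 (i - 1) (Or.inr rfl)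
  exact isIso_homologyMap_τ₂ (δSC r.I S) hS (dd_shortExact r hS) i inferInstance inferInstance inferInstance
    inferInstance

/-- The cohomology of `Hom•(E, I)` is finite. -/
theorem finite_homology_homCx (hL : ∀ i, Module.Finite A (Dual.HD A ω i)) (E : DRing.Cx A)
    (hfin : ∀ i, Module.Finite A (E.homology i)) (i : ℤ) : Module.Finite A ((DRing.homCx E r.I).homology i) := by
  have hH : ∀ j, Module.Finite A (Dual.HD A (Q.obj E) j) := fun j =>
    haveI : Module.Finite A ((HomologicalComplex.homologyFunctor (ModuleCat.{u} A) (ComplexShape.up ℤ) j).obj E) := hfin j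
    Module.Finite.equiv ((homologyFunctorFactors (ModuleCat.{u} A) j).app E).symm.toLinearEquiv
  haveI := finite_hom_of_injRep r hH hL i
  haveI : Module.Finite A (Q.obj E ⟶ Q.obj (r.I⟦i⟧)) :=
    Module.Finite.equiv (Linear.homCongr A (Iso.refl (Q.obj E)) (shiftIso r i)).symm
  let K := DRing.homCx E r.I
  let Z := LinearMap.ker (K.d i ((ComplexShape.up ℤ).next i)).hom
  let coc : Z → Cocycle E r.I i := fun z => Cocycle.mk (z.1 : Cochain E r.I i) (i + 1) rfl (by
    have := z.2
    rwa [LinearMap.mem_ker, show (ComplexShape.up ℤ).next i = i + 1 from CochainComplex.next ℤ i] at this)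
  have hadd : ∀ z z' : Z, coc (z + z') = coc z + coc z' := fun z z' => Cocycle.ext rfl
  have hsmul : ∀ (a : A) (z : Z), Groth.LocCohTransform.RHomDual.θ (coc (a • z)) = a • Groth.LocCohTransform.RHomDual.θ (coc z) := fun a z => by
    show Q.map (Cocycle.equivHomShift.symm (coc (a • z))) = a • Q.map (Cocycle.equivHomShift.symm (coc z))
    rw [← Functor.map_smul]
    congr 1
  let Ψ : Z →ₗ[A] (Q.obj E ⟶ Q.obj (r.I⟦i⟧)) :=
    { toFun := fun z => Groth.LocCohTransform.RHomDual.θ (coc z)
      map_add' := fun z z' => by rw [hadd, map_add]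
      map_smul' := hsmul }
  have hker : LinearMap.ker Ψ = LinearMap.ker (FlatCxBase.cls K i) := by
    ext z
    rw [LinearMap.mem_ker, LinearMap.mem_ker,
      FlatCxBase.cls_eq_zero_iff i (i := i - 1) (CochainComplex.prev ℤ i) z]
    exact Groth.LocCohTransform.RHomDual.θ_eq_zero_iff (i - 1) (by omega) (coc z)
  haveI : Module.Finite A (Z ⧸ LinearMap.ker Ψ) :=
    haveI := isNoetherian_of_isNoetherianRing_of_finite A (Q.obj E ⟶ Q.obj (r.I⟦i⟧))
    Module.Finite.equiv Ψ.quotKerEquivRange.symm
  exact Module.Finite.equiv ((Submodule.quotEquivOfEq _ _ hker).trans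
    ((FlatCxBase.cls K i).quotKerEquivOfSurjective (FlatCxBase.cls_surjective i)))

end Groth.DualCore.BidualityCx
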