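import Groth.Agent.DualCore.FibreRings

/-!
# Fibres of a flat map preserving a dualizing complex are Gorenstein
-/

set_option autoImplicit false

universe u

open CategoryTheory TensorProduct

attribute [local instance] HasDerivedCategory.standard

namespace Groth.DualCore

variable {A : Type u} [CommRing A] [IsNoetherianRing A] {B : Type u} [CommRing B] [IsNoetherianRing B]
  [Algebra A B]

omit [IsNoetherianRing A] in
/-- Fibre rings of a Noetherian algebra are Noetherian. -/
theorem isNoetherianRing_fibre (p : Ideal A) [p.IsPrime] : IsNoetherianRing (p.Fiber B) := by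
  letI : Algebra B (p.Fiber B) := Algebra.TensorProduct.rightAlgebra
  haveI : IsNoetherianRing (Localization (Algebra.algebraMapSubmonoid B p.primeCompl)) :=
    IsLocalization.isNoetherianRing (Algebra.algebraMapSubmonoid B p.primeCompl) _ inferInstance
  exact isNoetherianRing_of_ringEquiv _ (Ideal.Fiber.algEquivAux₁ p).toRingEquiv.symm

variable [Module.Flat A B]

/-- Gorenstein fibres from dualizing base change. -/
theorem isGorensteinRing_fibre {ω : Dual.D A} (hω : Dual.IsDualizing A ω)
    (hB : Dual.IsDualizing B ((extD A B).obj ω)) (p : Ideal A) [p.IsPrime] :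
    LocCoh.IsGorensteinRing (p.Fiber B) := by
  haveI := isNoetherianRing_fibre (B := B) p
  refine { isGorensteinLocalRing_localization := fun Q _ => ?_ }
  let n : Ideal B := Q.comap Algebra.TensorProduct.includeRight
  have hp : n.comap (algebraMap A B) = p := by
    rw [Ideal.over_def Q p, Ideal.under_def]
    show (Q.comap (Algebra.TensorProduct.includeRight : B →ₐ[A] p.Fiber B).toRingHom).comap (algebraMap A B) = _
    rw [Ideal.comap_comap]
    exact congrArg (fun g => Ideal.comap g Q) (RingHom.ext fun a => (Algebra.TensorProduct.includeRight : B →ₐ[A] p.Fiber B).commutes a)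
  obtain ⟨k, hk⟩ := exists_injLT_fibre hω hB n
  let e : Localization.AtPrime Q ≃+* Localization.AtPrime n ⧸
      (n.comap (algebraMap A B)).map (algebraMap A (Localization.AtPrime n)) :=
    (Ideal.Fiber.algEquivAux₂ p Q).toRingEquiv.trans
      (Ideal.quotEquivOfEq (by rw [Ideal.map_map, ← IsScalarTower.algebraMap_eq, hp]))
  haveI : IsNoetherianRing (Localization.AtPrime Q) :=
    IsLocalization.isNoetherianRing Q.primeCompl _ inferInstance
  exact (GrothGoren.isGorenstein_iff _).2 ((GrothGoren.exists_injLT_iff_of_ringEquiv e).2 ⟨k, hk⟩)

end Groth.DualCore
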