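import Groth.Agent.DualCore.GorensteinFibre
import Groth.Agent.Gorenstein.Regular
import Groth.Agent.Gorenstein.RingEquiv
import Mathlib.RingTheory.LocalRing.ResidueField.Fiber
import Mathlib.RingTheory.KrullDimension.Polynomial
import Mathlib.RingTheory.FiniteType
import Mathlib.RingTheory.TensorProduct.MvPolynomial
import Mathlib.RingTheory.Regular.RegularSequence

/-!
# Flat base change: conditions on the fibre rings
-/

set_option autoImplicit false

universe u

open CategoryTheory TensorProduct IsLocalRing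

attribute [local instance] HasDerivedCategory.standard

namespace Groth.DualCore

variable {A : Type u} [CommRing A] {B : Type u} [CommRing B] [Algebra A B]

/-- The local rings of the fibre ring. -/
theorem exists_fibre_localization_equiv (n : Ideal B) [n.IsPrime] :
    ∃ (Q : Ideal ((n.comap (algebraMap A B)).Fiber B)) (_ : Q.IsPrime),
      Nonempty (Localization.AtPrime Q ≃+*
        Localization.AtPrime n ⧸ (n.comap (algebraMap A B)).map (algebraMap A (Localization.AtPrime n))) := by
  let p := n.comap (algebraMap A B)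
  let Q := PrimeSpectrum.preimageEquivFiber A B ⟨p, inferInstance⟩ ⟨⟨n, inferInstance⟩, rfl⟩
  have hQ : Q.asIdeal.comap Algebra.TensorProduct.includeRight = n :=
    congrArg (fun x => x.1.asIdeal)
      ((PrimeSpectrum.preimageEquivFiber A B ⟨p, inferInstance⟩).symm_apply_apply ⟨⟨n, inferInstance⟩, rfl⟩)
  refine ⟨Q.asIdeal, Q.isPrime, ?_⟩
  have key : ∀ (r : Ideal B) (hr : r.IsPrime), r = n →
      Nonempty (Localization.AtPrime Q.asIdeal ≃+* Localization.AtPrime r ⧸
        (p.map (algebraMap A B)).map (algebraMap B (Localization.AtPrime r))) →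
      Nonempty (Localization.AtPrime Q.asIdeal ≃+*
        Localization.AtPrime n ⧸ p.map (algebraMap A (Localization.AtPrime n))) := by
    rintro r hr rfl ⟨e⟩
    exact ⟨e.trans (Ideal.quotEquivOfEq (by rw [Ideal.map_map, ← IsScalarTower.algebraMap_eq]))⟩
  exact key _ inferInstance hQ ⟨(Ideal.Fiber.algEquivAux₂ p Q.asIdeal).toRingEquiv⟩

variable (A B) in
/-- The fibres of a finite type algebra have bounded dimension. -/
theorem exists_fibre_dim_bound [Algebra.FiniteType A B] :
    ∃ N : ℕ, ∀ (p : Ideal A) [p.IsPrime], ringKrullDim (p.Fiber B) ≤ (N : WithBot ℕ∞) := by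
  obtain ⟨N, f, hf⟩ := Algebra.FiniteType.iff_quotient_mvPolynomial''.1 ‹Algebra.FiniteType A B›
  refine ⟨N, fun p _ => ?_⟩
  let g : MvPolynomial (Fin N) p.ResidueField →+* p.Fiber B :=
    (Algebra.TensorProduct.map (AlgHom.id A p.ResidueField) f).toRingHom.comp
      (MvPolynomial.algebraTensorAlgEquiv A p.ResidueField).symm.toRingEquiv.toRingHom
  refine (ringKrullDim_le_of_surjective g ?_).trans ?_
  · exact (Algebra.TensorProduct.map_surjective _ _ Function.surjective_id hf).comp
      (MvPolynomial.algebraTensorAlgEquiv A p.ResidueField).symm.surjective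
  · rw [MvPolynomial.ringKrullDim_of_isNoetherianRing, ringKrullDim_eq_zero_of_field,
      Nat.card_fin, zero_add]

variable [IsNoetherianRing A] [IsNoetherianRing B] [Module.Flat A B] {ω : Dual.D A}

/-- **Gorenstein fibres of bounded dimension.** -/
theorem isDualizing_extD_of_gorenstein_fibre (hω : Dual.IsDualizing A ω) (N : ℕ)
    (hN : ∀ (p : Ideal A) [p.IsPrime], ringKrullDim (p.Fiber B) ≤ (N : WithBot ℕ∞))
    (hG : ∀ (p : Ideal A) [p.IsPrime] (Q : Ideal (p.Fiber B)) [Q.IsPrime],
      ∃ k, GrothGoren.InjLT (Localization.AtPrime Q) (Localization.AtPrime Q) k) :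
    Dual.IsDualizing B ((extD A B).obj ω) := by
  refine isDualizing_extD_of_fibre hω N fun n _ => ?_
  obtain ⟨Q, hQ, ⟨e⟩⟩ := exists_fibre_localization_equiv (A := A) n
  obtain ⟨k, hk⟩ := (GrothGoren.exists_injLT_iff_of_ringEquiv e).1 (hG _ Q)
  haveI : Nontrivial (Localization.AtPrime n ⧸ (n.comap (algebraMap A B)).map (algebraMap A (Localization.AtPrime n))) :=
    Ideal.Quotient.nontrivial_iff.2 (map_comap_ne_top n)
  haveI := IsLocalRing.of_surjective' (Ideal.Quotient.mk
    ((n.comap (algebraMap A B)).map (algebraMap A (Localization.AtPrime n)))) Ideal.Quotient.mk_surjective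
  haveI : IsNoetherianRing (Localization.AtPrime n) :=
    IsLocalization.isNoetherianRing n.primeCompl _ inferInstance
  obtain ⟨c, hc, -⟩ := GrothGoren.exists_dim _ ⟨k, hk⟩
  refine ⟨k, c, ?_, hk, hc⟩
  have h1 : (Q.height : WithBot ℕ∞) ≤ (N : WithBot ℕ∞) :=
    (ringKrullDim_le_iff_height_le _).1 (hN _) hQ
  rw [← ringKrullDim_eq_of_ringEquiv e,
    IsLocalization.AtPrime.ringKrullDim_eq_height Q (Localization.AtPrime Q)] at hc
  rw [hc] at h1
  exact_mod_cast h1

/-- **Regular fibres of bounded dimension.** -/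
theorem isDualizing_extD_of_regular_fibre (hω : Dual.IsDualizing A ω) (N : ℕ)
    (hN : ∀ (p : Ideal A) [p.IsPrime], ringKrullDim (p.Fiber B) ≤ (N : WithBot ℕ∞))
    (hG : ∀ (p : Ideal A) [p.IsPrime], IsRegularRing (p.Fiber B)) :
    Dual.IsDualizing B ((extD A B).obj ω) :=
  isDualizing_extD_of_gorenstein_fibre hω N hN fun p _ Q _ => by
    haveI := hG p
    haveI : IsRegularLocalRing (Localization.AtPrime Q) :=
      IsRegularRing.isRegularLocalRing_localization _
    exact GrothGoren.exists_injLT_of_regular _ _ le_rfl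

end Groth.DualCore
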