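import Mathlib.CategoryTheory.Triangulated.Pretriangulated
import Mathlib.CategoryTheory.Linear.LinearFunctor
import Mathlib.CategoryTheory.Shift.Linear

/-!
# The long exact sequence of `Hom(-, Y⟦i⟧)` in a linear pretriangulated category
-/

set_option autoImplicit false

open CategoryTheory CategoryTheory.Limits CategoryTheory.Pretriangulated

universe w v u

namespace Groth.DualCore

variable {R : Type w} [CommRing R] {C : Type u} [Category.{v} C] [Preadditive C] [Linear R C]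
  [HasZeroObject C] [HasShift C ℤ] [∀ n : ℤ, (shiftFunctor C n).Additive]
  [∀ n : ℤ, (shiftFunctor C n).Linear R] [Pretriangulated C]

variable (R) in
/-- Precomposition on `Hom(-, Y⟦i⟧)`. -/
abbrev pre {X X' : C} (f : X ⟶ X') (Y : C) (i : ℤ) : (X' ⟶ Y⟦i⟧) →ₗ[R] (X ⟶ Y⟦i⟧) :=
  Linear.leftComp R _ f

variable (R) in
/-- The connecting map attached to a morphism `d : Z ⟶ X⟦1⟧`. -/
noncomputable def conn {Z X : C} (d : Z ⟶ X⟦(1 : ℤ)⟧) (Y : C) (i j : ℤ) (h : i + 1 = j) :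
    (X ⟶ Y⟦i⟧) →ₗ[R] (Z ⟶ Y⟦j⟧) where
  toFun u := d ≫ u⟦(1 : ℤ)⟧' ≫ (shiftFunctorAdd' C i 1 j h).inv.app Y
  map_add' u v := by simp
  map_smul' r u := by simp [Functor.map_smul]

lemma conn_naturality {Z X Z' X' : C} (d : Z ⟶ X⟦(1 : ℤ)⟧) (d' : Z' ⟶ X'⟦(1 : ℤ)⟧)
    (a : X ⟶ X') (b : Z ⟶ Z') (hc : d ≫ a⟦(1 : ℤ)⟧' = b ≫ d') (Y : C) (i j : ℤ) (h : i + 1 = j)
    (u : X' ⟶ Y⟦i⟧) : b ≫ conn R d' Y i j h u = conn R d Y i j h (a ≫ u) := by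
  simp only [conn, LinearMap.coe_mk, AddHom.coe_mk, Functor.map_comp, Category.assoc,
    reassoc_of% hc]

variable (T : Triangle C) (hT : T ∈ distTriang C) (Y : C)
include hT

lemma exact_mid (i : ℤ) (u : T.obj₂ ⟶ Y⟦i⟧) :
    T.mor₁ ≫ u = 0 ↔ ∃ v : T.obj₃ ⟶ Y⟦i⟧, T.mor₂ ≫ v = u := by
  constructor
  · intro hu
    obtain ⟨v, hv⟩ := T.yoneda_exact₂ hT u hu
    exact ⟨v, hv.symm⟩
  · rintro ⟨v, rfl⟩
    rw [← Category.assoc, comp_distTriang_mor_zero₁₂ _ hT, zero_comp]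

lemma exact_left (i j : ℤ) (h : i + 1 = j) (u : T.obj₁ ⟶ Y⟦i⟧) :
    conn R T.mor₃ Y i j h u = 0 ↔ ∃ v : T.obj₂ ⟶ Y⟦i⟧, T.mor₁ ≫ v = u := by
  constructor
  · intro hu
    have hu' : T.mor₃ ≫ u⟦(1 : ℤ)⟧' = 0 := by
      rw [← cancel_mono ((shiftFunctorAdd' C i 1 j h).inv.app Y), zero_comp, Category.assoc]
      exact hu
    obtain ⟨w, hw⟩ := (T.rotate).yoneda_exact₃ (rot_of_distTriang _ hT) (u⟦(1 : ℤ)⟧') hu'
    obtain ⟨v, hv⟩ : ∃ v : T.obj₂ ⟶ Y⟦i⟧, v⟦(1 : ℤ)⟧' = w :=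
      (shiftFunctor C (1 : ℤ)).map_surjective w
    refine ⟨-v, (shiftFunctor C (1 : ℤ)).map_injective ?_⟩
    have hv' : (T.mor₁ ≫ v)⟦(1 : ℤ)⟧' = T.mor₁⟦(1 : ℤ)⟧' ≫ v⟦(1 : ℤ)⟧' := Functor.map_comp _ _ _
    have hw' : u⟦(1 : ℤ)⟧' = -(T.mor₁⟦(1 : ℤ)⟧') ≫ v⟦(1 : ℤ)⟧' := hw.trans (by subst hv; exact Preadditive.neg_comp _ _)
    rw [hw', Preadditive.comp_neg, Functor.map_neg, hv']
  · rintro ⟨v, rfl⟩
    show T.mor₃ ≫ (T.mor₁ ≫ v)⟦(1 : ℤ)⟧' ≫ _ = 0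
    rw [Functor.map_comp, Category.assoc, reassoc_of% (comp_distTriang_mor_zero₃₁ _ hT), zero_comp]

lemma exact_right (i j : ℤ) (h : i + 1 = j) (v : T.obj₃ ⟶ Y⟦j⟧) :
    T.mor₂ ≫ v = 0 ↔ ∃ u : T.obj₁ ⟶ Y⟦i⟧, conn R T.mor₃ Y i j h u = v := by
  constructor
  · intro hv
    obtain ⟨x, hx⟩ := T.yoneda_exact₃ hT v hv
    obtain ⟨u, hu⟩ := (shiftFunctor C (1 : ℤ)).map_surjective
      (x ≫ (shiftFunctorAdd' C i 1 j h).hom.app Y)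
    refine ⟨u, ?_⟩
    show T.mor₃ ≫ u⟦(1 : ℤ)⟧' ≫ _ = v
    rw [hu, Category.assoc, Iso.hom_inv_id_app, Category.comp_id, ← hx]
  · rintro ⟨u, rfl⟩
    show T.mor₂ ≫ T.mor₃ ≫ _ = 0
    rw [← Category.assoc, comp_distTriang_mor_zero₂₃ _ hT, zero_comp]

end Groth.DualCore
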