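import Groth.Prelude.Def_Wider
import Groth.Agent.DualCore.HomLES
import Mathlib.Algebra.Homology.DerivedCategory.SingleTriangle
import Mathlib.Algebra.Homology.DerivedCategory.TStructure
import Mathlib.Algebra.Homology.DerivedCategory.KProjective
import Mathlib.Algebra.Homology.DerivedCategory.FullyFaithful
import Mathlib.Algebra.Category.ModuleCat.Projective
import Mathlib.Algebra.Homology.ShortComplex.ModuleCat

/-!
# `Hom_{D(A)}(M, K⟦i⟧)` for a module `M`
-/

set_option autoImplicit false

universe u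

open CategoryTheory CategoryTheory.Limits

attribute [local instance] HasDerivedCategory.standard

namespace Groth.DualCore

variable {A : Type u} [CommRing A]

/-- The morphism in `D(A)` induced by a linear map. -/
noncomputable abbrev inDmap {M N : Type u} [AddCommGroup M] [Module A M] [AddCommGroup N]
    [Module A N] (f : M →ₗ[A] N) : Dual.inD A M ⟶ Dual.inD A N :=
  (DerivedCategory.singleFunctor (ModuleCat.{u} A) 0).map (ModuleCat.ofHom f)

section Maps

variable {M N P : Type u} [AddCommGroup M] [Module A M] [AddCommGroup N] [Module A N]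
  [AddCommGroup P] [Module A P]

lemma inDmap_comp (f : M →ₗ[A] N) (g : N →ₗ[A] P) : inDmap (g ∘ₗ f) = inDmap f ≫ inDmap g := by
  rw [inDmap, inDmap, inDmap, ← Functor.map_comp]; rfl

lemma inDmap_id : inDmap (LinearMap.id : M →ₗ[A] M) = 𝟙 (Dual.inD A M) :=
  CategoryTheory.Functor.map_id _ _

lemma inDmap_add (f g : M →ₗ[A] N) : inDmap (f + g) = inDmap f + inDmap g := by
  rw [inDmap, inDmap, inDmap, ← Functor.map_add]; rfl

lemma inDmap_smul (r : A) (f : M →ₗ[A] N) : inDmap (r • f) = r • inDmap f := by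
  rw [inDmap, inDmap, ← Functor.map_smul]; rfl

lemma inDmap_zero : inDmap (0 : M →ₗ[A] N) = 0 := by
  rw [inDmap]; exact Functor.map_zero _ _ _

variable (K : Dual.D A) (i : ℤ)

/-- The map `Hom(N, K⟦i⟧) → Hom(M, K⟦i⟧)` induced by `f : M → N`. -/
noncomputable abbrev map1 (f : M →ₗ[A] N) :
    (Dual.inD A N ⟶ K⟦i⟧) →ₗ[A] (Dual.inD A M ⟶ K⟦i⟧) :=
  pre A (inDmap f) K i

lemma map1_apply (f : M →ₗ[A] N) (u : Dual.inD A N ⟶ K⟦i⟧) : map1 K i f u = inDmap f ≫ u := rfl

lemma map1_comp (f : M →ₗ[A] N) (g : N →ₗ[A] P) (u : Dual.inD A P ⟶ K⟦i⟧) :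
    map1 K i (g ∘ₗ f) u = map1 K i f (map1 K i g u) := by
  rw [map1_apply, map1_apply, map1_apply, inDmap_comp, Category.assoc]

lemma map1_id (u : Dual.inD A M ⟶ K⟦i⟧) : map1 K i LinearMap.id u = u := by
  rw [map1_apply, inDmap_id, Category.id_comp]

lemma map1_smul_id (r : A) (u : Dual.inD A M ⟶ K⟦i⟧) :
    map1 K i (r • LinearMap.id) u = r • u := by
  rw [map1_apply, inDmap_smul, inDmap_id, Linear.smul_comp, Category.id_comp]

lemma map1_injective_of_rightInverse (f : M →ₗ[A] N) (g : N →ₗ[A] M) (h : f ∘ₗ g = LinearMap.id) :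
    Function.Injective (map1 K i f) := by
  intro u v huv
  rw [← map1_id K i u, ← map1_id K i v, ← h, map1_comp, map1_comp, huv]

end Maps

section SES

variable {M' M M'' : Type u} [AddCommGroup M'] [Module A M'] [AddCommGroup M] [Module A M]
  [AddCommGroup M''] [Module A M''] (f : M' →ₗ[A] M) (g : M →ₗ[A] M'')
  (hf : Function.Injective f) (hg : Function.Surjective g) (hfg : Function.Exact f g)

include hf hg hfg in
lemma ses_shortExact :
    (ShortComplex.moduleCatMk f g hfg.linearMap_comp_eq_zero).ShortExact :=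
  { exact := (ShortComplex.ShortExact.moduleCat_exact_iff_function_exact _).2 hfg
    mono_f := (ModuleCat.mono_iff_injective _).2 hf
    epi_g := (ModuleCat.epi_iff_surjective _).2 hg }

/-- The connecting map `Hom(M', K⟦i⟧) → Hom(M'', K⟦i+1⟧)`. -/
noncomputable def delta (K : Dual.D A) (i j : ℤ) (h : i + 1 = j) :
    (Dual.inD A M' ⟶ K⟦i⟧) →ₗ[A] (Dual.inD A M'' ⟶ K⟦j⟧) :=
  conn A (ses_shortExact f g hf hg hfg).singleδ K i j h

variable (K : Dual.D A)

include hf hg hfg in
lemma map1_exact_mid (i : ℤ) : Function.Exact (map1 K i g) (map1 K i f) := by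
  intro u
  exact (exact_mid _ (ses_shortExact f g hf hg hfg).singleTriangle_distinguished K i u).trans
    ⟨fun ⟨v, hv⟩ => ⟨v, hv⟩, fun ⟨v, hv⟩ => ⟨v, hv⟩⟩

lemma map1_exact_left (i j : ℤ) (h : i + 1 = j) :
    Function.Exact (map1 K i f) (delta f g hf hg hfg K i j h) := by
  intro u
  exact (exact_left (R := A) _ (ses_shortExact f g hf hg hfg).singleTriangle_distinguished K i j h u).trans
    ⟨fun ⟨v, hv⟩ => ⟨v, hv⟩, fun ⟨v, hv⟩ => ⟨v, hv⟩⟩

lemma map1_exact_right (i j : ℤ) (h : i + 1 = j) :
    Function.Exact (delta f g hf hg hfg K i j h) (map1 K j g) := by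
  intro u
  exact (exact_right (R := A) _ (ses_shortExact f g hf hg hfg).singleTriangle_distinguished K i j h u).trans
    ⟨fun ⟨v, hv⟩ => ⟨v, hv⟩, fun ⟨v, hv⟩ => ⟨v, hv⟩⟩

end SES

section Vanishing

lemma isGE_of_HD (K : Dual.D A) (a : ℤ) (h : ∀ i < a, Subsingleton (Dual.HD A K i)) :
    DerivedCategory.IsGE K a := by
  rw [DerivedCategory.isGE_iff]
  exact fun i hi => ModuleCat.isZero_iff_subsingleton.2 (h i hi)

lemma subsingleton_hom_of_lt (K : Dual.D A) (a : ℤ) [DerivedCategory.IsGE K a]
    (M : Type u) [AddCommGroup M] [Module A M] (i : ℤ) (hi : i < a) :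
    Subsingleton (Dual.inD A M ⟶ K⟦i⟧) := by
  haveI := DerivedCategory.TStructure.t.isGE_shift K a i (a - i)
  exact ⟨fun x y => (DerivedCategory.TStructure.t.zero x 0 (a - i)).trans
    (DerivedCategory.TStructure.t.zero y 0 (a - i)).symm⟩

end Vanishing

section HomA

/-- The generator of `H⁰(A)`. -/
noncomputable def gen : ↑((DerivedCategory.homologyFunctor (ModuleCat.{u} A) 0).obj (Dual.inD A A)) :=
  ((DerivedCategory.singleFunctorCompHomologyFunctorIso (ModuleCat.{u} A) 0).inv.app
    (ModuleCat.of A A)).hom (1 : A)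

lemma smul_gen (r : A) :
    r • gen = ((DerivedCategory.homologyFunctor (ModuleCat.{u} A) 0).map
      (inDmap (r • LinearMap.id : A →ₗ[A] A))).hom gen := by
  have := ConcreteCategory.congr_hom ((DerivedCategory.singleFunctorCompHomologyFunctorIso
    (ModuleCat.{u} A) 0).inv.naturality (ModuleCat.ofHom (r • LinearMap.id : A →ₗ[A] A))) (1 : A)
  exact (map_smul _ r (1 : A)).symm.trans this

/-- `Hom(A, X) → H⁰(X)`, evaluation at `1`. -/
noncomputable def evalOne (X : Dual.D A) : (Dual.inD A A ⟶ X) →ₗ[A] Dual.HD A X 0 where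
  toFun u := ((DerivedCategory.homologyFunctor (ModuleCat.{u} A) 0).map u).hom gen
  map_add' u v := by rw [Functor.map_add]; rfl
  map_smul' r u := by
    have h : r • u = inDmap (r • LinearMap.id : A →ₗ[A] A) ≫ u := by
      rw [inDmap_smul, inDmap_id, Linear.smul_comp, Category.id_comp]
    rw [RingHom.id_apply, h, Functor.map_comp]
    show ((DerivedCategory.homologyFunctor (ModuleCat.{u} A) 0).map u).hom
      (((DerivedCategory.homologyFunctor (ModuleCat.{u} A) 0).map _).hom gen) = _
    rw [← smul_gen, map_smul]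

lemma evalOne_comp {X Y : Dual.D A} (u : Dual.inD A A ⟶ X) (f : X ⟶ Y) :
    evalOne Y (u ≫ f) =
      ((DerivedCategory.homologyFunctor (ModuleCat.{u} A) 0).map f).hom (evalOne X u) := by
  show ((DerivedCategory.homologyFunctor (ModuleCat.{u} A) 0).map (u ≫ f)).hom gen = _
  rw [Functor.map_comp]
  rfl

section Complex

open HomologicalComplex

variable (L : CochainComplex (ModuleCat.{u} A) ℤ)

/-- The class of `1` in the homology of `A` in degree `0`. -/
noncomputable def genCx :
    ↑(((CochainComplex.singleFunctor (ModuleCat.{u} A) 0).obj (ModuleCat.of A A)).homology 0) :=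
  ((single (ModuleCat.{u} A) (ComplexShape.up ℤ) 0).obj (ModuleCat.of A A)).homologyπ 0
    ((singleObjCyclesSelfIso (ComplexShape.up ℤ) 0 (ModuleCat.of A A)).inv (1 : A))

lemma homologyMap_genCx
    (f : (CochainComplex.singleFunctor (ModuleCat.{u} A) 0).obj (ModuleCat.of A A) ⟶ L)
    (c : L.cycles 0)
    (hc : L.iCycles 0 c = f.f 0 ((singleObjXSelf (ComplexShape.up ℤ) 0 (ModuleCat.of A A)).inv (1 : A))) :
    homologyMap f 0 genCx = L.homologyπ 0 c := by
  have h1 := ConcreteCategory.congr_hom (homologyπ_naturality f 0)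
    ((singleObjCyclesSelfIso (ComplexShape.up ℤ) 0 (ModuleCat.of A A)).inv (1 : A))
  refine h1.trans ?_
  show L.homologyπ 0 _ = _
  congr 1
  apply (ModuleCat.mono_iff_injective (L.iCycles 0)).1 inferInstance
  rw [hc]
  have h2 := ConcreteCategory.congr_hom (cyclesMap_i f 0)
    ((singleObjCyclesSelfIso (ComplexShape.up ℤ) 0 (ModuleCat.of A A)).inv (1 : A))
  refine h2.trans ?_
  exact congrArg _ (ConcreteCategory.congr_hom
    (singleObjCyclesSelfIso_inv_iCycles (ComplexShape.up ℤ) 0 (ModuleCat.of A A)) (1 : A))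

lemma exists_hom_homologyMap_eq (x : L.homology 0) :
    ∃ f : (CochainComplex.singleFunctor (ModuleCat.{u} A) 0).obj (ModuleCat.of A A) ⟶ L,
      homologyMap f 0 genCx = x := by
  obtain ⟨c, rfl⟩ := (ModuleCat.epi_iff_surjective (L.homologyπ 0)).1 inferInstance x
  let φ : ModuleCat.of A A ⟶ L.X 0 :=
    ModuleCat.ofHom (LinearMap.toSpanSingleton A (L.X 0) (L.iCycles 0 c))
  have hφ : ∀ j, (ComplexShape.up ℤ).Rel 0 j → φ ≫ L.d 0 j = 0 := by
    intro j _
    apply ModuleCat.hom_ext
    apply LinearMap.ext_ring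
    show L.d 0 j ((1 : A) • L.iCycles 0 c) = 0
    rw [one_smul]
    exact ConcreteCategory.congr_hom (L.iCycles_d 0 j) c
  refine ⟨mkHomFromSingle φ hφ, homologyMap_genCx L _ c ?_⟩
  rw [mkHomFromSingle_f]
  show L.iCycles 0 c = φ ((singleObjXSelf (ComplexShape.up ℤ) 0 (ModuleCat.of A A)).hom
    ((singleObjXSelf (ComplexShape.up ℤ) 0 (ModuleCat.of A A)).inv (1 : A)))
  rw [Iso.inv_hom_id_apply]
  exact (one_smul A _).symm

lemma Q_map_eq_zero_of_homologyMap_eq_zero
    (f : (CochainComplex.singleFunctor (ModuleCat.{u} A) 0).obj (ModuleCat.of A A) ⟶ L)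
    (hf : homologyMap f 0 genCx = 0) : DerivedCategory.Q.map f = 0 := by
  set e := singleObjXSelf (ComplexShape.up ℤ) 0 (ModuleCat.of A A)
  let z : L.X 0 := f.f 0 (e.inv (1 : A))
  let c : L.cycles 0 := cyclesMap f 0
    ((singleObjCyclesSelfIso (ComplexShape.up ℤ) 0 (ModuleCat.of A A)).inv (1 : A))
  have hc : L.iCycles 0 c = z :=
    (ConcreteCategory.congr_hom (cyclesMap_i f 0) _).trans (congrArg _ (ConcreteCategory.congr_hom
      (singleObjCyclesSelfIso_inv_iCycles (ComplexShape.up ℤ) 0 (ModuleCat.of A A)) (1 : A)))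
  have hπ : L.homologyπ 0 c = 0 := (homologyMap_genCx L f c hc).symm.trans hf
  have hex : (ShortComplex.mk (L.toCycles (-1) 0) (L.homologyπ 0) (L.toCycles_comp_homologyπ (-1) 0)).Exact :=
    ShortComplex.exact_of_g_is_cokernel _ (L.homologyIsCokernel (-1) 0 (by simp))
  obtain ⟨y, hy⟩ := (ShortComplex.moduleCat_exact_iff _).1 hex c hπ
  have hdy : L.d (-1) 0 y = z := by
    rw [← hc, ← hy]
    exact (ConcreteCategory.congr_hom (L.toCycles_i (-1) 0) y).symm
  let h : ∀ i j, (ComplexShape.up ℤ).Rel j i →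
      (((CochainComplex.singleFunctor (ModuleCat.{u} A) 0).obj (ModuleCat.of A A)).X i ⟶ L.X j) :=
    fun i j hij => if hi : i = 0 then
      eqToHom (by subst hi; rfl) ≫ e.hom ≫ ModuleCat.ofHom (LinearMap.toSpanSingleton A (L.X (-1)) y) ≫
        eqToHom (by rw [show j = -1 by simp only [ComplexShape.up_Rel] at hij; lia])
      else 0
  have hf' : f = Homotopy.nullHomotopicMap' h := by
    apply from_single_hom_ext
    rw [Homotopy.nullHomotopicMap'_f (show (ComplexShape.up ℤ).Rel (-1) 0 by simp)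
      (show (ComplexShape.up ℤ).Rel 0 1 by simp)]
    erw [show ((CochainComplex.singleFunctor (ModuleCat.{u} A) 0).obj (ModuleCat.of A A)).d 0 1 = 0
      from rfl, zero_comp, zero_add]
    apply (cancel_epi e.inv).1
    apply ModuleCat.hom_ext
    apply LinearMap.ext_ring
    simp only [h, dite_true, eqToHom_refl, Category.id_comp, Category.comp_id, Category.assoc]
    show z = L.d (-1) 0 (LinearMap.toSpanSingleton A (L.X (-1)) y (e.hom (e.inv (1 : A))))
    rw [Iso.inv_hom_id_apply]
    simp [hdy]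
  have := HomotopyCategory.eq_of_homotopy f 0 (hf' ▸ Homotopy.nullHomotopy' h)
  have hq : (DerivedCategory.quotientCompQhIso (ModuleCat.{u} A)).hom.naturality f = _ := rfl
  rw [← cancel_epi ((DerivedCategory.quotientCompQhIso (ModuleCat.{u} A)).hom.app _),
    ← (DerivedCategory.quotientCompQhIso (ModuleCat.{u} A)).hom.naturality f, comp_zero,
    Functor.comp_map, this, Functor.map_zero, Functor.map_zero, zero_comp]

end Complex

lemma evalOne_bijective (X : Dual.D A) : Function.Bijective (evalOne X) := by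
  let L := DerivedCategory.Q.objPreimage X
  let e : DerivedCategory.Q.obj L ≅ X := DerivedCategory.Q.objObjPreimageIso X
  let s := (DerivedCategory.singleFunctorIsoCompQ (ModuleCat.{u} A) 0).app (ModuleCat.of A A)
  let hL := (DerivedCategory.homologyFunctorFactors (ModuleCat.{u} A) 0)
  haveI : ((CochainComplex.singleFunctor (ModuleCat.{u} A) 0).obj
      (ModuleCat.of A A)).IsKProjective := by
    haveI : Projective (ModuleCat.of A A) := ModuleCat.projective_of_free (Module.Basis.singleton PUnit.{u+1} A)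
    haveI : ∀ n, Projective (((CochainComplex.singleFunctor (ModuleCat.{u} A) 0).obj
        (ModuleCat.of A A)).X n) := by
      intro n
      by_cases hn : n = 0
      · subst hn; exact Projective.of_iso (HomologicalComplex.singleObjXSelf (ComplexShape.up ℤ) 0 _).symm inferInstance
      · exact (HomologicalComplex.isZero_single_obj_X (ComplexShape.up ℤ) 0 _ n hn).projective
    exact CochainComplex.isKProjective_of_projective _ 0
  have hsurj : ∀ u : Dual.inD A A ⟶ X, ∃ f, u = s.hom ≫ DerivedCategory.Q.map f ≫ e.hom := by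
    intro u
    let q := DerivedCategory.quotientCompQhIso (ModuleCat.{u} A)
    obtain ⟨g, hg⟩ := (CochainComplex.IsKProjective.Qh_map_bijective
      ((CochainComplex.singleFunctor (ModuleCat.{u} A) 0).obj (ModuleCat.of A A))
      ((HomotopyCategory.quotient _ _).obj L)).2 (q.hom.app _ ≫ s.inv ≫ u ≫ e.inv ≫ q.inv.app L)
    obtain ⟨f, rfl⟩ := (HomotopyCategory.quotient _ _).map_surjective g
    refine ⟨f, ?_⟩
    have hn : DerivedCategory.Q.map f = q.inv.app _ ≫ DerivedCategory.Qh.map
        ((HomotopyCategory.quotient _ _).map f) ≫ q.hom.app L := by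
      rw [← cancel_epi (q.hom.app _), Iso.hom_inv_id_app_assoc]
      exact (q.hom.naturality f).symm
    rw [hn, hg]
    simp only [Category.assoc]
    erw [Iso.inv_hom_id_app_assoc, Iso.inv_hom_id_app_assoc, e.inv_hom_id, Category.comp_id,
      Iso.hom_inv_id_assoc]
  let g₀ : ↑((DerivedCategory.homologyFunctor (ModuleCat.{u} A) 0).obj (DerivedCategory.Q.obj
      ((CochainComplex.singleFunctor (ModuleCat.{u} A) 0).obj (ModuleCat.of A A)))) :=
    ((DerivedCategory.homologyFunctor (ModuleCat.{u} A) 0).map s.hom).hom gen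
  let c : ((CochainComplex.singleFunctor (ModuleCat.{u} A) 0).obj (ModuleCat.of A A)).homology 0 :=
    (hL.app ((CochainComplex.singleFunctor (ModuleCat.{u} A) 0).obj (ModuleCat.of A A))).hom g₀
  -- `c` and `genCx` are both free generators
  let φ : ((CochainComplex.singleFunctor (ModuleCat.{u} A) 0).obj (ModuleCat.of A A)).homology 0 ≃ₗ[A] A :=
    (HomologicalComplex.singleObjHomologySelfIso (ComplexShape.up ℤ) 0
    (ModuleCat.of A A)).toLinearEquiv
  let ψ : A ≃ₗ[A] ((CochainComplex.singleFunctor (ModuleCat.{u} A) 0).obj (ModuleCat.of A A)).homology 0 :=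
    (((DerivedCategory.singleFunctorCompHomologyFunctorIso (ModuleCat.{u} A) 0).app
      (ModuleCat.of A A)).symm ≪≫ (DerivedCategory.homologyFunctor (ModuleCat.{u} A) 0).mapIso s ≪≫
      hL.app _).toLinearEquiv
  have hψ : ψ (1 : A) = c := rfl
  have hφ : φ.symm (1 : A) = genCx := rfl
  have hc : c = φ c • genCx := by
    rw [← hφ, ← map_smul, smul_eq_mul, mul_one, LinearEquiv.symm_apply_apply]
  have hgen : genCx = ψ.symm genCx • c := by
    rw [← hψ, ← map_smul, smul_eq_mul, mul_one, LinearEquiv.apply_symm_apply]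
  let j : L.homology 0 ≃ₗ[A] Dual.HD A X 0 := ((hL.app L).symm ≪≫
      (DerivedCategory.homologyFunctor (ModuleCat.{u} A) 0).mapIso e).toLinearEquiv
  have key : ∀ f, evalOne X (s.hom ≫ DerivedCategory.Q.map f ≫ e.hom) =
      j (HomologicalComplex.homologyMap f 0 c) := by
    intro f
    rw [← Category.assoc, evalOne_comp, evalOne_comp]
    show _ = ((DerivedCategory.homologyFunctor _ 0).map e.hom).hom
      ((hL.inv.app L).hom ((HomologicalComplex.homologyMap f 0).hom ((hL.hom.app _).hom g₀)))
    congr 1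
    have := hL.hom.naturality f
    rw [← (hL.app L).hom_inv_id_apply
      (((DerivedCategory.homologyFunctor (ModuleCat.{u} A) 0).map (DerivedCategory.Q.map f)).hom _)]
    exact congrArg _ (ConcreteCategory.congr_hom this g₀)
  constructor
  · intro u v huv
    rw [← sub_eq_zero]
    obtain ⟨f, hf⟩ := hsurj (u - v)
    have : evalOne X (u - v) = 0 := by rw [map_sub, huv, sub_self]
    rw [hf, key, LinearEquiv.map_eq_zero_iff] at this
    rw [hf, Q_map_eq_zero_of_homologyMap_eq_zero L f (by rw [hgen, map_smul, this, smul_zero]),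
      zero_comp, comp_zero]
  · intro x
    obtain ⟨f, hf⟩ := exists_hom_homologyMap_eq L (ψ.symm genCx • j.symm x)
    refine ⟨_, (key f).trans ?_⟩
    have h1 : φ c * ψ.symm genCx = 1 := by
      have : φ.symm (φ c * ψ.symm genCx) = genCx := by
        rw [mul_comm, ← smul_eq_mul, map_smul, LinearEquiv.symm_apply_apply, ← hgen]
      exact φ.symm.injective (this.trans hφ.symm)
    rw [hc, map_smul, hf, smul_smul, h1, one_smul]
    exact j.apply_symm_apply x

/-- `Hom(A, K⟦i⟧) ≃ Hⁱ(K)`. -/
noncomputable def homAEquiv (K : Dual.D A) (i : ℤ) :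
    (Dual.inD A A ⟶ K⟦i⟧) ≃ₗ[A] Dual.HD A K i :=
  (LinearEquiv.ofBijective _ (evalOne_bijective (K⟦i⟧))).trans
    (((DerivedCategory.homologyFunctor (ModuleCat.{u} A) 0).shiftIso i 0 i (add_zero i)).app K).toLinearEquiv

end HomA

section Finite

variable [IsNoetherianRing A] (K : Dual.D A)

lemma pi_hom_injective (n : ℕ) (i : ℤ) (u : Dual.inD A (Fin n → A) ⟶ K⟦i⟧)
    (hu : ∀ j, map1 K i (LinearMap.single A (fun _ : Fin n => A) j) u = 0) : u = 0 := by
  have hid : (LinearMap.id : (Fin n → A) →ₗ[A] _) =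
      ∑ j, LinearMap.single A (fun _ : Fin n => A) j ∘ₗ LinearMap.proj j := by
    apply LinearMap.ext
    intro x
    simp [LinearMap.coe_single, Finset.univ_sum_single]
  have hlin : ∀ s : Finset (Fin n), inDmap (∑ j ∈ s,
      LinearMap.single A (fun _ : Fin n => A) j ∘ₗ LinearMap.proj j) ≫ u = 0 := by
    intro s
    induction s using Finset.induction with
    | empty => rw [Finset.sum_empty, inDmap_zero, zero_comp]
    | insert a s ha ih =>
      rw [Finset.sum_insert ha, inDmap_add, Preadditive.add_comp, ih, add_zero, inDmap_comp,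
        Category.assoc]
      rw [show inDmap _ ≫ u = 0 from hu a, comp_zero]
  rw [← map1_id K i u, map1_apply, hid, hlin]

lemma exists_ses (M : Type u) [AddCommGroup M] [Module A M] [Module.Finite A M] :
    ∃ (n : ℕ) (g : (Fin n → A) →ₗ[A] M), Function.Surjective g ∧
      Function.Exact (LinearMap.ker g).subtype g := by
  obtain ⟨n, g, hg⟩ := Module.Finite.exists_fin' A M
  exact ⟨n, g, hg, LinearMap.exact_subtype_ker_map g⟩

lemma finite_hom (a : ℤ) [DerivedCategory.IsGE K a] (hK : ∀ i, Module.Finite A (Dual.HD A K i))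
    (i : ℤ) : ∀ (M : Type u) [AddCommGroup M] [Module A M] [Module.Finite A M],
      Module.Finite A (Dual.inD A M ⟶ K⟦i⟧) := by
  suffices ∀ (n : ℕ) (M : Type u) [AddCommGroup M] [Module A M] [Module.Finite A M] (i : ℤ),
      i < a + n → Module.Finite A (Dual.inD A M ⟶ K⟦i⟧) from
    fun M _ _ _ => this (i - a + 1).toNat M i (by lia)
  intro n
  induction n with
  | zero =>
    intro M _ _ _ i hi
    haveI := subsingleton_hom_of_lt K a M i (by simpa using hi)
    exact Module.Finite.of_finite
  | succ n ih =>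
    intro M _ _ _ i hi
    obtain ⟨m, g, hg, hex⟩ := exists_ses (A := A) M
    haveI : Module.Finite A (Dual.inD A (LinearMap.ker g) ⟶ K⟦i - 1⟧) :=
      ih _ (i - 1) (by lia)
    haveI : Module.Finite A (Dual.inD A (Fin m → A) ⟶ K⟦i⟧) := by
      haveI : Module.Finite A (Dual.inD A A ⟶ K⟦i⟧) :=
        haveI := hK i; Module.Finite.equiv (homAEquiv K i).symm
      refine Module.Finite.of_injective
        (LinearMap.pi fun j => map1 K i (LinearMap.single A (fun _ : Fin m => A) j)) ?_
      rw [← LinearMap.ker_eq_bot, LinearMap.ker_eq_bot']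
      exact fun u hu => pi_hom_injective K m i u fun j => congrFun hu j
    haveI : IsNoetherian A (Dual.inD A (LinearMap.ker g) ⟶ K⟦i - 1⟧) := isNoetherian_of_isNoetherianRing_of_finite A _
    haveI : IsNoetherian A (Dual.inD A (Fin m → A) ⟶ K⟦i⟧) := isNoetherian_of_isNoetherianRing_of_finite A _
    haveI := isNoetherian_of_range_eq_ker _ _ (LinearMap.exact_iff.1 (map1_exact_right _ g
      (Submodule.subtype_injective _) hg hex K (i - 1) i (by lia))).symm
    infer_instance

lemma subsingleton_hom_of_vanishing (a : ℤ) [DerivedCategory.IsGE K a] (b : ℤ)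
    (h : ∀ i ≤ b, Subsingleton (Dual.HD A K i)) (M : Type u) [AddCommGroup M] [Module A M]
    [Module.Finite A M] (i : ℤ) (hi : i ≤ b) : Subsingleton (Dual.inD A M ⟶ K⟦i⟧) := by
  haveI := isGE_of_HD K (b + 1) fun j hj => h j (by lia)
  exact subsingleton_hom_of_lt K (b + 1) M i (by lia)

end Finite

end Groth.DualCore
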