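import Groth.Agent.DualCore.Devissage
import Groth.Agent.DualCore.ModuleHom

/-!
# Vanishing of `Hom(X, K⟦i⟧)` by dévissage
-/

set_option autoImplicit false

universe u

open CategoryTheory CategoryTheory.Limits CategoryTheory.Pretriangulated

attribute [local instance] HasDerivedCategory.standard

namespace Groth.DualCore

variable {A : Type u} [CommRing A]

/-- `single n M ⟦n⟧ ≅ single 0 M`. -/
noncomputable def singleShiftIso (M : Type u) [AddCommGroup M] [Module A M] (n : ℤ) :
    ((DerivedCategory.singleFunctor (ModuleCat.{u} A) n).obj (ModuleCat.of A M))⟦n⟧ ≅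
      Dual.inD A M :=
  (((DerivedCategory.singleFunctors (ModuleCat.{u} A)).shiftIso n 0 n (add_zero n)).app
    (ModuleCat.of A M))

lemma subsingleton_hom_single (M : Type u) [AddCommGroup M] [Module A M] (K : Dual.D A) (n i : ℤ)
    [Subsingleton (Dual.inD A M ⟶ K⟦i + n⟧)] :
    Subsingleton ((DerivedCategory.singleFunctor (ModuleCat.{u} A) n).obj (ModuleCat.of A M) ⟶
      K⟦i⟧) := by
  refine ⟨fun u v => (shiftFunctor (Dual.D A) n).map_injective ?_⟩
  rw [← cancel_epi (singleShiftIso M n).inv,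
    ← cancel_mono ((shiftFunctorAdd' (Dual.D A) i n (i + n) rfl).inv.app K)]
  exact Subsingleton.elim _ _

lemma subsingleton_hom_of_triangle (T : Triangle (Dual.D A)) (hT : T ∈ distTriang (Dual.D A))
    (K : Dual.D A) (i : ℤ) [Subsingleton (T.obj₁ ⟶ K⟦i⟧)] [Subsingleton (T.obj₃ ⟶ K⟦i⟧)] :
    Subsingleton (T.obj₂ ⟶ K⟦i⟧) := by
  refine subsingleton_of_forall_eq 0 fun u => ?_
  obtain ⟨v, rfl⟩ := (exact_mid T hT K i u).1 (Subsingleton.elim _ _)
  rw [Subsingleton.elim v 0, comp_zero]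

lemma subsingleton_hom_of_iso {X Y : Dual.D A} (e : X ≅ Y) (Z : Dual.D A)
    [Subsingleton (X ⟶ Z)] : Subsingleton (Y ⟶ Z) :=
  ⟨fun u v => by rw [← cancel_epi e.hom]; exact Subsingleton.elim _ _⟩

end Groth.DualCore
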