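import Groth.Agent.DualCore.Extend
import Groth.Agent.DualCore.DevissageHom
import Mathlib.RingTheory.Flat.Basic
import Mathlib.RingTheory.TensorProduct.Basic
import Mathlib.CategoryTheory.Triangulated.Functor

/-!
# `Hom(X, Y) ⊗ B ≅ Hom(X ⊗ B, Y ⊗ B)` for flat `B`
-/

set_option autoImplicit false

universe u

open CategoryTheory CategoryTheory.Limits CategoryTheory.Pretriangulated DerivedCategory TensorProduct

attribute [local instance] HasDerivedCategory.standard

namespace Groth.DualCore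

section Defs

variable (A : Type u) {B : Type u} [CommRing A] [CommRing B] [Algebra A B]

/-- Morphisms in `D(B)` as an `A`-module. -/
@[reducible]
noncomputable def homModuleA (P Q : Dual.D B) : Module A (P ⟶ Q) :=
  Module.compHom (P ⟶ Q) (algebraMap A B)

attribute [local instance] homModuleA

/-- scalar tower on morphisms -/
lemma homTowerA (P Q : Dual.D B) : IsScalarTower A B (P ⟶ Q) :=
  IsScalarTower.of_algebraMap_smul fun _ _ => rfl

end Defs

attribute [local instance] homModuleA homTowerA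

section Shift

variable {R : Type u} [CommRing R]

/-- `f ↦ f⟦n⟧` on morphisms. -/
noncomputable def shiftHom (X Y : Dual.D R) (n : ℤ) :
    (X ⟶ Y) ≃ₗ[R] (X⟦n⟧ ⟶ Y⟦n⟧) :=
  LinearEquiv.ofBijective
    ({ toFun := fun f => f⟦n⟧'
       map_add' := fun f g => Functor.map_add _
       map_smul' := fun r f => by rw [Functor.map_smul]; rfl } :
      (X ⟶ Y) →ₗ[R] (X⟦n⟧ ⟶ Y⟦n⟧))
    ⟨fun _ _ h => (shiftFunctor (Dual.D R) n).map_injective h,
      fun g => (shiftFunctor (Dual.D R) n).map_surjective g⟩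

lemma shiftHom_apply (X Y : Dual.D R) (n : ℤ) (f : X ⟶ Y) : shiftHom X Y n f = f⟦n⟧' := rfl

end Shift

variable {A B : Type u} [CommRing A] [CommRing B] [Algebra A B] [Module.Flat A B]

/-- `f ↦ Ef`, linearly. -/
noncomputable def mapLin (X Y : Dual.D A) :
    (X ⟶ Y) →ₗ[A] ((extD A B).obj X ⟶ (extD A B).obj Y) where
  toFun f := (extD A B).map f
  map_add' _ _ := Functor.map_add _
  map_smul' r f := extD_map_smul r f

/-- The comparison `Hom(X, Y) ⊗ B → Hom(X ⊗ B, Y ⊗ B)`. -/
noncomputable def θ (X Y : Dual.D A) :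
    B ⊗[A] (X ⟶ Y) →ₗ[B] ((extD A B).obj X ⟶ (extD A B).obj Y) :=
  (mapLin X Y).liftBaseChange B

lemma θ_tmul (X Y : Dual.D A) (b : B) (f : X ⟶ Y) :
    θ X Y (b ⊗ₜ[A] f) = b • (extD A B).map f := rfl

lemma θ_one_tmul (X Y : Dual.D A) (f : X ⟶ Y) :
    θ X Y ((1 : B) ⊗ₜ[A] f) = (extD A B).map f := by rw [θ_tmul, one_smul]

lemma θ_pre {X X' Y : Dual.D A} (f : X ⟶ X') (z : B ⊗[A] (X' ⟶ Y)) :
    θ X Y ((Linear.leftComp A Y f).baseChange B z) = (extD A B).map f ≫ θ X' Y z := by
  induction z using TensorProduct.induction_on with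
  | zero => simp
  | tmul b g =>
    rw [LinearMap.baseChange_tmul, θ_tmul, θ_tmul, Linear.comp_smul]
    show b • (extD A B).map (f ≫ g) = _
    rw [Functor.map_comp]
  | add x y hx hy => rw [map_add, map_add, map_add, hx, hy, Preadditive.comp_add]

lemma θ_post {X Y Y' : Dual.D A} (g : Y ⟶ Y') (z : B ⊗[A] (X ⟶ Y)) :
    θ X Y' ((Linear.rightComp A X g).baseChange B z) = θ X Y z ≫ (extD A B).map g := by
  induction z using TensorProduct.induction_on with
  | zero => simp
  | tmul b f =>
    rw [LinearMap.baseChange_tmul, θ_tmul, θ_tmul, Linear.smul_comp]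
    show b • (extD A B).map (f ≫ g) = _
    rw [Functor.map_comp]
  | add x y hx hy => rw [map_add, map_add, map_add, hx, hy, Preadditive.add_comp]

lemma θ_iso_left {X X' Y : Dual.D A} (e : X ≅ X') (h : Function.Bijective (θ (B := B) X Y)) :
    Function.Bijective (θ (B := B) X' Y) := by
  let L : B ⊗[A] (X' ⟶ Y) ≃ₗ[B] B ⊗[A] (X ⟶ Y) :=
    (Linear.homCongr A e.symm (Iso.refl Y)).baseChange A B _ _
  have hL : ∀ z, θ X Y (L z) = (extD A B).map e.hom ≫ θ X' Y z := by
    intro z
    rw [← θ_pre]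
    congr 1
    induction z using TensorProduct.induction_on with
    | zero => simp
    | tmul b g => simp [L, Linear.homCongr]
    | add x y hx hy => rw [map_add, map_add, hx, hy]
  refine ⟨fun x y hxy => L.injective (h.1 (by rw [hL, hL, hxy])), fun v => ?_⟩
  obtain ⟨z, hz⟩ := h.2 ((extD A B).map e.hom ≫ v)
  refine ⟨L.symm z, ?_⟩
  rw [← cancel_epi ((extD A B).map e.hom), ← hL, L.apply_symm_apply, hz]

lemma θ_iso_right {X Y Y' : Dual.D A} (e : Y ≅ Y') (h : Function.Bijective (θ (B := B) X Y)) :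
    Function.Bijective (θ (B := B) X Y') := by
  let L : B ⊗[A] (X ⟶ Y') ≃ₗ[B] B ⊗[A] (X ⟶ Y) :=
    (Linear.homCongr A (Iso.refl X) e.symm).baseChange A B _ _
  have hL : ∀ z, θ X Y (L z) = θ X Y' z ≫ (extD A B).map e.inv := by
    intro z
    rw [← θ_post]
    congr 1
    induction z using TensorProduct.induction_on with
    | zero => simp
    | tmul b g => simp [L, Linear.homCongr]
    | add x y hx hy => rw [map_add, map_add, hx, hy]
  refine ⟨fun x y hxy => L.injective (h.1 (by rw [hL, hL, hxy])), fun v => ?_⟩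
  obtain ⟨z, hz⟩ := h.2 (v ≫ (extD A B).map e.inv)
  refine ⟨L.symm z, ?_⟩
  rw [← cancel_mono ((extD A B).map e.inv), ← hL, L.apply_symm_apply, hz]

lemma θ_shift {X Y : Dual.D A} (n : ℤ) (h : Function.Bijective (θ (B := B) X Y)) :
    Function.Bijective (θ (B := B) (X⟦n⟧) (Y⟦n⟧)) := by
  let L : B ⊗[A] (X ⟶ Y) ≃ₗ[B] B ⊗[A] (X⟦n⟧ ⟶ Y⟦n⟧) := (shiftHom X Y n).baseChange A B _ _
  let c := fun Z => ((extD A B).commShiftIso n).app Z
  let R : ((extD A B).obj X ⟶ (extD A B).obj Y) ≃ₗ[B]
      ((extD A B).obj (X⟦n⟧) ⟶ (extD A B).obj (Y⟦n⟧)) :=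
    (shiftHom _ _ n).trans (Linear.homCongr B (c X).symm (c Y).symm)
  have hL : ∀ z, θ (X⟦n⟧) (Y⟦n⟧) (L z) = R (θ X Y z) := by
    intro z
    induction z using TensorProduct.induction_on with
    | zero => simp
    | tmul b g =>
      rw [θ_tmul, map_smul, show L (b ⊗ₜ[A] g) = b ⊗ₜ[A] (g⟦n⟧') by simp [L, shiftHom_apply], θ_tmul]
      congr 1
      show _ = ((c X).hom ≫ ((extD A B).map g)⟦n⟧') ≫ (c Y).inv
      rw [Iso.eq_comp_inv]
      exact (extD A B).commShiftIso_hom_naturality g n
    | add x y hx hy => rw [map_add, map_add, map_add, map_add, hx, hy]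
  have : (θ (B := B) (X⟦n⟧) (Y⟦n⟧) : _ → _) = R ∘ θ X Y ∘ L.symm := by
    funext z
    show θ (X⟦n⟧) (Y⟦n⟧) z = R (θ X Y (L.symm z))
    rw [← hL, L.apply_symm_apply]
  rw [this]
  exact R.bijective.comp (h.comp L.symm.bijective)

section FourLemma

variable (Z : Dual.D A)

variable (B) in
/-- `P →a Q →b R` induces exact sequences on `Hom(-, Z)` before and after base change. -/
structure PreExact {P Q R : Dual.D A} (a : P ⟶ Q) (b : Q ⟶ R) : Prop where
  left : Function.Exact (Linear.leftComp A Z b) (Linear.leftComp A Z a)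
  right : ∀ u : (extD A B).obj Q ⟶ (extD A B).obj Z, (extD A B).map a ≫ u = 0 ↔
    ∃ v, (extD A B).map b ≫ v = u

lemma preExact (T : Triangle (Dual.D A)) (hT : T ∈ distTriang (Dual.D A)) :
    PreExact B Z T.mor₁ T.mor₂ := by
  have hT' := (extD A B).map_distinguished T hT
  refine ⟨fun u => ⟨fun hu => ?_, ?_⟩, fun u => ⟨fun hu => ?_, ?_⟩⟩
  · obtain ⟨v, hv⟩ := T.yoneda_exact₂ hT u hu
    exact ⟨v, hv.symm⟩
  · rintro ⟨v, rfl⟩
    show T.mor₁ ≫ T.mor₂ ≫ v = 0
    rw [← Category.assoc, comp_distTriang_mor_zero₁₂ _ hT, zero_comp]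
  · obtain ⟨v, hv⟩ := ((extD A B).mapTriangle.obj T).yoneda_exact₂ hT' u hu
    exact ⟨v, hv.symm⟩
  · rintro ⟨v, rfl⟩
    rw [← Functor.map_comp_assoc, comp_distTriang_mor_zero₁₂ _ hT, Functor.map_zero, zero_comp]

variable {Z}

lemma four_injective {P Q R S : Dual.D A} {a : P ⟶ Q} {b : Q ⟶ R} {c : R ⟶ S}
    (hab : PreExact B Z a b) (hbc : PreExact B Z b c)
    (hP : Function.Injective (θ (B := B) P Z)) (hR : Function.Injective (θ (B := B) R Z))
    (hS : Function.Surjective (θ (B := B) S Z)) : Function.Injective (θ (B := B) Q Z) := by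
  rw [← LinearMap.ker_eq_bot, LinearMap.ker_eq_bot']
  intro z hz
  have hab' : Function.Exact ((Linear.leftComp A Z b).baseChange B)
      ((Linear.leftComp A Z a).baseChange B) := Module.Flat.lTensor_exact B hab.left
  have hbc' : Function.Exact ((Linear.leftComp A Z c).baseChange B)
      ((Linear.leftComp A Z b).baseChange B) := Module.Flat.lTensor_exact B hbc.left
  obtain ⟨w, rfl⟩ := (hab' z).1 (hP (by rw [θ_pre, hz, comp_zero, map_zero]))
  rw [θ_pre] at hz
  obtain ⟨v, hv⟩ := (hbc.right _).1 hz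
  obtain ⟨v', rfl⟩ := hS v
  rw [← θ_pre] at hv
  rw [← hR hv]
  exact hbc'.apply_apply_eq_zero v'

lemma four_surjective {O P Q R : Dual.D A} {o : O ⟶ P} {a : P ⟶ Q} {b : Q ⟶ R}
    (hoa : PreExact B Z o a) (hab : PreExact B Z a b)
    (hO : Function.Injective (θ (B := B) O Z)) (hP : Function.Surjective (θ (B := B) P Z))
    (hR : Function.Surjective (θ (B := B) R Z)) : Function.Surjective (θ (B := B) Q Z) := by
  intro u
  obtain ⟨p, hp⟩ := hP ((extD A B).map a ≫ u)
  have hoa' : Function.Exact ((Linear.leftComp A Z a).baseChange B)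
      ((Linear.leftComp A Z o).baseChange B) := Module.Flat.lTensor_exact B hoa.left
  obtain ⟨q, rfl⟩ := (hoa' p).1 (hO (by rw [θ_pre, hp, (hoa.right _).2 ⟨u, rfl⟩, map_zero]))
  rw [θ_pre] at hp
  obtain ⟨v, hv⟩ := (hab.right (u - θ Q Z q)).1 (by rw [Preadditive.comp_sub, hp, sub_self])
  obtain ⟨r, rfl⟩ := hR v
  rw [← θ_pre] at hv
  exact ⟨q + (Linear.leftComp A Z b).baseChange B r, by rw [map_add, hv, add_sub_cancel]⟩

end FourLemma

variable (B) in
/-- `θ` is bijective at `X` against all shifts of `Y`. -/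
def Good (X Y : Dual.D A) : Prop := ∀ i : ℤ, Function.Bijective (θ (B := B) X (Y⟦i⟧))

lemma Good.iso {X X' Y : Dual.D A} (h : Good B X Y) (e : X ≅ X') : Good B X' Y :=
  fun i => θ_iso_left e (h i)

lemma Good.shift {X Y : Dual.D A} (h : Good B X Y) (n : ℤ) : Good B (X⟦n⟧) Y := fun i =>
  θ_iso_right ((shiftFunctorAdd' (Dual.D A) (i - n) n i (by lia)).app Y).symm (θ_shift n (h (i - n)))

lemma good_of_triangle {T : Triangle (Dual.D A)} (hT : T ∈ distTriang (Dual.D A)) {Y : Dual.D A}
    (h₁ : Good B T.obj₁ Y) (h₃ : Good B T.obj₃ Y) : Good B T.obj₂ Y := by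
  intro i
  have hr := rot_of_distTriang _ hT
  have hi := inv_rot_of_distTriang _ hT
  refine ⟨four_injective (preExact (Y⟦i⟧) T hT) (preExact (Y⟦i⟧) T.rotate hr)
    (h₁ i).1 (h₃ i).1 ((h₁.shift 1) i).2, ?_⟩
  exact four_surjective (preExact (Y⟦i⟧) T.invRotate hi) (preExact (Y⟦i⟧) T hT)
    ((h₃.shift (-1)) i).1 (h₁ i).2 (h₃ i).2

section Single

lemma isGE_extD (X : Dual.D A) (n : ℤ) [IsGE X n] : IsGE ((extD A B).obj X) n := by
  rw [isGE_iff]
  intro i hi
  exact (Functor.map_isZero (ext A B) (isZero_of_isGE X n i hi)).of_iso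
    ((extHomologyIso A B i).app X)

lemma isLE_extD (X : Dual.D A) (n : ℤ) [IsLE X n] : IsLE ((extD A B).obj X) n := by
  rw [isLE_iff]
  intro i hi
  exact (Functor.map_isZero (ext A B) (isZero_of_isLE X n i hi)).of_iso
    ((extHomologyIso A B i).app X)

/-- `H⁰(A[0]) ≅ A`, with `1 ↦ gen`. -/
noncomputable def genEquiv : A ≃ₗ[A] Dual.HD A (Dual.inD A A) 0 :=
  ((singleFunctorCompHomologyFunctorIso (ModuleCat.{u} A) 0).app (ModuleCat.of A A)).symm.toLinearEquiv

lemma genEquiv_one : genEquiv (1 : A) = gen := rfl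

lemma θ_inD_self (Z : Dual.D A) : Function.Bijective (θ (B := B) (Dual.inD A A) Z) := by
  let g : Dual.HD B ((extD A B).obj (Dual.inD A A)) 0 := HDExtEquiv (Dual.inD A A) 0 (1 ⊗ₜ[A] gen)
  obtain ⟨c, hc⟩ := (evalOne_bijective ((extD A B).obj (Dual.inD A A))).2 g
  haveI : IsIso c := by
    rw [DerivedCategory.isIso_iff]
    intro n
    haveI := isLE_extD (B := B) (Dual.inD A A) 0
    haveI := isGE_extD (B := B) (Dual.inD A A) 0
    rcases lt_trichotomy n 0 with hn | rfl | hn
    · exact (isZero_of_isGE _ 0 n hn).isIso (isZero_of_isGE _ 0 n hn) _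
    · let e : B ≃ₗ[B] Dual.HD B ((extD A B).obj (Dual.inD A A)) 0 :=
        (TensorProduct.AlgebraTensorModule.rid A B B).symm.trans
          ((genEquiv.baseChange A B _ _).trans (HDExtEquiv (Dual.inD A A) 0))
      have he : ∀ b, ((homologyFunctor (ModuleCat.{u} B) 0).map c).hom (genEquiv b) = e b := by
        intro b
        have hb : genEquiv b = b • genEquiv (A := B) 1 := by rw [← map_smul, smul_eq_mul, mul_one]
        rw [hb, map_smul, genEquiv_one, show ((homologyFunctor (ModuleCat.{u} B) 0).map c).hom gen = g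
          from hc]
        show b • g = e b
        rw [show b = b • (1 : B) by rw [smul_eq_mul, mul_one], map_smul, smul_eq_mul, mul_one]
        congr 1
      rw [ConcreteCategory.isIso_iff_bijective]
      have : (((homologyFunctor (ModuleCat.{u} B) 0).map c).hom : _ → _) = e ∘ genEquiv.symm := by
        funext x
        obtain ⟨b, rfl⟩ := (genEquiv (A := B)).surjective x
        rw [he, Function.comp_apply, LinearEquiv.symm_apply_apply]
      show Function.Bijective ((homologyFunctor (ModuleCat.{u} B) 0).map c).hom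
      rw [this]
      exact e.bijective.comp genEquiv.symm.bijective
    · exact (isZero_of_isLE _ 0 n hn).isIso (isZero_of_isLE _ 0 n hn) _
  let L : B ⊗[A] (Dual.inD A A ⟶ Z) ≃ₗ[B] Dual.HD B ((extD A B).obj Z) 0 :=
    ((LinearEquiv.ofBijective (evalOne Z) (evalOne_bijective Z)).baseChange A B _ _).trans
      (HDExtEquiv Z 0)
  have hL : ∀ z, evalOne ((extD A B).obj Z) (c ≫ θ (Dual.inD A A) Z z) = L z := by
    intro z
    induction z using TensorProduct.induction_on with
    | zero => simp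
    | tmul b f =>
      rw [θ_tmul, Linear.comp_smul, map_smul, evalOne_comp, hc, HDExtEquiv_naturality,
        ← map_smul, LinearMap.baseChange_tmul, TensorProduct.smul_tmul', smul_eq_mul, mul_one]
      simp only [L, LinearEquiv.trans_apply, LinearEquiv.baseChange_tmul]
      rfl
    | add x y hx hy => rw [map_add, Preadditive.comp_add, map_add, map_add, hx, hy]
  constructor
  · intro x y hxy
    exact L.injective (by rw [← hL, ← hL, hxy])
  · intro v
    obtain ⟨z, hz⟩ := L.surjective (evalOne _ (c ≫ v))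
    exact ⟨z, (cancel_epi c).1 ((evalOne_bijective _).1 ((hL z).trans hz))⟩

lemma good_free (n : ℕ) (Y : Dual.D A) : Good B (Dual.inD A (Fin n → A)) Y := by
  intro i
  have hid : (LinearMap.id : (Fin n → A) →ₗ[A] _) =
      ∑ k, LinearMap.single A (fun _ : Fin n => A) k ∘ₗ LinearMap.proj k := by
    apply LinearMap.ext
    intro x
    simp [LinearMap.coe_single, Finset.univ_sum_single]
  let ι := fun k => inDmap (LinearMap.single A (fun _ : Fin n => A) k)
  let π := fun k => inDmap (LinearMap.proj (R := A) (φ := fun _ : Fin n => A) k)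
  have hdec' : 𝟙 (Dual.inD A (Fin n → A)) = ∑ k, π k ≫ ι k := by
    rw [← inDmap_id, hid]
    refine (map_sum (({ toFun := inDmap, map_zero' := inDmap_zero, map_add' := inDmap_add } :
      ((Fin n → A) →ₗ[A] (Fin n → A)) →+ _)) _ _).trans ?_
    exact Finset.sum_congr rfl fun k _ => inDmap_comp _ _
  have hz : ∀ z : B ⊗[A] (Dual.inD A (Fin n → A) ⟶ Y⟦i⟧), z =
      ∑ k, (Linear.leftComp A _ (π k)).baseChange B ((Linear.leftComp A _ (ι k)).baseChange B z) := by
    intro z
    induction z using TensorProduct.induction_on with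
    | zero => simp
    | tmul b f =>
      simp only [LinearMap.baseChange_tmul, ← TensorProduct.tmul_sum]
      congr 1
      show f = ∑ k, π k ≫ ι k ≫ f
      simp only [← Category.assoc, ← Preadditive.sum_comp, ← hdec', Category.id_comp]
    | add x y hx hy =>
      conv_lhs => rw [hx, hy]
      simp only [map_add, Finset.sum_add_distrib]
  refine ⟨?_, fun v => ?_⟩
  · rw [← LinearMap.ker_eq_bot, LinearMap.ker_eq_bot']
    intro z hz0
    rw [hz z]
    refine Finset.sum_eq_zero fun k _ => ?_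
    rw [(θ_inD_self (Y⟦i⟧)).1 (show θ (Dual.inD A A) _ ((Linear.leftComp A _ (ι k)).baseChange B z) =
      θ (Dual.inD A A) _ 0 by rw [θ_pre, hz0, comp_zero, map_zero]), map_zero]
  · choose w hw using fun k => (θ_inD_self (B := B) (Y⟦i⟧)).2 ((extD A B).map (ι k) ≫ v)
    refine ⟨∑ k, (Linear.leftComp A _ (π k)).baseChange B (w k), ?_⟩
    rw [map_sum]
    simp only [θ_pre, hw, ← Functor.map_comp_assoc, ← Preadditive.sum_comp, ← Functor.map_sum,
      ← hdec', CategoryTheory.Functor.map_id, Category.id_comp]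

variable [IsNoetherianRing A]

lemma good_inD (Y : Dual.D A) (a : ℤ) [IsGE Y a] (M : Type u) [AddCommGroup M] [Module A M]
    [Module.Finite A M] : Good B (Dual.inD A M) Y := by
  suffices ∀ (n : ℕ) (M : Type u) [AddCommGroup M] [Module A M] [Module.Finite A M] (i : ℤ),
      i < a + n → Function.Bijective (θ (B := B) (Dual.inD A M) (Y⟦i⟧)) from
    fun i => this (i - a + 1).toNat M i (by lia)
  intro n
  induction n with
  | zero =>
    intro M _ _ _ i hi
    haveI := subsingleton_hom_of_lt Y a M i (by simpa using hi)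
    haveI : IsGE (Y⟦i⟧) (a - i) := TStructure.t.isGE_shift Y a i (a - i)
    haveI := isGE_extD (B := B) (Y⟦i⟧) (a - i)
    haveI := isLE_extD (B := B) (Dual.inD A M) 0
    refine ⟨fun x y _ => ?_, fun v => ⟨0, (map_zero _).trans
      (TStructure.t.zero v 0 (a - i) (by lia)).symm⟩⟩
    exact Subsingleton.elim x y
  | succ n ih =>
    intro M _ _ _ i hi
    have hK : ∀ (K : Type u) [AddCommGroup K] [Module A K] [Module.Finite A K],
        Function.Bijective (θ (B := B) ((Dual.inD A K)⟦(1 : ℤ)⟧) (Y⟦i⟧)) := fun K _ _ _ =>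
      θ_iso_right ((shiftFunctorAdd' (Dual.D A) (i - 1) 1 i (by lia)).app Y).symm
        (θ_shift 1 (ih _ (i - 1) (by lia)))
    have key : ∀ (M : Type u) [AddCommGroup M] [Module A M] [Module.Finite A M],
        Function.Injective (θ (B := B) (Dual.inD A M) (Y⟦i⟧)) := by
      intro M _ _ _
      obtain ⟨m, g, hg, hex⟩ := exists_ses (A := A) M
      have hS := ses_shortExact _ g (Submodule.subtype_injective _) hg hex
      exact four_injective (preExact (Y⟦i⟧) _ (rot_of_distTriang _ hS.singleTriangle_distinguished))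
        (preExact (Y⟦i⟧) _ (rot_of_distTriang _ (rot_of_distTriang _ hS.singleTriangle_distinguished)))
        (good_free m Y i).1 (hK (LinearMap.ker g)).1 (((good_free m Y).shift 1) i).2
    refine ⟨key M, ?_⟩
    obtain ⟨m, g, hg, hex⟩ := exists_ses (A := A) M
    have hS := ses_shortExact _ g (Submodule.subtype_injective _) hg hex
    exact four_surjective (preExact (Y⟦i⟧) _ hS.singleTriangle_distinguished)
      (preExact (Y⟦i⟧) _ (rot_of_distTriang _ hS.singleTriangle_distinguished))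
      (key (LinearMap.ker g)) (good_free m Y i).2 (hK (LinearMap.ker g)).2

/-- `Hom(X, Y⟦i⟧) ⊗ B ≅ Hom(X ⊗ B, Y⟦i⟧ ⊗ B)` for `X` bounded with finite cohomology and `Y`
bounded below. -/
theorem good_of_bounded (X Y : Dual.D A) (a b c : ℤ) [IsGE X a] [IsLE X b] [IsGE Y c]
    (hfin : ∀ i, Module.Finite A (Dual.HD A X i)) : Good B X Y :=
  devissage (fun X => Good B X Y) (fun e h => h.iso e)
    (fun X hX i => ⟨fun x y _ => by
        haveI : Subsingleton (X ⟶ Y⟦i⟧) := ⟨fun u v => hX.eq_of_src u v⟩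
        exact Subsingleton.elim x y,
      fun v => ⟨0, (Functor.map_isZero (extD A B) hX).eq_of_src _ _⟩⟩)
    (fun _ hT h₁ h₃ => good_of_triangle hT h₁ h₃) a
    (fun M _ _ _ n _ => ((good_inD (B := B) Y c M).shift (-n)).iso
      ((shiftFunctor (Dual.D A) (-n)).mapIso (singleShiftIso M n).symm ≪≫
        (shiftFunctorCompIsoId (Dual.D A) n (-n) (add_neg_cancel n)).app _))
    X b hfin

end Single

end Groth.DualCore
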