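import Groth.Agent.DualCore.InjRep
import Groth.Agent.DualCore.FlatHom
import Mathlib.Algebra.Category.ModuleCat.ChangeOfRings
import Mathlib.CategoryTheory.Adjunction.Additive

/-!
# Coextension of scalars on derived categories

`Represents φ ε` for `ε : res W ⟶ ω` says that `g ↦ res g ≫ ε` is bijective, i.e. that `W` is
`RHom_A(B, ω)`.  It holds for the counit of any right adjoint of restriction, and for the coextension
of an injective representative.
-/

set_option autoImplicit false

universe u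

open CategoryTheory CategoryTheory.Limits DerivedCategory

attribute [local instance] HasDerivedCategory.standard

namespace Groth.DualCore

variable {A B : Type u} [CommRing A] [CommRing B] (φ : A →+* B)

/-- Restriction of scalars. -/
noncomputable abbrev res : ModuleCat.{u} B ⥤ ModuleCat.{u} A := ModuleCat.restrictScalars.{u} φ

lemma res_map_smul_id (a : A) (M : ModuleCat.{u} B) :
    (res φ).map (φ a • 𝟙 M) = a • 𝟙 ((res φ).obj M) := by
  ext x
  rfl

lemma resD_map_smul_id (a : A) (Y : Dual.D B) :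
    (DRing.restrictD φ).map (φ a • 𝟙 Y) = a • 𝟙 ((DRing.restrictD φ).obj Y) := by
  let e : Q.obj (Q.objPreimage Y) ≅ Y := Q.objObjPreimageIso Y
  have h1 : φ a • 𝟙 Y = e.inv ≫ Q.map (φ a • 𝟙 (Q.objPreimage Y)) ≫ e.hom := by
    rw [Functor.map_smul, CategoryTheory.Functor.map_id, Linear.smul_comp, Category.id_comp,
      Linear.comp_smul, e.inv_hom_id]
  have h2 : (DRing.restrictD φ).map (Q.map (φ a • 𝟙 (Q.objPreimage Y))) =
      a • 𝟙 ((DRing.restrictD φ).obj (Q.obj (Q.objPreimage Y))) := by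
    let fac := (res φ).mapDerivedCategoryFactors
    have h3 : ((res φ).mapHomologicalComplex (ComplexShape.up ℤ)).map (φ a • 𝟙 (Q.objPreimage Y)) =
        a • 𝟙 _ := by
      ext n : 1
      exact res_map_smul_id φ a _
    rw [← cancel_mono (fac.hom.app _)]
    refine ((res φ).mapDerivedCategoryFactors_hom_naturality _).trans ?_
    rw [h3, Functor.map_smul, CategoryTheory.Functor.map_id, Linear.comp_smul, Linear.smul_comp]
    erw [Category.comp_id, Category.id_comp]
  rw [h1, Functor.map_comp, Functor.map_comp, h2, Linear.smul_comp, Category.id_comp,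
    Linear.comp_smul, ← Functor.map_comp, e.inv_hom_id, CategoryTheory.Functor.map_id]

lemma resD_map_smul {X Y : Dual.D B} (a : A) (f : X ⟶ Y) :
    (DRing.restrictD φ).map (φ a • f) = a • (DRing.restrictD φ).map f := by
  rw [← Category.comp_id f, ← Linear.comp_smul, Functor.map_comp, resD_map_smul_id, Linear.comp_smul,
    Category.comp_id, Category.comp_id]

variable {ω : Dual.D A} {W : Dual.D B} (ε : (DRing.restrictD φ).obj W ⟶ ω)

/-- `W` represents `Hom_A(res -, ω)` through `ε`. -/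
def Represents : Prop :=
  ∀ X : Dual.D B, Function.Bijective fun g : X ⟶ W => (DRing.restrictD φ).map g ≫ ε

/-- `Hom_B(X, W⟦i⟧) → Hom_A(res X, ω⟦i⟧)`. -/
noncomputable def Θ (X : Dual.D B) (i : ℤ) (g : X ⟶ W⟦i⟧) :
    (DRing.restrictD φ).obj X ⟶ ω⟦i⟧ :=
  (DRing.restrictD φ).map g ≫ ((DRing.restrictD φ).commShiftIso i).hom.app W ≫ ε⟦i⟧'

lemma Θ_smul (X : Dual.D B) (i : ℤ) (a : A) (g : X ⟶ W⟦i⟧) :
    Θ φ ε X i (φ a • g) = a • Θ φ ε X i g := by
  rw [Θ, resD_map_smul, Linear.smul_comp]
  rfl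

lemma Θ_add (X : Dual.D B) (i : ℤ) (g g' : X ⟶ W⟦i⟧) :
    Θ φ ε X i (g + g') = Θ φ ε X i g + Θ φ ε X i g' := by
  rw [Θ, Functor.map_add, Preadditive.add_comp]
  rfl

lemma Θ_precomp {X X' : Dual.D B} (h : X' ⟶ X) (i : ℤ) (g : X ⟶ W⟦i⟧) :
    Θ φ ε X' i (h ≫ g) = (DRing.restrictD φ).map h ≫ Θ φ ε X i g := by
  rw [Θ, Functor.map_comp, Category.assoc]
  rfl

variable {φ ε}

lemma Represents.Θ_bijective (h : Represents φ ε) (X : Dual.D B) (i : ℤ) :
    Function.Bijective (Θ φ ε X i) := by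
  let X' : Dual.D B := X⟦-i⟧
  let c : X'⟦i⟧ ≅ X := (shiftFunctorCompIsoId (Dual.D B) (-i) i (neg_add_cancel i)).app X
  have key : ∀ g' : X' ⟶ W, Θ φ ε X i (c.inv ≫ g'⟦i⟧') =
      (DRing.restrictD φ).map c.inv ≫ ((DRing.restrictD φ).commShiftIso i).hom.app X' ≫
        ((DRing.restrictD φ).map g' ≫ ε)⟦i⟧' := by
    intro g'
    rw [Θ_precomp, Θ, Functor.map_comp]
    congr 1
    exact Functor.commShiftIso_hom_naturality_assoc (DRing.restrictD φ) g' i _
  constructor
  · intro g₁ g₂ hg
    obtain ⟨a₁, ha₁⟩ := (shiftFunctor (Dual.D B) i).map_surjective (c.hom ≫ g₁)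
    obtain ⟨a₂, ha₂⟩ := (shiftFunctor (Dual.D B) i).map_surjective (c.hom ≫ g₂)
    have e₁ : g₁ = c.inv ≫ a₁⟦i⟧' := by rw [ha₁, Iso.inv_hom_id_assoc]
    have e₂ : g₂ = c.inv ≫ a₂⟦i⟧' := by rw [ha₂, Iso.inv_hom_id_assoc]
    rw [e₁, e₂, key, key, cancel_epi, cancel_epi] at hg
    rw [e₁, e₂, (h X').1 ((shiftFunctor (Dual.D A) i).map_injective hg)]
  · intro v
    obtain ⟨w, hw⟩ := (shiftFunctor (Dual.D A) i).map_surjective
      (inv ((DRing.restrictD φ).map c.inv ≫ ((DRing.restrictD φ).commShiftIso i).hom.app X') ≫ v)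
    obtain ⟨g', hg'⟩ := (h X').2 w
    refine ⟨c.inv ≫ g'⟦i⟧', ?_⟩
    rw [key, show (DRing.restrictD φ).map g' ≫ ε = w from hg', hw, ← Category.assoc,
      IsIso.hom_inv_id_assoc]

/-- `Θ` as an additive equivalence. -/
noncomputable def Represents.homEquiv (h : Represents φ ε) (X : Dual.D B) (i : ℤ) :
    (X ⟶ W⟦i⟧) ≃+ ((DRing.restrictD φ).obj X ⟶ ω⟦i⟧) :=
  AddEquiv.ofBijective (AddMonoidHom.mk' (Θ φ ε X i) (Θ_add φ ε X i)) (h.Θ_bijective X i)

/-- Representing objects are unique. -/
theorem Represents.exists_iso {W' : Dual.D B} {ε' : (DRing.restrictD φ).obj W' ⟶ ω}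
    (h : Represents φ ε) (h' : Represents φ ε') :
    ∃ e : W ≅ W', (DRing.restrictD φ).map e.hom ≫ ε' = ε := by
  obtain ⟨a, ha⟩ := (h' W).2 ε
  obtain ⟨b, hb⟩ := (h W').2 ε'
  simp only at ha hb
  refine ⟨⟨a, b, ?_, ?_⟩, ha⟩
  · refine (h W).1 ?_
    simp only [Functor.map_comp, Category.assoc, hb, ha, CategoryTheory.Functor.map_id, Category.id_comp]
  · refine (h' W').1 ?_
    simp only [Functor.map_comp, Category.assoc, hb, ha, CategoryTheory.Functor.map_id, Category.id_comp]

/-- The counit of a right adjoint of restriction represents. -/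
theorem represents_counit (R : Dual.D A ⥤ Dual.D B) (adj : DRing.restrictD φ ⊣ R) (ω : Dual.D A) :
    Represents φ (adj.counit.app ω) := fun X => by
  have : (fun g : X ⟶ R.obj ω => (DRing.restrictD φ).map g ≫ adj.counit.app ω) =
      (adj.homEquiv X ω).symm := funext fun g => (Adjunction.homEquiv_counit adj X ω g).symm
  rw [this]
  exact Equiv.bijective _

section Complex

variable (φ)

/-- Restriction on complexes. -/
noncomputable abbrev resC :
    CochainComplex (ModuleCat.{u} B) ℤ ⥤ CochainComplex (ModuleCat.{u} A) ℤ :=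
  (res φ).mapHomologicalComplex (ComplexShape.up ℤ)

/-- Coextension on complexes. -/
noncomputable abbrev coextC :
    CochainComplex (ModuleCat.{u} A) ℤ ⥤ CochainComplex (ModuleCat.{u} B) ℤ :=
  haveI := (ModuleCat.restrictCoextendScalarsAdj.{u, u, u} φ).right_adjoint_additive
  (ModuleCat.coextendScalars.{u, u, u} φ).mapHomologicalComplex (ComplexShape.up ℤ)

/-- Restriction is left adjoint to coextension. -/
noncomputable abbrev rAdj : res φ ⊣ ModuleCat.coextendScalars.{u, u, u} φ :=
  ModuleCat.restrictCoextendScalarsAdj.{u, u, u} φ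

/-- The termwise counit. -/
noncomputable def counitC (I : CochainComplex (ModuleCat.{u} A) ℤ) :
    (resC φ).obj ((coextC φ).obj I) ⟶ I where
  f n := (rAdj φ).counit.app (I.X n)
  comm' i j _ := ((rAdj φ).counit.naturality (I.d i j)).symm

lemma exists_lift (K : CochainComplex (ModuleCat.{u} B) ℤ) (I : CochainComplex (ModuleCat.{u} A) ℤ)
    (f : (resC φ).obj K ⟶ I) : ∃ f' : K ⟶ (coextC φ).obj I, (resC φ).map f' ≫ counitC φ I = f := by
  refine ⟨{ f := fun n => (rAdj φ).homEquiv _ _ (f.f n), comm' := fun i j _ => ?_ }, ?_⟩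
  · show (rAdj φ).homEquiv _ _ (f.f i) ≫ (ModuleCat.coextendScalars φ).map (I.d i j) = _
    exact (((rAdj φ).homEquiv_naturality_right (X := K.X i) (f.f i) (I.d i j)).symm.trans
      ((congrArg ((rAdj φ).homEquiv (K.X i) (I.X j)) (f.comm i j)).trans
        ((rAdj φ).homEquiv_naturality_left (K.d i j) (f.f j))))
  · ext n : 1
    show (res φ).map ((rAdj φ).homEquiv _ _ (f.f n)) ≫ (rAdj φ).counit.app (I.X n) = f.f n
    exact ((rAdj φ).homEquiv_counit (K.X n) (I.X n) _).symm.trans (Equiv.symm_apply_apply _ _)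

lemma homotopy_lift (K : CochainComplex (ModuleCat.{u} B) ℤ) (I : CochainComplex (ModuleCat.{u} A) ℤ)
    (f' : K ⟶ (coextC φ).obj I) (h : Homotopy ((resC φ).map f' ≫ counitC φ I) 0) :
    Nonempty (Homotopy f' 0) := by
  haveI := (ModuleCat.restrictCoextendScalarsAdj.{u, u, u} φ).right_adjoint_additive
  let e : ∀ i j, (((resC φ).obj K).X i ⟶ I.X j) ≃+ (K.X i ⟶ ((coextC φ).obj I).X j) :=
    fun i j => (rAdj φ).homAddEquiv (K.X i) (I.X j)
  refine ⟨{ hom := fun i j => e i j (h.hom i j),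
            zero := fun i j hij => (congrArg (e i j) (h.zero i j hij)).trans (map_zero _),
            comm := fun i => ?_ }⟩
  have hn : f'.f i = e i i (((resC φ).map f' ≫ counitC φ I).f i) :=
    (((rAdj φ).homEquiv (K.X i) (I.X i)).apply_symm_apply (f'.f i)).symm.trans
      (congrArg ((rAdj φ).homEquiv (K.X i) (I.X i)) ((rAdj φ).homEquiv_counit (K.X i) (I.X i) (f'.f i)))
  have hl : e i i (((resC φ).obj K).d i (i + 1) ≫ h.hom (i + 1) i) =
      K.d i (i + 1) ≫ e (i + 1) i (h.hom (i + 1) i) :=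
    (rAdj φ).homEquiv_naturality_left (K.d i (i + 1)) (h.hom (i + 1) i)
  have hr : e i i (h.hom i (i - 1) ≫ I.d (i - 1) i) =
      e i (i - 1) (h.hom i (i - 1)) ≫ ((coextC φ).obj I).d (i - 1) i :=
    (rAdj φ).homEquiv_naturality_right (X := K.X i) (h.hom i (i - 1)) (I.d (i - 1) i)
  rw [hn, h.comm i, HomologicalComplex.zero_f, HomologicalComplex.zero_f, add_zero, add_zero,
    dNext_eq _ (show (ComplexShape.up ℤ).Rel i (i + 1) from rfl),
    prevD_eq _ (show (ComplexShape.up ℤ).Rel (i - 1) i by simp),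
    dNext_eq _ (show (ComplexShape.up ℤ).Rel i (i + 1) from rfl),
    prevD_eq _ (show (ComplexShape.up ℤ).Rel (i - 1) i by simp), map_add, hl, hr]

variable {φ}

/-- The counit into `ω`. -/
noncomputable def InjRep.coextCounit (r : InjRep ω) :
    (DRing.restrictD φ).obj (Q.obj ((coextC φ).obj r.I)) ⟶ ω :=
  ((res φ).mapDerivedCategoryFactors.hom.app _) ≫ Q.map (counitC φ r.I) ≫ r.iso.hom

lemma InjRep.coext_bounds (r : InjRep ω) :
    ((coextC φ).obj r.I).IsStrictlyGE r.a ∧ ((coextC φ).obj r.I).IsStrictlyLE r.b ∧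
      ∀ n, Module.Injective B (((coextC φ).obj r.I).X n) := by
  haveI := r.hGE
  haveI := r.hLE
  haveI := (ModuleCat.restrictCoextendScalarsAdj.{u, u, u} φ).right_adjoint_additive
  refine ⟨(CochainComplex.isStrictlyGE_iff _ _).2 fun i hi =>
      (ModuleCat.coextendScalars.{u, u, u} φ).map_isZero
        (CochainComplex.isZero_of_isStrictlyGE r.I r.a i hi),
    (CochainComplex.isStrictlyLE_iff _ _).2 fun i hi =>
      (ModuleCat.coextendScalars.{u, u, u} φ).map_isZero
        (CochainComplex.isZero_of_isStrictlyLE r.I r.b i hi), fun n => ?_⟩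
  exact (Module.injective_iff_injective_object _ _).2
    ((ModuleCat.restrictCoextendScalarsAdj.{u, u, u} φ).map_injective (r.I.X n)
      ((Module.injective_iff_injective_object A (r.I.X n)).1 (r.injective n)))

/-- The coextended representative. -/
noncomputable def InjRep.coext (r : InjRep ω) : InjRep (Q.obj ((coextC φ).obj r.I)) where
  I := (coextC φ).obj r.I
  a := r.a
  b := r.b
  hGE := r.coext_bounds.1
  hLE := r.coext_bounds.2.1
  injective := r.coext_bounds.2.2
  iso := Iso.refl _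

/-- Coextension of an injective representative represents. -/
theorem InjRep.represents_coext (r : InjRep ω) : Represents φ (r.coextCounit (φ := φ)) := by
  haveI : ((coextC φ).obj r.I).IsKInjective := inferInstanceAs ((r.coext (φ := φ)).I.IsKInjective)
  intro X
  let e : Q.obj (Q.objPreimage X) ≅ X := Q.objObjPreimageIso X
  let fac := (res φ).mapDerivedCategoryFactors
  have key : ∀ f' : Q.objPreimage X ⟶ (coextC φ).obj r.I,
      (DRing.restrictD φ).map (Q.map f') ≫ r.coextCounit (φ := φ) =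
        fac.hom.app _ ≫ Q.map ((resC φ).map f' ≫ counitC φ r.I) ≫ r.iso.hom := by
    intro f'
    rw [InjRep.coextCounit, ← Category.assoc, (res φ).mapDerivedCategoryFactors_hom_naturality,
      Functor.map_comp, Category.assoc, Category.assoc]
  constructor
  · intro g₁ g₂ hg
    rw [← sub_eq_zero]
    obtain ⟨f, hf⟩ := Q_map_surjective (e.hom ≫ (g₁ - g₂))
    rw [← cancel_epi e.hom, comp_zero, ← hf]
    have h0 : (DRing.restrictD φ).map (Q.map f) ≫ r.coextCounit (φ := φ) = 0 := by
      simp only at hg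
      rw [hf, Functor.map_comp, Category.assoc, Functor.map_sub, Preadditive.sub_comp, hg, sub_self,
        comp_zero]
    rw [key] at h0
    have h1 : Q.map ((resC φ).map f ≫ counitC φ r.I) = 0 := by
      rw [← cancel_epi (fac.hom.app (Q.objPreimage X)), ← cancel_mono r.iso.hom, Category.assoc, h0,
        comp_zero, zero_comp]
    obtain ⟨H⟩ := homotopy_of_Q_map_eq_zero h1
    obtain ⟨H'⟩ := homotopy_lift φ _ _ f H
    exact Q_map_eq_zero_of_homotopy H'
  · intro v
    obtain ⟨f, hf⟩ := Q_map_surjective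
      (fac.inv.app (Q.objPreimage X) ≫ (DRing.restrictD φ).map e.hom ≫ v ≫ r.iso.inv)
    obtain ⟨f', hf'⟩ := exists_lift φ (Q.objPreimage X) r.I f
    refine ⟨e.inv ≫ Q.map f', ?_⟩
    show (DRing.restrictD φ).map (e.inv ≫ Q.map f') ≫ r.coextCounit (φ := φ) = v
    rw [Functor.map_comp, Category.assoc, key, hf', hf]
    simp only [Category.assoc, Iso.hom_inv_id_app_assoc, Iso.inv_hom_id, Category.comp_id]
    rw [← Functor.map_comp_assoc, e.inv_hom_id, CategoryTheory.Functor.map_id, Category.id_comp]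

end Complex

end Groth.DualCore
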