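import Groth.Agent.DerivedAdj.Basic
import Groth.Agent.DAlg.RFTriangle
import Groth.Prelude.Def_DTen5
import Mathlib.Algebra.Category.ModuleCat.AB

/-!
Restriction of scalars on derived categories has a right adjoint.
-/

set_option autoImplicit false

universe u

open CategoryTheory CategoryTheory.Limits

attribute [local instance] HasDerivedCategory.standard

namespace Groth.DualCore

/-- Restriction of scalars on derived categories is a left adjoint. -/
theorem isLeftAdjoint_restrictD {A B : Type u} [CommRing A] [CommRing B] (φ : A →+* B) :
    (DRing.restrictD φ).IsLeftAdjoint := by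
  let w := ModuleCat.restrictScalars.{u} φ
  let v := ModuleCat.coextendScalars.{u, u} φ
  have adj : w ⊣ v := ModuleCat.restrictCoextendScalarsAdj φ
  haveI : v.Additive := adj.right_adjoint_additive
  haveI := Groth.DerivedAdj.hasPointwiseRightDerivedFunctor_of_bijective
    (F := v.mapHomotopyCategory (ComplexShape.up ℤ) ⋙ DerivedCategory.Qh (C := ModuleCat.{u} B))
    (L := DerivedCategory.Qh) (HomotopyCategory.quasiIso (ModuleCat.{u} A) (ComplexShape.up ℤ))
    (Groth.DerivedAdj.exists_good (DAlg.RFTriangle.enoughKInj (A := ModuleCat.{u} A)))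
  exact (Groth.DerivedAdj.derivedAdj adj (DAlg.RFTriangle.enoughKInj (A := ModuleCat.{u} A))).isLeftAdjoint

end Groth.DualCore
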