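import Groth.Agent.DualCore.Local
import Mathlib.RingTheory.Support
import Mathlib.RingTheory.Localization.Finiteness
import Mathlib.RingTheory.Localization.AtPrime.Basic

/-!
# Local nature of being dualizing
-/

set_option autoImplicit false

universe u

open CategoryTheory CategoryTheory.Limits DerivedCategory TensorProduct

attribute [local instance] HasDerivedCategory.standard

namespace Groth.DualCore

variable {A : Type u} [CommRing A]

/-- The localizations at maximal ideals are jointly faithful. -/
lemma subsingleton_of_maximal (M : Type*) [AddCommGroup M] [Module A M]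
    (h : ∀ m : MaximalSpectrum A, Subsingleton (Localization.AtPrime m.asIdeal ⊗[A] M)) :
    Subsingleton M := by
  refine subsingleton_of_forall_eq 0 fun x => ?_
  by_contra hx
  have hne : LinearMap.ker (LinearMap.toSpanSingleton A M x) ≠ ⊤ := fun ht => hx (by
    have : (1 : A) ∈ LinearMap.ker (LinearMap.toSpanSingleton A M x) := ht ▸ Submodule.mem_top
    simpa using this)
  obtain ⟨m, hm, hle⟩ := Ideal.exists_le_maximal _ hne
  haveI := h ⟨m, hm⟩
  haveI : IsLocalizedModule m.primeCompl
      (TensorProduct.mk A (Localization.AtPrime m) M 1) :=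
    (isLocalizedModule_iff_isBaseChange m.primeCompl (Localization.AtPrime m) _).2
      (TensorProduct.isBaseChange A M _)
  obtain ⟨⟨s, hs⟩, hsx⟩ := (IsLocalizedModule.eq_zero_iff m.primeCompl
    (TensorProduct.mk A (Localization.AtPrime m) M 1) (m := x)).1 (Subsingleton.elim _ _)
  exact hs (hle hsx)

/-- The principal opens of a cover are jointly faithful. -/
lemma subsingleton_of_away {ι : Type*} (f : ι → A) (hf : Ideal.span (Set.range f) = ⊤)
    (M : Type*) [AddCommGroup M] [Module A M]
    (h : ∀ j, Subsingleton (Localization.Away (f j) ⊗[A] M)) : Subsingleton M := by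
  refine subsingleton_of_forall_eq 0 fun x => ?_
  have hrad : ∀ j, f j ∈ Ideal.radical (LinearMap.ker (LinearMap.toSpanSingleton A M x)) := fun j => by
    haveI := h j
    haveI : IsLocalizedModule (Submonoid.powers (f j))
        (TensorProduct.mk A (Localization.Away (f j)) M 1) :=
      (isLocalizedModule_iff_isBaseChange (Submonoid.powers (f j)) (Localization.Away (f j)) _).2
        (TensorProduct.isBaseChange A M _)
    obtain ⟨⟨_, n, rfl⟩, hsx⟩ := (IsLocalizedModule.eq_zero_iff (Submonoid.powers (f j))
      (TensorProduct.mk A (Localization.Away (f j)) M 1) (m := x)).1 (Subsingleton.elim _ _)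
    exact ⟨n, hsx⟩
  have htop : Ideal.radical (LinearMap.ker (LinearMap.toSpanSingleton A M x)) = ⊤ :=
    top_le_iff.1 (hf ▸ Ideal.span_le.2 (Set.range_subset_iff.2 hrad))
  have h1 : (1 : A) ∈ LinearMap.ker (LinearMap.toSpanSingleton A M x) :=
    (Ideal.radical_eq_top.1 htop) ▸ Submodule.mem_top
  simpa using h1

variable [IsNoetherianRing A]

/-- Being dualizing is local at maximal ideals, given global finite injective dimension. -/
theorem isDualizing_of_maximal (K : Dual.D A) (hfin : ∀ i, Module.Finite A (Dual.HD A K i))
    (a b : ℤ) [IsGE K a] [IsLE K b]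
    (hinj : ∃ a b : ℤ, ∀ (M : Type u) [AddCommGroup M] [Module A M], Module.Finite A M → ∀ i : ℤ,
      (i < a ∨ b < i) → Subsingleton (Dual.inD A M ⟶ K⟦i⟧))
    (h : ∀ (m : Ideal A) [m.IsMaximal],
      Dual.IsDualizing (Localization.AtPrime m) ((extD A (Localization.AtPrime m)).obj K)) :
    Dual.IsDualizing A K :=
  isDualizing_of_family (fun m : MaximalSpectrum A => Localization.AtPrime m.asIdeal)
    (fun M _ _ h => subsingleton_of_maximal M h) K hfin a b hinj
    (fun m => (h m.asIdeal).toEnd_bijective) (fun m => (h m.asIdeal).ext_self_subsingleton)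

/-- Being dualizing is local for a finite principal cover. -/
theorem isDualizing_of_away {n : ℕ} (f : Fin n → A) (hf : Ideal.span (Set.range f) = ⊤) (K : Dual.D A)
    (h : ∀ j, Dual.IsDualizing (Localization.Away (f j)) ((extD A (Localization.Away (f j))).obj K)) :
    Dual.IsDualizing A K := by
  have hB := fun (M : Type (u + 1)) (_ : AddCommGroup M) (_ : Module A M) hM =>
    subsingleton_of_away f hf M hM
  have hfin : ∀ i, Module.Finite A (Dual.HD A K i) := fun i => by
    classical
    haveI : ∀ r : (Finset.univ.image f : Finset A), IsLocalizedModule.Away r.1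
        (TensorProduct.mk A (Localization.Away r.1) (Dual.HD A K i) 1) := fun r =>
      (isLocalizedModule_iff_isBaseChange (Submonoid.powers r.1) (Localization.Away r.1) _).2
        (TensorProduct.isBaseChange A _ _)
    refine Module.Finite.of_localizationSpan_finite' (Rₚ := fun r => Localization.Away r.1)
      (Mₚ := fun r => Localization.Away r.1 ⊗[A] Dual.HD A K i) (Finset.univ.image f)
      (by rw [Finset.coe_image, Finset.coe_univ, Set.image_univ, hf])
      (fun r => TensorProduct.mk A (Localization.Away r.1) (Dual.HD A K i) 1) ?_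
    rintro ⟨r, hr⟩
    obtain ⟨j, -, rfl⟩ := Finset.mem_image.1 hr
    haveI := (h j).finite_cohomology i
    exact Module.Finite.equiv (HDExtEquiv (B := Localization.Away (f j)) K i).symm
  choose α β hαβ using fun j => (h j).finite_injective_dimension
  obtain ⟨p, hp⟩ : ∃ p : ℤ, ∀ j, p ≤ α j :=
    ⟨-(∑ j, |α j|), fun j => by
      have := Finset.single_le_sum (fun k _ => abs_nonneg (α k)) (Finset.mem_univ j)
      have := neg_abs_le (α j)
      lia⟩
  obtain ⟨q, hq⟩ : ∃ q : ℤ, ∀ j, β j ≤ q :=
    ⟨∑ j, |β j|, fun j => (le_abs_self _).trans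
      (Finset.single_le_sum (fun k _ => abs_nonneg (β k)) (Finset.mem_univ j))⟩
  have hH : ∀ i, (i < p ∨ q < i) → Subsingleton (Dual.HD A K i) := fun i hi => by
    have : Subsingleton (ULift.{u + 1} (Dual.HD A K i)) := hB _ inferInstance inferInstance fun j => by
      haveI : Subsingleton (Dual.HD (Localization.Away (f j))
          ((extD A (Localization.Away (f j))).obj K) i) :=
        haveI := hαβ j (Localization.Away (f j)) i (by
          have := hp j
          have := hq j
          lia)
        (homAEquiv _ i).symm.toEquiv.subsingleton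
      haveI := (HDExtEquiv (B := Localization.Away (f j)) K i).toEquiv.subsingleton
      exact (TensorProduct.congr (LinearEquiv.refl A (Localization.Away (f j)))
        (ULift.moduleEquiv (R := A) (M := Dual.HD A K i))).toEquiv.subsingleton
    exact (Equiv.ulift).symm.subsingleton
  haveI : IsGE K p := isGE_of_HD K p fun i hi => hH i (Or.inl hi)
  haveI : IsLE K q := (isLE_iff K q).2 fun i hi =>
    ModuleCat.isZero_iff_subsingleton.2 (hH i (Or.inr hi))
  refine isDualizing_of_family (fun j => Localization.Away (f j)) (fun M _ _ hM => hB M _ _ hM) K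
    hfin p q ⟨p, q, injDim_of_family (fun j => Localization.Away (f j))
      (fun M _ _ hM => hB M _ _ hM) K p p q fun j M _ _ i hi => hαβ j M i (by
        have := hp j
        have := hq j
        lia)⟩
    (fun j => (h j).toEnd_bijective) (fun j => (h j).ext_self_subsingleton)

/-- Faithfully flat descent of dualizing complexes. -/
theorem isDualizing_of_faithfullyFlat (B : Type u) [CommRing B] [Algebra A B]
    [Module.FaithfullyFlat A B] (K : Dual.D A) (h : Dual.IsDualizing B ((extD A B).obj K)) :
    Dual.IsDualizing A K := by
  have hB : ∀ (M : Type (u + 1)) [AddCommGroup M] [Module A M],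
      (∀ _ : Unit, Subsingleton (B ⊗[A] M)) → Subsingleton M := fun M _ _ hM =>
    haveI := hM ()
    Module.FaithfullyFlat.lTensor_reflects_triviality A B M
  have hfin : ∀ i, Module.Finite A (Dual.HD A K i) := fun i => by
    haveI := h.finite_cohomology i
    haveI := Module.Finite.equiv (HDExtEquiv (B := B) K i).symm
    exact Module.Finite.of_finite_tensorProduct_of_faithfullyFlat B
  obtain ⟨p, q, hpq⟩ := h.finite_injective_dimension
  have hH : ∀ i, (i < p ∨ q < i) → Subsingleton (Dual.HD A K i) := fun i hi => by
    haveI : Subsingleton (Dual.HD B ((extD A B).obj K) i) :=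
      haveI := hpq B i hi
      (homAEquiv _ i).symm.toEquiv.subsingleton
    haveI := (HDExtEquiv (B := B) K i).toEquiv.subsingleton
    exact Module.FaithfullyFlat.lTensor_reflects_triviality A B _
  haveI : IsGE K p := isGE_of_HD K p fun i hi => hH i (Or.inl hi)
  haveI : IsLE K q := (isLE_iff K q).2 fun i hi =>
    ModuleCat.isZero_iff_subsingleton.2 (hH i (Or.inr hi))
  exact isDualizing_of_family (fun _ : Unit => B) hB K hfin p q
    ⟨p, q, injDim_of_family (fun _ : Unit => B) hB K p p q fun _ M _ _ i hi => hpq M i hi⟩
    (fun _ => h.toEnd_bijective) (fun _ => h.ext_self_subsingleton)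

end Groth.DualCore
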