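import Groth.Agent.DualCore.AtPrime
import Groth.Agent.DualCore.Depth
import Mathlib.RingTheory.Regular.RegularSequence

/-!
# Cohen–Macaulay modules and dualizing complexes
-/

set_option autoImplicit false

universe u

open CategoryTheory CategoryTheory.Limits DerivedCategory TensorProduct IsLocalRing
open scoped Pointwise

attribute [local instance] HasDerivedCategory.standard

namespace Groth.DualCore

section Congr

variable {R : Type*} [CommRing R] [IsLocalRing R] {M N : Type*} [AddCommGroup M] [Module R M]
  [AddCommGroup N] [Module R N]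

lemma depth_congr (e : M ≃ₗ[R] N) : LocCoh.depth R M = LocCoh.depth R N := by
  unfold LocCoh.depth LocCoh.idealDepth
  have htop : maximalIdeal R • (⊤ : Submodule R M) = ⊤ ↔ maximalIdeal R • (⊤ : Submodule R N) = ⊤ := by
    rw [← (Submodule.map_injective_of_injective (f := e.toLinearMap) e.injective).eq_iff,
      Submodule.map_smul'', Submodule.map_top, LinearEquiv.range]
  by_cases h : maximalIdeal R • (⊤ : Submodule R M) = ⊤
  · rw [if_pos h, if_pos (htop.1 h)]
  · rw [if_neg h, if_neg (mt htop.2 h)]
    simp only [e.isWeaklyRegular_congr]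

lemma isCM_congr (e : M ≃ₗ[R] N) :
    LocCoh.IsCohenMacaulayModule R M ↔ LocCoh.IsCohenMacaulayModule R N := by
  unfold LocCoh.IsCohenMacaulayModule
  rw [Module.supportDim_eq_of_equiv e, depth_congr e]

lemma depth_eq_top_of_subsingleton [Subsingleton M] : LocCoh.depth R M = ⊤ := by
  unfold LocCoh.depth LocCoh.idealDepth
  rw [if_pos (Subsingleton.elim _ _)]

lemma not_isCM_of_subsingleton [Subsingleton M] : ¬ LocCoh.IsCohenMacaulayModule R M := by
  unfold LocCoh.IsCohenMacaulayModule
  rw [Module.supportDim_eq_bot_of_subsingleton]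
  exact WithBot.bot_ne_coe

end Congr

variable {A : Type u} [CommRing A] [IsNoetherianRing A]

/-- `M` is Cohen–Macaulay iff it is nonzero and `Hom(M, ω⟦i⟧)` lives in a single degree. -/
theorem isCM_iff [IsLocalRing A] {ω : Dual.D A} (hω : Dual.IsDualizing A ω) (M : Type u)
    [AddCommGroup M] [Module A M] [Module.Finite A M] :
    LocCoh.IsCohenMacaulayModule A M ↔ Nontrivial M ∧ ∀ i j : ℤ,
      Nontrivial (Dual.inD A M ⟶ ω⟦i⟧) → Nontrivial (Dual.inD A M ⟶ ω⟦j⟧) → i = j := by
  rcases subsingleton_or_nontrivial M with hM | hM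
  · exact iff_of_false not_isCM_of_subsingleton fun h => (not_nontrivial_iff_subsingleton.2 hM) h.1
  obtain ⟨n, hn, -, -⟩ := exists_normalized hω
  have hω' := isDualizing_shift hω n
  obtain ⟨d, hd⟩ := exists_supportDim_eq A M
  have key : ∀ i, Nontrivial (Dual.inD A M ⟶ ω⟦i⟧) ↔ Nontrivial (Dual.inD A M ⟶ ω⟦n⟧⟦i - n⟧) :=
    fun i => (nontrivial_shift_iff _ _ n i _ (by lia)).symm
  have hdim := nontrivial_hom_supportDim hω' hn M d hd
  constructor
  · intro hcm
    refine ⟨hM, ?_⟩
    have hdep : LocCoh.depth A M = d := (WithBot.coe_injective (hd.symm.trans hcm)).symm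
    obtain ⟨hlow, -⟩ := (depth_eq_iff hω' hn M d).1 hdep
    have single : ∀ i, Nontrivial (Dual.inD A M ⟶ ω⟦i⟧) → i = n - d := by
      intro i hi
      rw [key] at hi
      by_contra hne
      have hrange : ¬(i - n < -(d : ℤ) ∨ 0 < i - n) := fun hc =>
        not_subsingleton _ (hom_le_ringKrullDim hω' hn M hd.le (i - n) hc)
      obtain ⟨δ, hδ⟩ := Int.eq_ofNat_of_zero_le (show 0 ≤ n - i by lia)
      have := hlow δ (by lia)
      rw [show -(δ : ℤ) = i - n by lia] at this
      exact not_subsingleton _ this
    exact fun i j hi hj => (single i hi).trans (single j hj).symm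
  · rintro ⟨-, huniq⟩
    show Module.supportDim A M = _
    have hdep : LocCoh.depth A M = d := by
      refine (depth_eq_iff hω' hn M d).2 ⟨fun δ hδ => ?_, hdim⟩
      by_contra hc
      rw [not_subsingleton_iff_nontrivial, nontrivial_shift_iff _ _ n (n + -(δ : ℤ)) _ rfl] at hc
      rw [nontrivial_shift_iff _ _ n (n + -(d : ℤ)) _ rfl] at hdim
      have := huniq _ _ hc hdim
      lia
    rw [hd, hdep]
    rfl

section Prime

variable (p : Ideal A) [p.IsPrime] {ω : Dual.D A}

/-- `Aₚ ⊗ M ≅ Mₚ`. -/
noncomputable def tensorEquivLocalized (M : Type u) [AddCommGroup M] [Module A M] :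
    Localization.AtPrime p ⊗[A] M ≃ₗ[Localization.AtPrime p] LocalizedModule p.primeCompl M :=
  (IsLocalizedModule.isBaseChange p.primeCompl (Localization.AtPrime p)
    (LocalizedModule.mkLinearMap p.primeCompl M)).equiv

/-- Cohen–Macaulayness of `Mₚ` through supports. -/
theorem isCM_localized_iff (hω : Dual.IsDualizing A ω) (M : Type u) [AddCommGroup M] [Module A M]
    [Module.Finite A M] :
    LocCoh.IsCohenMacaulayModule (Localization.AtPrime p) (LocalizedModule p.primeCompl M) ↔
      Nontrivial (LocalizedModule p.primeCompl M) ∧ ∀ i j : ℤ,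
        Nontrivial (LocalizedModule p.primeCompl (Dual.inD A M ⟶ ω⟦i⟧)) →
        Nontrivial (LocalizedModule p.primeCompl (Dual.inD A M ⟶ ω⟦j⟧)) → i = j := by
  haveI : IsNoetherianRing (Localization.AtPrime p) :=
    IsLocalization.isNoetherianRing p.primeCompl _ inferInstance
  rw [← isCM_congr (tensorEquivLocalized p M), isCM_iff (isDualizing_atPrime p hω),
    mem_support_iff_tensor p M]
  refine and_congr Iff.rfl (forall₂_congr fun i j => ?_)
  rw [nontrivial_localized_hom_iff p hω M i, nontrivial_localized_hom_iff p hω M j]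

/-- The ring version. -/
theorem isCMLocal_iff (hω : Dual.IsDualizing A ω) :
    LocCoh.IsCohenMacaulayLocalRing (Localization.AtPrime p) ↔ ∀ i j : ℤ,
      Nontrivial (LocalizedModule p.primeCompl (Dual.inD A A ⟶ ω⟦i⟧)) →
      Nontrivial (LocalizedModule p.primeCompl (Dual.inD A A ⟶ ω⟦j⟧)) → i = j := by
  haveI : IsNoetherianRing (Localization.AtPrime p) :=
    IsLocalization.isNoetherianRing p.primeCompl _ inferInstance
  let e : LocalizedModule p.primeCompl A ≃ₗ[Localization.AtPrime p] Localization.AtPrime p :=
    (tensorEquivLocalized p A).symm.trans (AlgebraTensorModule.rid A _ _)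
  have h : LocCoh.IsCohenMacaulayLocalRing (Localization.AtPrime p) ↔
      LocCoh.IsCohenMacaulayModule (Localization.AtPrime p) (Localization.AtPrime p) :=
    ⟨fun h => h.supportDim_eq_depth, fun h => { supportDim_eq_depth := h }⟩
  rw [h, ← isCM_congr e, isCM_localized_iff p hω A, and_iff_right e.toEquiv.nontrivial]

end Prime

/-- The non-Cohen–Macaulay points of the support form a closed set. -/
theorem isOpen_single_degree {ω : Dual.D A} (hω : Dual.IsDualizing A ω) (M : Type u)
    [AddCommGroup M] [Module A M] [Module.Finite A M] :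
    IsOpen {p : PrimeSpectrum A | ∀ i j : ℤ,
      Nontrivial (LocalizedModule p.asIdeal.primeCompl (Dual.inD A M ⟶ ω⟦i⟧)) →
      Nontrivial (LocalizedModule p.asIdeal.primeCompl (Dual.inD A M ⟶ ω⟦j⟧)) → i = j} := by
  obtain ⟨a, b, hab⟩ := hω.finite_injective_dimension
  obtain ⟨c, hc⟩ := exists_isGE hω
  have hclosed : ∀ i, IsClosed (Module.support A (Dual.inD A M ⟶ ω⟦i⟧)) := fun i => by
    haveI := finite_hom ω c hω.finite_cohomology i M
    rw [Module.support_eq_zeroLocus]
    exact PrimeSpectrum.isClosed_zeroLocus _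
  let bad : Set (PrimeSpectrum A) := ⋃ x ∈ {x : ℤ × ℤ | x.1 ≠ x.2} ∩ (Set.Icc a b ×ˢ Set.Icc a b),
    Module.support A (Dual.inD A M ⟶ ω⟦x.1⟧) ∩ Module.support A (Dual.inD A M ⟶ ω⟦x.2⟧)
  have hbad : IsClosed bad :=
    Set.Finite.isClosed_biUnion (Set.Finite.inter_of_right ((Set.finite_Icc a b).prod (Set.finite_Icc a b)) _)
      fun x _ => (hclosed x.1).inter (hclosed x.2)
  convert hbad.isOpen_compl using 1
  ext p
  have hin : ∀ i, p ∈ Module.support A (Dual.inD A M ⟶ ω⟦i⟧) → i ∈ Set.Icc a b := by
    intro i hi
    by_contra hout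
    haveI := hab M i (by simp at hout; lia)
    rw [Module.support_eq_empty] at hi
    exact hi
  simp only [bad, Set.mem_ofPred_eq, Set.mem_compl_iff, Set.mem_iUnion, Set.mem_inter_iff,
    Set.mem_prod, exists_prop, Prod.exists, not_exists, not_and, ← Module.mem_support_iff]
  exact ⟨fun h i j hne hi hj => hne.1 (h i j hi hj), fun h i j hi hj => by
    by_contra hne
    exact h i j ⟨hne, hin i hi, hin j hj⟩ hi hj⟩

/-- Every point of the support is a specialisation of a Cohen–Macaulay point. -/
theorem support_subset_closure_CM (M : Type u) [AddCommGroup M] [Module A M] [Module.Finite A M] :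
    Module.support A M ⊆ closure ({p : PrimeSpectrum A |
      LocCoh.IsCohenMacaulayModule (Localization.AtPrime p.asIdeal)
        (LocalizedModule p.asIdeal.primeCompl M)} ∩ Module.support A M) := by
  intro p hp
  rw [Module.support_eq_zeroLocus, PrimeSpectrum.mem_zeroLocus] at hp
  obtain ⟨r, hr, hrp⟩ := Ideal.exists_minimalPrimes_le hp
  let R : PrimeSpectrum A := ⟨r, hr.1.1⟩
  have hR : R ∈ Module.support A M := by
    rw [Module.support_eq_zeroLocus, PrimeSpectrum.mem_zeroLocus]
    exact hr.1.2
  have hle : R ≤ p := hrp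
  refine closure_mono ?_ (PrimeSpectrum.le_iff_mem_closure R p |>.1 hle)
  rw [Set.singleton_subset_iff]
  refine ⟨?_, hR⟩
  haveI := hr.1.1
  let B := Localization.AtPrime r
  haveI : IsNoetherianRing B := IsLocalization.isNoetherianRing r.primeCompl _ inferInstance
  haveI : Nontrivial (LocalizedModule r.primeCompl M) := hR
  -- the support of `M_r` is the closed point
  have hpoint : ∀ q ∈ Module.support B (LocalizedModule r.primeCompl M), q = closedPoint B := by
    intro q hq
    rw [Module.support_eq_zeroLocus, PrimeSpectrum.mem_zeroLocus] at hq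
    have hle : q.asIdeal.comap (algebraMap A B) ≤ r :=
      (Ideal.comap_mono (le_maximalIdeal q.2.ne_top)).trans_eq
        (IsLocalization.AtPrime.under_maximalIdeal B r)
    have hann : Module.annihilator A M ≤ q.asIdeal.comap (algebraMap A B) := by
      intro x hx
      refine hq (Module.mem_annihilator.2 fun z => ?_)
      induction z using LocalizedModule.induction_on with
      | h m s =>
        rw [algebraMap_smul, LocalizedModule.smul'_mk, Module.mem_annihilator.1 hx m,
          LocalizedModule.zero_mk]
    have heq : q.asIdeal.comap (algebraMap A B) = r := le_antisymm hle (hr.2 ⟨inferInstance, hann⟩ hle)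
    apply PrimeSpectrum.ext
    show q.asIdeal = maximalIdeal B
    rw [← IsLocalization.map_under r.primeCompl B q.asIdeal,
      ← IsLocalization.map_under r.primeCompl B (maximalIdeal B)]
    show (q.asIdeal.comap (algebraMap A B)).map _ = ((maximalIdeal B).under A).map _
    rw [heq, IsLocalization.AtPrime.under_maximalIdeal B r]
  have hdim : Module.supportDim B (LocalizedModule r.primeCompl M) = 0 := by
    haveI : Subsingleton (Module.support B (LocalizedModule r.primeCompl M)) :=
      ⟨fun x y => Subtype.ext ((hpoint _ x.2).trans (hpoint _ y.2).symm)⟩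
    haveI : Nonempty (Module.support B (LocalizedModule r.primeCompl M)) :=
      Module.nonempty_support_of_nontrivial.to_subtype
    exact Order.krullDim_eq_zero
  show Module.supportDim B (LocalizedModule r.primeCompl M) = _
  haveI : Module.Finite B (LocalizedModule r.primeCompl M) :=
    Module.Finite.of_isLocalizedModule r.primeCompl (LocalizedModule.mkLinearMap r.primeCompl M)
  have hdep : LocCoh.depth B (LocalizedModule r.primeCompl M) = 0 := by
    unfold LocCoh.depth LocCoh.idealDepth
    rw [if_neg fun htop => top_ne_bot (Submodule.eq_bot_of_le_smul_of_le_jacobson_bot (maximalIdeal B)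
      (⊤ : Submodule B (LocalizedModule r.primeCompl M)) Module.Finite.fg_top htop.ge
      (maximalIdeal_le_jacobson _))]
    refine le_antisymm (iSup₂_le fun rs hrs => ?_) zero_le
    cases rs with
    | nil => simp
    | cons x rs =>
      exfalso
      have hreg := ((RingTheory.Sequence.isWeaklyRegular_cons_iff _ x rs).1 hrs.1).1
      have hxm : x ∈ maximalIdeal B := hrs.2 x List.mem_cons_self
      have h' := Module.supportDim_quotSMulTop_succ_eq_supportDim hreg hxm
      rw [hdim] at h'
      haveI : Nontrivial (QuotSMulTop x (LocalizedModule r.primeCompl M)) := by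
        refine Submodule.Quotient.nontrivial_iff.2 fun htop => top_ne_bot
          (Submodule.eq_bot_of_le_smul_of_le_jacobson_bot (maximalIdeal B)
            (⊤ : Submodule B (LocalizedModule r.primeCompl M)) Module.Finite.fg_top ?_
            (maximalIdeal_le_jacobson _))
        intro w _
        obtain ⟨v, -, rfl⟩ := (Submodule.mem_smul_pointwise_iff_exists w x ⊤).1
          (htop.symm ▸ Submodule.mem_top)
        exact Submodule.smul_mem_smul hxm Submodule.mem_top
      obtain ⟨e, he⟩ := exists_supportDim_eq B (QuotSMulTop x (LocalizedModule r.primeCompl M))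
      rw [he] at h'
      have : e + 1 = 0 := by exact_mod_cast h'
      lia
  rw [hdim, hdep]
  rfl

end Groth.DualCore
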