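import Groth.Agent.DualCore.Unique
import Groth.Agent.Gorenstein.Regular
import Mathlib.Algebra.Homology.DerivedCategory.Ext.Linear

/-!
# Rings of finite self-injective dimension and dualizing complexes
-/

set_option autoImplicit false

universe u

open CategoryTheory CategoryTheory.Limits DerivedCategory IsLocalRing

attribute [local instance] HasDerivedCategory.standard

namespace Groth.DualCore

variable {A : Type u} [CommRing A]

/-- `Extᵏ(M, N)` as morphisms in `D(A)`. -/
noncomputable def extDEquiv (M N : Type u) [AddCommGroup M] [Module A M] [AddCommGroup N]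
    [Module A N] (k : ℕ) :
    Abelian.Ext (ModuleCat.of A M) (ModuleCat.of A N) k ≃ₗ[A]
      (Dual.inD A M ⟶ (Dual.inD A N)⟦(k : ℤ)⟧) :=
  Abelian.Ext.homLinearEquiv

lemma extDEquiv_precomp {M M' N : Type u} [AddCommGroup M] [Module A M] [AddCommGroup M']
    [Module A M'] [AddCommGroup N] [Module A N] (k : ℕ) (g : M' →ₗ[A] M)
    (α : Abelian.Ext (ModuleCat.of A M) (ModuleCat.of A N) k) :
    extDEquiv M' N k ((Abelian.Ext.mk₀ (ModuleCat.ofHom g)).comp α (zero_add k)) =
      inDmap g ≫ extDEquiv M N k α := by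
  show ((Abelian.Ext.mk₀ (ModuleCat.ofHom g)).comp α (zero_add k)).hom = inDmap g ≫ α.hom
  rw [Abelian.Ext.comp_hom, Abelian.Ext.mk₀_hom, ShiftedHom.mk₀_comp]

lemma subsingleton_hom_inD_of_neg (M N : Type u) [AddCommGroup M] [Module A M] [AddCommGroup N]
    [Module A N] (i : ℤ) (hi : i < 0) : Subsingleton (Dual.inD A M ⟶ (Dual.inD A N)⟦i⟧) :=
  subsingleton_hom_of_lt (Dual.inD A N) 0 M i hi

/-- The module `A` is dualizing as soon as it has finite injective dimension. -/
theorem isDualizing_inD_of_injLT [IsNoetherianRing A] {n : ℕ} (h : GrothGoren.InjLT A A n) :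
    Dual.IsDualizing A (Dual.inD A A) where
  isNoetherianRing := inferInstance
  finite_injective_dimension := ⟨0, n, fun M _ _ i hi => by
    rcases hi with hi | hi
    · exact subsingleton_hom_inD_of_neg M A i hi
    · obtain ⟨k, rfl⟩ := Int.eq_ofNat_of_zero_le (show 0 ≤ i by lia)
      haveI := GrothGoren.InjLT.extZ h M (i := k) (by lia)
      exact (extDEquiv M A k).symm.toEquiv.subsingleton⟩
  finite_cohomology := finite_HD_inD A
  toEnd_bijective := by
    refine ⟨fun a b hab => ?_, fun v => ?_⟩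
    · have key : ∀ c : A, c • 𝟙 (Dual.inD A A) = inDmap (c • LinearMap.id : A →ₗ[A] A) := fun c => by
        rw [inDmap_smul, inDmap_id]
      simp only [key] at hab
      have := congrArg ModuleCat.Hom.hom ((singleFunctor (ModuleCat.{u} A) 0).map_injective hab)
      simpa using LinearMap.congr_fun this 1
    · obtain ⟨g, hg⟩ := (singleFunctor (ModuleCat.{u} A) 0).map_surjective v
      refine ⟨g.hom 1, ?_⟩
      show g.hom 1 • 𝟙 (Dual.inD A A) = v
      rw [← inDmap_id, ← inDmap_smul, ← hg]
      show (singleFunctor (ModuleCat.{u} A) 0).map _ = _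
      congr 1
      apply ModuleCat.hom_ext
      apply LinearMap.ext_ring
      simp
  ext_self_subsingleton i hi := by
    rcases lt_or_gt_of_ne hi with h | h
    · exact subsingleton_hom_inD_of_neg A A i h
    · haveI : Subsingleton (Dual.HD A (Dual.inD A A) i) :=
        ModuleCat.isZero_iff_subsingleton.1 (isZero_of_isLE _ 0 i h)
      exact (homAEquiv (Dual.inD A A) i).toEquiv.subsingleton

/-- Conversely, if `A` is dualizing it has finite injective dimension. -/
theorem exists_injLT_of_isDualizing [IsNoetherianRing A] [IsLocalRing A]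
    (h : Dual.IsDualizing A (Dual.inD A A)) : ∃ n, GrothGoren.InjLT A A n := by
  obtain ⟨a, b, hab⟩ := h.finite_injective_dimension
  refine GrothGoren.exists_injLT_iff.2 ⟨b.toNat + 1, fun i hi => ?_⟩
  haveI := hab (ResidueField A) (i : ℤ) (Or.inr (by lia))
  exact (extDEquiv (ResidueField A) A i).toEquiv.subsingleton

/-- An object with cohomology in the single degree `i`. -/
lemma nonempty_iso_of_single_degree (X : Dual.D A) (i : ℤ)
    (h : ∀ j, j ≠ i → Subsingleton (Dual.HD A X j)) :
    Nonempty (X⟦i⟧ ≅ Dual.inD A (Dual.HD A X i)) := by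
  haveI : IsGE X i := isGE_of_HD X i fun j hj => h j hj.ne
  haveI : IsLE X i := (isLE_iff X i).2 fun j hj => ModuleCat.isZero_iff_subsingleton.2 (h j hj.ne')
  obtain ⟨Y, ⟨e⟩⟩ := exists_iso_singleFunctor_obj_of_isGE_of_isLE X i
  let eY : Y ≅ ModuleCat.of A (Dual.HD A X i) :=
    ((singleFunctorCompHomologyFunctorIso (ModuleCat.{u} A) i).app Y).symm ≪≫
      (homologyFunctor (ModuleCat.{u} A) i).mapIso e.symm
  exact ⟨(shiftFunctor (Dual.D A) i).mapIso (e ≪≫ (singleFunctor (ModuleCat.{u} A) i).mapIso eY) ≪≫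
    singleShiftIso (Dual.HD A X i) i⟩

/-- Shifting reindexes cohomology. -/
noncomputable def HDShiftEquiv (X : Dual.D A) (n i j : ℤ) (h : n + i = j) :
    Dual.HD A (X⟦n⟧) i ≃ₗ[A] Dual.HD A X j :=
  ((((homologyFunctor (ModuleCat.{u} A) 0).shiftIso n i j h)).app X).toLinearEquiv

/-- Cohomology of an isomorphic object. -/
noncomputable def HDCongr {X Y : Dual.D A} (e : X ≅ Y) (i : ℤ) :
    Dual.HD A X i ≃ₗ[A] Dual.HD A Y i :=
  ((homologyFunctor (ModuleCat.{u} A) i).mapIso e).toLinearEquiv

lemma subsingleton_HD_inD (M : Type u) [AddCommGroup M] [Module A M] (i : ℤ) (hi : i ≠ 0) :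
    Subsingleton (Dual.HD A (Dual.inD A M) i) := by
  apply ModuleCat.isZero_iff_subsingleton.1
  rcases lt_or_gt_of_ne hi with h | h
  · exact isZero_of_isGE _ 0 i h
  · exact isZero_of_isLE _ 0 i h

/-- `H⁰(M[0]) ≅ M`. -/
noncomputable def HDinDEquiv (M : Type u) [AddCommGroup M] [Module A M] :
    Dual.HD A (Dual.inD A M) 0 ≃ₗ[A] M :=
  ((singleFunctorCompHomologyFunctorIso (ModuleCat.{u} A) 0).app (ModuleCat.of A M)).toLinearEquiv

variable [IsNoetherianRing A] [IsLocalRing A]

/-- For a local ring with dualizing complex, finite self-injective dimension means that the complex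
has cohomology in one degree, free of rank one. -/
theorem exists_injLT_iff_single_degree {ω : Dual.D A} (hω : Dual.IsDualizing A ω) :
    (∃ n, GrothGoren.InjLT A A n) ↔
      ∃ i, (∀ j, j ≠ i → Subsingleton (Dual.HD A ω j)) ∧ Nonempty (Dual.HD A ω i ≃ₗ[A] A) := by
  constructor
  · rintro ⟨n, hn⟩
    obtain ⟨m, ⟨e⟩⟩ := exists_shift_iso (isDualizing_inD_of_injLT hn) hω
    refine ⟨-m, fun j hj => ?_, ⟨(HDCongr e (-m)).trans ((HDShiftEquiv _ m (-m) 0 (by lia)).trans
      (HDinDEquiv A))⟩⟩
    haveI := subsingleton_HD_inD (A := A) A (m + j) (by lia)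
    exact ((HDCongr e j).trans (HDShiftEquiv _ m j (m + j) rfl)).toEquiv.subsingleton
  · rintro ⟨i, hi, ⟨e⟩⟩
    obtain ⟨f⟩ := nonempty_iso_of_single_degree ω i hi
    exact exists_injLT_of_isDualizing (isDualizing_of_iso
      (f ≪≫ (singleFunctor (ModuleCat.{u} A) 0).mapIso e.toModuleIso) (isDualizing_shift hω i))

/-- On a local ring with finite self-injective dimension `d = dim A`, `A[d]` is normalized. -/
theorem hasResidue_inD_shift {n : ℕ} (hn : GrothGoren.InjLT A A n) (d : ℕ) (hd : ringKrullDim A = d) :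
    HasResidue ((Dual.inD A A)⟦(d : ℤ)⟧) := by
  obtain ⟨m, hm⟩ := exists_hasResidue (isDualizing_inD_of_injLT hn)
  have hω := isDualizing_shift (isDualizing_inD_of_injLT hn) m
  have h := nontrivial_hom_supportDim hω hm.isNormalized A d
    ((Module.supportDim_self_eq_ringKrullDim A).trans hd)
  rw [nontrivial_shift_iff _ _ m (m + -(d : ℤ)) _ rfl,
    (homAEquiv (Dual.inD A A) _).toEquiv.nontrivial_congr] at h
  have hmd : m + -(d : ℤ) = 0 := by
    by_contra hne
    haveI := subsingleton_HD_inD (A := A) A _ hne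
    exact not_subsingleton (Dual.HD A (Dual.inD A A) (m + -(d : ℤ))) inferInstance
  rwa [show (d : ℤ) = m by lia]

end Groth.DualCore
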