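import Groth.Agent.DualCore.FibreRings
import Groth.Agent.S9408
import Mathlib.RingTheory.Smooth.Flat
import Mathlib.RingTheory.Smooth.StandardSmoothOfFree

/-!
# Smooth base change of dualizing complexes
-/

set_option autoImplicit false

universe u

open CategoryTheory TensorProduct

attribute [local instance] HasDerivedCategory.standard

namespace Groth.DualCore

/-- **Smooth base change.** -/
theorem isDualizing_extD_of_smooth {A B : Type u} [CommRing A] [IsNoetherianRing A] [CommRing B]
    [Algebra A B] [Algebra.Smooth A B] [Module.Flat A B] {ω : Dual.D A} (hω : Dual.IsDualizing A ω) :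
    Dual.IsDualizing B ((extD A B).obj ω) := by
  haveI : IsNoetherianRing B := Algebra.FiniteType.isNoetherianRing A B
  obtain ⟨N, hN⟩ := exists_fibre_dim_bound A B
  exact isDualizing_extD_of_regular_fibre hω N (fun p _ => hN p)
    fun p _ => Groth.Agent.S9408.isRegularRing_of_smooth p.ResidueField _

end Groth.DualCore
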