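import Groth.Prelude.Def_Wider
import Groth.Prelude.Def_DDual2
import Mathlib.Algebra.Category.ModuleCat.Descent
import Mathlib.Algebra.Homology.DerivedCategory.ExactFunctor
import Mathlib.Algebra.Homology.DerivedCategory.Linear
import Mathlib.CategoryTheory.Functor.Derived.PointwiseLeftDerived

/-!
# Flat base change as an exact functor on derived categories
-/

set_option autoImplicit false

universe u

open CategoryTheory CategoryTheory.Limits DerivedCategory TensorProduct

attribute [local instance] HasDerivedCategory.standard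

namespace Groth.DualCore

variable (A B : Type u) [CommRing A] [CommRing B] [Algebra A B]

/-- Extension of scalars. -/
noncomputable abbrev ext : ModuleCat.{u} A ⥤ ModuleCat.{u} B :=
  ModuleCat.extendScalars.{u, u, u} (algebraMap A B)

instance ext_preservesFiniteColimits : PreservesFiniteColimits (ext A B) :=
  haveI : PreservesColimitsOfSize.{0, 0} (ext A B) :=
    (ModuleCat.extendRestrictScalarsAdj (algebraMap A B)).leftAdjoint_preservesColimits
  inferInstance

instance ext_preservesFiniteLimits [Module.Flat A B] : PreservesFiniteLimits (ext A B) :=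
  ModuleCat.preservesFiniteLimits_extendScalars_of_flat
    (RingHom.flat_algebraMap_iff.2 inferInstance)

/-- `B` as a restricted module is `B` with the algebra structure. -/
noncomputable def restrictSelf :
    B ≃ₗ[A] ((ModuleCat.restrictScalars (algebraMap A B)).obj (ModuleCat.of B B) : Type u) where
  toFun b := b
  invFun b := b
  left_inv _ := rfl
  right_inv _ := rfl
  map_add' _ _ := rfl
  map_smul' r b := Algebra.smul_def r b

variable {A B}

/-- `B ⊗ M ≃ ext M`. -/
noncomputable def extEquiv (M : ModuleCat.{u} A) : B ⊗[A] M ≃ₗ[B] ((ext A B).obj M : Type u) :=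
  { TensorProduct.congr (restrictSelf A B) (LinearEquiv.refl A M) with
    toFun := TensorProduct.congr (restrictSelf A B) (LinearEquiv.refl A M)
    map_add' := fun x y => map_add _ x y
    map_smul' := fun b x => by
      induction x using TensorProduct.induction_on with
      | zero =>
        rw [smul_zero, map_zero]
        exact (smul_zero (A := ((ext A B).obj M : Type u)) b).symm
      | tmul b' m => rfl
      | add x y hx hy =>
        rw [smul_add, map_add, hx, hy, map_add]
        exact (smul_add (A := ((ext A B).obj M : Type u)) b _ _).symm }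

lemma ext_map_extEquiv {M N : ModuleCat.{u} A} (g : M ⟶ N) (x : B ⊗[A] M) :
    ((ext A B).map g).hom (extEquiv M x) = extEquiv N (g.hom.baseChange B x) := by
  induction x using TensorProduct.induction_on with
  | zero => simp
  | tmul b m => rfl
  | add x y hx hy => rw [map_add, map_add, map_add, map_add, hx, hy]

/-- The unit `M → ext M`, `m ↦ 1 ⊗ m`. -/
noncomputable def sharp (M : ModuleCat.{u} A) (m : M) : ((ext A B).obj M : Type u) :=
  extEquiv M (1 ⊗ₜ[A] m)

lemma ext_map_sharp {M N : ModuleCat.{u} A} (g : M ⟶ N) (m : M) :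
    ((ext A B).map g).hom (sharp (B := B) M m) = sharp (B := B) N (g.hom m) :=
  ext_map_extEquiv g _

lemma ext_hom_ext {M : ModuleCat.{u} A} {N : ModuleCat.{u} B} {f g : (ext A B).obj M ⟶ N}
    (h : ∀ m, f.hom (sharp (B := B) M m) = g.hom (sharp (B := B) M m)) : f = g :=
  ModuleCat.ExtendScalars.hom_ext h

lemma ext_map_smul_id (r : A) (M : ModuleCat.{u} A) :
    (ext A B).map (r • 𝟙 M) = algebraMap A B r • 𝟙 ((ext A B).obj M) := by
  apply ext_hom_ext
  intro m
  rw [ext_map_sharp]
  show sharp (B := B) M (r • m) = algebraMap A B r • sharp (B := B) M m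
  rw [sharp, sharp, TensorProduct.tmul_smul, ← algebraMap_smul B r (1 ⊗ₜ[A] m : B ⊗[A] M),
    map_smul]

variable [Module.Flat A B]

variable (A B) in
/-- Flat base change on derived categories. -/
noncomputable abbrev extD : Dual.D A ⥤ Dual.D B := (ext A B).mapDerivedCategory

lemma extD_map_smul_id (r : A) (Y : Dual.D A) :
    (extD A B).map (r • 𝟙 Y) = algebraMap A B r • 𝟙 ((extD A B).obj Y) := by
  let e : Q.obj (Q.objPreimage Y) ≅ Y := Q.objObjPreimageIso Y
  have h1 : r • 𝟙 Y = e.inv ≫ Q.map (r • 𝟙 (Q.objPreimage Y)) ≫ e.hom := by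
    rw [Functor.map_smul, CategoryTheory.Functor.map_id, Linear.smul_comp, Category.id_comp,
      Linear.comp_smul, e.inv_hom_id]
  have h2 : (extD A B).map (Q.map (r • 𝟙 (Q.objPreimage Y))) =
      algebraMap A B r • 𝟙 ((extD A B).obj (Q.obj (Q.objPreimage Y))) := by
    let fac := (ext A B).mapDerivedCategoryFactors
    have h3 : ((ext A B).mapHomologicalComplex (ComplexShape.up ℤ)).map (r • 𝟙 (Q.objPreimage Y)) =
        algebraMap A B r • 𝟙 _ := by
      ext n : 1
      exact ext_map_smul_id r _
    rw [← cancel_mono (fac.hom.app _)]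
    refine ((ext A B).mapDerivedCategoryFactors_hom_naturality _).trans ?_
    rw [h3, Functor.map_smul, CategoryTheory.Functor.map_id, Linear.comp_smul, Linear.smul_comp]
    erw [Category.comp_id, Category.id_comp]
  rw [h1, Functor.map_comp, Functor.map_comp, h2, Linear.smul_comp, Category.id_comp,
    Linear.comp_smul, ← Functor.map_comp, e.inv_hom_id, CategoryTheory.Functor.map_id]

lemma extD_map_smul {X Y : Dual.D A} (r : A) (f : X ⟶ Y) :
    (extD A B).map (r • f) = algebraMap A B r • (extD A B).map f := by
  rw [← Category.comp_id f, ← Linear.comp_smul, Functor.map_comp, extD_map_smul_id, Linear.comp_smul,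
    Category.comp_id, Category.comp_id]

variable (A B) in
/-- Base change of cocycle complexes commutes with homology. -/
noncomputable def extHomologyIsoCx (n : ℤ) :
    (ext A B).mapHomologicalComplex (ComplexShape.up ℤ) ⋙
        HomologicalComplex.homologyFunctor (ModuleCat.{u} B) (ComplexShape.up ℤ) n ≅
      HomologicalComplex.homologyFunctor (ModuleCat.{u} A) (ComplexShape.up ℤ) n ⋙ ext A B :=
  NatIso.ofComponents (fun K => (K.sc n).mapHomologyIso (ext A B))
    (fun {K L} f => ShortComplex.mapHomologyIso_hom_naturality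
      ((HomologicalComplex.shortComplexFunctor (ModuleCat.{u} A) (ComplexShape.up ℤ) n).map f) (ext A B))

variable (A B) in
/-- `Hⁿ(X ⊗ B) ≅ Hⁿ(X) ⊗ B`. -/
noncomputable def extHomologyIso (n : ℤ) :
    extD A B ⋙ homologyFunctor (ModuleCat.{u} B) n ≅
      homologyFunctor (ModuleCat.{u} A) n ⋙ ext A B :=
  letI : Localization.Lifting Q (HomologicalComplex.quasiIso (ModuleCat.{u} A) (ComplexShape.up ℤ))
      ((ext A B).mapHomologicalComplex (ComplexShape.up ℤ) ⋙
        HomologicalComplex.homologyFunctor (ModuleCat.{u} B) (ComplexShape.up ℤ) n)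
      (extD A B ⋙ homologyFunctor (ModuleCat.{u} B) n) :=
    ⟨(Functor.associator _ _ _).symm ≪≫
      Functor.isoWhiskerRight (ext A B).mapDerivedCategoryFactors _ ≪≫ Functor.associator _ _ _ ≪≫
      Functor.isoWhiskerLeft _ (homologyFunctorFactors (ModuleCat.{u} B) n)⟩
  letI : Localization.Lifting Q (HomologicalComplex.quasiIso (ModuleCat.{u} A) (ComplexShape.up ℤ))
      (HomologicalComplex.homologyFunctor (ModuleCat.{u} A) (ComplexShape.up ℤ) n ⋙ ext A B)
      (homologyFunctor (ModuleCat.{u} A) n ⋙ ext A B) :=
    ⟨(Functor.associator _ _ _).symm ≪≫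
      Functor.isoWhiskerRight (homologyFunctorFactors (ModuleCat.{u} A) n) _⟩
  Localization.liftNatIso Q (HomologicalComplex.quasiIso (ModuleCat.{u} A) (ComplexShape.up ℤ))
    _ _ _ _ (extHomologyIsoCx A B n)

/-- `Hⁿ` of the base change, as a tensor product. -/
noncomputable def HDExtEquiv (X : Dual.D A) (n : ℤ) :
    B ⊗[A] Dual.HD A X n ≃ₗ[B] Dual.HD B ((extD A B).obj X) n :=
  (extEquiv _).trans ((extHomologyIso A B n).app X).toLinearEquiv.symm

lemma HDExtEquiv_naturality {X Y : Dual.D A} (f : X ⟶ Y) (n : ℤ) (x : B ⊗[A] Dual.HD A X n) :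
    ((homologyFunctor (ModuleCat.{u} B) n).map ((extD A B).map f)).hom (HDExtEquiv X n x) =
      HDExtEquiv Y n (((homologyFunctor (ModuleCat.{u} A) n).map f).hom.baseChange B x) := by
  have := ConcreteCategory.congr_hom ((extHomologyIso A B n).inv.naturality f) (extEquiv _ x)
  refine this.symm.trans ?_
  exact congrArg _ (ext_map_extEquiv _ x)

variable (A B) in
/-- For flat `A → B` the derived base change exists and is `extD`. -/
theorem hasLBaseChange : DRing.HasLBaseChange (algebraMap A B) :=
  haveI := Functor.isLeftDerivedFunctor_of_inverts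
    (HomotopyCategory.quasiIso (ModuleCat.{u} A) (ComplexShape.up ℤ)) (extD A B)
    (ext A B).mapDerivedCategoryFactorsh
  Functor.HasLeftDerivedFunctor.mk' (extD A B) (ext A B).mapDerivedCategoryFactorsh.hom

variable (A B) in
/-- `LBaseChange ≅ extD` for flat `A → B`. -/
noncomputable def LBaseChangeIso [DRing.HasLBaseChange (algebraMap A B)] :
    DRing.LBaseChange (algebraMap A B) ≅ extD A B :=
  haveI := Functor.isLeftDerivedFunctor_of_inverts
    (HomotopyCategory.quasiIso (ModuleCat.{u} A) (ComplexShape.up ℤ)) (extD A B)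
    (ext A B).mapDerivedCategoryFactorsh
  Functor.leftDerivedUnique (F := DRing.baseChangeKh (algebraMap A B)) (L := Qh)
    (LF := DRing.LBaseChange (algebraMap A B)) (LF' := extD A B)
    (α := (DRing.baseChangeKh (algebraMap A B)).totalLeftDerivedCounit Qh
      (HomotopyCategory.quasiIso (ModuleCat.{u} A) (ComplexShape.up ℤ)))
    (α'₂ := (ext A B).mapDerivedCategoryFactorsh.hom)
    (HomotopyCategory.quasiIso (ModuleCat.{u} A) (ComplexShape.up ℤ))

end Groth.DualCore
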