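import Groth.Agent.DualCore.FibreCodim
import Groth.Agent.Calg4.RegularAscent
import Groth.Agent.PropsBasic.CMLocalize
import Groth.Agent.Ega4Algebra1.DimFormulaCatenary
import Groth.Agent.Ega4Algebra2.CMUnmixed
import Groth.Agent.Ega4Algebra2.CMEquiv
import Groth.Prelude.Def_Dual3

/-!
Long regular sequences in the ideal of a closed subscheme of affine space over a Cohen–Macaulay base.
-/

set_option autoImplicit false
set_option linter.style.haveILetI false

universe u

open CategoryTheory IsLocalRing RingTheory.Sequence AlgebraicGeometry TensorProduct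

namespace Groth.DualCore

/-- The transcendence degree of the residue fields of a map of affine schemes. -/
theorem resTrdeg_spec {R A : Type u} [CommRing R] [CommRing A] [Algebra R A] (x : PrimeSpectrum A) :
    letI := (Ideal.ResidueField.map (x.asIdeal.comap (algebraMap R A)) x.asIdeal (algebraMap R A) rfl).toAlgebra
    Dual3.resTrdeg (Spec.map (CommRingCat.ofHom (algebraMap R A))) x =
      Algebra.trdeg (x.asIdeal.comap (algebraMap R A)).ResidueField x.asIdeal.ResidueField := by
  let f := Spec.map (CommRingCat.ofHom (algebraMap R A))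
  let m := Ideal.ResidueField.map (x.asIdeal.comap (algebraMap R A)) x.asIdeal (algebraMap R A) rfl
  letI : Algebra (x.asIdeal.comap (algebraMap R A)).ResidueField x.asIdeal.ResidueField := m.toAlgebra
  letI : Algebra ((Spec (CommRingCat.of R)).residueField (f x)) ((Spec (CommRingCat.of A)).residueField x) :=
    (f.residueFieldMap x).hom.toAlgebra
  let iR : (Spec (CommRingCat.of R)).residueField (f x) ≅ CommRingCat.of (x.asIdeal.comap (algebraMap R A)).ResidueField :=
    Scheme.Spec.residueFieldIso (CommRingCat.of R) (f x)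
  let iA := Scheme.Spec.residueFieldIso (CommRingCat.of A) x
  have h : f.residueFieldMap x ≫ iA.hom = iR.hom ≫ CommRingCat.ofHom m := by
    rw [← Iso.inv_comp_eq]
    refine CommRingCat.hom_ext (Ideal.ResidueField.ringHom_ext (RingHom.ext fun r => ?_))
    have h1 : CommRingCat.ofHom (algebraMap R (x.asIdeal.comap (algebraMap R A)).ResidueField) ≫ iR.inv ≫
        f.residueFieldMap x ≫ iA.hom =
        CommRingCat.ofHom (algebraMap R A) ≫ CommRingCat.ofHom (algebraMap A x.asIdeal.ResidueField) := by
      rw [← cancel_mono iA.inv]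
      simp only [Category.assoc, Iso.hom_inv_id, Category.comp_id]
      apply Spec.map_injective
      simp only [Spec.map_comp, Category.assoc]
      have e1 := Scheme.Spec.map_residueFieldIso_inv_eq_fromSpecResidueField (R := CommRingCat.of R) (f x)
      have e2 := Scheme.Hom.SpecMap_residueFieldMap_fromSpecResidueField f x
      have e3 := Scheme.Spec.map_residueFieldIso_inv_eq_fromSpecResidueField (R := CommRingCat.of A) x
      exact (congrArg (Spec.map _ ≫ ·) e1).trans
        (e2.trans ((congrArg (· ≫ f) e3).symm.trans (Category.assoc _ _ _)))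
    exact (RingHom.congr_fun (congrArg CommRingCat.Hom.hom h1) r).trans (Ideal.ResidueField.map_algebraMap (x.asIdeal.comap (algebraMap R A)) x.asIdeal (algebraMap R A) rfl r).symm
  refine Groth.Ega4Algebra1.trdeg_eq_of_compatible_ringEquiv iR.commRingCatIsoToRingEquiv
    iA.commRingCatIsoToRingEquiv fun r => ?_
  exact (RingHom.congr_fun (congrArg CommRingCat.Hom.hom h) r).symm

/-- The dimension at the image of a point of a closed subscheme of a variety, from its residue field. -/
theorem exists_trdeg_dim {k B C K₀ : Type u} [Field k] [CommRing B] [CommRing C] [Field K₀] [Algebra k B]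
    [Algebra k C] [Algebra k K₀] [Algebra.FiniteType k B] [Algebra.FiniteType k C] (π : B →ₐ[k] C)
    (hπ : Function.Surjective π) (Q : Ideal C) [Q.IsPrime] (g : K₀ →+* Q.ResidueField) (hg : Function.Bijective g)
    (hgk : ∀ a : k, g (algebraMap k K₀ a) = algebraMap C Q.ResidueField (algebraMap k C a)) (n : ℕ)
    (hn : FlatMor.localDim (PrimeSpectrum B) ⟨Q.comap π.toRingHom, inferInstance⟩ = n) :
    ∃ t : ℕ, Algebra.trdeg k K₀ = t ∧
      (n : WithBot ℕ∞) = ringKrullDim (Localization.AtPrime (Q.comap π.toRingHom)) + (t : WithBot ℕ∞) := by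
  obtain ⟨t, ht⟩ := Groth.Syntomic.exists_trdeg_residueField_eq (k := k) C Q
  have hbij : Function.Bijective (Ideal.ResidueField.mapₐ (Q.comap π.toRingHom) Q π rfl) :=
    RingHom.SurjectiveOnStalks.residueFieldMap_bijective
      (RingHom.surjectiveOnStalks_of_surjective hπ) (Q.comap π.toRingHom) Q rfl
  refine ⟨t, ?_, hn.symm.trans (Groth.Agent.S2141.result (Q.comap π.toRingHom) t
    ((AlgEquiv.ofBijective _ hbij).trdeg_eq.trans ht))⟩
  rw [← ht]
  refine Groth.Ega4Algebra1.trdeg_eq_of_compatible_ringEquiv (RingEquiv.refl k) (RingEquiv.ofBijective g hg) fun a => ?_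
  exact ((hgk a).trans (IsScalarTower.algebraMap_apply k C Q.ResidueField a).symm).symm

variable {R A : Type u} [CommRing R] [CommRing A] [IsNoetherianRing R] [IsNoetherianRing A] [Algebra R A]
  (n : ℕ) [Algebra (MvPolynomial (Fin n) R) A] [IsScalarTower R (MvPolynomial (Fin n) R) A]

omit [IsNoetherianRing R] [IsNoetherianRing A] in
/-- The minimal primes of `A` have height at least `n - r` in affine space. -/
theorem le_height_of_minimalPrimes (hsurj : Function.Surjective (algebraMap (MvPolynomial (Fin n) R) A))
    (r : ℕ) (q₀ : Ideal A) [q₀.IsPrime]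
    (hr : Dual3.resTrdeg (Spec.map (CommRingCat.ofHom (algebraMap R A))) ⟨q₀, inferInstance⟩ ≤ (r : Cardinal.{u})) :
    ((n - r : ℕ) : ℕ∞) ≤ (q₀.comap (algebraMap (MvPolynomial (Fin n) R) A)).height := by
  let P := MvPolynomial (Fin n) R
  let q' := q₀.comap (algebraMap P A)
  let p := q₀.comap (algebraMap R A)
  let k := p.ResidueField
  let C := p.Fiber A
  let Pk := p.Fiber P
  let π : Pk →ₐ[k] C := Algebra.TensorProduct.map (AlgHom.id k k) (IsScalarTower.toAlgHom R P A)
  have hπ : Function.Surjective π := Algebra.TensorProduct.map_surjective _ _ Function.surjective_id hsurj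
  haveI : Algebra.FiniteType R A := Algebra.FiniteType.of_surjective (IsScalarTower.toAlgHom R P A) hsurj
  let E := PrimeSpectrum.preimageHomeomorphFiber R A ⟨p, inferInstance⟩
  let Qs : PrimeSpectrum C := E ⟨⟨q₀, inferInstance⟩, rfl⟩
  let Q := Qs.asIdeal
  have hQ : Q.comap (Algebra.TensorProduct.includeRight : A →ₐ[R] C) = q₀ :=
    congrArg (fun y => y.1.asIdeal) (E.symm_apply_apply ⟨⟨q₀, inferInstance⟩, rfl⟩)
  let Q' : Ideal Pk := Q.comap π.toRingHom
  have hQ' : Q'.comap (Algebra.TensorProduct.includeRight : P →ₐ[R] Pk) = q' := by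
    refine Eq.trans ?_ (congrArg (Ideal.comap (algebraMap P A)) hQ)
    ext x
    simp only [Q', Ideal.mem_comap, Algebra.TensorProduct.includeRight_apply]
    rfl
  -- residue fields
  let ι : A →+* C := (Algebra.TensorProduct.includeRight : A →ₐ[R] C).toRingHom
  have hι : ι.SurjectiveOnStalks := p.surjectiveOnStalks_residueField.baseChange'
  have hbij : Function.Bijective (Ideal.ResidueField.map q₀ Q ι hQ.symm) :=
    RingHom.SurjectiveOnStalks.residueFieldMap_bijective hι q₀ Q hQ.symm
  letI : Algebra k q₀.ResidueField := (Ideal.ResidueField.map p q₀ (algebraMap R A) rfl).toAlgebra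
  obtain ⟨t, htr, hP⟩ := exists_trdeg_dim π hπ Q _ hbij (fun a => by
    revert a
    refine RingHom.congr_fun (f := (Ideal.ResidueField.map q₀ Q ι hQ.symm).comp (Ideal.ResidueField.map p q₀ (algebraMap R A) rfl))
      (g := (algebraMap C Q.ResidueField).comp (algebraMap k C)) (Ideal.ResidueField.ringHom_ext (RingHom.ext fun x => ?_))
    refine ((congrArg (Ideal.ResidueField.map q₀ Q ι hQ.symm)
      (Ideal.ResidueField.map_algebraMap p q₀ (algebraMap R A) rfl x)).trans
      (Ideal.ResidueField.map_algebraMap q₀ Q ι hQ.symm _)).trans (congrArg (algebraMap C Q.ResidueField) ?_)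
    exact ((Algebra.TensorProduct.includeRight : A →ₐ[R] C).commutes x).trans
      (IsScalarTower.algebraMap_apply R k C x)) n (localDim_fibre_mvPolynomial p n _)
  have htr' : t ≤ r := by
    have h := hr
    rw [resTrdeg_spec (⟨q₀, inferInstance⟩ : PrimeSpectrum A)] at h
    have h2 : (t : Cardinal.{u}) ≤ r := htr ▸ h
    exact_mod_cast h2
  obtain ⟨eP⟩ := nonempty_fibre_equiv_quot p Q' q' hQ'
  have h1 : ringKrullDim (Localization.AtPrime Q') ≤ ringKrullDim (Localization.AtPrime q') :=
    (ringKrullDim_eq_of_ringEquiv eP).trans_le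
      (ringKrullDim_le_of_surjective (Ideal.Quotient.mk _) Ideal.Quotient.mk_surjective)
  rw [IsLocalization.AtPrime.ringKrullDim_eq_height q'] at h1
  show ((n - r : ℕ) : ℕ∞) ≤ q'.height
  cases hd : q'.height with
  | top => exact le_top
  | coe d =>
    rw [hd] at h1
    have h2 : (n : WithBot ℕ∞) ≤ (d : WithBot ℕ∞) + (t : WithBot ℕ∞) := hP.trans_le (add_le_add_left h1 _)
    rw [← Nat.cast_add] at h2
    have h3 : n ≤ d + t := by exact_mod_cast h2
    exact_mod_cast (show n - r ≤ d by omega)

set_option maxHeartbeats 400000 in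
/-- **Over a Cohen–Macaulay point of the base, the ideal contains a regular sequence of length `n - r`.** -/
theorem exists_isWeaklyRegular_ker_of_CM (hsurj : Function.Surjective (algebraMap (MvPolynomial (Fin n) R) A))
    (p : Ideal R) [p.IsPrime] [LocCoh.IsCohenMacaulayLocalRing (Localization.AtPrime p)] (r : ℕ)
    (hr : ∀ q : PrimeSpectrum A, q.asIdeal ∈ minimalPrimes A →
      Dual3.resTrdeg (Spec.map (CommRingCat.ofHom (algebraMap R A))) q ≤ (r : Cardinal.{u}))
    (q : Ideal A) [q.IsPrime] (hq : q.comap (algebraMap R A) ≤ p) :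
    LocCoh.IsCohenMacaulayLocalRing (Localization.AtPrime (q.comap (algebraMap (MvPolynomial (Fin n) R) A))) ∧
    ∃ l : List (Localization.AtPrime (q.comap (algebraMap (MvPolynomial (Fin n) R) A))),
      l.length = n - r ∧ IsWeaklyRegular (Localization.AtPrime (q.comap (algebraMap (MvPolynomial (Fin n) R) A))) l ∧
        ∀ x ∈ l, x ∈ (RingHom.ker (algebraMap (MvPolynomial (Fin n) R) A)).map
          (algebraMap (MvPolynomial (Fin n) R)
            (Localization.AtPrime (q.comap (algebraMap (MvPolynomial (Fin n) R) A)))) := by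
  let P := MvPolynomial (Fin n) R
  let q' := q.comap (algebraMap P A)
  let S := Localization.AtPrime q'
  let p' := q'.comap (algebraMap R P)
  have hp' : p' ≤ p := by
    refine le_of_eq_of_le ?_ hq
    show (q.comap (algebraMap P A)).comap (algebraMap R P) = _
    rw [Ideal.comap_comap, ← IsScalarTower.algebraMap_eq]
  haveI : IsNoetherianRing S := IsLocalization.isNoetherianRing q'.primeCompl _ inferInstance
  -- the base is CM at `p'`
  let Rp := Localization.AtPrime p
  have hd : Disjoint (p.primeCompl : Set R) p' := Set.disjoint_left.mpr fun x hx hxq => hx (hp' hxq)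
  let p'' : Ideal Rp := p'.map (algebraMap R Rp)
  haveI : p''.IsPrime := IsLocalization.isPrime_of_isPrime_disjoint p.primeCompl _ _ inferInstance hd
  have hp'' : p''.comap (algebraMap R Rp) = p' :=
    IsLocalization.comap_map_of_isPrime_disjoint p.primeCompl _ inferInstance hd
  have hCM1 := Groth.PropsBasic.isCohenMacaulayLocalRing_localization
    (inferInstanceAs (LocCoh.IsCohenMacaulayLocalRing Rp)) p''
  haveI : IsLocalization.AtPrime (Localization.AtPrime p'') p' := by
    have := IsLocalization.isLocalization_isLocalization_atPrime_isLocalization p.primeCompl (Localization.AtPrime p'') p''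
    simp only [Ideal.under, hp''] at this
    exact this
  let Rp' := Localization.AtPrime p'
  haveI hCM2 : LocCoh.IsCohenMacaulayLocalRing Rp' :=
    Groth.Ega4b.isCohenMacaulayLocalRing_of_ringEquiv
      (IsLocalization.algEquiv p'.primeCompl (Localization.AtPrime p'') Rp').toRingEquiv hCM1
  -- ascend
  letI : Algebra Rp' S := (Localization.localRingHom p' q' (algebraMap R P) rfl).toAlgebra
  haveI : IsScalarTower R Rp' S := IsScalarTower.of_algebraMap_eq fun x => by
    show _ = Localization.localRingHom p' q' (algebraMap R P) rfl (algebraMap R Rp' x)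
    rw [Localization.localRingHom_to_map, ← IsScalarTower.algebraMap_apply]
  haveI : IsLocalHom (algebraMap Rp' S) := Localization.isLocalHom_localRingHom _ _ _ _
  haveI : Module.Flat Rp' S :=
    (RingHom.Flat.localRingHom (f := algebraMap R P) (RingHom.flat_algebraMap_iff.2 inferInstance) q' p' rfl :)
  haveI hS : LocCoh.IsCohenMacaulayLocalRing S := by
    refine Groth.Calg4.isCohenMacaulayLocalRing_of_flat Rp' S hCM2 ?_
    rw [← Localization.AtPrime.map_eq_maximalIdeal, Ideal.map_map, ← IsScalarTower.algebraMap_eq]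
    let Qs := PrimeSpectrum.preimageHomeomorphFiber R P ⟨p', inferInstance⟩ ⟨⟨q', inferInstance⟩, rfl⟩
    have hQ : Qs.asIdeal.comap (Algebra.TensorProduct.includeRight : P →ₐ[R] p'.Fiber P) = q' :=
      congrArg (fun y => y.1.asIdeal)
        ((PrimeSpectrum.preimageHomeomorphFiber R P ⟨p', inferInstance⟩).symm_apply_apply ⟨⟨q', inferInstance⟩, rfl⟩)
    obtain ⟨eP⟩ := nonempty_fibre_equiv_quot p' Qs.asIdeal q' hQ
    haveI := isRegularLocalRing_fibre_mvPolynomial p' n Qs.asIdeal
    haveI : IsRegularLocalRing (S ⧸ p'.map (algebraMap R S)) :=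
      IsRegularLocalRing.of_ringEquiv (R := Localization.AtPrime Qs.asIdeal) (R' := (S ⧸ p'.map (algebraMap R S))) eP
    exact Groth.Calg4.isCohenMacaulayLocalRing_of_isRegularLocalRing _
  refine ⟨hS, ?_⟩
  let J : Ideal S := (RingHom.ker (algebraMap P A)).map (algebraMap P S)
  have hJ : J ≤ maximalIdeal S :=
    IsLocalRing.le_maximalIdeal (Groth.KoszulLCI.map_atPrime_ne_top (Ideal.ker_le_comap _))
  obtain ⟨l, hlen, hlJ, hl⟩ := exists_isWeaklyRegular_mem J hJ (n - r) S hS.supportDim_eq_depth fun T hT hJT _ => by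
    -- a minimal prime below
    haveI := hT
    let T' := T.comap (algebraMap P S)
    have hker : RingHom.ker (algebraMap P A) ≤ T' := Ideal.map_le_iff_le_comap.1 hJT
    let qA : Ideal A := T'.map (algebraMap P A)
    haveI : qA.IsPrime := Ideal.map_isPrime_of_surjective hsurj hker
    obtain ⟨q₀, hq₀, hq₀le⟩ := Ideal.exists_minimalPrimes_le (I := (⊥ : Ideal A)) (J := qA) bot_le
    haveI := hq₀.1.1
    have h1 := le_height_of_minimalPrimes n hsurj r q₀ (hr ⟨q₀, inferInstance⟩ hq₀)
    have h2 : q₀.comap (algebraMap P A) ≤ T' := by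
      refine (Ideal.comap_mono hq₀le).trans ?_
      rw [Ideal.comap_map_of_surjective _ hsurj]
      exact sup_le le_rfl hker
    have h3 : ((n - r : ℕ) : ℕ∞) ≤ T.height :=
      (h1.trans (Ideal.height_mono h2)).trans_eq (IsLocalization.height_comap q'.primeCompl T)
    rw [Module.supportDim_self_eq_ringKrullDim]
    refine le_trans ?_ (Groth.Ega4b.ringKrullDim_quotient_add_height_le hT.ne_top)
    gcongr
    exact WithBot.coe_le_coe.2 h3
  exact ⟨l, hlen, hl, hlJ⟩

end Groth.DualCore
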