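import Groth.Agent.DualCore.FiniteLength

/-!
# `Hom(N, ω) ≅ Hom(N, E)` for modules of finite length
-/

set_option autoImplicit false

universe u

open CategoryTheory CategoryTheory.Limits DerivedCategory IsLocalRing

attribute [local instance] HasDerivedCategory.standard

namespace Groth.DualCore

variable {A : Type u} [CommRing A] [IsLocalRing A] [IsNoetherianRing A] {ω : Dual.D A}
  (hω : HasResidue ω) {E : Type u} [AddCommGroup E] [Module A E] (f : ResidueField A →ₗ[A] E)
  (hf : InjHull.IsInjectiveHull f)

omit [IsNoetherianRing A] in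
/-- Maps out of a finite length module are determined on generators. -/
lemma pi_hom_ext {n : ℕ} (M : Type u) [AddCommGroup M] [Module A M] (K : Dual.D A) (i : ℤ)
    (u : Dual.inD A (Fin n → M) ⟶ K⟦i⟧)
    (hu : ∀ j, map1 K i (LinearMap.single A (fun _ : Fin n => M) j) u = 0) : u = 0 := by
  have hid : (LinearMap.id : (Fin n → M) →ₗ[A] _) =
      ∑ j, LinearMap.single A (fun _ : Fin n => M) j ∘ₗ LinearMap.proj j := by
    apply LinearMap.ext
    intro x
    simp [LinearMap.coe_single, Finset.univ_sum_single]
  have hlin : ∀ s : Finset (Fin n), inDmap (∑ j ∈ s,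
      LinearMap.single A (fun _ : Fin n => M) j ∘ₗ LinearMap.proj j) ≫ u = 0 := by
    intro s
    induction s using Finset.induction with
    | empty => rw [Finset.sum_empty, inDmap_zero, zero_comp]
    | insert a s ha ih =>
      rw [Finset.sum_insert ha, inDmap_add, Preadditive.add_comp, ih, add_zero, inDmap_comp,
        Category.assoc]
      rw [show inDmap _ ≫ u = 0 from hu a, comp_zero]
  rw [← map1_id K i u, map1_apply, hid, hlin]

omit [IsLocalRing A] [IsNoetherianRing A] in
/-- An injection into a module of equal finite length is surjective. -/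
lemma surjective_of_length {M : Type*} {N : Type*} [AddCommGroup M] [Module A M] [AddCommGroup N]
    [Module A N] {g : M →ₗ[A] N} (hg : Function.Injective g)
    (hle : Module.length A N ≤ Module.length A M) (hfin : Module.length A N ≠ ⊤) :
    Function.Surjective g := by
  have h := Module.length_eq_add_of_exact g (LinearMap.range g).mkQ hg (Submodule.mkQ_surjective _)
    (LinearMap.exact_map_mkQ_range g)
  have h0 : Module.length A (N ⧸ LinearMap.range g) = 0 := by
    obtain ⟨n, hn⟩ := ENat.ne_top_iff_exists.1 hfin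
    obtain ⟨a, ha⟩ := ENat.ne_top_iff_exists.1 (ne_top_of_le_ne_top hfin (h ▸ le_self_add))
    obtain ⟨b, hb⟩ := ENat.ne_top_iff_exists.1
      (ne_top_of_le_ne_top hfin (h ▸ le_add_self) : Module.length A (N ⧸ LinearMap.range g) ≠ ⊤)
    rw [← hn, ← ha, ← hb] at h
    rw [← hn, ← ha] at hle
    norm_cast at h hle
    rw [← hb, show b = 0 by omega]
    rfl
  rw [← LinearMap.range_eq_top, ← Submodule.Quotient.subsingleton_iff]
  exact Module.length_eq_zero_iff.1 h0

omit [IsNoetherianRing A] in
/-- A finite length module is killed by a power of the maximal ideal. -/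
lemma exists_pow_killed {N : Type u} [AddCommGroup N] [Module A N] (hN : IsFiniteLength A N) :
    ∃ k, ∀ a ∈ maximalIdeal A ^ k, ∀ x : N, a • x = 0 := by
  induction hN with
  | @of_subsingleton M _ _ _ => exact ⟨0, fun a _ x => Subsingleton.elim _ _⟩
  | @of_simple_quotient M _ _ N' _ _ ih =>
    obtain ⟨k, hk⟩ := ih
    obtain ⟨e⟩ := nonempty_simple_equiv (A := A) (M ⧸ N')
    refine ⟨k + 1, fun a ha x => ?_⟩
    rw [pow_succ] at ha
    induction ha using Submodule.mul_induction_on' with
    | mem_mul_mem b hb c hc =>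
      have hmem : c • x ∈ N' := by
        rw [← Submodule.Quotient.mk_eq_zero, Submodule.Quotient.mk_smul]
        apply e.injective
        rw [map_smul, map_zero]
        obtain ⟨y, hy⟩ := Submodule.Quotient.mk_surjective _ (e (Submodule.Quotient.mk x))
        rw [← hy]
        show c • (Submodule.Quotient.mk y : A ⧸ maximalIdeal A) = 0
        rw [← Submodule.Quotient.mk_smul]
        exact (Submodule.Quotient.mk_eq_zero _).2 (Ideal.mul_mem_right y _ hc)
      rw [mul_smul]
      exact congrArg Subtype.val (hk b hb ⟨c • x, hmem⟩)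
    | add b _ c _ hb hc => rw [add_smul, hb, hc, add_zero]

/-- The representing module as a direct limit (in universe `u + 1`). -/
abbrev LimE (ω : Dual.D A) : Type (u + 1) :=
  Module.DirectLimit (fun k => Dual.inD A (Qk A k) ⟶ ω⟦(0 : ℤ)⟧)
    (fun _ _ h => map1 ω 0 (qmap (A := A) h))

include hω hf in
/-- `Hom(N, ω) ≅ Hom(N, E)` for `N` of finite length. -/
theorem nonempty_hom_equiv_hull (N : Type u) [AddCommGroup N] [Module A N] (hN : IsFiniteLength A N) :
    Nonempty ((Dual.inD A N ⟶ ω⟦(0 : ℤ)⟧) ≃ₗ[A] (N →ₗ[A] E)) := by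
  haveI : DirectedSystem (fun k => Dual.inD A (Qk A k) ⟶ ω⟦(0 : ℤ)⟧)
      (fun _ _ h => ⇑(map1 ω 0 (qmap (A := A) h))) :=
    { map_self := fun k u => by
        rw [show qmap (A := A) (le_refl k) = LinearMap.id from Submodule.linearMap_qext _ rfl, map1_id]
      map_map := fun k l m hkl hlm u => by
        rw [← map1_comp]
        congr 1
        exact congrArg _ (Submodule.linearMap_qext _ rfl) }
  let ι := fun k => Module.DirectLimit.of A ℕ (fun k => Dual.inD A (Qk A k) ⟶ ω⟦(0 : ℤ)⟧)
    (fun _ _ h => map1 ω 0 (qmap (A := A) h)) k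
  have hι : ∀ k l (h : k ≤ l) u, ι l (map1 ω 0 (qmap h) u) = ι k u := fun k l h u =>
    Module.DirectLimit.of_f
  have hinj : ∀ k, Function.Injective (ι k) := fun k => by
    rw [← LinearMap.ker_eq_bot, LinearMap.ker_eq_bot']
    intro u hu
    obtain ⟨l, hl, hlu⟩ := Module.DirectLimit.of.zero_exact hu
    exact qmap_injective hω hl (hlu.trans (map_zero _).symm)
  have hrep : ∀ x : LimE ω, ∃ k u, ι k u = x := fun x => Module.DirectLimit.exists_of x
  -- shrink the colimit into the universe of `A`
  haveI : Small.{u} (LimE ω) := by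
    haveI : ∀ k, Small.{u} (Dual.inD A (Qk A k) ⟶ ω⟦(0 : ℤ)⟧) := fun k => by
      haveI : IsNoetherian A (Dual.inD A (Qk A k) ⟶ ω⟦(0 : ℤ)⟧) := by
        refine (isFiniteLength_iff_isNoetherian_isArtinian.1 (Module.length_ne_top_iff.1 ?_)).1
        rw [length_hom_finiteLength hω (GrothMatlis.isFiniteLength_quotient_pow k)]
        exact Module.length_ne_top_iff.2 (GrothMatlis.isFiniteLength_quotient_pow k)
      obtain ⟨n, g, hg⟩ := Module.Finite.exists_fin' A (Dual.inD A (Qk A k) ⟶ ω⟦(0 : ℤ)⟧)
      exact small_of_surjective hg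
    exact small_of_surjective (f := fun p : Σ k, Shrink.{u} (Dual.inD A (Qk A k) ⟶ ω⟦(0 : ℤ)⟧) =>
      ι p.1 ((equivShrink _).symm p.2)) fun x => by
        obtain ⟨k, u, rfl⟩ := hrep x
        exact ⟨⟨k, equivShrink _ u⟩, by simp⟩
  let σ : Shrink.{u} (LimE ω) ≃ₗ[A] LimE ω := Shrink.linearEquiv A (LimE ω)
  let ι' := fun k => σ.symm.toLinearMap ∘ₗ ι k
  have hι' : ∀ k l (h : k ≤ l) u, ι' l (map1 ω 0 (qmap h) u) = ι' k u := fun k l h u =>
    congrArg σ.symm (hι k l h u)
  have hinj' : ∀ k, Function.Injective (ι' k) := fun k => σ.symm.injective.comp (hinj k)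
  have hrep' : ∀ x, ∃ k u, ι' k u = x := fun x => by
    obtain ⟨k, u, hu⟩ := hrep (σ x)
    exact ⟨k, u, (congrArg σ.symm hu).trans (σ.symm_apply_apply x)⟩
  obtain ⟨φ, hφ⟩ := exists_isInjectiveHull_of_system hω ι' hι' hinj' hrep'
  obtain ⟨eE, -⟩ := GrothMatlis.hull_unique hφ hf
  -- the comparison map
  obtain ⟨k, hk⟩ : ∃ k, ∀ a ∈ maximalIdeal A ^ k, ∀ x : N, a • x = 0 := by
    exact exists_pow_killed hN
  let lift : N → (Qk A k →ₗ[A] N) := fun x => Submodule.liftQ _ (LinearMap.toSpanSingleton A N x)
    fun a ha => by rw [LinearMap.mem_ker, LinearMap.toSpanSingleton_apply, hk a ha]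
  have lift_add : ∀ x y, lift (x + y) = lift x + lift y := fun x y =>
    Submodule.linearMap_qext _ (LinearMap.ext fun a => smul_add a x y)
  have lift_smul : ∀ (c : A) x, lift (c • x) = c • lift x := fun c x =>
    Submodule.linearMap_qext _ (LinearMap.ext fun a => smul_comm a c x)
  let Ψ : (Dual.inD A N ⟶ ω⟦(0 : ℤ)⟧) →ₗ[A] (N →ₗ[A] Shrink.{u} (LimE ω)) :=
    { toFun := fun u =>
        { toFun := fun x => ι' k (map1 ω 0 (lift x) u)
          map_add' := fun x y => by
            rw [lift_add, map1_apply, inDmap_add, Preadditive.add_comp, map_add]; rfl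
          map_smul' := fun c x => by
            rw [lift_smul, map1_apply, inDmap_smul, Linear.smul_comp, map_smul]; rfl }
      map_add' := fun u v => LinearMap.ext fun x => by
        show ι' k (map1 ω 0 (lift x) (u + v)) = _
        rw [map_add, map_add]; rfl
      map_smul' := fun c u => LinearMap.ext fun x => by
        show ι' k (map1 ω 0 (lift x) (c • u)) = _
        rw [map_smul, map_smul]; rfl }
  have hΨ : Function.Injective Ψ := by
    rw [← LinearMap.ker_eq_bot, LinearMap.ker_eq_bot']
    intro u hu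
    haveI : IsNoetherian A N := (isFiniteLength_iff_isNoetherian_isArtinian.1 hN).1
    obtain ⟨n, g, hg⟩ := Module.Finite.exists_fin' A N
    -- cover `N` by copies of `A/𝔪ᵏ`
    let G : (Fin n → Qk A k) →ₗ[A] N := ∑ j, lift (g (Pi.single j 1)) ∘ₗ LinearMap.proj j
    have hG : Function.Surjective G := by
      intro x
      obtain ⟨c, rfl⟩ := hg x
      refine ⟨fun j => Submodule.Quotient.mk (c j), ?_⟩
      show (∑ j, lift (g (Pi.single j 1)) ∘ₗ LinearMap.proj j) (fun j => Submodule.Quotient.mk (c j)) = _
      rw [LinearMap.sum_apply]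
      conv_rhs => rw [← Finset.univ_sum_single c, map_sum]
      refine Finset.sum_congr rfl fun j _ => ?_
      show (c j) • g (Pi.single j 1) = g (Pi.single j (c j))
      rw [← map_smul]
      congr 1
      ext l
      rcases eq_or_ne l j with rfl | hl
      · simp
      · simp [hl]
    have hfl : IsFiniteLength A (LinearMap.ker G) := by
      have hpi : IsFiniteLength A (Fin n → Qk A k) := by
        rw [isFiniteLength_iff_isNoetherian_isArtinian]
        obtain ⟨h1, h2⟩ := isFiniteLength_iff_isNoetherian_isArtinian.1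
          (GrothMatlis.isFiniteLength_quotient_pow (R := A) k)
        exact ⟨inferInstance, inferInstance⟩
      exact hpi.of_injective (f := (LinearMap.ker G).subtype) (Submodule.injective_subtype _)
    refine map1_injective_of_surjective hω G hG hfl ?_
    rw [map_zero]
    refine pi_hom_ext (Qk A k) ω 0 _ fun j => ?_
    rw [← map1_comp]
    have hcomp : G ∘ₗ LinearMap.single A (fun _ : Fin n => Qk A k) j = lift (g (Pi.single j 1)) := by
      refine LinearMap.ext fun y => ?_
      show (∑ l, lift (g (Pi.single l 1)) ∘ₗ LinearMap.proj l) (Pi.single j y) = _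
      rw [LinearMap.sum_apply, Finset.sum_eq_single j]
      · simp
      · intro l _ hl; simp [hl]
      · simp
    rw [hcomp]
    exact hinj' k ((LinearMap.congr_fun hu (g (Pi.single j 1))).trans (map_zero _).symm)
  have hlen : Module.length A (N →ₗ[A] Shrink.{u} (LimE ω)) = Module.length A N :=
    GrothMatlis.length_dual hφ hN
  refine ⟨(LinearEquiv.ofBijective Ψ ⟨hΨ, surjective_of_length hΨ ?_ ?_⟩).trans
    (LinearEquiv.arrowCongr (LinearEquiv.refl A N) eE)⟩
  · rw [hlen, length_hom_finiteLength hω hN]
  · rw [hlen]; exact Module.length_ne_top_iff.2 hN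

end Groth.DualCore
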