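import Groth.Agent.DualCore.Regular
import Groth.Agent.DualCore.Representing

/-!
# `Extᵖ(M, A) ≅ Hom(M, Extᵖ(A/J, A))` over a regular local ring
-/

set_option autoImplicit false

universe u

open CategoryTheory CategoryTheory.Limits DerivedCategory IsLocalRing

attribute [local instance] HasDerivedCategory.standard

namespace Groth.DualCore

variable {A : Type u} [CommRing A] [IsNoetherianRing A] [IsLocalRing A]

/-- Vanishing of `Hom(M, A⟦i⟧)` below the codimension. -/
lemma subsingleton_hom_inD_self {n : ℕ} (hn : GrothGoren.InjLT A A n) (d : ℕ) (hd : ringKrullDim A = d)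
    (M : Type u) [AddCommGroup M] [Module A M] [Module.Finite A M] (e : ℕ)
    (he : Module.supportDim A M ≤ (e : ℕ)) (i : ℤ) (hi : i < (d : ℤ) - e ∨ (d : ℤ) < i) :
    Subsingleton (Dual.inD A M ⟶ (Dual.inD A A)⟦i⟧) := by
  have hω := isDualizing_shift (isDualizing_inD_of_injLT hn) (d : ℤ)
  haveI := hom_le_ringKrullDim hω (hasResidue_inD_shift hn d hd).isNormalized M he (i - d) (by lia)
  exact (homShiftEquiv _ (Dual.inD A A) (d : ℤ) i (i - d) (by lia)).symm.toEquiv.subsingleton

variable (J : Ideal A) (K : Dual.D A) (p : ℤ)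
  (hvan : ∀ (N : Type u) [AddCommGroup N] [Module A N], Module.Finite A N →
    (∀ a ∈ J, ∀ x : N, a • x = 0) → Subsingleton (Dual.inD A N ⟶ K⟦p - 1⟧))
  (M : Type u) [AddCommGroup M] [Module A M] [Module.Finite A M]
  (hM : ∀ a ∈ J, ∀ x : M, a • x = 0)

omit [IsNoetherianRing A] [IsLocalRing A] [Module.Finite A M] in
include hM in
/-- The map `A/J → M` sending `1` to `x`. -/
lemma exists_toM (x : M) : ∃ u : (A ⧸ J) →ₗ[A] M, u (Submodule.Quotient.mk 1) = x :=
  ⟨Submodule.liftQ J (LinearMap.toSpanSingleton A M x) fun a ha => by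
    rw [LinearMap.mem_ker, LinearMap.toSpanSingleton_apply, hM a ha],
    by show LinearMap.toSpanSingleton A M x 1 = x; simp⟩

include hvan hM in
lemma exists_cover : ∃ (b : ℕ) (G : (Fin b → A ⧸ J) →ₗ[A] M), Function.Surjective G ∧
    Function.Injective (map1 K p G) := by
  obtain ⟨b, g, hg⟩ := Module.Finite.exists_fin' A M
  choose u hu using fun j => exists_toM J M hM (g (Pi.single j 1))
  let G : (Fin b → A ⧸ J) →ₗ[A] M := ∑ j, u j ∘ₗ LinearMap.proj j
  have hG : Function.Surjective G := by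
    intro x
    obtain ⟨c, rfl⟩ := hg x
    refine ⟨fun j => c j • Submodule.Quotient.mk 1, ?_⟩
    show (∑ j, u j ∘ₗ LinearMap.proj j) (fun j => c j • (Submodule.Quotient.mk 1 : A ⧸ J)) = _
    rw [LinearMap.sum_apply]
    conv_rhs => rw [← Finset.univ_sum_single c, map_sum]
    refine Finset.sum_congr rfl fun j _ => ?_
    show u j (c j • Submodule.Quotient.mk 1) = _
    rw [map_smul, hu, ← map_smul]
    congr 1
    ext l
    rcases eq_or_ne l j with rfl | hl
    · simp
    · simp [hl]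
  refine ⟨b, G, hG, ?_⟩
  haveI := hvan (LinearMap.ker G) inferInstance fun a ha x => Subtype.ext (funext fun j => by
    obtain ⟨y, hy⟩ := Submodule.Quotient.mk_surjective J ((x : Fin b → A ⧸ J) j)
    show a • (x : Fin b → A ⧸ J) j = 0
    rw [← hy, ← Submodule.Quotient.mk_smul, Submodule.Quotient.mk_eq_zero]
    exact Ideal.mul_mem_right y J ha)
  rw [← LinearMap.ker_eq_bot, LinearMap.ker_eq_bot']
  intro w hw
  obtain ⟨v, rfl⟩ := (map1_exact_right _ G (LinearMap.ker G).injective_subtype hG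
    (LinearMap.exact_subtype_ker_map G) K (p - 1) p (by lia) w).1 hw
  rw [Subsingleton.elim v 0, map_zero]

include hvan hM in
/-- Injectivity of `ξ ↦ (u ↦ u^*ξ)`. -/
lemma eq_zero_of_forall (ξ : Dual.inD A M ⟶ K⟦p⟧)
    (h : ∀ u : (A ⧸ J) →ₗ[A] M, map1 K p u ξ = 0) : ξ = 0 := by
  obtain ⟨b, G, -, hinj⟩ := exists_cover J K p hvan M hM
  refine hinj ?_
  rw [map_zero]
  exact pi_hom_ext (A ⧸ J) K p _ fun j => by rw [← map1_comp]; exact h _

include hvan hM in
/-- Surjectivity. -/
lemma exists_of_linear (g : ((A ⧸ J) →ₗ[A] M) →ₗ[A] (Dual.inD A (A ⧸ J) ⟶ K⟦p⟧)) :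
    ∃ ξ : Dual.inD A M ⟶ K⟦p⟧, ∀ u, g u = map1 K p u ξ := by
  classical
  obtain ⟨b, G, hG, hinj⟩ := exists_cover J K p hvan M hM
  let s : Fin b → ((A ⧸ J) →ₗ[A] (Fin b → A ⧸ J)) := fun j => LinearMap.single A (fun _ => A ⧸ J) j
  let η : Dual.inD A (Fin b → A ⧸ J) ⟶ K⟦p⟧ :=
    ∑ j, map1 K p (LinearMap.proj (R := A) (φ := fun _ : Fin b => A ⧸ J) j) (g (G ∘ₗ s j))
  have hη : ∀ u : (A ⧸ J) →ₗ[A] (Fin b → A ⧸ J), map1 K p u η = g (G ∘ₗ u) := by
    intro u
    have hdec : u = ∑ j, s j ∘ₗ LinearMap.proj j ∘ₗ u := by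
      refine LinearMap.ext fun y => ?_
      rw [LinearMap.sum_apply]
      exact (Finset.univ_sum_single (u y)).symm
    have hc : ∀ j, ∃ c : A, LinearMap.proj j ∘ₗ u = c • LinearMap.id := by
      intro j
      obtain ⟨c, hc⟩ := Submodule.Quotient.mk_surjective J (u (Submodule.Quotient.mk 1) j)
      refine ⟨c, Submodule.linearMap_qext _ (LinearMap.ext_ring ?_)⟩
      show u (Submodule.Quotient.mk 1) j = c • (Submodule.Quotient.mk 1 : A ⧸ J)
      rw [← Submodule.Quotient.mk_smul, smul_eq_mul, mul_one]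
      exact hc.symm
    choose c hc using hc
    show map1 K p u η = _
    rw [map_sum]
    have hG' : G ∘ₗ u = ∑ j, G ∘ₗ (s j ∘ₗ LinearMap.proj j ∘ₗ u) := by
      conv_lhs => rw [hdec]
      exact LinearMap.ext fun y => by simp [LinearMap.sum_apply, map_sum]
    conv_rhs => rw [hG', map_sum]
    refine Finset.sum_congr rfl fun j _ => ?_
    rw [← map1_comp, hc, map1_smul_id, ← map_smul]
    congr 1
    exact LinearMap.ext fun y => by simp
  haveI := hvan
  obtain ⟨ξ, hξ⟩ := (map1_exact_mid (LinearMap.ker G).subtype G (LinearMap.ker G).injective_subtype hG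
    (LinearMap.exact_subtype_ker_map G) K p η).1 (eq_zero_of_forall J K p hvan (LinearMap.ker G)
      (fun a ha x => Subtype.ext (funext fun j => by
        obtain ⟨y, hy⟩ := Submodule.Quotient.mk_surjective J ((x : Fin b → A ⧸ J) j)
        show a • (x : Fin b → A ⧸ J) j = 0
        rw [← hy, ← Submodule.Quotient.mk_smul, Submodule.Quotient.mk_eq_zero]
        exact Ideal.mul_mem_right y J ha)) _ fun u => by
      rw [← map1_comp, hη, show G ∘ₗ (LinearMap.ker G).subtype ∘ₗ u = 0 from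
        LinearMap.ext fun y => (u y).2, map_zero])
  refine ⟨ξ, fun u => ?_⟩
  obtain ⟨y, hy⟩ := hG (u (Submodule.Quotient.mk 1))
  obtain ⟨u', hu'⟩ := exists_toM J (Fin b → A ⧸ J) (fun a ha x => funext fun j => by
    obtain ⟨z, hz⟩ := Submodule.Quotient.mk_surjective J (x j)
    show a • x j = 0
    rw [← hz, ← Submodule.Quotient.mk_smul, Submodule.Quotient.mk_eq_zero]
    exact Ideal.mul_mem_right z J ha) y
  have hu : u = G ∘ₗ u' := Submodule.linearMap_qext _ (LinearMap.ext_ring (by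
    show u (Submodule.Quotient.mk 1) = G (u' (Submodule.Quotient.mk 1))
    rw [hu', hy]))
  rw [hu, map1_comp, hξ, hη]

end Groth.DualCore
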