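import Groth.Agent.DualCore.Transform
import Groth.Agent.DualCore.AtPrime

/-!
# Uniqueness of dualizing complexes over a local ring; the residue field criterion
-/

set_option autoImplicit false

universe u

open CategoryTheory CategoryTheory.Limits DerivedCategory IsLocalRing HomologicalComplex

attribute [local instance] HasDerivedCategory.standard

namespace Groth.DualCore

variable {A : Type u} [CommRing A]

namespace InjRep

variable {ω : Dual.D A} (r : InjRep ω) [IsLocalRing A]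
  (hκ₀ : ∀ i : ℤ, i ≠ 0 → Subsingleton (Dual.inD A (ResidueField A) ⟶ ω⟦i⟧))
  (eκ : (Dual.inD A (ResidueField A) ⟶ ω⟦(0 : ℤ)⟧) ≃ₗ[A] ResidueField A)

include hκ₀ eκ in
/-- `Hom(κ, ω) ≅ κ[0]`. -/
lemma nonempty_DC_residue_iso :
    Nonempty (Q.obj (r.DC (ResidueField A)) ≅ Dual.inD A (ResidueField A)) := by
  haveI : IsGE (Q.obj (r.DC (ResidueField A))) 0 := (isGE_iff _ _).2 fun i hi =>
    haveI := hκ₀ i hi.ne
    ModuleCat.isZero_iff_subsingleton.2 (r.HDEquiv _ i).toEquiv.subsingleton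
  haveI : IsLE (Q.obj (r.DC (ResidueField A))) 0 := (isLE_iff _ _).2 fun i hi =>
    haveI := hκ₀ i hi.ne'
    ModuleCat.isZero_iff_subsingleton.2 (r.HDEquiv _ i).toEquiv.subsingleton
  obtain ⟨Y, ⟨e⟩⟩ := exists_iso_singleFunctor_obj_of_isGE_of_isLE (Q.obj (r.DC (ResidueField A))) 0
  let eY : Y ≅ ModuleCat.of A (ResidueField A) :=
    ((singleFunctorCompHomologyFunctorIso (ModuleCat.{u} A) 0).app Y).symm ≪≫
      (homologyFunctor (ModuleCat.{u} A) 0).mapIso e.symm ≪≫
      ((homologyFunctorFactors (ModuleCat.{u} A) 0).app (r.DC (ResidueField A))) ≪≫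
      ((r.homologyEquiv (ResidueField A) 0).trans eκ).toModuleIso
  exact ⟨e ≪≫ (singleFunctor (ModuleCat.{u} A) 0).mapIso eY⟩

include eκ in
/-- Transport of the residue field values. -/
lemma etaK_self_residue_ne_zero :
    r.etaK ω (𝟙 ω) (1 : ResidueField A) ≠ 0 := by
  intro h0
  obtain ⟨u, v, huv⟩ : ∃ u v : Dual.inD A (ResidueField A) ⟶ ω⟦(0 : ℤ)⟧, u ≠ v :=
    eκ.toEquiv.nontrivial.exists_pair_ne
  refine huv ?_
  suffices hall : ∀ φ : LinearMap.ker (r.dPost (ResidueField A) 0 (0 + 1)),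
      r.Φ (ResidueField A) 0 φ = 0 by
    have key : ∀ x : (r.DC (ResidueField A)).homology 0, r.homologyEquiv (ResidueField A) 0 x = 0 := by
      haveI : Subsingleton (Q.obj ((single (ModuleCat.{u} A) (ComplexShape.up ℤ) 0).obj
          (ModuleCat.of A (ResidueField A))) ⟶ Q.obj r.I) := subsingleton_of_forall_eq 0 fun w => by
        obtain ⟨φ, rfl⟩ := r.Φ_surjective (ResidueField A) 0 w
        exact hall φ
      haveI : Subsingleton ((CochainComplex.singleFunctor (ModuleCat.{u} A) 0 ⋙ Q).obj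
          (ModuleCat.of A (ResidueField A)) ⟶ Q.obj r.I) := ‹_›
      haveI : Subsingleton (Dual.inD A (ResidueField A) ⟶ ω⟦(0 : ℤ)⟧) :=
        ((Linear.homCongr A ((singleFunctorIsoCompQ (ModuleCat.{u} A) 0).app
          (ModuleCat.of A (ResidueField A))).symm r.iso).trans (shiftEquivHom (ResidueField A) 0)).symm.toEquiv.subsingleton
      exact fun x => Subsingleton.elim _ _
    rw [← (r.homologyEquiv (ResidueField A) 0).apply_symm_apply u,
      ← (r.homologyEquiv (ResidueField A) 0).apply_symm_apply v, key, key]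
  intro φ
  have hev : Q.map (r.ev (1 : ResidueField A)) = 0 := by
    rw [← cancel_mono r.iso.hom, zero_comp, ← cancel_mono ((shiftFunctorZero (Dual.D A) ℤ).inv.app ω),
      zero_comp, Category.assoc]
    simpa [etaK] using h0
  -- `y ↦ (z ↦ φ (y z))`
  let ψ₀ : ResidueField A →ₗ[A] (ResidueField A →ₗ[A] r.I.X 0) :=
    (LinearMap.llcomp A (ResidueField A) (ResidueField A) (r.I.X 0) φ.1) ∘ₗ LinearMap.mul A (ResidueField A)
  let ψ : (single (ModuleCat.{u} A) (ComplexShape.up ℤ) 0).obj (ModuleCat.of A (ResidueField A)) ⟶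
      r.DC (ResidueField A) :=
    mkHomFromSingle (ModuleCat.ofHom ψ₀) (by
      intro k hk
      obtain rfl : (0 : ℤ) + 1 = k := hk
      refine ModuleCat.hom_ext (LinearMap.ext fun y => LinearMap.ext fun z => ?_)
      exact LinearMap.congr_fun φ.2 (y * z))
  have hψ : ψ ≫ r.ev (1 : ResidueField A) = r.cocycleMap (ResidueField A) 0 φ := by
    apply from_single_hom_ext
    rw [cocycleMap_f, comp_f, mkHomFromSingle_f]
    ext y
    exact congrArg φ.1 (mul_one _)
  show Q.map (r.cocycleMap (ResidueField A) 0 φ) = 0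
  rw [← hψ, Functor.map_comp, hev, comp_zero]

end InjRep

/-- Residue field behaviour: `Hom(κ, ω⟦i⟧)` is `κ` in degree `0` and vanishes otherwise. -/
structure HasResidue [IsLocalRing A] (ω : Dual.D A) : Prop where
  vanish : ∀ i : ℤ, i ≠ 0 → Subsingleton (Dual.inD A (ResidueField A) ⟶ ω⟦i⟧)
  equiv : Nonempty ((Dual.inD A (ResidueField A) ⟶ ω⟦(0 : ℤ)⟧) ≃ₗ[A] ResidueField A)

lemma HasResidue.isNormalized [IsLocalRing A] {ω : Dual.D A} (h : HasResidue ω) :
    Dual.IsNormalized A ω := h.vanish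

lemma hasResidue_of_normalized [IsLocalRing A] [IsNoetherianRing A] {ω : Dual.D A}
    (hω : Dual.IsDualizing A ω) (hn : Dual.IsNormalized A ω) : HasResidue ω := by
  refine ⟨hn, ?_⟩
  obtain ⟨a, b, h⟩ := hω.finite_injective_dimension
  obtain ⟨r⟩ := exists_injRep ω a b h
  obtain ⟨n, hvan, ⟨e⟩⟩ := r.residue_single_degree (maximalIdeal A) hω
  obtain rfl : n = 0 := by
    by_contra hne
    haveI : Subsingleton (Dual.inD A (A ⧸ maximalIdeal A) ⟶ ω⟦n⟧) := hn n hne
    haveI : Nontrivial (A ⧸ maximalIdeal A) :=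
      Ideal.Quotient.nontrivial_iff.2 (Ideal.IsMaximal.ne_top inferInstance)
    exact not_subsingleton (A ⧸ maximalIdeal A) e.symm.toEquiv.subsingleton
  exact ⟨e⟩

variable [IsLocalRing A] [IsNoetherianRing A]

section Pair

variable {ω K : Dual.D A} (r : InjRep ω) (hω : HasResidue ω) (hK : HasResidue K)
include hω hK

lemma vanish_G_residue (j : ℤ) (hj : j ≠ 0) : Subsingleton (r.G K (ResidueField A) j) := by
  obtain ⟨eκ⟩ := hω.equiv
  obtain ⟨c⟩ := r.nonempty_DC_residue_iso hω.vanish eκ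
  haveI := hK.vanish j hj
  exact (Linear.homCongr A c (Iso.refl (K⟦j⟧))).toEquiv.subsingleton

/-- Nonzero on the residue field implies bijective on the residue field. -/
lemma etaK_residue_bijective (α : ω ⟶ K) (h : r.etaK K α (1 : ResidueField A) ≠ 0) :
    Function.Bijective (r.etaK K α (M := ResidueField A)) := by
  obtain ⟨eκ⟩ := hω.equiv
  obtain ⟨eK⟩ := hK.equiv
  obtain ⟨c⟩ := r.nonempty_DC_residue_iso hω.vanish eκ
  haveI hs : IsSimpleModule A (ResidueField A) := isSimple_residue (maximalIdeal A)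
  haveI : IsSimpleModule A (r.G K (ResidueField A) 0) :=
    IsSimpleModule.congr ((Linear.homCongr A c (Iso.refl (K⟦(0 : ℤ)⟧))).trans eK)
  exact (LinearMap.bijective_or_eq_zero (r.etaK K α (M := ResidueField A))).resolve_right
    fun h0 => h (by rw [h0]; rfl)

variable (hωfin : ∀ i, Module.Finite A (Dual.HD A ω i)) (c : ℤ) [IsGE K c]
  (hKfin : ∀ i, Module.Finite A (Dual.HD A K i))
include hωfin c hKfin

lemma etaK_bijective_of_ne_zero (α : ω ⟶ K) (h : r.etaK K α (1 : ResidueField A) ≠ 0)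
    (M : Type u) [AddCommGroup M] [Module A M] [Module.Finite A M] [Nontrivial M] :
    Function.Bijective (r.etaK K α (M := M)) := by
  obtain ⟨d, hd⟩ := exists_supportDim_eq A M
  exact r.etaK_bijective K hωfin c hKfin (vanish_G_residue r hω hK) α
    (etaK_residue_bijective r hω hK α h) (d + 1) M (lt_natCast_succ_iff.2 hd.le)

lemma subsingleton_G_of_ne (M : Type u) [AddCommGroup M] [Module A M] [Module.Finite A M] (j : ℤ)
    (hj : j ≠ 0) : Subsingleton (r.G K M j) := by
  rcases subsingleton_or_nontrivial M with hM | hM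
  · exact r.subsingleton_G_of_subsingleton K j
  obtain ⟨d, hd⟩ := exists_supportDim_eq A M
  exact r.subsingleton_G K hωfin c hKfin (vanish_G_residue r hω hK) (d + 1) M
    (lt_natCast_succ_iff.2 hd.le) j hj

/-- There is a morphism `ω ⟶ K` which is nonzero on the residue field. -/
lemma exists_ne_zero : ∃ α : ω ⟶ K, r.etaK K α (1 : ResidueField A) ≠ 0 := by
  obtain ⟨eκ⟩ := hω.equiv
  obtain ⟨eK⟩ := hK.equiv
  obtain ⟨c'⟩ := r.nonempty_DC_residue_iso hω.vanish eκ
  let m : Submodule A A := maximalIdeal A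
  haveI := subsingleton_G_of_ne r hω hK hωfin c hKfin m 1 one_ne_zero
  let π : A →ₗ[A] ResidueField A := (maximalIdeal A).mkQ
  obtain ⟨u, hu⟩ : ∃ u : r.G K (ResidueField A) 0, u ≠ 0 :=
    haveI : Nontrivial (r.G K (ResidueField A) 0) :=
      ((Linear.homCongr A c' (Iso.refl (K⟦(0 : ℤ)⟧))).trans eK).toEquiv.nontrivial
    exists_ne 0
  obtain ⟨v, rfl⟩ := r.Gmap_surjective_of K m.subtype π m.injective_subtype
    (Submodule.mkQ_surjective _) (LinearMap.exact_subtype_mkQ m) 0 1 (by lia) u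
  let cA : Q.obj (r.DC A) ≅ ω := Q.mapIso r.evOneIso ≪≫ r.iso
  refine ⟨cA.inv ≫ v ≫ (shiftFunctorZero (Dual.D A) ℤ).hom.app K, ?_⟩
  have h1 : r.etaK K (cA.inv ≫ v ≫ (shiftFunctorZero (Dual.D A) ℤ).hom.app K) (1 : A) = v := by
    show Q.map (r.ev 1) ≫ r.iso.hom ≫ _ = v
    rw [← InjRep.evOneIso_hom, show Q.map r.evOneIso.hom ≫ r.iso.hom ≫
      (cA.inv ≫ v ≫ (shiftFunctorZero (Dual.D A) ℤ).hom.app K) ≫
        (shiftFunctorZero (Dual.D A) ℤ).inv.app K =
      (cA.hom ≫ cA.inv) ≫ v ≫ ((shiftFunctorZero (Dual.D A) ℤ).hom.app K ≫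
        (shiftFunctorZero (Dual.D A) ℤ).inv.app K) by simp [cA]]
    simp
  intro h0
  apply hu
  rw [← h1, InjRep.Gmap_etaK]
  exact h0

end Pair

section Criterion

/-- `ω ⟶ ω` is a scalar, for `ω` with residue condition and finite injective dimension. -/
theorem isDualizing_of_hasResidue {ω : Dual.D A} (hω : HasResidue ω)
    (hfin : ∀ i, Module.Finite A (Dual.HD A ω i)) (c : ℤ) [IsGE ω c] : Dual.IsDualizing A ω := by
  obtain ⟨d, hd⟩ := exists_supportDim_eq A A
  have hdim : ∀ (M : Type u) [AddCommGroup M] [Module A M], Module.supportDim A M ≤ (d : ℕ) := fun M _ _ =>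
    (Module.supportDim_le_ringKrullDim A M).trans
      (le_of_eq ((Module.supportDim_self_eq_ringKrullDim A).symm.trans hd))
  have hvan : ∀ (M : Type u) [AddCommGroup M] [Module A M], Module.Finite A M → ∀ i : ℤ,
      (i < -(d : ℤ) ∨ 0 < i) → Subsingleton (Dual.inD A M ⟶ ω⟦i⟧) := fun M _ _ _ i hi =>
    subsingleton_hom_of_supportDim ω c hfin hω.isNormalized (hdim M) i hi
  obtain ⟨r, ra, rb⟩ := exists_injRep' ω _ _ hvan
  obtain ⟨eκ⟩ := hω.equiv
  have hb := etaK_bijective_of_ne_zero r hω hω hfin c hfin (𝟙 ω) (r.etaK_self_residue_ne_zero eκ) A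
  let cA : Q.obj (r.DC A) ≅ ω := Q.mapIso r.evOneIso ≪≫ r.iso
  let z := (shiftFunctorZero (Dual.D A) ℤ).app ω
  refine ⟨inferInstance, ⟨_, _, injDim_of_finite ω _ _ hvan⟩, hfin, ?_, fun i hi => ?_⟩
  · let e : r.G ω A 0 ≃ₗ[A] (ω ⟶ ω) := Linear.homCongr A cA z
    have : (fun a : A => a • 𝟙 ω) = e ∘ r.etaK ω (𝟙 ω) (M := A) := by
      funext a
      rw [Function.comp_apply, show a = a • (1 : A) by rw [smul_eq_mul, mul_one], map_smul, map_smul,
        smul_eq_mul, mul_one]
      congr 1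
      simp only [e, Linear.homCongr_apply, InjRep.etaK, LinearMap.coe_mk, AddHom.coe_mk]
      rw [← InjRep.evOneIso_hom]
      simp [cA, z]
    rw [this]
    exact e.bijective.comp hb
  · haveI := subsingleton_G_of_ne r hω hω hfin c hfin A i hi
    exact (Linear.homCongr A cA (Iso.refl (ω⟦i⟧))).symm.toEquiv.subsingleton

/-- **Uniqueness**: two complexes with residue condition are isomorphic. -/
theorem nonempty_iso_of_hasResidue {ω ω' : Dual.D A} (hd : Dual.IsDualizing A ω)
    (hd' : Dual.IsDualizing A ω') (hω : HasResidue ω) (hω' : HasResidue ω') : Nonempty (ω ≅ ω') := by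
  obtain ⟨a, ha⟩ := exists_isGE hd
  obtain ⟨a', ha'⟩ := exists_isGE hd'
  obtain ⟨_, _, h⟩ := hd.finite_injective_dimension
  obtain ⟨r⟩ := exists_injRep ω _ _ h
  obtain ⟨_, _, h'⟩ := hd'.finite_injective_dimension
  obtain ⟨r'⟩ := exists_injRep ω' _ _ h'
  obtain ⟨α, hα⟩ := exists_ne_zero r hω hω' hd.finite_cohomology a' hd'.finite_cohomology
  obtain ⟨β, hβ⟩ := exists_ne_zero r' hω' hω hd'.finite_cohomology a hd.finite_cohomology
  -- the composite of two maps that are nonzero on the residue field is a unit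
  have key : ∀ {X Y : Dual.D A} (rX : InjRep X) (rY : InjRep Y) (hX : Dual.IsDualizing A X)
      (hrX : HasResidue X) (hrY : HasResidue Y) (f : X ⟶ Y) (g : Y ⟶ X),
      rX.etaK Y f (1 : ResidueField A) ≠ 0 → rY.etaK X g (1 : ResidueField A) ≠ 0 →
        ∃ c : Aˣ, (c : A) • 𝟙 X = f ≫ g := by
    intro X Y rX rY hX hrX hrY f g hf hg
    obtain ⟨s, hs⟩ := hX.toEnd_bijective.2 (f ≫ g)
    obtain ⟨eY⟩ := hrY.equiv
    obtain ⟨eY'⟩ := hrY.equiv
    obtain ⟨eX⟩ := hrX.equiv
    obtain ⟨cX⟩ := rX.nonempty_DC_residue_iso hrX.vanish eX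
    obtain ⟨cY⟩ := rY.nonempty_DC_residue_iso hrY.vanish eY
    -- post-composition with `g` is injective on `Hom(κ, Y)`
    have hz : ∀ {P R : Dual.D A} (g : P ⟶ R), (shiftFunctorZero (Dual.D A) ℤ).inv.app P ≫ g⟦(0 : ℤ)⟧' =
        g ≫ (shiftFunctorZero (Dual.D A) ℤ).inv.app R :=
      fun g => ((shiftFunctorZero (Dual.D A) ℤ).inv.naturality g).symm
    let post : (Dual.inD A (ResidueField A) ⟶ Y⟦(0 : ℤ)⟧) →ₗ[A]
        (Dual.inD A (ResidueField A) ⟶ X⟦(0 : ℤ)⟧) :=
      Linear.rightComp A _ (g⟦(0 : ℤ)⟧')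
    haveI : IsSimpleModule A (ResidueField A) := isSimple_residue (maximalIdeal A)
    haveI : IsSimpleModule A (Dual.inD A (ResidueField A) ⟶ Y⟦(0 : ℤ)⟧) := IsSimpleModule.congr eY'
    have hpost : Function.Injective post := by
      refine LinearMap.injective_of_ne_zero fun h0 => hg ?_
      have h1 := LinearMap.congr_fun h0 (cY.inv ≫ rY.etaK Y (𝟙 Y) (1 : ResidueField A))
      rw [LinearMap.zero_apply] at h1
      rw [← cancel_epi cY.inv, comp_zero, ← h1]
      simp [post, InjRep.etaK, hz]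
    have hs' : IsUnit s := by
      by_contra hns
      have h0 : rX.etaK X (f ≫ g) (1 : ResidueField A) = 0 := by
        rw [← hs]
        have hzero : algebraMap A (ResidueField A) s = 0 := by
          rw [IsLocalRing.ResidueField.algebraMap_eq, IsLocalRing.residue_eq_zero_iff]
          exact hns
        calc rX.etaK X (s • 𝟙 X) (1 : ResidueField A) = s • rX.etaK X (𝟙 X) (1 : ResidueField A) := by
              simp [InjRep.etaK, Linear.smul_comp, Linear.comp_smul]
          _ = rX.etaK X (𝟙 X) (s • (1 : ResidueField A)) := (map_smul _ _ _).symm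
          _ = 0 := by rw [← Algebra.algebraMap_eq_smul_one, hzero, map_zero]
      have h2 : post (cX.inv ≫ rX.etaK Y f (1 : ResidueField A)) = post 0 := by
        rw [map_zero, ← comp_zero (f := cX.inv), ← h0]
        simp [post, InjRep.etaK, hz]
      have h3 := hpost h2
      rw [← comp_zero (f := cX.inv), cancel_epi] at h3
      exact hf h3
    exact ⟨hs'.unit, hs⟩
  obtain ⟨c, hc⟩ := key r r' hd hω hω' α β hα hβ
  obtain ⟨c', hc'⟩ := key r' r hd' hω' hω β α hβ hα
  haveI : IsSplitMono α := IsSplitMono.mk' ⟨((c⁻¹ : Aˣ) : A) • β, by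
    rw [Linear.comp_smul, ← hc, smul_smul, Units.inv_mul, one_smul]⟩
  haveI : IsSplitEpi α := IsSplitEpi.mk' ⟨((c'⁻¹ : Aˣ) : A) • β, by
    rw [Linear.smul_comp, ← hc', smul_smul, Units.inv_mul, one_smul]⟩
  haveI := isIso_of_mono_of_isSplitEpi α
  exact ⟨asIso α⟩

/-- A normalizing shift has the residue condition. -/
lemma exists_hasResidue {ω : Dual.D A} (hω : Dual.IsDualizing A ω) :
    ∃ n : ℤ, HasResidue (ω⟦n⟧) := by
  obtain ⟨n, hn, -, -⟩ := exists_normalized hω
  exact ⟨n, hasResidue_of_normalized (isDualizing_shift hω n) hn⟩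

/-- Uniqueness up to shift. -/
theorem exists_shift_iso {ω ω' : Dual.D A} (hω : Dual.IsDualizing A ω)
    (hω' : Dual.IsDualizing A ω') : ∃ n : ℤ, Nonempty (ω' ≅ ω⟦n⟧) := by
  obtain ⟨n, hn⟩ := exists_hasResidue hω
  obtain ⟨m, hm⟩ := exists_hasResidue hω'
  obtain ⟨e⟩ := nonempty_iso_of_hasResidue (isDualizing_shift hω' m) (isDualizing_shift hω n) hm hn
  refine ⟨n + -m, ⟨((shiftFunctorCompIsoId (Dual.D A) m (-m) (add_neg_cancel m)).app ω').symm ≪≫
    (shiftFunctor (Dual.D A) (-m)).mapIso e ≪≫ ((shiftFunctorAdd' (Dual.D A) n (-m) _ rfl).app ω).symm⟩⟩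

end Criterion

end Groth.DualCore
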