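import Groth.Agent.DualCore.Coextend
import Groth.Agent.DualCore.LocalFamilies
import Groth.Agent.DualCore.AtPrime
import Groth.Agent.DualCore.Unique
import Mathlib.RingTheory.Length

/-!
# Dualizing complexes along finite ring maps
-/

set_option autoImplicit false

universe u

open CategoryTheory CategoryTheory.Limits DerivedCategory TensorProduct IsLocalRing

attribute [local instance] HasDerivedCategory.standard

namespace Groth.DualCore

variable {A B : Type u} [CommRing A] [CommRing B] [Algebra A B]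

/-- `res (N[0]) ≅ N[0]`. -/
noncomputable def resInD (N : Type u) [AddCommGroup N] [Module A N] [Module B N] [IsScalarTower A B N] :
    (DRing.restrictD (algebraMap A B)).obj (Dual.inD B N) ≅ Dual.inD A N :=
  ((res (algebraMap A B)).mapDerivedCategorySingleFunctor 0).app (ModuleCat.of B N) ≪≫
    (singleFunctor (ModuleCat.{u} A) 0).mapIso
      ({ toFun := fun x => x, invFun := fun x => x, left_inv := fun _ => rfl, right_inv := fun _ => rfl,
         map_add' := fun _ _ => rfl, map_smul' := fun a x => algebraMap_smul (A := B) (M := N) a x } :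
        ((res (algebraMap A B)).obj (ModuleCat.of B N) : Type u) ≃ₗ[A] N).toModuleIso

lemma resInD_naturality {N N' : Type u} [AddCommGroup N] [Module A N] [Module B N] [IsScalarTower A B N]
    [AddCommGroup N'] [Module A N'] [Module B N'] [IsScalarTower A B N'] (f : N →ₗ[B] N') :
    (DRing.restrictD (algebraMap A B)).map (inDmap f) ≫ (resInD (A := A) N').hom =
      (resInD (A := A) (B := B) N).hom ≫ inDmap (f.restrictScalars A) := by
  simp only [resInD, Iso.trans_hom, Iso.app_hom, Functor.mapIso_hom, Category.assoc]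
  erw [NatTrans.naturality_assoc ((res (algebraMap A B)).mapDerivedCategorySingleFunctor 0).hom
    (ModuleCat.ofHom f)]
  congr 1
  show (singleFunctor (ModuleCat.{u} A) 0).map _ ≫ _ = _ ≫ (singleFunctor (ModuleCat.{u} A) 0).map _
  rw [← Functor.map_comp, ← Functor.map_comp]
  rfl

namespace Represents

variable {ω : Dual.D A} {W : Dual.D B} {ε : (DRing.restrictD (algebraMap A B)).obj W ⟶ ω}
  (h : Represents (algebraMap A B) ε)
  (N : Type u) [AddCommGroup N] [Module A N] [Module B N] [IsScalarTower A B N]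

/-- `Hom_B(N, W⟦i⟧) ≃ Hom_A(N, ω⟦i⟧)`. -/
noncomputable def homInDEquiv (i : ℤ) : (Dual.inD B N ⟶ W⟦i⟧) ≃+ (Dual.inD A N ⟶ ω⟦i⟧) :=
  (h.homEquiv (Dual.inD B N) i).trans
    (Linear.homCongr A (resInD (A := A) (B := B) N) (Iso.refl (ω⟦i⟧))).toAddEquiv

lemma homInDEquiv_apply (i : ℤ) (g : Dual.inD B N ⟶ W⟦i⟧) :
    h.homInDEquiv N i g = (resInD (A := A) (B := B) N).inv ≫ Θ (algebraMap A B) ε (Dual.inD B N) i g := by
  simp [homInDEquiv, Represents.homEquiv, Linear.homCongr_apply]

lemma homInDEquiv_smul (i : ℤ) (a : A) (g : Dual.inD B N ⟶ W⟦i⟧) :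
    h.homInDEquiv N i (algebraMap A B a • g) = a • h.homInDEquiv N i g := by
  rw [homInDEquiv_apply, homInDEquiv_apply, Θ_smul, Linear.comp_smul]

lemma homInDEquiv_precomp {N' : Type u} [AddCommGroup N'] [Module A N'] [Module B N']
    [IsScalarTower A B N'] (f : N →ₗ[B] N') (i : ℤ) (g : Dual.inD B N' ⟶ W⟦i⟧) :
    h.homInDEquiv N i (inDmap f ≫ g) = inDmap (f.restrictScalars A) ≫ h.homInDEquiv N' i g := by
  rw [homInDEquiv_apply, homInDEquiv_apply, Θ_precomp, ← cancel_epi (resInD (A := A) (B := B) N).hom,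
    Iso.hom_inv_id_assoc, ← Category.assoc (resInD (A := A) (B := B) N).hom, ← resInD_naturality, Category.assoc,
    Iso.hom_inv_id_assoc]

include h in
lemma subsingleton_iff (i : ℤ) :
    Subsingleton (Dual.inD B N ⟶ W⟦i⟧) ↔ Subsingleton (Dual.inD A N ⟶ ω⟦i⟧) :=
  (h.homInDEquiv N i).toEquiv.subsingleton_congr

include h in
/-- Finiteness of `Hom_B(N, W⟦i⟧)`. -/
lemma finite_hom_inD (i : ℤ) [Module.Finite A (Dual.inD A N ⟶ ω⟦i⟧)] :
    Module.Finite B (Dual.inD B N ⟶ W⟦i⟧) := by
  letI : Module A (Dual.inD B N ⟶ W⟦i⟧) := Module.compHom _ (algebraMap A B)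
  haveI : IsScalarTower A B (Dual.inD B N ⟶ W⟦i⟧) := IsScalarTower.of_algebraMap_smul fun _ _ => rfl
  let e : (Dual.inD B N ⟶ W⟦i⟧) ≃ₗ[A] (Dual.inD A N ⟶ ω⟦i⟧) :=
    { h.homInDEquiv N i with map_smul' := fun a g => h.homInDEquiv_smul N i a g }
  haveI := Module.Finite.equiv e.symm
  exact Module.Finite.of_restrictScalars_finite A B _

include h in
/-- Cohomology of `W`. -/
lemma finite_HD [IsNoetherianRing A] [Module.Finite A B] (hω : ∀ i, Module.Finite A (Dual.HD A ω i))
    (a : ℤ) [IsGE ω a] (i : ℤ) : Module.Finite B (Dual.HD B W i) := by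
  haveI := finite_hom ω a hω i B
  haveI := h.finite_hom_inD B i
  exact Module.Finite.equiv (homAEquiv W i)

include h in
lemma injDim (a b : ℤ)
    (hab : ∀ (M : Type u) [AddCommGroup M] [Module A M] (i : ℤ), (i < a ∨ b < i) →
      Subsingleton (Dual.inD A M ⟶ ω⟦i⟧))
    (N : Type u) [AddCommGroup N] [Module B N] (i : ℤ) (hi : i < a ∨ b < i) :
    Subsingleton (Dual.inD B N ⟶ W⟦i⟧) := by
  letI : Module A N := Module.compHom N (algebraMap A B)
  haveI : IsScalarTower A B N := IsScalarTower.of_algebraMap_smul fun _ _ => rfl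
  exact (h.subsingleton_iff N i).2 (hab N i hi)

end Represents

section Residue

variable [IsNoetherianRing A] {ω : Dual.D A}

/-- `Hom(M^r, K) ≅ Hom(M, K)^r`. -/
noncomputable def homPiEquiv (r : ℕ) (M : Type u) [AddCommGroup M] [Module A M] (K : Dual.D A) (i : ℤ) :
    (Dual.inD A (Fin r → M) ⟶ K⟦i⟧) ≃ₗ[A] (Fin r → (Dual.inD A M ⟶ K⟦i⟧)) :=
  { LinearMap.pi fun j => map1 K i (LinearMap.single A (fun _ : Fin r => M) j) with
    invFun := fun v => ∑ j, map1 K i (LinearMap.proj (R := A) (φ := fun _ : Fin r => M) j) (v j)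
    left_inv := fun u => by
      show ∑ j, map1 K i (LinearMap.proj j) (map1 K i (LinearMap.single A (fun _ : Fin r => M) j) u) = u
      simp only [← map1_comp]
      have hid : (LinearMap.id : (Fin r → M) →ₗ[A] _) =
          ∑ j, LinearMap.single A (fun _ : Fin r => M) j ∘ₗ LinearMap.proj j := by
        apply LinearMap.ext
        intro x
        simp [LinearMap.coe_single, Finset.univ_sum_single]
      have key : ∀ s : Finset (Fin r), ∑ j ∈ s, map1 K i
          (LinearMap.single A (fun _ : Fin r => M) j ∘ₗ LinearMap.proj j) u =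
            inDmap (∑ j ∈ s, LinearMap.single A (fun _ : Fin r => M) j ∘ₗ LinearMap.proj j) ≫ u := by
        intro s
        induction s using Finset.induction with
        | empty => simp [inDmap_zero]
        | insert a s ha ih => rw [Finset.sum_insert ha, Finset.sum_insert ha, ih, inDmap_add,
            Preadditive.add_comp]; rfl
      rw [key Finset.univ, ← hid, inDmap_id, Category.id_comp]
    right_inv := fun v => funext fun k => by
      show map1 K i (LinearMap.single A (fun _ : Fin r => M) k) (∑ j, map1 K i (LinearMap.proj j) (v j)) = v k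
      rw [map_sum, Finset.sum_eq_single k]
      · rw [← map1_comp, show LinearMap.proj k ∘ₗ LinearMap.single A (fun _ : Fin r => M) k = LinearMap.id
          from LinearMap.ext fun x => by simp, map1_id]
      · intro j _ hj
        rw [← map1_comp, show LinearMap.proj j ∘ₗ LinearMap.single A (fun _ : Fin r => M) k = 0
          from LinearMap.ext fun x => by simp [hj], map1_apply, inDmap_zero, zero_comp]
      · intro hk; exact absurd (Finset.mem_univ k) hk }

lemma exists_pi_equiv (m : Ideal A) [m.IsMaximal] (N : Type u) [AddCommGroup N] [Module A N]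
    [Module.Finite A N] (hN : ∀ a ∈ m, ∀ x : N, a • x = 0) :
    ∃ r : ℕ, Nonempty (N ≃ₗ[A] (Fin r → A ⧸ m)) := by
  have ht : Module.IsTorsionBySet A N (m : Set A) := fun x a => hN a a.2 x
  letI := ht.module
  haveI := ht.isScalarTower (S := A)
  letI := Ideal.Quotient.field m
  haveI : Module.Finite (A ⧸ m) N := Module.Finite.of_restrictScalars_finite A (A ⧸ m) N
  exact ⟨_, ⟨((Module.finBasis (A ⧸ m) N).equivFun).restrictScalars A⟩⟩

variable [IsNoetherianRing B] [Module.Finite A B] {W : Dual.D B}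
  {ε : (DRing.restrictD (algebraMap A B)).obj W ⟶ ω} (h : Represents (algebraMap A B) ε)
  (hω : Dual.IsDualizing A ω)

include h hω in
omit [IsNoetherianRing B] in
/-- `Hom_B(B/n, W⟦i⟧)` is `B/n` in one degree. -/
theorem residue_of_finite (n : Ideal B) [n.IsMaximal] : ∃ d : ℤ,
    (∀ i, i ≠ d → Subsingleton (Dual.inD B (B ⧸ n) ⟶ W⟦i⟧)) ∧
      Nonempty ((Dual.inD B (B ⧸ n) ⟶ W⟦d⟧) ≃ₗ[B] (B ⧸ n)) := by
  haveI : (n.comap (algebraMap A B)).IsMaximal :=
    Ideal.isMaximal_comap_of_isIntegral_of_isMaximal (R := A) n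
  let m : Ideal A := n.comap (algebraMap A B)
  haveI : Module.Finite A (B ⧸ n) :=
    Module.Finite.of_surjective ((Submodule.mkQ n).restrictScalars A) (Submodule.mkQ_surjective n)
  have hkill : ∀ a ∈ m, ∀ x : B ⧸ n, a • x = 0 := fun a ha x => by
    obtain ⟨y, rfl⟩ := Submodule.Quotient.mk_surjective n x
    rw [← Submodule.Quotient.mk_smul, Submodule.Quotient.mk_eq_zero, Algebra.smul_def]
    exact Ideal.mul_mem_right y n ha
  obtain ⟨r, ⟨er⟩⟩ := exists_pi_equiv m (B ⧸ n) hkill
  obtain ⟨p, q, hpq⟩ := hω.finite_injective_dimension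
  obtain ⟨rep⟩ := exists_injRep ω p q hpq
  obtain ⟨d, hd, ⟨ed⟩⟩ := rep.residue_single_degree m hω
  let eA : ∀ i, (Dual.inD A (B ⧸ n) ⟶ ω⟦i⟧) ≃ₗ[A] (Fin r → (Dual.inD A (A ⧸ m) ⟶ ω⟦i⟧)) := fun i =>
    (Linear.homCongr A ((singleFunctor (ModuleCat.{u} A) 0).mapIso er.toModuleIso) (Iso.refl (ω⟦i⟧))).trans
      (homPiEquiv r (A ⧸ m) ω i)
  refine ⟨d, fun i hi => ?_, ?_⟩
  · haveI := hd i hi
    rw [h.subsingleton_iff]
    exact (eA i).toEquiv.subsingleton
  · let H := Dual.inD B (B ⧸ n) ⟶ W⟦d⟧
    letI : Module A H := Module.compHom _ (algebraMap A B)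
    haveI : IsScalarTower A B H := IsScalarTower.of_algebraMap_smul fun _ _ => rfl
    let e : H ≃ₗ[A] (Fin r → A ⧸ m) :=
      (({ h.homInDEquiv (B ⧸ n) d with map_smul' := fun a g => h.homInDEquiv_smul (B ⧸ n) d a g } :
        H ≃ₗ[A] (Dual.inD A (B ⧸ n) ⟶ ω⟦d⟧))).trans ((eA d).trans (LinearEquiv.piCongrRight fun _ => ed))
    let e' : H ≃ₗ[A] (B ⧸ n) := e.trans er.symm
    haveI : Nontrivial (B ⧸ n) := Ideal.Quotient.nontrivial_iff.2 (Ideal.IsMaximal.ne_top inferInstance)
    haveI : Nontrivial H := e'.toEquiv.nontrivial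
    have hH : ∀ b ∈ n, ∀ v : H, b • v = 0 := fun b hb v => by
      rw [← map1_smul_id, show (b • LinearMap.id : B ⧸ n →ₗ[B] B ⧸ n) = 0 from LinearMap.ext fun y => by
        obtain ⟨y, rfl⟩ := Submodule.Quotient.mk_surjective n y
        show b • (Submodule.Quotient.mk y : B ⧸ n) = 0
        rw [← Submodule.Quotient.mk_smul, Submodule.Quotient.mk_eq_zero]
        exact Ideal.mul_mem_right y n hb, map1_apply, inDmap_zero, zero_comp]
    obtain ⟨g, hg⟩ := exists_surjective_to_residue n H hH
    haveI : IsSimpleModule A (A ⧸ m) := isSimple_residue m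
    haveI : Module.Finite A H := Module.Finite.equiv e.symm
    -- a surjective endomorphism-like map between `A`-modules of the same finite length
    have hinj : Function.Injective ((g.restrictScalars A) ∘ₗ e'.symm.toLinearMap) :=
      OrzechProperty.injective_of_surjective_endomorphism _ (hg.comp e'.symm.surjective)
    have hginj : Function.Injective g := fun x y hxy => e'.injective (hinj (by
      simpa using hxy))
    exact ⟨LinearEquiv.ofBijective g ⟨hginj, hg⟩⟩

include h hω in
/-- **Finite maps preserve dualizing complexes.** -/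
theorem isDualizing_of_represents : Dual.IsDualizing B W := by
  obtain ⟨c, hc⟩ := exists_isGE hω
  obtain ⟨p, q, hpq⟩ := hω.finite_injective_dimension
  have hW := h.injDim p q hpq
  have hfin := h.finite_HD hω.finite_cohomology c
  have hH : ∀ i, (i < p ∨ q < i) → Subsingleton (Dual.HD B W i) := fun i hi =>
    haveI := hW B i hi
    (homAEquiv W i).symm.toEquiv.subsingleton
  haveI : IsGE W p := isGE_of_HD W p fun i hi => hH i (Or.inl hi)
  haveI : IsLE W q := (isLE_iff W q).2 fun i hi => ModuleCat.isZero_iff_subsingleton.2 (hH i (Or.inr hi))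
  refine isDualizing_of_maximal W hfin p q ⟨p, q, fun M _ _ _ => hW M⟩ fun n _ => ?_
  obtain ⟨d, hd, ⟨ed⟩⟩ := residue_of_finite h hω n
  let Bn := Localization.AtPrime n
  haveI : IsNoetherianRing Bn := IsLocalization.isNoetherianRing n.primeCompl _ inferInstance
  let eres : ∀ i, Bn ⊗[B] (Dual.inD B (B ⧸ n) ⟶ W⟦i⟧) ≃ₗ[Bn]
      (Dual.inD Bn (ResidueField Bn) ⟶ ((extD B Bn).obj W)⟦i⟧) := fun i =>
    (extHomInDEquiv (B := Bn) (B ⧸ n) W p i).trans
      (Linear.homCongr Bn ((singleFunctor (ModuleCat.{u} Bn) 0).mapIso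
        (tensorQuotEquivResidueField n).toModuleIso) (Iso.refl _))
  have hres : HasResidue (((extD B Bn).obj W)⟦d⟧) := by
    refine ⟨fun i hi => ?_, ⟨?_⟩⟩
    · haveI := hd (d + i) (by lia)
      haveI := (eres (d + i)).symm.toEquiv.subsingleton
      exact (homShiftEquiv _ _ d (d + i) i rfl).toEquiv.subsingleton
    · exact ((homShiftEquiv _ _ d d 0 (add_zero d)).trans (eres d).symm).trans
        ((AlgebraTensorModule.congr (LinearEquiv.refl Bn Bn) ed).trans (tensorQuotEquivResidueField n))
  haveI : IsGE ((extD B Bn).obj W) p := isGE_extD (B := Bn) W p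
  haveI : IsGE (((extD B Bn).obj W)⟦d⟧) (p - d) := TStructure.t.isGE_shift _ p d (p - d)
  have hfin' : ∀ i, Module.Finite Bn (Dual.HD Bn (((extD B Bn).obj W)⟦d⟧) i) := fun i => by
    haveI := hfin (d + i)
    haveI : Module.Finite Bn (((homologyFunctor (ModuleCat.{u} Bn) 0).shift (d + i)).obj ((extD B Bn).obj W)) :=
      Module.Finite.equiv (HDExtEquiv (B := Bn) W (d + i))
    exact Module.Finite.equiv ((((homologyFunctor (ModuleCat.{u} Bn) 0).shiftIso d i (d + i) rfl)).app
      ((extD B Bn).obj W)).symm.toLinearEquiv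
  exact isDualizing_of_iso ((shiftFunctorCompIsoId (Dual.D Bn) d (-d) (add_neg_cancel d)).app _)
    (isDualizing_shift (isDualizing_of_hasResidue hres hfin' (p - d)) (-d))

omit [IsNoetherianRing B] in
include hω in
variable (B) in
/-- Existence. -/
theorem exists_isDualizing_finite [IsNoetherianRing B] : ∃ W : Dual.D B, Dual.IsDualizing B W := by
  obtain ⟨p, q, hpq⟩ := hω.finite_injective_dimension
  obtain ⟨r⟩ := exists_injRep ω p q hpq
  exact ⟨_, isDualizing_of_represents (r.represents_coext (φ := algebraMap A B)) hω⟩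

end Residue

end Groth.DualCore
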