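import Groth.Agent.DualCore.RegularHom
import Groth.Agent.DualCore.Regular
import Groth.Agent.DualCore.ExtDuality
import Groth.Agent.DualCore.FiniteMap
import Groth.Agent.LocCohBase.CM
import Groth.Agent.Calg6.CMSop

/-!
Vanishing of `Ext^*(M, S)` below the length of a regular sequence killing `M`, and existence of long regular
sequences inside ideals of small coheight in Cohen–Macaulay modules.
-/

set_option autoImplicit false
set_option linter.style.haveILetI false

universe u

open CategoryTheory CategoryTheory.Limits DerivedCategory RingTheory.Sequence IsLocalRing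
open scoped Pointwise

attribute [local instance] HasDerivedCategory.standard

namespace Groth.DualCore

section Ext

variable {S : Type u} [CommRing S] [IsNoetherianRing S]

/-- `Ext^j(M, S) = 0` for `j` below the length of a regular sequence killing `M`. -/
theorem subsingleton_hom_of_killed (l : List S) (hl : IsWeaklyRegular S l) :
    ∀ (M : Type u) [AddCommGroup M] [Module S M] [Module.Finite S M],
      (∀ a ∈ Ideal.ofList l, ∀ x : M, a • x = 0) → ∀ j : ℤ, j < l.length →
        Subsingleton (Dual.inD S M ⟶ (Dual.inD S S)⟦j⟧) := by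
  suffices key : ∀ (k : ℕ) (j : ℤ), j < k → j < l.length → ∀ (M : Type u) [AddCommGroup M] [Module S M]
      [Module.Finite S M], (∀ a ∈ Ideal.ofList l, ∀ x : M, a • x = 0) →
        Subsingleton (Dual.inD S M ⟶ (Dual.inD S S)⟦j⟧) from
    fun M _ _ _ h j hj => key l.length j hj hj M h
  intro k
  induction k with
  | zero =>
    intro j hj _ M _ _ _ _
    exact subsingleton_hom_inD_of_neg M S j (by simpa using hj)
  | succ k ih =>
    intro j hj hjl M _ _ _ hM
    let J := Ideal.ofList l
    let K := Dual.inD S S
    have hvan : ∀ (N : Type u) [AddCommGroup N] [Module S N], Module.Finite S N →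
        (∀ a ∈ J, ∀ x : N, a • x = 0) → Subsingleton (Dual.inD S N ⟶ K⟦j - 1⟧) := fun N _ _ _ hN =>
      ih (j - 1) (by lia) (by lia) N hN
    obtain ⟨b, g, hg⟩ := Module.Finite.exists_fin' S M
    letI : Module (S ⧸ J) M := Module.IsTorsionBySet.module (R := S) (I := J) fun x a => hM a a.2 x
    haveI : IsScalarTower S (S ⧸ J) M := Module.IsTorsionBySet.isScalarTower _
    let G : (Fin b → S ⧸ J) →ₗ[S] M :=
      (Fintype.linearCombination (S ⧸ J) fun i => g (Pi.single i 1)).restrictScalars S
    have hG : Function.Surjective G := fun y => by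
      obtain ⟨v, rfl⟩ := hg y
      refine ⟨fun i => Ideal.Quotient.mk J (v i), ?_⟩
      conv_rhs => rw [← Finset.univ_sum_single v, map_sum]
      show Fintype.linearCombination (S ⧸ J) (fun i => g (Pi.single i 1)) _ = _
      rw [Fintype.linearCombination_apply]
      refine Finset.sum_congr rfl fun i _ => ?_
      rw [show Ideal.Quotient.mk J (v i) = algebraMap S (S ⧸ J) (v i) from rfl, algebraMap_smul,
        ← map_smul, ← Pi.single_smul', smul_eq_mul, mul_one]
    have hinj : Function.Injective (map1 K j G) := by
      haveI := hvan (LinearMap.ker G) inferInstance fun a ha x => Subtype.ext (funext fun i => by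
        obtain ⟨y, hy⟩ := Submodule.Quotient.mk_surjective J ((x : Fin b → S ⧸ J) i)
        show a • (x : Fin b → S ⧸ J) i = 0
        rw [← hy, ← Submodule.Quotient.mk_smul, Submodule.Quotient.mk_eq_zero]
        exact Ideal.mul_mem_right y J ha)
      rw [← LinearMap.ker_eq_bot, LinearMap.ker_eq_bot']
      intro w hw
      obtain ⟨v, rfl⟩ := (map1_exact_right _ G (LinearMap.ker G).injective_subtype hG
        (LinearMap.exact_subtype_ker_map G) K (j - 1) j (by lia) w).1 hw
      rw [Subsingleton.elim v 0, map_zero]
    haveI := (hom_quot_regular l hl).1 j hjl.ne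
    haveI : Subsingleton (Dual.inD S (Fin b → S ⧸ J) ⟶ K⟦j⟧) :=
      (homPiEquiv b (S ⧸ J) K j).toEquiv.subsingleton
    exact hinj.subsingleton

end Ext

section CM

variable {S : Type u} [CommRing S] [IsLocalRing S] [IsNoetherianRing S]

/-- Regular sequences inside an ideal of small coheight. -/
theorem exists_isWeaklyRegular_mem (J : Ideal S) (hJ : J ≤ maximalIdeal S) : ∀ (c : ℕ) (M : Type u)
    [AddCommGroup M] [Module S M] [Module.Finite S M], LocCoh.IsCohenMacaulayModule S M →
    (∀ (P : Ideal S), P.IsPrime → J ≤ P → Module.annihilator S M ≤ P →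
      ringKrullDim (S ⧸ P) + c ≤ Module.supportDim S M) →
    ∃ l : List S, l.length = c ∧ (∀ x ∈ l, x ∈ J) ∧ IsWeaklyRegular M l := by
  intro c
  induction c with
  | zero => exact fun M _ _ _ _ _ => ⟨[], rfl, by simp, IsWeaklyRegular.nil S M⟩
  | succ c ih =>
    intro M _ _ _ hM hdim
    haveI : Nontrivial M := Groth.LocCohBase.nontrivial_of_CM hM
    have hnot : ¬ ((J : Set S) ⊆ ⋃ p ∈ associatedPrimes S M, (p : Set S)) := by
      intro hsub
      obtain ⟨p, hp, hJp⟩ := (Ideal.subset_union_prime_finite (associatedPrimes.finite S M) 0 0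
        (fun p hp _ _ => hp.isPrime)).1 hsub
      have h1 := hdim p hp.isPrime hJp
        (le_of_eq_of_le Submodule.annihilator_top.symm (IsAssociatedPrime.annihilator_le hp))
      rw [Groth.LocCohBase.ringKrullDim_quotient_eq_of_CM hM hp] at h1
      obtain ⟨d, hd⟩ := Groth.LocCohBase.exists_depth_eq (R := S) M
      rw [show Module.supportDim S M = _ from hM, hd] at h1
      change ((d + (c + 1) : ℕ) : WithBot ℕ∞) ≤ (d : WithBot ℕ∞) at h1
      norm_cast at h1
      omega
    obtain ⟨x, hxJ, hx⟩ := Set.not_subset.1 hnot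
    rw [biUnion_associatedPrimes_eq_compl_regular S M, Set.notMem_compl_iff] at hx
    have hreg : IsSMulRegular M x := hx
    have hxm : x ∈ maximalIdeal S := hJ hxJ
    have hM' := Groth.LocCohBase.isCM_quotSMulTop hM hxm hreg
    obtain ⟨l, hlen, hlJ, hl⟩ := ih (QuotSMulTop x M) hM' fun P hP hJP hann => by
      have hann' : Module.annihilator S M ≤ P :=
        ((x • ⊤ : Submodule S M).mkQ.annihilator_le_of_surjective (Submodule.mkQ_surjective _)).trans hann
      have h1 := hdim P hP hJP hann'
      rw [← Module.supportDim_quotSMulTop_succ_eq_supportDim hreg hxm, Nat.cast_succ, ← add_assoc] at h1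
      exact ((Groth.Calg6.AddLECancellable.of_ne_top_one).add_le_add_iff_right).1 h1
    exact ⟨x :: l, by simp [hlen], List.forall_mem_cons.2 ⟨hxJ, hlJ⟩, IsWeaklyRegular.cons hreg hl⟩

end CM

end Groth.DualCore
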