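import Groth.Agent.DualCore.LocalExt
import Groth.Agent.DualCore.GradeVanishing
import Groth.Agent.DualCore.ExtDuality
import Groth.Agent.Ega4Algebra2.CMUnmixed
import Groth.Agent.LocCohBase.Depth

/-!
The top cohomology of `RHom_P(A, P)` over a Cohen–Macaulay point as a `Hom` into a Cohen–Macaulay quotient,
and the depth of such a module.
-/

set_option autoImplicit false
set_option linter.style.haveILetI false

universe u

open CategoryTheory CategoryTheory.Limits DerivedCategory IsLocalRing RingTheory.Sequence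
open scoped TensorProduct Pointwise

attribute [local instance] HasDerivedCategory.standard

namespace Groth.DualCore

section Hom

variable {S : Type u} [CommRing S] {X Q : Type u} [AddCommMonoid X] [Module S X] [AddCommGroup Q] [Module S Q]

theorem isSMulRegular_linearMap {x : S} (h : IsSMulRegular Q x) : IsSMulRegular (X →ₗ[S] Q) x :=
  fun _ _ hfg => LinearMap.ext fun y => h (LinearMap.congr_fun hfg y)

/-- A regular sequence of length at most two on `Q` is regular on `Hom(X, Q)`. -/
theorem isWeaklyRegular_linearMap (l : List S) (hlen : l.length ≤ 2) (h : IsWeaklyRegular Q l) :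
    IsWeaklyRegular (X →ₗ[S] Q) l := by
  match l, hlen, h with
  | [], _, _ => exact IsWeaklyRegular.nil S _
  | [x], _, h =>
    exact (isWeaklyRegular_singleton_iff _ _).2
      (isSMulRegular_linearMap ((isWeaklyRegular_singleton_iff _ _).1 h))
  | _ :: _ :: _ :: _, hlen, _ => simp at hlen
  | [x, y], _, h =>
    obtain ⟨hx, h'⟩ := (isWeaklyRegular_cons_iff _ x [y]).1 h
    have hy := (isWeaklyRegular_singleton_iff _ _).1 h'
    refine (isWeaklyRegular_cons_iff _ x [y]).2 ⟨isSMulRegular_linearMap hx, (isWeaklyRegular_singleton_iff _ _).2 ?_⟩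
    refine (isSMulRegular_quotient_iff_mem_of_smul_mem _ _).2 fun f hf => ?_
    obtain ⟨g, -, hg⟩ := (Submodule.mem_smul_pointwise_iff_exists ..).1 hf
    have hmem : ∀ v : X, f v ∈ x • (⊤ : Submodule S Q) := fun v =>
      (isSMulRegular_quotient_iff_mem_of_smul_mem _ _).1 hy (f v)
        ((Submodule.mem_smul_pointwise_iff_exists ..).2 ⟨g v, trivial, LinearMap.congr_fun hg v⟩)
    choose k hk using fun v => (Submodule.mem_smul_pointwise_iff_exists ..).1 (hmem v)
    refine (Submodule.mem_smul_pointwise_iff_exists ..).2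
      ⟨⟨⟨k, fun a b => hx ?_⟩, fun r a => hx ?_⟩, trivial, LinearMap.ext fun v => (hk v).2⟩
    · show x • k (a + b) = x • (k a + k b)
      rw [smul_add, (hk _).2, (hk _).2, (hk _).2, map_add]
    · show x • k (r • a) = x • (r • k a)
      rw [smul_comm x r, (hk _).2, (hk _).2, map_smul]

end Hom

section Local

set_option linter.overlappingInstances false

variable {S : Type u} [CommRing S] [IsLocalRing S] [IsNoetherianRing S]

/-- **`Ext^c(M, S) ≅ Hom(Hom(S/J, M), S/J)`** for `J` generated by a regular sequence of length `c` killing `M`. -/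
theorem nonempty_hom_equiv_of_killed (l : List S) (hl : IsWeaklyRegular S l) (M : Type u) [AddCommGroup M]
    [Module S M] [Module.Finite S M] (hM : ∀ a ∈ Ideal.ofList l, ∀ x : M, a • x = 0) :
    Nonempty ((Dual.inD S M ⟶ (Dual.inD S S)⟦(l.length : ℤ)⟧) ≃ₗ[S]
      (((S ⧸ Ideal.ofList l) →ₗ[S] M) →ₗ[S] (S ⧸ Ideal.ofList l))) := by
  obtain ⟨-, ⟨e⟩⟩ := hom_quot_regular l hl
  let J := Ideal.ofList l
  let K := Dual.inD S S
  let c : ℤ := l.length
  have hvan : ∀ (N : Type u) [AddCommGroup N] [Module S N], Module.Finite S N →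
      (∀ a ∈ J, ∀ x : N, a • x = 0) → Subsingleton (Dual.inD S N ⟶ K⟦c - 1⟧) := fun N _ _ _ hN =>
    subsingleton_hom_of_killed l hl N hN _ (by lia)
  let Φ : (Dual.inD S M ⟶ K⟦c⟧) →ₗ[S] (((S ⧸ J) →ₗ[S] M) →ₗ[S] (Dual.inD S (S ⧸ J) ⟶ K⟦c⟧)) :=
    LinearMap.mk₂ S (fun ξ u => map1 K c u ξ) (fun ξ η u => map_add _ _ _) (fun r ξ u => map_smul _ _ _)
      (fun ξ u v => by simp only [map1_apply, inDmap_add, Preadditive.add_comp])
      (fun r ξ u => by simp only [map1_apply, inDmap_smul, Linear.smul_comp])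
  have hΦ : Function.Bijective Φ := by
    refine ⟨?_, fun g => ?_⟩
    · rw [← LinearMap.ker_eq_bot, LinearMap.ker_eq_bot']
      exact fun ξ hξ => eq_zero_of_forall J K c hvan M hM ξ fun u => LinearMap.congr_fun hξ u
    · obtain ⟨ξ, hξ⟩ := exists_of_linear J K c hvan M hM g
      exact ⟨ξ, LinearMap.ext fun u => (hξ u).symm⟩
  exact ⟨(LinearEquiv.ofBijective Φ hΦ).trans (LinearEquiv.congrRight e)⟩

/-- Depth of a module which is, along a local surjection killing `(l)`, a `Hom` into `S/(l)`. -/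
theorem min_two_le_depth_of_addEquiv [hS : LocCoh.IsCohenMacaulayLocalRing S] {B : Type u} [CommRing B]
    [IsLocalRing B] [IsNoetherianRing B] (φ : S →+* B) (hφ : Function.Surjective φ) (l : List S)
    (hl : IsWeaklyRegular S l) (hlm : ∀ x ∈ l, x ∈ maximalIdeal S) (hker : Ideal.ofList l ≤ RingHom.ker φ)
    (X : Type u) [AddCommMonoid X] [Module S X] (N : Type u) [AddCommGroup N] [Module B N]
    (e : N ≃+ (X →ₗ[S] (S ⧸ Ideal.ofList l))) (he : ∀ (s : S) (m : N), e (φ s • m) = s • e m) :
    min (2 : WithBot ℕ∞) (Module.supportDim B N) ≤ ((LocCoh.depth B N : ℕ∞) : WithBot ℕ∞) := by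
  let J := Ideal.ofList l
  have hJ : J ≤ maximalIdeal S := Ideal.span_le.2 hlm
  haveI : Nontrivial (S ⧸ J) :=
    Ideal.Quotient.nontrivial_iff.2 fun h => (maximalIdeal.isMaximal S).ne_top (top_le_iff.1 (h ▸ hJ))
  have eq : J • (⊤ : Submodule S S) = J := by rw [smul_eq_mul, Ideal.mul_top]
  have hCM : LocCoh.IsCohenMacaulayModule S (S ⧸ J) :=
    (Groth.Ega4b.isCM_congr (Submodule.quotEquivOfEq _ _ eq)).1
      (Groth.Ega4b.isCM_quotient_ofList l S hS.supportDim_eq_depth hlm hl)
  by_cases hN : maximalIdeal B • (⊤ : Submodule B N) = ⊤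
  · have h : LocCoh.depth B N = ⊤ := by
      unfold LocCoh.depth LocCoh.idealDepth
      rw [if_pos hN]
    rw [h]
    exact le_top
  have hdim : Module.supportDim B N ≤ ((LocCoh.depth S (S ⧸ J) : ℕ∞) : WithBot ℕ∞) := by
    rw [← hCM, Module.supportDim_quotient_eq_ringKrullDim]
    exact (Module.supportDim_le_ringKrullDim B N).trans (ringKrullDim_le_of_surjective
      (Ideal.Quotient.lift J φ fun a ha => hker ha) (Ideal.Quotient.lift_surjective_of_surjective J _ hφ))
  have hS' : maximalIdeal S • (⊤ : Submodule S (S ⧸ J)) ≠ ⊤ := fun h =>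
    (Submodule.top_ne_ideal_smul_of_le_jacobson_annihilator (IsLocalRing.maximalIdeal_le_jacobson _)) h.symm
  obtain ⟨k, hk⟩ := ENat.ne_top_iff_exists.1 (show min (2 : ℕ∞) (LocCoh.depth S (S ⧸ J)) ≠ ⊤ from
    ne_top_of_le_ne_top (by simp) (min_le_left _ _))
  have hk2 : k ≤ 2 := by
    have h : (k : ℕ∞) ≤ 2 := hk ▸ min_le_left _ _
    exact_mod_cast h
  obtain ⟨rs, hlen, hrs, hmem⟩ :=
    (Groth.LocCohBase.le_idealDepth_iff_exists (maximalIdeal S) hS' k).1 (hk ▸ min_le_right _ _)
  have hreg : IsWeaklyRegular N (rs.map φ) :=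
    (e.isWeaklyRegular_congr (List.forall₂_map_left_iff.2 (List.forall₂_same.2 fun r _ m => he r m))).2
      (isWeaklyRegular_linearMap rs (hlen ▸ hk2) hrs)
  haveI := hφ.isLocalHom
  have hd : (k : ℕ∞) ≤ LocCoh.depth B N :=
    (Groth.LocCohBase.le_idealDepth_iff_exists (maximalIdeal B) hN k).2 ⟨rs.map φ, by simp [hlen], hreg,
      fun y hy => by
        obtain ⟨r, hr, rfl⟩ := List.mem_map.1 hy
        exact map_nonunit φ r (hmem r hr)⟩
  calc min (2 : WithBot ℕ∞) (Module.supportDim B N)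
      ≤ min (2 : WithBot ℕ∞) ((LocCoh.depth S (S ⧸ J) : ℕ∞) : WithBot ℕ∞) := min_le_min le_rfl hdim
    _ = ((min 2 (LocCoh.depth S (S ⧸ J)) : ℕ∞) : WithBot ℕ∞) := (WithBot.coe_min _ _).symm
    _ ≤ _ := WithBot.coe_le_coe.2 (hk ▸ hd)

end Local

section LocalizationEquiv

variable {P A : Type u} [CommRing P] [CommRing A] [Algebra P A] [IsNoetherianRing P]
  (Rψ : Dual.D P ⥤ Dual.D A) (adj : DRing.restrictD (algebraMap P A) ⊣ Rψ)

include adj in
/-- `H^i(RHom_P(A, P))_q ≅ Ext^i_{P_q}(A_q, P_q)`, compatibly with `P`. -/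
theorem exists_localization_HD_equiv (hsurj : Function.Surjective (algebraMap P A)) (q : Ideal A) [q.IsPrime]
    (i : ℤ) :
    ∃ T : Localization.AtPrime q ⊗[A] Dual.HD A (Rψ.obj (Dual.inD P P)) i ≃+
      (Dual.inD (Localization.AtPrime (q.comap (algebraMap P A)))
          (Localization.AtPrime (q.comap (algebraMap P A)) ⊗[P] A) ⟶
        (Dual.inD (Localization.AtPrime (q.comap (algebraMap P A)))
          (Localization.AtPrime (q.comap (algebraMap P A))))⟦i⟧),
      ∀ (a : P) x, T (algebraMap P A a • x) =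
        algebraMap P (Localization.AtPrime (q.comap (algebraMap P A))) a • T x := by
  let q' := q.comap (algebraMap P A)
  let S := Localization.AtPrime q'
  let Aq := Localization.AtPrime q
  let W := Rψ.obj (Dual.inD P P)
  have hrep := represents_counit (φ := algebraMap P A) Rψ adj (Dual.inD P P)
  haveI : Module.Finite P A := Module.Finite.of_surjective (Algebra.linearMap P A) hsurj
  let uS : (extD P S).obj (Dual.inD P P) ≅ Dual.inD S S :=
    extInD P ≪≫ (singleFunctor (ModuleCat.{u} S) 0).mapIso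
      (TensorProduct.AlgebraTensorModule.rid P S S).toModuleIso
  letI : Module P (Dual.HD A W i) := Module.compHom _ (algebraMap P A)
  haveI : IsScalarTower P A (Dual.HD A W i) := IsScalarTower.of_algebraMap_smul fun _ _ => rfl
  let θ₀ : Dual.HD A W i ≃+ (Dual.inD P A ⟶ (Dual.inD P P)⟦i⟧) :=
    (homAEquiv W i).symm.toAddEquiv.trans (hrep.homInDEquiv A i)
  let θ : Dual.HD A W i ≃ₗ[P] (Dual.inD P A ⟶ (Dual.inD P P)⟦i⟧) :=
    θ₀.toLinearEquiv fun r x => by
      show hrep.homInDEquiv A i ((homAEquiv W i).symm (algebraMap P A r • x)) = _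
      rw [map_smul, hrep.homInDEquiv_smul]
      rfl
  let f₁ := (TensorProduct.mk A Aq (Dual.HD A W i) 1).restrictScalars P
  haveI : IsLocalizedModule q'.primeCompl f₁ := isLocalizedModule_restrict_surjective hsurj q _
  let f₂ := (TensorProduct.mk P S (Dual.inD P A ⟶ (Dual.inD P P)⟦i⟧) 1) ∘ₗ θ.toLinearMap
  haveI : IsLocalizedModule q'.primeCompl f₂ := IsLocalizedModule.of_linearEquiv_right _ _ _
  let g := IsLocalizedModule.linearEquiv q'.primeCompl f₁ f₂
  let h := (extHomInDEquiv (B := S) A (Dual.inD P P) 0 i).trans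
      (Linear.homCongr S (Iso.refl _) ((shiftFunctor _ i).mapIso uS))
  refine ⟨g.toAddEquiv.trans h.toAddEquiv, fun a x => ?_⟩
  show h (g (algebraMap P A a • x)) = algebraMap P S a • h (g x)
  rw [← map_smul h, algebraMap_smul, algebraMap_smul, map_smul]

end LocalizationEquiv

end Groth.DualCore
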