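import Groth.Agent.DualCore.CMGrade
import Groth.Agent.DualCore.CMShriek

/-!
`H^i(φ^!R)` localized over a Cohen–Macaulay point of the base, prime by prime: vanishing in degrees below `-r`
and depth at least `min(2, dim)` in degree `-r`.
-/

set_option autoImplicit false
set_option linter.style.haveILetI false

universe u

open CategoryTheory IsLocalRing RingTheory.Sequence
open scoped TensorProduct

attribute [local instance] HasDerivedCategory.standard

namespace Groth.DualCore

section Chain

variable {A : Type u} [CommRing A] (T : Submonoid A) (Q : Ideal (Localization T)) [Q.IsPrime]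

instance isLocalization_atPrime_atPrime :
    IsLocalization.AtPrime (Localization.AtPrime Q) (Q.comap (algebraMap A (Localization T))) :=
  IsLocalization.isLocalization_isLocalization_atPrime_isLocalization T (Localization.AtPrime Q) Q

/-- `A_q ≅ B_Q`. -/
noncomputable def atPrimeAtPrimeEquiv :
    Localization.AtPrime (Q.comap (algebraMap A (Localization T))) ≃ₐ[A] Localization.AtPrime Q :=
  IsLocalization.algEquiv (Q.comap (algebraMap A (Localization T))).primeCompl _ _

/-- `(T⁻¹H)_Q ≅ B_Q ⊗_A H`. -/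
noncomputable def localizedTensorEquiv (H : Type u) [AddCommGroup H] [Module A H] :
    LocalizedModule Q.primeCompl (LocalizedModule T H) ≃ₗ[Localization.AtPrime Q] Localization.AtPrime Q ⊗[A] H :=
  (LocalizedModule.equivTensorProduct Q.primeCompl (LocalizedModule T H)).trans
    ((TensorProduct.AlgebraTensorModule.congr (LinearEquiv.refl (Localization.AtPrime Q) (Localization.AtPrime Q))
      (LocalizedModule.equivTensorProduct T H)).trans
    (TensorProduct.AlgebraTensorModule.cancelBaseChange A (Localization T) (Localization.AtPrime Q)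
      (Localization.AtPrime Q) H))

/-- `(T⁻¹H)_Q ≅ A_q ⊗ H`. -/
noncomputable def localizedLocalizedEquiv (H : Type u) [AddCommGroup H] [Module A H] :
    LocalizedModule Q.primeCompl (LocalizedModule T H) ≃+
      Localization.AtPrime (Q.comap (algebraMap A (Localization T))) ⊗[A] H :=
  (localizedTensorEquiv T Q H).toAddEquiv.trans
    (TensorProduct.congr (atPrimeAtPrimeEquiv T Q).symm.toLinearEquiv (LinearEquiv.refl A H)).toAddEquiv

theorem localizedLocalizedEquiv_smul (H : Type u) [AddCommGroup H] [Module A H] (a : A)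
    (x : LocalizedModule Q.primeCompl (LocalizedModule T H)) :
    localizedLocalizedEquiv T Q H (algebraMap A (Localization.AtPrime Q) a • x) =
      a • localizedLocalizedEquiv T Q H x := by
  show TensorProduct.congr (atPrimeAtPrimeEquiv T Q).symm.toLinearEquiv (LinearEquiv.refl A H)
    (localizedTensorEquiv T Q H (algebraMap A (Localization.AtPrime Q) a • x)) = _
  refine ((congrArg _ ((map_smul (localizedTensorEquiv T Q H) _ x).trans
    (algebraMap_smul (Localization.AtPrime Q) a _))).trans ?_)
  exact (TensorProduct.congr (atPrimeAtPrimeEquiv T Q).symm.toLinearEquiv (LinearEquiv.refl A H)).map_smul a _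

end Chain

variable (R A : Type u) [CommRing R] [CommRing A] [IsNoetherianRing R] [IsNoetherianRing A] [Algebra R A] (n : ℕ)
  (ψ : MvPolynomial (Fin n) R →ₐ[R] A) (hψ : Function.Surjective ψ)
  [DRing.HasLBaseChange (algebraMap R (MvPolynomial (Fin n) R))]
  (Rψ : Dual.D (MvPolynomial (Fin n) R) ⥤ Dual.D A) (adj : DRing.restrictD ψ.toRingHom ⊣ Rψ)
  (p : Ideal R) [p.IsPrime] [LocCoh.IsCohenMacaulayLocalRing (Localization.AtPrime p)] (r : ℕ)
  (hr : ∀ q : PrimeSpectrum A, q.asIdeal ∈ minimalPrimes A →
    Dual3.resTrdeg (AlgebraicGeometry.Spec.map (CommRingCat.ofHom (algebraMap R A))) q ≤ (r : Cardinal.{u}))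
  (Q : Ideal (Localization (Algebra.algebraMapSubmonoid A p.primeCompl))) [Q.IsPrime]

include hψ adj hr in
set_option maxHeartbeats 1600000 in
theorem localized_shriek_vanishing_and_depth :
    (∀ i : ℤ, i < -(r : ℤ) → Subsingleton (LocalizedModule Q.primeCompl
      (LocalizedModule (Algebra.algebraMapSubmonoid A p.primeCompl)
        (Dual.HD A (Dual2.shriekVia n Rψ (Dual.inD R R)) i)))) ∧
    min (2 : WithBot ℕ∞) (Module.supportDim (Localization.AtPrime Q) (LocalizedModule Q.primeCompl
        (LocalizedModule (Algebra.algebraMapSubmonoid A p.primeCompl)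
          (Dual.HD A (Dual2.shriekVia n Rψ (Dual.inD R R)) (-(r : ℤ)))))) ≤
      ((LocCoh.depth (Localization.AtPrime Q) (LocalizedModule Q.primeCompl
        (LocalizedModule (Algebra.algebraMapSubmonoid A p.primeCompl)
          (Dual.HD A (Dual2.shriekVia n Rψ (Dual.inD R R)) (-(r : ℤ))))) : ℕ∞) : WithBot ℕ∞) := by
  let P := MvPolynomial (Fin n) R
  letI : Algebra P A := ψ.toRingHom.toAlgebra
  haveI : IsScalarTower R P A := IsScalarTower.of_algebraMap_eq fun x => (ψ.commutes x).symm
  obtain ⟨u⟩ := Groth.DualCore.nonempty_LBaseChange_inD (algebraMap R P)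
  let e : Dual2.shriekVia n Rψ (Dual.inD R R) ≅ (Rψ.obj (Dual.inD P P))⟦(n : ℤ)⟧ :=
    (shiftFunctor _ (n : ℤ)).mapIso (Rψ.mapIso u)
  let T := Algebra.algebraMapSubmonoid A p.primeCompl
  let q : Ideal A := Q.comap (algebraMap A (Localization T))
  have hq : q.comap (algebraMap R A) ≤ p := by
    intro x hx
    by_contra hxp
    exact Ideal.IsPrime.ne_top ‹_› (Q.eq_top_of_isUnit_mem hx
      (IsLocalization.map_units (Localization T) (⟨algebraMap R A x, x, hxp, rfl⟩ : T)))
  obtain ⟨hS, l, hlen, hl, hlI⟩ := exists_isWeaklyRegular_ker_of_CM n hψ p r hr q hq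
  let S := Localization.AtPrime (q.comap (algebraMap P A))
  haveI := hS
  let M := S ⊗[P] A
  haveI : Module.Finite P A := Module.Finite.of_surjective (Algebra.linearMap P A) hψ
  have hM : ∀ a ∈ Ideal.ofList l, ∀ x : M, a • x = 0 := fun a ha x =>
    smul_eq_zero_of_mem_map_ker S a (Ideal.span_le.2 (fun y hy => hlI y hy) ha) x
  -- the localized cohomology as `Hom_S(M, S⟦n + i⟧)`
  have key : ∀ i : ℤ, ∃ Θ : LocalizedModule Q.primeCompl
      (LocalizedModule T (Dual.HD A (Dual2.shriekVia n Rψ (Dual.inD R R)) i)) ≃+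
      (Dual.inD S M ⟶ (Dual.inD S S)⟦(n : ℤ) + i⟧),
      ∀ (a : P) x, Θ (algebraMap A (Localization.AtPrime Q) (algebraMap P A a) • x) =
        algebraMap P S a • Θ x := by
    intro i
    obtain ⟨Te, hTe⟩ := exists_localization_HD_equiv (P := P) Rψ adj hψ q ((n : ℤ) + i)
    let E := (HDCongr e i).trans (HDShiftEquiv _ (n : ℤ) i _ rfl)
    let g := TensorProduct.congr (LinearEquiv.refl A (Localization.AtPrime q)) E
    refine ⟨((localizedLocalizedEquiv T Q _).trans g.toAddEquiv).trans Te, fun a x => ?_⟩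
    show Te (g (localizedLocalizedEquiv T Q _ _)) = algebraMap P S a • Te (g (localizedLocalizedEquiv T Q _ x))
    rw [localizedLocalizedEquiv_smul, map_smul]
    exact hTe a _
  have hvan : ∀ i : ℤ, (n : ℤ) + i < l.length → Subsingleton (LocalizedModule Q.primeCompl
      (LocalizedModule T (Dual.HD A (Dual2.shriekVia n Rψ (Dual.inD R R)) i))) := fun i hi => by
    obtain ⟨Θ, -⟩ := key i
    haveI := subsingleton_hom_of_killed l hl M hM _ hi
    exact Θ.toEquiv.subsingleton
  refine ⟨fun i hi => hvan i (by omega), ?_⟩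
  by_cases hrn : n < r
  · haveI := hvan (-(r : ℤ)) (by omega)
    unfold LocCoh.depth LocCoh.idealDepth
    rw [if_pos (Subsingleton.elim _ _)]
    exact le_top
  obtain ⟨Θ, hΘ⟩ := key (-(r : ℤ))
  have hc : (n : ℤ) + -(r : ℤ) = (l.length : ℤ) := by omega
  revert Θ
  rw [hc]
  intro Θ hΘ
  obtain ⟨Φ⟩ := nonempty_hom_equiv_of_killed l hl M hM
  let φ : S →+* Localization.AtPrime Q :=
    ((atPrimeAtPrimeEquiv T Q).toRingEquiv.toRingHom).comp
      (Localization.localRingHom (q.comap (algebraMap P A)) q (algebraMap P A) rfl)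
  have hφa : ∀ a : P, φ (algebraMap P S a) = algebraMap A (Localization.AtPrime Q) (algebraMap P A a) := fun a =>
    (congrArg _ (Localization.localRingHom_to_map _ _ _ rfl a)).trans ((atPrimeAtPrimeEquiv T Q).commutes _)
  have hφ : Function.Surjective φ :=
    (atPrimeAtPrimeEquiv T Q).surjective.comp
      ((RingHom.surjectiveOnStalks_of_surjective hψ : (algebraMap P A).SurjectiveOnStalks) q inferInstance)
  haveI : IsNoetherianRing (Localization.AtPrime Q) := isNoetherianRing_of_surjective S _ φ hφ
  have hker : Ideal.ofList l ≤ RingHom.ker φ := by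
    refine Ideal.span_le.2 fun y hy => ?_
    refine (Ideal.map_le_iff_le_comap.2 fun a ha => ?_ : _ ≤ RingHom.ker φ) (hlI y hy)
    rw [Ideal.mem_comap, RingHom.mem_ker, hφa, RingHom.mem_ker.1 ha, map_zero]
  have hlm : ∀ x ∈ l, x ∈ maximalIdeal S := fun x hx =>
    IsLocalRing.le_maximalIdeal (Groth.KoszulLCI.map_atPrime_ne_top (Ideal.ker_le_comap _)) (hlI x hx)
  refine min_two_le_depth_of_addEquiv φ hφ l hl hlm hker _ _
    (Θ.trans Φ.toAddEquiv) fun s m => ?_
  show Φ (Θ (φ s • m)) = s • Φ (Θ m)
  rw [← map_smul]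
  congr 1
  obtain ⟨⟨a, t⟩, hst⟩ := IsLocalization.surj (q.comap (algebraMap P A)).primeCompl s
  refine (IsLocalization.map_units S t).smul_left_cancel.1 ?_
  rw [← hΘ, smul_smul, smul_smul, ← hφa, ← map_mul, mul_comm _ s, hst, hφa]
  exact hΘ a m

end Groth.DualCore
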