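import Groth.Agent.DualCore.AtPrime
import Groth.Agent.DualCore.SmoothBC
import Groth.Agent.Calg1.CatenaryLocal

/-!
# Rings with dualizing complexes are universally catenary
-/

set_option autoImplicit false

universe u

open CategoryTheory

attribute [local instance] HasDerivedCategory.standard

namespace Groth.DualCore

variable {A : Type u} [CommRing A] [IsNoetherianRing A]

/-- Catenary. -/
theorem isCatenary_of_isDualizing {ω : Dual.D A} (hω : Dual.IsDualizing A ω) : CAlg.IsCatenary A := by
  obtain ⟨N, hN⟩ := exists_ringKrullDim_le hω
  refine ⟨fun p q _ => ⟨N, fun s _ _ => ?_⟩, fun s t h1 h2 hs ht => ?_⟩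
  · exact natCast_le_natCast.1 ((Order.LTSeries.length_le_krullDim s).trans hN)
  · have key : ∀ s : LTSeries (PrimeSpectrum A),
        (∀ i : Fin s.length, s (Fin.castSucc i) ⋖ s (Fin.succ i)) →
          degree hω s.last = degree hω s.head + s.length := by
      intro s hs
      have : ∀ (k : ℕ) (hk : k < s.length + 1), degree hω (s ⟨k, hk⟩) = degree hω s.head + k := by
        intro k
        induction k with
        | zero => intro hk; simp [RelSeries.head]
        | succ k ih =>
          intro hk
          have h3 := degree_covBy hω _ _ (hs ⟨k, by lia⟩)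
          have h4 := ih (by lia)
          simp only [Fin.castSucc_mk, Fin.succ_mk] at h3
          push_cast
          lia
      exact this s.length (by lia)
    have e1 := key s hs
    have e2 := key t ht
    rw [h1, h2] at e1
    lia

/-- Universally catenary. -/
theorem isUniversallyCatenary_of_isDualizing {ω : Dual.D A} (hω : Dual.IsDualizing A ω) :
    CAlg.IsUniversallyCatenary A :=
  (Groth.Calg1.isUniversallyCatenary_iff_mvPolynomial A).2 ⟨inferInstance, fun n =>
    haveI : Algebra.Smooth A (MvPolynomial (Fin n) A) := ⟨inferInstance, inferInstance⟩
    isCatenary_of_isDualizing (isDualizing_extD_of_smooth (B := MvPolynomial (Fin n) A) hω)⟩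

end Groth.DualCore
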