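import Groth.Agent.DualCore.Coextend

/-!
# `RHom_A(B, -)` exists on objects bounded below
-/

set_option autoImplicit false

universe u

open CategoryTheory CategoryTheory.Limits DerivedCategory

attribute [local instance] HasDerivedCategory.standard

namespace Groth.DualCore

variable {A B : Type u} [CommRing A] [CommRing B] (φ : A →+* B)

/-- A bounded below object has a coextension. -/
theorem exists_represents (W : Dual.D A) (a : ℤ) [IsGE W a] :
    ∃ (W' : Dual.D B) (ε : (DRing.restrictD φ).obj W' ⟶ W), IsGE W' a ∧ Represents φ ε := by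
  obtain ⟨K, hK, ⟨e₀⟩⟩ := exists_iso_Q_obj_of_isGE W a
  obtain ⟨J, f, hf, hJinj, hJ⟩ :=
    CochainComplex.Plus.modelCategoryQuillen.exists_quasiIso_injective K a
  haveI : J.IsKInjective := CochainComplex.isKInjective_of_injective J a
  let eJ : Q.obj J ≅ W := (asIso (Q.map f)).symm ≪≫ e₀.symm
  haveI := (ModuleCat.restrictCoextendScalarsAdj.{u, u, u} φ).right_adjoint_additive
  haveI : ((coextC φ).obj J).IsStrictlyGE a := (CochainComplex.isStrictlyGE_iff _ _).2 fun i hi =>
      (ModuleCat.coextendScalars.{u, u, u} φ).map_isZero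
        (CochainComplex.isZero_of_isStrictlyGE J a i hi)
  haveI : ∀ n, Injective (((coextC φ).obj J).X n) := fun n =>
    (ModuleCat.restrictCoextendScalarsAdj.{u, u, u} φ).map_injective (J.X n) (hJinj n)
  haveI : ((coextC φ).obj J).IsKInjective := CochainComplex.isKInjective_of_injective _ a
  let fac := (res φ).mapDerivedCategoryFactors
  let ε : (DRing.restrictD φ).obj (Q.obj ((coextC φ).obj J)) ⟶ W :=
    fac.hom.app _ ≫ Q.map (counitC φ J) ≫ eJ.hom
  refine ⟨_, ε, inferInstance, fun X => ?_⟩
  let e : Q.obj (Q.objPreimage X) ≅ X := Q.objObjPreimageIso X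
  have key : ∀ f' : Q.objPreimage X ⟶ (coextC φ).obj J,
      (DRing.restrictD φ).map (Q.map f') ≫ ε =
        fac.hom.app _ ≫ Q.map ((resC φ).map f' ≫ counitC φ J) ≫ eJ.hom := by
    intro f'
    simp only [ε]
    rw [← Category.assoc, (res φ).mapDerivedCategoryFactors_hom_naturality,
      Functor.map_comp, Category.assoc, Category.assoc]
  constructor
  · intro g₁ g₂ hg
    rw [← sub_eq_zero]
    obtain ⟨f, hf⟩ := Q_map_surjective (e.hom ≫ (g₁ - g₂))
    rw [← cancel_epi e.hom, comp_zero, ← hf]
    have h0 : (DRing.restrictD φ).map (Q.map f) ≫ ε = 0 := by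
      simp only at hg
      rw [hf, Functor.map_comp, Category.assoc, Functor.map_sub, Preadditive.sub_comp, hg, sub_self,
        comp_zero]
    rw [key] at h0
    have h1 : Q.map ((resC φ).map f ≫ counitC φ J) = 0 := by
      rw [← cancel_epi (fac.hom.app (Q.objPreimage X)), ← cancel_mono eJ.hom, Category.assoc, h0,
        comp_zero, zero_comp]
    obtain ⟨H⟩ := homotopy_of_Q_map_eq_zero h1
    obtain ⟨H'⟩ := homotopy_lift φ _ _ f H
    exact Q_map_eq_zero_of_homotopy H'
  · intro v
    obtain ⟨f, hf⟩ := Q_map_surjective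
      (fac.inv.app (Q.objPreimage X) ≫ (DRing.restrictD φ).map e.hom ≫ v ≫ eJ.inv)
    obtain ⟨f', hf'⟩ := exists_lift φ (Q.objPreimage X) J f
    refine ⟨e.inv ≫ Q.map f', ?_⟩
    show (DRing.restrictD φ).map (e.inv ≫ Q.map f') ≫ ε = v
    rw [Functor.map_comp, Category.assoc, key, hf', hf]
    simp only [fac, Category.assoc, Iso.hom_inv_id_app_assoc, Iso.inv_hom_id, Category.comp_id]
    rw [← Functor.map_comp_assoc, e.inv_hom_id, CategoryTheory.Functor.map_id, Category.id_comp]

end Groth.DualCore
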