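import Groth.Prelude.Def_Wider
import Mathlib.Algebra.Homology.DerivedCategory.TStructure
import Mathlib.Algebra.Homology.DerivedCategory.SingleTriangle
import Mathlib.CategoryTheory.Triangulated.TStructure.TruncLEGT
import Mathlib.RingTheory.Noetherian.Basic
import Mathlib.Algebra.Category.ModuleCat.Abelian

/-!
# Dévissage of bounded objects of `D(A)` with finite cohomology
-/

set_option autoImplicit false

universe u

open CategoryTheory CategoryTheory.Limits CategoryTheory.Pretriangulated DerivedCategory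

attribute [local instance] HasDerivedCategory.standard

namespace Groth.DualCore

variable {A : Type u} [CommRing A]

/-- Splitting off the top cohomology. -/
lemma exists_top_triangle (X : Dual.D A) (n m : ℤ) (h : m + 1 = n) [IsLE X n] :
    ∃ T : Triangle (Dual.D A), T ∈ distTriang (Dual.D A) ∧ IsLE T.obj₁ m ∧ Nonempty (T.obj₂ ≅ X) ∧
      (∀ i ≤ m, Nonempty ((homologyFunctor (ModuleCat.{u} A) i).obj T.obj₁ ≅
        (homologyFunctor (ModuleCat.{u} A) i).obj X)) ∧
      Nonempty (T.obj₃ ≅ (singleFunctor (ModuleCat.{u} A) n).obj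
        ((homologyFunctor (ModuleCat.{u} A) n).obj X)) := by
  let t := (TStructure.t : Triangulated.TStructure (Dual.D A))
  let T := (t.triangleLEGE m n h).obj X
  have hT : T ∈ distTriang (Dual.D A) := t.triangleLEGE_distinguished m n h X
  have hX : ∀ i, n < i → IsZero ((homologyFunctor (ModuleCat.{u} A) i).obj X) :=
    fun i hi => isZero_of_isLE X n i hi
  haveI h1 : IsLE T.obj₁ m := inferInstanceAs (t.IsLE ((t.truncLE m).obj X) m)
  haveI h3 : IsGE T.obj₃ n := inferInstanceAs (t.IsGE ((t.truncGE n).obj X) n)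
  haveI h3' : IsLE T.obj₃ n := by
    rw [isLE_iff]
    intro i hi
    exact (HomologySequence.exact₃ T hT i (i + 1) rfl).isZero_X₂
      ((hX i hi).eq_of_src _ _) ((isZero_of_isLE T.obj₁ m (i + 1) (by lia)).eq_of_tgt _ _)
  refine ⟨T, hT, h1, ⟨Iso.refl _⟩, fun i hi => ?_, ?_⟩
  · haveI : Mono ((homologyFunctor (ModuleCat.{u} A) i).map T.mor₁) :=
      (HomologySequence.mono_homologyMap_mor₁_iff T hT (i - 1) i (by lia)).2
        ((isZero_of_isGE T.obj₃ n (i - 1) (by lia)).eq_of_src _ _)
    haveI : Epi ((homologyFunctor (ModuleCat.{u} A) i).map T.mor₁) :=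
      (HomologySequence.epi_homologyMap_mor₁_iff T hT i).2
        ((isZero_of_isGE T.obj₃ n i (by lia)).eq_of_tgt _ _)
    haveI := isIso_of_mono_of_epi ((homologyFunctor (ModuleCat.{u} A) i).map T.mor₁)
    exact ⟨@asIso _ _ _ _ ((homologyFunctor (ModuleCat.{u} A) i).map T.mor₁) this⟩
  · obtain ⟨Y, ⟨e⟩⟩ := exists_iso_singleFunctor_obj_of_isGE_of_isLE T.obj₃ n
    haveI : Mono ((homologyFunctor (ModuleCat.{u} A) n).map T.mor₂) :=
      (HomologySequence.mono_homologyMap_mor₂_iff T hT n).2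
        ((isZero_of_isLE T.obj₁ m n (by lia)).eq_of_src _ _)
    haveI : Epi ((homologyFunctor (ModuleCat.{u} A) n).map T.mor₂) :=
      (HomologySequence.epi_homologyMap_mor₂_iff T hT n (n + 1) rfl).2
        ((isZero_of_isLE T.obj₁ m (n + 1) (by lia)).eq_of_tgt _ _)
    haveI := isIso_of_mono_of_epi ((homologyFunctor (ModuleCat.{u} A) n).map T.mor₂)
    exact ⟨e ≪≫ (singleFunctor _ n).mapIso
      (((singleFunctorCompHomologyFunctorIso _ n).app Y).symm ≪≫
        (homologyFunctor _ n).mapIso e.symm ≪≫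
          (asIso ((homologyFunctor (ModuleCat.{u} A) n).map T.mor₂)).symm)⟩

lemma isZero_of_isGE_of_isLE (X : Dual.D A) (a b : ℤ) (h : b < a) [IsGE X a] [IsLE X b] :
    IsZero X :=
  TStructure.t.isZero X b a h

/-- Dévissage along cohomology modules satisfying `G`. -/
theorem devissage_of (G : ModuleCat.{u} A → Prop) (Giso : ∀ {M N : ModuleCat.{u} A}, (M ≅ N) → G M → G N)
    (P : Dual.D A → Prop) (iso : ∀ {X Y : Dual.D A}, (X ≅ Y) → P X → P Y)
    (zero : ∀ X : Dual.D A, IsZero X → P X)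
    (ext : ∀ T ∈ distTriang (Dual.D A), P T.obj₁ → P T.obj₃ → P T.obj₂) (a : ℤ)
    (single : ∀ M : ModuleCat.{u} A, G M →
      ∀ n : ℤ, a ≤ n → P ((singleFunctor (ModuleCat.{u} A) n).obj M))
    (X : Dual.D A) (b : ℤ) [IsGE X a] [IsLE X b]
    (hfin : ∀ i, a ≤ i → i ≤ b → G ((homologyFunctor (ModuleCat.{u} A) i).obj X)) :
    P X := by
  suffices ∀ (k : ℕ) (X : Dual.D A) (b : ℤ), b < a + k → IsGE X a → IsLE X b →
      (∀ i, a ≤ i → i ≤ b → G ((homologyFunctor (ModuleCat.{u} A) i).obj X)) → P X from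
    this (b - a + 1).toNat X b (by lia) ‹_› ‹_› hfin
  intro k
  induction k with
  | zero => intro X b hb _ _ _; exact zero X (isZero_of_isGE_of_isLE X a b (by simpa using hb))
  | succ k ih =>
    intro X b hb hge hle hfin
    rcases lt_or_ge b a with hlt | hab
    · exact zero X (isZero_of_isGE_of_isLE X a b hlt)
    obtain ⟨T, hT, h1, ⟨e₂⟩, e₁, ⟨e₃⟩⟩ := exists_top_triangle X b (b - 1) (by lia)
    refine iso e₂ (ext T hT ?_ (iso e₃.symm (single _ (hfin b hab le_rfl) b hab)))
    have hge₁ : IsGE T.obj₁ a := by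
      rw [isGE_iff]
      intro i hi
      exact (isZero_of_isGE X a i hi).of_iso (e₁ i (by lia)).some
    exact ih _ (b - 1) (by lia) hge₁ h1 fun i hai hib =>
      Giso (e₁ i hib).some.symm (hfin i hai (by lia))

/-- A property stable under extensions which holds for shifted finite modules holds for every
bounded object with finite cohomology. -/
theorem devissage (P : Dual.D A → Prop) (iso : ∀ {X Y : Dual.D A}, (X ≅ Y) → P X → P Y)
    (zero : ∀ X : Dual.D A, IsZero X → P X)
    (ext : ∀ T ∈ distTriang (Dual.D A), P T.obj₁ → P T.obj₃ → P T.obj₂) (a : ℤ)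
    (single : ∀ (M : Type u) [AddCommGroup M] [Module A M], Module.Finite A M →
      ∀ n : ℤ, a ≤ n → P ((singleFunctor (ModuleCat.{u} A) n).obj (ModuleCat.of A M)))
    (X : Dual.D A) (b : ℤ) [IsGE X a] [IsLE X b] (hfin : ∀ i, Module.Finite A (Dual.HD A X i)) :
    P X :=
  devissage_of (fun M => Module.Finite A M) (fun e h => Module.Finite.equiv e.toLinearEquiv)
    P iso zero ext a (fun M h n hn => single M h n hn) X b fun i _ _ => hfin i

/-- If `s` kills the cohomology of a bounded object, a power of `s` kills the object. -/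
theorem exists_pow_smul_id_eq_zero (X : Dual.D A) (a b : ℤ) [IsGE X a] [IsLE X b] (s : A)
    (hs : ∀ i, ∀ x : Dual.HD A X i, s • x = 0) : ∃ k : ℕ, s ^ k • 𝟙 X = 0 := by
  refine devissage_of (fun M => ∀ x : M, s • x = 0)
    (fun e h x => by
      have := congrArg e.hom.hom (h (e.inv x))
      rwa [map_smul, map_zero, Iso.inv_hom_id_apply] at this)
    (fun X => ∃ k : ℕ, s ^ k • 𝟙 X = 0) (fun {X Y} e h => ?_)
    (fun X hX => ⟨0, hX.eq_of_src _ _⟩) (fun T hT h₁ h₃ => ?_) a (fun M hM n _ => ⟨1, ?_⟩) X b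
    fun i _ _ => hs i
  · obtain ⟨k, hk⟩ := h
    exact ⟨k, by rw [← e.inv_hom_id, ← Category.id_comp e.hom, ← Linear.comp_smul,
      ← Linear.smul_comp, hk, zero_comp, comp_zero]⟩
  · obtain ⟨p, hp⟩ := h₁
    obtain ⟨q, hq⟩ := h₃
    refine ⟨q + p, ?_⟩
    obtain ⟨g, hg⟩ := Triangle.coyoneda_exact₂ T hT (s ^ q • 𝟙 T.obj₂) (by
      rw [Linear.smul_comp, Category.id_comp, ← Category.comp_id T.mor₂, ← Linear.comp_smul, hq,
        comp_zero])
    rw [pow_add, mul_comm, mul_smul, hg, ← Linear.comp_smul, ← Category.id_comp T.mor₁,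
      ← Linear.smul_comp, hp, zero_comp, comp_zero]
  · rw [pow_one, ← CategoryTheory.Functor.map_id (singleFunctor (ModuleCat.{u} A) n),
      ← Functor.map_smul]
    convert Functor.map_zero (singleFunctor (ModuleCat.{u} A) n) M M
    ext x
    exact hM x

end Groth.DualCore
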