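import Groth.Agent.DualCore.DevissageHom
import Mathlib.Algebra.Homology.DerivedCategory.KInjective
import Mathlib.Algebra.Homology.DerivedCategory.Linear
import Mathlib.Algebra.Homology.Factorizations.CM5a
import Mathlib.Algebra.Category.ModuleCat.Injective
import Mathlib.Algebra.Category.ModuleCat.EnoughInjectives
import Mathlib.Algebra.Module.Injective

/-!
# Bounded injective representatives of objects of finite injective dimension
-/

set_option autoImplicit false

universe u

open CategoryTheory CategoryTheory.Limits DerivedCategory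

attribute [local instance] HasDerivedCategory.standard

namespace Groth.DualCore

variable {A : Type u} [CommRing A]

section KInj

variable {K J : CochainComplex (ModuleCat.{u} A) ℤ}

lemma Q_map_eq_Qh (f : K ⟶ J) : Q.map f = (quotientCompQhIso (ModuleCat.{u} A)).inv.app K ≫
    Qh.map ((HomotopyCategory.quotient _ _).map f) ≫ (quotientCompQhIso (ModuleCat.{u} A)).hom.app J := by
  rw [← cancel_epi ((quotientCompQhIso (ModuleCat.{u} A)).hom.app K), Iso.hom_inv_id_app_assoc]
  exact ((quotientCompQhIso (ModuleCat.{u} A)).hom.naturality f).symm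

lemma Q_map_surjective [J.IsKInjective] (v : Q.obj K ⟶ Q.obj J) : ∃ f : K ⟶ J, Q.map f = v := by
  let q := quotientCompQhIso (ModuleCat.{u} A)
  obtain ⟨g, hg⟩ := (CochainComplex.IsKInjective.Qh_map_bijective
    ((HomotopyCategory.quotient _ _).obj K) J).2 (q.hom.app K ≫ v ≫ q.inv.app J)
  obtain ⟨f, rfl⟩ := (HomotopyCategory.quotient _ _).map_surjective g
  refine ⟨f, ?_⟩
  rw [Q_map_eq_Qh, hg]
  simp only [Category.assoc]
  erw [Iso.inv_hom_id_app_assoc, Iso.inv_hom_id_app, Category.comp_id]

lemma Q_map_eq_zero_of_homotopy {f : K ⟶ J} (h : Homotopy f 0) : Q.map f = 0 := by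
  rw [Q_map_eq_Qh, HomotopyCategory.eq_of_homotopy f 0 h, Functor.map_zero, Functor.map_zero,
    zero_comp, comp_zero]

lemma homotopy_of_Q_map_eq_zero [J.IsKInjective] {f : K ⟶ J} (h : Q.map f = 0) :
    Nonempty (Homotopy f 0) := by
  refine ⟨HomotopyCategory.homotopyOfEq f 0 ((CochainComplex.IsKInjective.Qh_map_bijective
    ((HomotopyCategory.quotient _ _).obj K) J).1 ?_)⟩
  rw [Q_map_eq_Qh] at h
  rw [Functor.map_zero, Functor.map_zero, ← cancel_epi ((quotientCompQhIso (ModuleCat.{u} A)).inv.app K),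
    ← cancel_mono ((quotientCompQhIso (ModuleCat.{u} A)).hom.app J), Category.assoc, h]
  simp

end KInj

variable (ω : Dual.D A)

/-- A bounded complex of injective modules representing `ω`. -/
structure InjRep where
  /-- the complex -/
  I : CochainComplex (ModuleCat.{u} A) ℤ
  /-- lower bound -/
  a : ℤ
  /-- upper bound -/
  b : ℤ
  hGE : I.IsStrictlyGE a
  hLE : I.IsStrictlyLE b
  injective : ∀ n, Module.Injective A (I.X n)
  /-- the comparison -/
  iso : Q.obj I ≅ ω

instance (r : InjRep ω) : r.I.IsKInjective :=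
  haveI := r.hGE
  haveI := fun n => (Module.injective_iff_injective_object A (r.I.X n)).1 (r.injective n)
  CochainComplex.isKInjective_of_injective r.I r.a

/-- Existence of an injective representative in degrees `[a, b]`; only finite test modules are
needed. -/
theorem exists_injRep' (a b : ℤ)
    (h : ∀ (M : Type u) [AddCommGroup M] [Module A M], Module.Finite A M → ∀ i : ℤ, (i < a ∨ b < i) →
      Subsingleton (Dual.inD A M ⟶ ω⟦i⟧)) : ∃ r : InjRep ω, r.a = a ∧ r.b = b := by
  have hH : ∀ i, (i < a ∨ b < i) → IsZero ((homologyFunctor (ModuleCat.{u} A) i).obj ω) := by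
    intro i hi
    haveI := h A inferInstance i hi
    exact ModuleCat.isZero_iff_subsingleton.2 (homAEquiv ω i).symm.toEquiv.subsingleton
  haveI : IsGE ω a := (isGE_iff ω a).2 fun i hi => hH i (Or.inl hi)
  obtain ⟨K, hK, ⟨e⟩⟩ := exists_iso_Q_obj_of_isGE ω a
  obtain ⟨J, f, hf, hJinj, hJ⟩ :=
    CochainComplex.Plus.modelCategoryQuillen.exists_quasiIso_injective K a
  haveI : J.IsKInjective := CochainComplex.isKInjective_of_injective J a
  let eJ : Q.obj J ≅ ω := (asIso (Q.map f)).symm ≪≫ e.symm
  haveI : J.IsLE b := by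
    rw [← isLE_Q_obj_iff, isLE_iff]
    exact fun i hi => (hH i (Or.inr hi)).of_iso ((homologyFunctor _ i).mapIso eJ)
  have hinjM : ∀ n, Module.Injective A (J.X n) := fun n =>
    (Module.injective_iff_injective_object A (J.X n)).2 (hJinj n)
  -- classes above `b` vanish
  have hbd : ∀ (M : Type u) [AddCommGroup M] [Module A M] [Module.Finite A M] (i : ℤ), b < i →
      ∀ φ : M →ₗ[A] J.X i, (J.d i (i + 1)).hom ∘ₗ φ = 0 →
        ∃ k : M →ₗ[A] J.X (i - 1), (J.d (i - 1) i).hom ∘ₗ k = φ := by
    intro M _ _ _ i hi φ hφ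
    let g : (HomologicalComplex.single _ (ComplexShape.up ℤ) i).obj (ModuleCat.of A M) ⟶ J :=
      HomologicalComplex.mkHomFromSingle (ModuleCat.ofHom φ) (by
        intro k hk
        obtain rfl : i + 1 = k := hk
        exact ModuleCat.hom_ext hφ)
    haveI : Subsingleton (Dual.inD A M ⟶ ω⟦(0 : ℤ) + i⟧) := h M ‹_› _ (Or.inr (by lia))
    haveI := subsingleton_hom_single M ω i 0
    have hg : Q.map g = 0 := by
      let s := (singleFunctorIsoCompQ (ModuleCat.{u} A) i).app (ModuleCat.of A M)
      have := Subsingleton.elim (s.hom ≫ Q.map g ≫ eJ.hom ≫ (shiftFunctorZero (Dual.D A) ℤ).inv.app ω) 0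
      apply (cancel_epi s.hom).1
      apply (cancel_mono eJ.hom).1
      apply (cancel_mono ((shiftFunctorZero (Dual.D A) ℤ).inv.app ω)).1
      erw [comp_zero, zero_comp, zero_comp, Category.assoc, Category.assoc]
      exact this
    obtain ⟨H⟩ := homotopy_of_Q_map_eq_zero hg
    let s := HomologicalComplex.singleObjXSelf (ComplexShape.up ℤ) i (ModuleCat.of A M)
    refine ⟨(s.inv ≫ H.hom i (i - 1)).hom, ?_⟩
    have hc := H.comm i
    rw [dNext_eq _ (show (ComplexShape.up ℤ).Rel i (i + 1) from rfl),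
      prevD_eq _ (show (ComplexShape.up ℤ).Rel (i - 1) i by simp)] at hc
    have : ((HomologicalComplex.single _ (ComplexShape.up ℤ) i).obj (ModuleCat.of A M)).d i (i + 1) = 0 :=
      rfl
    rw [this, zero_comp, zero_add, HomologicalComplex.zero_f, add_zero,
      HomologicalComplex.mkHomFromSingle_f, ← cancel_epi s.inv] at hc
    rw [Iso.inv_hom_id_assoc] at hc
    exact (congrArg ModuleCat.Hom.hom hc).symm
  -- cycles in degree `b` are injective
  have hZ : Module.Injective A (LinearMap.ker (J.d b (b + 1)).hom) := by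
    refine Module.Baer.injective fun 𝔞 g => ?_
    haveI := hinjM b
    obtain ⟨g', hg'⟩ := (Module.Baer.of_injective (hinjM b)) 𝔞 ((LinearMap.ker _).subtype ∘ₗ g)
    have hann : 𝔞 ≤ LinearMap.ker ((J.d b (b + 1)).hom ∘ₗ g') := fun x hx => by
      rw [LinearMap.mem_ker, LinearMap.comp_apply, hg' x hx]
      exact (g ⟨x, hx⟩).2
    obtain ⟨k, hk⟩ := hbd (A ⧸ 𝔞) (b + 1) (by lia) (Submodule.liftQ _ _ hann) (by
      apply Submodule.linearMap_qext
      ext
      show (J.d (b + 1) (b + 1 + 1)).hom ((J.d b (b + 1)).hom (g' 1)) = 0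
      exact ConcreteCategory.congr_hom (J.d_comp_d b (b + 1) (b + 1 + 1)) (g' 1))
    have hb : b + 1 - 1 = b := by lia
    let k' : A ⧸ 𝔞 →ₗ[A] J.X b := (J.XIsoOfEq hb).hom.hom ∘ₗ k
    have hk' : (J.d b (b + 1)).hom ∘ₗ k' = Submodule.liftQ _ _ hann := by
      rw [← hk, ← LinearMap.comp_assoc, ← ModuleCat.hom_comp, HomologicalComplex.XIsoOfEq_hom_comp_d]
    refine ⟨LinearMap.codRestrict _ (g' - k' ∘ₗ 𝔞.mkQ) (fun x => ?_), fun x hx => ?_⟩
    · rw [LinearMap.mem_ker, LinearMap.sub_apply, map_sub, sub_eq_zero]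
      exact (LinearMap.congr_fun hk' (𝔞.mkQ x)).symm
    · ext
      simp [hg' x hx, Ideal.Quotient.eq_zero_iff_mem.2 hx]
  refine ⟨{ I := J.truncLE b, a := a, b := b, hGE := ?_, hLE := inferInstance, injective := ?_,
            iso := asIso (Q.map (J.ιTruncLE b)) ≪≫ eJ }, rfl, rfl⟩
  · infer_instance
  · intro n
    rcases lt_trichotomy n b with hn | rfl | hn
    · exact (Module.Baer.of_equiv (J.truncLEXIso b n hn).symm.toLinearEquiv (Module.Baer.of_injective (hinjM n))).injective
    · refine (Module.Baer.of_equiv ?_ (Module.Baer.of_injective hZ)).injective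
      exact ((J.sc' (n - 1) n (n + 1)).moduleCatCyclesIso.symm ≪≫ (J.cyclesIsoSc' (n - 1) n (n + 1)
        (by simp) (by simp)).symm ≪≫ (J.truncLEXIsoCycles n).symm).toLinearEquiv
    · haveI : Subsingleton ((J.truncLE b).X n) :=
        ModuleCat.isZero_iff_subsingleton.1 (CochainComplex.isZero_of_isStrictlyLE _ b n hn)
      exact Module.Baer.injective fun _ _ => ⟨0, fun _ _ => Subsingleton.elim _ _⟩

/-- Existence of an injective representative. -/
theorem exists_injRep (a b : ℤ)
    (h : ∀ (M : Type u) [AddCommGroup M] [Module A M] (i : ℤ), (i < a ∨ b < i) →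
      Subsingleton (Dual.inD A M ⟶ ω⟦i⟧)) : Nonempty (InjRep ω) := by
  obtain ⟨r, -, -⟩ := exists_injRep' ω a b fun M _ _ _ => h M
  exact ⟨r⟩

end Groth.DualCore
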