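import Groth.Agent.DTenCalc.InternalHom
import Groth.Agent.LocCohTransform.RHomDual
import Groth.Agent.DualCore.InjRep
import Mathlib.CategoryTheory.Abelian.DiagramLemmas.Four

/-!
# The double dual of a complex in a bounded complex of injectives

`δC I E : E ⟶ Hom•(Hom•(E, I), I)`, contravariant exactness of `Hom•(-, I)` and the five lemma.
-/

set_option autoImplicit false
set_option linter.style.haveILetI false

universe u

open CategoryTheory CategoryTheory.Limits CochainComplex CochainComplex.HomComplex DerivedCategory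
open Groth.DTenCalc.InternalHom (appLin δ_v_apply)
open Groth.LocCohTransform.RHomDual (θ)

attribute [local instance] HasDerivedCategory.standard

namespace Groth.DualCore.DoubleDual

variable {A : Type u} [CommRing A] (I : DRing.Cx A)

/-- Precomposition. -/
noncomputable abbrev preH {K K' : DRing.Cx A} (g : K' ⟶ K) (L : DRing.Cx A) : DRing.homCx K L ⟶ DRing.homCx K' L :=
  Groth.LocCohTransform.RHomDual.pre g L

/-- The double dual. -/
noncomputable abbrev DD (E : DRing.Cx A) : DRing.Cx A := DRing.homCx (DRing.homCx E I) I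

/-- The value of `δC` on an element. -/
noncomputable def evalAt (E : DRing.Cx A) (n : ℤ) (x : E.X n) : Cochain (DRing.homCx E I) I n :=
  Cochain.mk fun p t h => ((n * p).negOnePow : ℤ) • ModuleCat.ofHom
    ({ toFun := fun z => appLin E I (show n + p = t by omega) z x
       map_add' := fun z z' => by rw [map_add]; rfl
       map_smul' := fun a z => by rw [map_smul]; rfl } : Cochain E I p →ₗ[A] I.X t)

theorem evalAt_v (E : DRing.Cx A) (n : ℤ) (x : E.X n) (p t : ℤ) (h : p + n = t) (z : Cochain E I p) :
    (evalAt I E n x).v p t h z = ((n * p).negOnePow : ℤ) • z.v n t (by omega) x := rfl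

/-- The double dual map. -/
noncomputable def δC (E : DRing.Cx A) : E ⟶ DD I E where
  f n := ModuleCat.ofHom
    { toFun := evalAt I E n
      map_add' := fun x x' => by
        refine Cochain.ext _ _ fun p t h => ModuleCat.hom_ext (LinearMap.ext fun (z : Cochain E I p) => ?_)
        rw [Cochain.add_v, evalAt_v]
        show _ = (evalAt I E n x).v p t h z + (evalAt I E n x').v p t h z
        rw [evalAt_v, evalAt_v, map_add, smul_add]
      map_smul' := fun a x => by
        refine Cochain.ext _ _ fun p t h => ModuleCat.hom_ext (LinearMap.ext fun (z : Cochain E I p) => ?_)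
        rw [Cochain.smul_v, evalAt_v]
        show _ = a • (evalAt I E n x).v p t h z
        rw [evalAt_v, map_smul, smul_comm] }
  comm' n m hnm := by
    change n + 1 = m at hnm
    refine ModuleCat.hom_ext (LinearMap.ext fun x => ?_)
    refine Cochain.ext _ _ fun p t h => ModuleCat.hom_ext (LinearMap.ext fun (z : Cochain E I p) => ?_)
    show (δ n m (evalAt I E n x)).v p t h z = (evalAt I E m (E.d n m x)).v p t h z
    subst hnm
    obtain rfl : t = p + n + 1 := by omega
    rw [δ_v_apply rfl (evalAt I E n x) p (p + 1) (p + n) (p + n + 1) rfl rfl rfl z]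
    erw [evalAt_v, evalAt_v I E n x (p + 1) (p + n + 1) (by omega) (δ p (p + 1) z), evalAt_v,
      δ_v_apply rfl z n (n + 1) (p + n) (p + n + 1) (by omega) rfl rfl x]
    rw [map_zsmul, smul_sub, smul_sub, smul_smul, smul_smul, smul_smul]
    have h1 : (n.negOnePow : ℤ) * ((n * (p + 1)).negOnePow : ℤ) = ((n * p).negOnePow : ℤ) := by
      rw [← Units.val_mul, ← Int.negOnePow_add, show n + n * (p + 1) = n * p + 2 * n by ring,
        Int.negOnePow_add, Int.negOnePow_two_mul, mul_one]
    have h2 : (n.negOnePow : ℤ) * ((n * (p + 1)).negOnePow : ℤ) * (p.negOnePow : ℤ) =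
        (((n + 1) * p).negOnePow : ℤ) := by
      rw [h1, ← Units.val_mul, ← Int.negOnePow_add, show n * p + p = (n + 1) * p by ring]
    rw [h1]
    rw [← h1, h2]
    abel

theorem δC_naturality {E E' : DRing.Cx A} (g : E ⟶ E') :
    g ≫ δC I E' = δC I E ≫ preH (preH g I) I := by
  refine HomologicalComplex.hom_ext _ _ fun n => ModuleCat.hom_ext (LinearMap.ext fun x => ?_)
  refine Cochain.ext _ _ fun p t h => ModuleCat.hom_ext (LinearMap.ext fun (z : Cochain E' I p) => ?_)
  show (evalAt I E' n (g.f n x)).v p t h z = ((Cochain.ofHom (preH g I)).comp (evalAt I E n x) (zero_add n)).v p t h z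
  rw [Cochain.zero_cochain_comp_v, Cochain.ofHom_v]
  show _ = (evalAt I E n x).v p t h ((preH g I).f p z)
  erw [evalAt_v, evalAt_v]
  congr 1
  show z.v n t _ (g.f n x) = ((Cochain.ofHom g).comp z (zero_add p)).v n t _ x
  rw [Cochain.zero_cochain_comp_v, Cochain.ofHom_v]
  rfl

/-- `Hom•(-, I)` turns quasi-isomorphisms into quasi-isomorphisms. -/
theorem quasiIso_pre [I.IsKInjective] {E E' : DRing.Cx A} (g : E ⟶ E') [QuasiIso g] : QuasiIso (preH g I) := by
  rw [← DerivedCategory.isIso_Q_map_iff_quasiIso]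
  haveI : IsIso (DerivedCategory.Q.map g) := (DerivedCategory.isIso_Q_map_iff_quasiIso _ g).2 inferInstance
  exact Groth.LocCohTransform.RHomDual.isIso_pre g I fun n =>
    Groth.LocCohTransform.RHomDual.precomp_iso_bijective (DerivedCategory.Q.map g) _

/-- The dual of a short complex. -/
noncomputable abbrev dualSC (S : ShortComplex (DRing.Cx A)) : ShortComplex (DRing.Cx A) :=
  ShortComplex.mk (preH S.g I) (preH S.f I) (by
    refine HomologicalComplex.hom_ext _ _ fun p => ModuleCat.hom_ext (LinearMap.ext fun (z : Cochain S.X₃ I p) => ?_)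
    show (Cochain.ofHom S.f).comp ((Cochain.ofHom S.g).comp z (zero_add p)) (zero_add p) = 0
    rw [← Cochain.comp_assoc_of_first_is_zero_cochain, ← Cochain.ofHom_comp, S.zero, Cochain.ofHom_zero,
      Cochain.zero_comp])

/-- `Hom•(-, I)` is exact for termwise injective `I`. -/
theorem dualSC_shortExact (hI : ∀ n, Injective (I.X n)) {S : ShortComplex (DRing.Cx A)} (hS : S.ShortExact) :
    (dualSC I S).ShortExact := by
  haveI := hI
  refine HomologicalComplex.shortExact_of_degreewise_shortExact _ fun p => ?_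
  have hq : ∀ q, (S.map (HomologicalComplex.eval _ _ q)).ShortExact := fun q => hS.map_of_exact _
  refine
    { exact := (ShortComplex.moduleCat_exact_iff _).2 fun (z : Cochain S.X₂ I p) hz => ?_
      mono_f := (ModuleCat.mono_iff_injective _).2 fun (z : Cochain S.X₃ I p) (z' : Cochain S.X₃ I p) hzz => ?_
      epi_g := (ModuleCat.epi_iff_surjective _).2 fun (z : Cochain S.X₁ I p) => ?_ }
  · have hz' : ∀ q t (h : q + p = t), S.f.f q ≫ z.v q t h = 0 := fun q t h => by
      rw [← Cochain.ofHom_v S.f q, ← Cochain.zero_cochain_comp_v]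
      exact Cochain.congr_v (show (Cochain.ofHom S.f).comp z (zero_add p) = 0 from hz) q t h
    haveI : ∀ q, Epi (S.map (HomologicalComplex.eval _ _ q)).g := fun q => (hq q).epi_g
    refine ⟨Cochain.mk fun q t h => (hq q).exact.desc (z.v q t h) (hz' q t h),
      Cochain.ext _ _ fun q t h => ?_⟩
    show ((Cochain.ofHom S.g).comp _ (zero_add p)).v q t h = _
    rw [Cochain.zero_cochain_comp_v, Cochain.ofHom_v]
    exact (hq q).exact.g_desc _ _
  · refine Cochain.ext _ _ fun q t h => ?_
    haveI : Epi (S.g.f q) := (hq q).epi_g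
    have := Cochain.congr_v (show (Cochain.ofHom S.g).comp z (zero_add p) =
      (Cochain.ofHom S.g).comp z' (zero_add p) from hzz) q t h
    rw [Cochain.zero_cochain_comp_v, Cochain.zero_cochain_comp_v, Cochain.ofHom_v] at this
    exact (cancel_epi (S.g.f q)).1 this
  · haveI : ∀ q, Mono (S.f.f q) := fun q => (hq q).mono_f
    refine ⟨Cochain.mk fun q t h => Injective.factorThru (z.v q t h) (S.f.f q),
      Cochain.ext _ _ fun q t h => ?_⟩
    show ((Cochain.ofHom S.f).comp _ (zero_add p)).v q t h = _
    rw [Cochain.zero_cochain_comp_v, Cochain.ofHom_v]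
    exact Injective.comp_factorThru _ _

/-- The double dual map of a short complex. -/
noncomputable def δSC (S : ShortComplex (DRing.Cx A)) : S ⟶ dualSC I (dualSC I S) :=
  ShortComplex.homMk (δC I S.X₁) (δC I S.X₂) (δC I S.X₃) (δC_naturality I S.f).symm (δC_naturality I S.g).symm

section Five

variable {I}

open HomologicalComplex in
/-- The five lemma for the middle term. -/
theorem isIso_homologyMap_τ₂ {S₁ S₂ : ShortComplex (DRing.Cx A)} (φ : S₁ ⟶ S₂) (h₁ : S₁.ShortExact)
    (h₂ : S₂.ShortExact) (i : ℤ) (e0 : Epi (homologyMap φ.τ₃ (i - 1))) (e1 : IsIso (homologyMap φ.τ₁ i))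
    (e3 : IsIso (homologyMap φ.τ₃ i)) (e4 : Mono (homologyMap φ.τ₁ (i + 1))) :
    IsIso (homologyMap φ.τ₂ i) := by
  have r : (ComplexShape.up ℤ).Rel (i - 1) i := by simp
  have r' : (ComplexShape.up ℤ).Rel i (i + 1) := by simp
  let R : ∀ {S : ShortComplex (DRing.Cx A)} (_ : S.ShortExact), ComposableArrows (ModuleCat.{u} A) 4 :=
    fun {S} h => ComposableArrows.mk₄ (h.δ (i - 1) i r) (homologyMap S.f i) (homologyMap S.g i) (h.δ i (i + 1) r')
  have hR : ∀ {S : ShortComplex (DRing.Cx A)} (h : S.ShortExact), (R h).Exact := fun {S} h =>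
    ComposableArrows.exact_of_δ₀ (h.homology_exact₁ (i - 1) i r).exact_toComposableArrows
      (ComposableArrows.exact_of_δ₀ (h.homology_exact₂ i).exact_toComposableArrows
        (h.homology_exact₃ i (i + 1) r').exact_toComposableArrows)
  let Φ : R h₁ ⟶ R h₂ := ComposableArrows.homMk₄ (homologyMap φ.τ₃ (i - 1)) (homologyMap φ.τ₁ i)
    (homologyMap φ.τ₂ i) (homologyMap φ.τ₃ i) (homologyMap φ.τ₁ (i + 1))
    (HomologySequence.δ_naturality φ h₁ h₂ (i - 1) i r)
    (by
      show homologyMap S₁.f i ≫ homologyMap φ.τ₂ i = homologyMap φ.τ₁ i ≫ homologyMap S₂.f i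
      rw [← homologyMap_comp, ← homologyMap_comp, φ.comm₁₂])
    (by
      show homologyMap S₁.g i ≫ homologyMap φ.τ₃ i = homologyMap φ.τ₂ i ≫ homologyMap S₂.g i
      rw [← homologyMap_comp, ← homologyMap_comp, φ.comm₂₃])
    (HomologySequence.δ_naturality φ h₁ h₂ i (i + 1) r')
  exact Abelian.isIso_of_epi_of_isIso_of_isIso_of_mono (hR h₁) (hR h₂) Φ e0 e1 e3 e4

end Five

end Groth.DualCore.DoubleDual
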