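import Groth.Agent.DualCore.Biduality

/-!
# `Hⁿ(Hom_A(M, I)) ≅ Hom_{D(A)}(M, ω⟦n⟧)`
-/

set_option autoImplicit false

universe u

open CategoryTheory CategoryTheory.Limits DerivedCategory HomologicalComplex

attribute [local instance] HasDerivedCategory.standard

namespace Groth.DualCore

namespace InjRep

variable {A : Type u} [CommRing A] {ω : Dual.D A} (r : InjRep ω)
  (M : Type u) [AddCommGroup M] [Module A M] (n : ℤ)

/-- `d : Hom(M, Iⁿ) → Hom(M, Iⁿ⁺¹)`. -/
noncomputable abbrev dPost (i j : ℤ) : (M →ₗ[A] r.I.X i) →ₗ[A] (M →ₗ[A] r.I.X j) :=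
  LinearMap.llcomp A M (r.I.X i) (r.I.X j) (r.I.d i j).hom

/-- A cocycle gives a map of complexes out of `M` in degree `n`. -/
noncomputable def cocycleMap (φ : LinearMap.ker (r.dPost M n (n + 1))) :
    (single (ModuleCat.{u} A) (ComplexShape.up ℤ) n).obj (ModuleCat.of A M) ⟶ r.I :=
  mkHomFromSingle (ModuleCat.ofHom φ.1) (by
    intro k hk
    obtain rfl : n + 1 = k := hk
    exact ModuleCat.hom_ext φ.2)

lemma cocycleMap_f (φ : LinearMap.ker (r.dPost M n (n + 1))) :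
    (r.cocycleMap M n φ).f n =
      (singleObjXSelf (ComplexShape.up ℤ) n (ModuleCat.of A M)).hom ≫ ModuleCat.ofHom φ.1 :=
  mkHomFromSingle_f _ _

/-- Cocycles to morphisms in `D(A)`. -/
noncomputable def Φ : LinearMap.ker (r.dPost M n (n + 1)) →ₗ[A]
    (Q.obj ((single (ModuleCat.{u} A) (ComplexShape.up ℤ) n).obj (ModuleCat.of A M)) ⟶ Q.obj r.I) where
  toFun φ := Q.map (r.cocycleMap M n φ)
  map_add' φ ψ := by
    rw [← Functor.map_add]
    congr 1
    apply from_single_hom_ext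
    rw [add_f_apply, cocycleMap_f, cocycleMap_f, cocycleMap_f, ← Preadditive.comp_add]
    rfl
  map_smul' c φ := by
    rw [RingHom.id_apply, ← Functor.map_smul]
    congr 1
    apply from_single_hom_ext
    rw [smul_f_apply, cocycleMap_f, cocycleMap_f, ← Linear.comp_smul]
    rfl

lemma Φ_surjective : Function.Surjective (r.Φ M n) := by
  intro v
  obtain ⟨f, rfl⟩ := Q_map_surjective v
  let s := singleObjXSelf (ComplexShape.up ℤ) n (ModuleCat.of A M)
  refine ⟨⟨(s.inv ≫ f.f n).hom, ?_⟩, ?_⟩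
  · show (r.I.d n (n + 1)).hom ∘ₗ (s.inv ≫ f.f n).hom = 0
    rw [← ModuleCat.hom_comp, Category.assoc, f.comm]
    have : ((single (ModuleCat.{u} A) (ComplexShape.up ℤ) n).obj (ModuleCat.of A M)).d n (n + 1) = 0 :=
      rfl
    rw [this, zero_comp, comp_zero]
    rfl
  · show Q.map (r.cocycleMap M n _) = Q.map f
    congr 1
    apply from_single_hom_ext
    rw [cocycleMap_f]
    simp [s]

lemma Φ_eq_zero_iff (φ : LinearMap.ker (r.dPost M n (n + 1))) :
    r.Φ M n φ = 0 ↔ ∃ k : M →ₗ[A] r.I.X (n - 1), r.dPost M (n - 1) n k = φ.1 := by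
  let s := singleObjXSelf (ComplexShape.up ℤ) n (ModuleCat.of A M)
  have hd : ((single (ModuleCat.{u} A) (ComplexShape.up ℤ) n).obj (ModuleCat.of A M)).d n (n + 1) = 0 :=
    rfl
  constructor
  · intro h
    obtain ⟨H⟩ := homotopy_of_Q_map_eq_zero (f := r.cocycleMap M n φ) h
    refine ⟨(s.inv ≫ H.hom n (n - 1)).hom, ?_⟩
    have hc := H.comm n
    rw [dNext_eq _ (show (ComplexShape.up ℤ).Rel n (n + 1) from rfl),
      prevD_eq _ (show (ComplexShape.up ℤ).Rel (n - 1) n by simp),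
      hd, zero_comp, zero_add, zero_f, add_zero, cocycleMap_f, ← cancel_epi s.inv,
      Iso.inv_hom_id_assoc] at hc
    exact (congrArg ModuleCat.Hom.hom hc).symm
  · rintro ⟨k, hk⟩
    refine Q_map_eq_zero_of_homotopy (f := r.cocycleMap M n φ) ?_
    let h : ∀ i j, (ComplexShape.up ℤ).Rel j i →
        (((single (ModuleCat.{u} A) (ComplexShape.up ℤ) n).obj (ModuleCat.of A M)).X i ⟶ r.I.X j) :=
      fun i j hij => if hi : i = n then
        eqToHom (by subst hi; rfl) ≫ s.hom ≫ ModuleCat.ofHom k ≫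
          eqToHom (by rw [show j = n - 1 by simp only [ComplexShape.up_Rel] at hij; lia])
        else 0
    have heq : r.cocycleMap M n φ = Homotopy.nullHomotopicMap' h := by
      apply from_single_hom_ext
      rw [Homotopy.nullHomotopicMap'_f (show (ComplexShape.up ℤ).Rel (n - 1) n by simp)
        (show (ComplexShape.up ℤ).Rel n (n + 1) from rfl), hd, zero_comp, zero_add, cocycleMap_f]
      simp only [h, dite_true, eqToHom_refl, Category.id_comp, Category.comp_id, Category.assoc]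
      rw [show (ModuleCat.ofHom φ.1 : ModuleCat.of A M ⟶ r.I.X n) =
        ModuleCat.ofHom k ≫ r.I.d (n - 1) n from ModuleCat.hom_ext hk.symm]
    exact heq ▸ Homotopy.nullHomotopy' h

/-- `u ↦ u⟦n⟧` as a linear equivalence `Hom(single n M, ω) ≃ Hom(M, ω⟦n⟧)`. -/
noncomputable def shiftEquivHom :
    ((singleFunctor (ModuleCat.{u} A) n).obj (ModuleCat.of A M) ⟶ ω) ≃ₗ[A]
      (Dual.inD A M ⟶ ω⟦n⟧) :=
  LinearEquiv.ofBijective
    { toFun := fun u => (singleShiftIso M n).inv ≫ u⟦n⟧'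
      map_add' := fun u v => by rw [Functor.map_add, Preadditive.comp_add]
      map_smul' := fun c u => by rw [Functor.map_smul, Linear.comp_smul, RingHom.id_apply] }
    ⟨fun _ _ h => (shiftFunctor (Dual.D A) n).map_injective ((cancel_epi _).1 h),
     fun v => by
      obtain ⟨u, hu⟩ := (shiftFunctor (Dual.D A) n).map_surjective ((singleShiftIso M n).hom ≫ v)
      exact ⟨u, by show _ ≫ u⟦n⟧' = v; rw [hu, Iso.inv_hom_id_assoc]⟩⟩

/-- `Hⁿ(Hom(M, I)) ≃ Hom(M, ω⟦n⟧)`. -/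
noncomputable def homologyEquiv : (r.DC M).homology n ≃ₗ[A] (Dual.inD A M ⟶ ω⟦n⟧) :=
  let B : (M →ₗ[A] r.I.X (n - 1)) →ₗ[A] LinearMap.ker (r.dPost M n (n + 1)) :=
    ((r.DC M).sc' (n - 1) n (n + 1)).moduleCatToCycles
  let e₁ : (r.DC M).homology n ≃ₗ[A] (LinearMap.ker (r.dPost M n (n + 1)) ⧸ LinearMap.range B) :=
    ((r.DC M).homologyIsoSc' (n - 1) n (n + 1) (by simp) (by simp) ≪≫
      ((r.DC M).sc' (n - 1) n (n + 1)).moduleCatHomologyIso).toLinearEquiv
  have hker : LinearMap.range B = LinearMap.ker (r.Φ M n) := by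
    ext φ
    constructor
    · rintro ⟨k, rfl⟩
      exact (r.Φ_eq_zero_iff M n _).2 ⟨k, rfl⟩
    · intro h
      obtain ⟨k, hk⟩ := (r.Φ_eq_zero_iff M n φ).1 h
      exact ⟨k, Subtype.ext hk⟩
  let e₂ : (LinearMap.ker (r.dPost M n (n + 1)) ⧸ LinearMap.ker (r.Φ M n)) ≃ₗ[A] _ :=
    (r.Φ M n).quotKerEquivOfSurjective (r.Φ_surjective M n)
  let e₃ : (Q.obj ((single (ModuleCat.{u} A) (ComplexShape.up ℤ) n).obj (ModuleCat.of A M)) ⟶ Q.obj r.I)
      ≃ₗ[A] ((singleFunctor (ModuleCat.{u} A) n).obj (ModuleCat.of A M) ⟶ ω) :=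
    Linear.homCongr A ((singleFunctorIsoCompQ (ModuleCat.{u} A) n).app (ModuleCat.of A M)).symm r.iso
  e₁.trans ((Submodule.quotEquivOfEq _ _ hker).trans (e₂.trans (e₃.trans (shiftEquivHom M n))))

/-- `Hⁿ` of `Q (Hom(M, I))` in `D(A)`. -/
noncomputable def HDEquiv : Dual.HD A (Q.obj (r.DC M)) n ≃ₗ[A] (Dual.inD A M ⟶ ω⟦n⟧) :=
  ((homologyFunctorFactors (ModuleCat.{u} A) n).app (r.DC M)).toLinearEquiv.trans (r.homologyEquiv M n)

end InjRep

end Groth.DualCore
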