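import Groth.Agent.DualCore.ShriekIndep
import Groth.Agent.DAlg.HDSmul
import Mathlib.Algebra.Algebra.Epi

/-!
Flat epimorphisms `Q → T`: restriction is fully faithful on derived categories, and `L → T ⊗ L` induces a bijection
on morphisms out of objects killed by `1 - a`, when `a` acts locally nilpotently on modules killed by `T`.
-/

set_option autoImplicit false

universe u

open CategoryTheory CategoryTheory.Limits DerivedCategory TensorProduct
open CategoryTheory.Pretriangulated

attribute [local instance] HasDerivedCategory.standard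

namespace Groth.DualCore

variable (Q' T : Type u) [CommRing Q'] [CommRing T] [Algebra Q' T] [Algebra.IsEpi Q' T]

lemma isIso_counit_mod (N : ModuleCat.{u} T) :
    IsIso ((ModuleCat.extendRestrictScalarsAdj (algebraMap Q' T)).counit.app N) := by
  rw [ConcreteCategory.isIso_iff_bijective]
  refine ⟨fun x x' h => ?_, fun n => ⟨extEquiv ((res (algebraMap Q' T)).obj N) ((1 : T) ⊗ₜ[Q'] (n : N)),
    one_smul T (n : N)⟩⟩
  obtain ⟨z, rfl⟩ := (extEquiv ((res (algebraMap Q' T)).obj N)).surjective x
  obtain ⟨z', rfl⟩ := (extEquiv ((res (algebraMap Q' T)).obj N)).surjective x'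
  refine congrArg _ ?_
  letI : Module T ((res (algebraMap Q' T)).obj N : Type u) := inferInstanceAs (Module T N)
  haveI : IsScalarTower Q' T ((res (algebraMap Q' T)).obj N : Type u) :=
    IsScalarTower.of_algebraMap_smul fun _ _ => rfl
  have key : ∀ w : T ⊗[Q'] ((res (algebraMap Q' T)).obj N : Type u),
      ((ModuleCat.extendRestrictScalarsAdj (algebraMap Q' T)).counit.app N).hom (extEquiv _ w) =
        TensorProduct.lift (LinearMap.restrictScalars₁₂ Q' Q' (LinearMap.lsmul T ((res (algebraMap Q' T)).obj N : Type u))) w := by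
    intro w
    induction w with
    | zero => simp only [map_zero]; rfl
    | tmul t n => rfl
    | add a b ha hb => rw [map_add, map_add, map_add, ha, hb]; rfl
  exact Algebra.injective_lift_lsmul Q' T _ ((key z).symm.trans (h.trans (key z')))

variable [Module.Flat Q' T]

lemma isIso_counit_D (X : Dual.D T) : IsIso ((extResAdj Q' T).counit.app X) := by
  suffices ∀ E, IsIso ((extResAdj Q' T).counit.app (Q.obj E)) by
    haveI := this (Q.objPreimage X)
    have h := (extResAdj Q' T).counit.naturality (Q.objObjPreimageIso X).hom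
    have e : (extResAdj Q' T).counit.app X =
        (DRing.restrictD (algebraMap Q' T) ⋙ extD Q' T).map (Q.objObjPreimageIso X).inv ≫
          (extResAdj Q' T).counit.app _ ≫ (Q.objObjPreimageIso X).hom := by
      rw [← Functor.id_map (Q.objObjPreimageIso X).hom, ← h, ← Functor.map_comp_assoc, Iso.inv_hom_id,
        CategoryTheory.Functor.map_id, Category.id_comp]
    rw [e]
    infer_instance
  intro E
  haveI : IsIso ((extResCxAdj Q' T).counit.app E) := by
    haveI : ∀ i, IsIso (((extResCxAdj Q' T).counit.app E).f i) := fun i => isIso_counit_mod Q' T (E.X i)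
    exact HomologicalComplex.Hom.isIso_of_components _
  letI : CatCommSq (extC Q' T) Q Q (extD Q' T) := ⟨(ext Q' T).mapDerivedCategoryFactors.symm⟩
  letI : CatCommSq (resC (algebraMap Q' T)) Q Q (DRing.restrictD (algebraMap Q' T)) :=
    ⟨(res (algebraMap Q' T)).mapDerivedCategoryFactors.symm⟩
  have e := Adjunction.localization_counit_app (extResCxAdj Q' T) Q
    (HomologicalComplex.quasiIso (ModuleCat.{u} Q') (ComplexShape.up ℤ)) Q
    (HomologicalComplex.quasiIso (ModuleCat.{u} T) (ComplexShape.up ℤ)) (extD Q' T) (DRing.restrictD (algebraMap Q' T)) E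
  exact e ▸ (inferInstance : IsIso (_ ≫ _ ≫ _))

lemma restrictD_full : (DRing.restrictD (algebraMap Q' T)).Full :=
  haveI : IsIso (extResAdj Q' T).counit := by
    haveI := isIso_counit_D Q' T
    exact NatIso.isIso_of_isIso_app _
  ((extResAdj Q' T).fullyFaithfulROfIsIsoCounit).full

lemma restrictD_faithful : (DRing.restrictD (algebraMap Q' T)).Faithful :=
  haveI : IsIso (extResAdj Q' T).counit := by
    haveI := isIso_counit_D Q' T
    exact NatIso.isIso_of_isIso_app _
  ((extResAdj Q' T).fullyFaithfulROfIsIsoCounit).faithful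

lemma isIso_extD_unit (L : Dual.D Q') : IsIso ((extD Q' T).map ((extResAdj Q' T).unit.app L)) := by
  haveI := isIso_counit_D Q' T ((extD Q' T).obj L)
  have h := (extResAdj Q' T).left_triangle_components L
  haveI : IsIso ((extD Q' T).map ((extResAdj Q' T).unit.app L) ≫ (extResAdj Q' T).counit.app ((extD Q' T).obj L)) :=
    h ▸ IsIso.id _
  exact IsIso.of_isIso_comp_right _ ((extResAdj Q' T).counit.app ((extD Q' T).obj L))

variable {Q' T}

/-- The hypothesis: modules killed by `T` are locally nilpotent for `a`. -/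
def KillsTorsion (T : Type u) [CommRing T] [Algebra Q' T] (a : Q') : Prop :=
  ∀ (M : Type u) [AddCommGroup M] [Module Q' M] (_ : Subsingleton (T ⊗[Q'] M)) (m : M), ∃ k : ℕ, a ^ k • m = 0

/-- Maps into `L` and into `T ⊗ L` agree on objects killed by `1 - a`. -/
theorem bijective_comp_unit {a : Q'} (ha : KillsTorsion T a) {W : Dual.D Q'} (hW : (1 - a) • 𝟙 W = 0)
    (L : Dual.D Q') : Function.Bijective fun g : W ⟶ L => g ≫ (extResAdj Q' T).unit.app L := by
  obtain ⟨C, p, q, hT⟩ := distinguished_cocone_triangle ((extResAdj Q' T).unit.app L)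
  have hC0 : IsZero ((extD Q' T).obj C) := by
    haveI := isIso_extD_unit Q' T L
    have hT' := (extD Q' T).map_distinguished _ hT
    exact (Triangle.isZero₃_iff_isIso₁ _ hT').2 this
  have hsub : ∀ i, Subsingleton (T ⊗[Q'] Dual.HD Q' C i) := fun i =>
    haveI := ModuleCat.subsingleton_of_isZero ((homologyFunctor (ModuleCat.{u} T) i).map_isZero hC0)
    (HDExtEquiv C i).toEquiv.subsingleton
  have hC : IsIso ((1 - a) • 𝟙 C) := by
    rw [isIso_iff]
    intro i
    rw [ConcreteCategory.isIso_iff_bijective]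
    have hb : ∀ m : Dual.HD Q' C i,
        ((homologyFunctor (ModuleCat.{u} Q') i).map ((1 - a) • 𝟙 C)) m = (1 - a) • m :=
      DAlg.HDSmul.hd_map_smul _ C i
    refine ⟨fun x y h => ?_, fun y => ?_⟩
    · have h' : (1 - a) • (x - y) = 0 := by rw [smul_sub, ← hb, ← hb, h, sub_self]
      obtain ⟨k, hk⟩ := ha _ (hsub i) (x - y)
      have h1 : (1 - a ^ k) • (x - y) = 0 := by
        rw [← geom_sum_mul_neg a k, ← smul_smul, h', smul_zero]
      rw [sub_smul, one_smul, hk, sub_zero, sub_eq_zero] at h1
      exact h1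
    · obtain ⟨k, hk⟩ := ha _ (hsub i) y
      refine ⟨(∑ j ∈ Finset.range k, a ^ j) • y, (hb _).trans ?_⟩
      rw [smul_smul, mul_comm, geom_sum_mul_neg, sub_smul, one_smul, hk, sub_zero]
  have hzero : ∀ (C' : Dual.D Q'), IsIso ((1 - a) • 𝟙 C') → ∀ g : W ⟶ C', g = 0 := fun C' _ g => by
    rw [← cancel_mono ((1 - a) • 𝟙 C'), Linear.comp_smul, Category.comp_id, ← Category.id_comp g,
      ← Linear.smul_comp, hW, zero_comp, zero_comp]
  constructor
  · intro g g' h
    rw [← sub_eq_zero]
    have h' : (g - g') ≫ (Triangle.mk ((extResAdj Q' T).unit.app L) p q).mor₁ = 0 := by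
      show (g - g') ≫ (extResAdj Q' T).unit.app L = 0
      rw [Preadditive.sub_comp, sub_eq_zero]
      exact h
    obtain ⟨f, hf⟩ := Triangle.coyoneda_exact₂ _ (inv_rot_of_distTriang _ hT) _ h'
    have hC' : IsIso ((1 - a) • 𝟙 (C⟦(-1 : ℤ)⟧)) := by
      have e : (1 - a) • 𝟙 (C⟦(-1 : ℤ)⟧) = ((1 - a) • 𝟙 C)⟦(-1 : ℤ)⟧' := by
        rw [Functor.map_smul, CategoryTheory.Functor.map_id]
      rw [e]
      infer_instance
    rw [hf, hzero _ hC' f]
    exact zero_comp
  · intro g
    obtain ⟨f, hf⟩ := Triangle.coyoneda_exact₂ _ hT g (hzero C hC (g ≫ p))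
    exact ⟨f, hf.symm⟩

/-- `Hom(Z|_Q, L) ≃ Hom(Z|_T, T ⊗ L)`. -/
theorem nonempty_homIso_epi {A : Type u} [CommRing A] (χ : T →+* A) (χQ : Q' →+* A)
    (h : χQ = χ.comp (algebraMap Q' T)) {a : Q'} (ha : KillsTorsion T a) (hχ : χQ a = 1) (L : Dual.D Q') :
    Nonempty (HomIso (DRing.restrictD χQ) L (DRing.restrictD χ) ((extD Q' T).obj L)) := by
  haveI := restrictD_full Q' T
  haveI := restrictD_faithful Q' T
  let e1 : HomIso (DRing.restrictD χQ) L (DRing.restrictD χQ)
      ((DRing.restrictD (algebraMap Q' T)).obj ((extD Q' T).obj L)) :=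
    { equiv := fun Z => Equiv.ofBijective _ (bijective_comp_unit ha (W := (DRing.restrictD χQ).obj Z) (by
        have h1 := resD_map_smul_id χQ (1 - a) Z
        rw [map_sub, map_one, hχ, sub_self, zero_smul, Functor.map_zero] at h1
        exact h1.symm) L)
      natural := fun {Z Z'} g v => Category.assoc ((DRing.restrictD χQ).map g) v ((extResAdj Q' T).unit.app L) }
  exact ⟨(e1.trans (HomIso.congr (restrictDComp (algebraMap Q' T) χ χQ h) (Iso.refl _))).trans
    (HomIso.ofFullyFaithful ((extD Q' T).obj L) (DRing.restrictD (algebraMap Q' T))).symm⟩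

end Groth.DualCore
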