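import Groth.Agent.DualCore.GradeVanishing
import Groth.Agent.DualCore.FibreRings
import Groth.Agent.KoszulLCI.Pres
import Groth.Agent.KoszulLCI.Transfer
import Groth.Agent.FibreDim.Smooth
import Groth.Agent.FibreDim.Composition
import Groth.Agent.Syntomic.AdaptedGerms
import Groth.Agent.EGA41Two.FlatRegularFibre
import Groth.Agent.S2141

/-!
The ideal of a closed subscheme of affine space over a base contains, at a point, regular sequences as long as
the fibrewise codimension.
-/

set_option autoImplicit false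
set_option linter.style.haveILetI false

universe u

open CategoryTheory IsLocalRing RingTheory.Sequence AlgebraicGeometry TensorProduct Topology

namespace Groth.DualCore

/-- The local rings of a fibre ring, at a given prime. -/
theorem nonempty_fibre_equiv_quot {R B : Type u} [CommRing R] [CommRing B] [Algebra R B] (p : Ideal R)
    [p.IsPrime] (Q : Ideal (p.Fiber B)) [Q.IsPrime] (r : Ideal B) [r.IsPrime]
    (hr : Q.comap (Algebra.TensorProduct.includeRight : B →ₐ[R] p.Fiber B) = r) :
    Nonempty (Localization.AtPrime Q ≃+*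
      Localization.AtPrime r ⧸ p.map (algebraMap R (Localization.AtPrime r))) := by
  subst hr
  exact ⟨(Ideal.Fiber.algEquivAux₂ p Q).toRingEquiv.trans
    (Ideal.quotEquivOfEq (by rw [Ideal.map_map, ← IsScalarTower.algebraMap_eq]))⟩

lemma codim_arith {x a b : WithBot ℕ∞} {r d n : ℕ} (h₁ : a + (r : WithBot ℕ∞) ≤ d)
    (h₂ : b + (r : WithBot ℕ∞) = n) (hx : x ≤ a) (hxb : x ≤ b) :
    x + ((n - d : ℕ) : WithBot ℕ∞) ≤ b := by
  rcases Nat.le_total n d with hnd | hnd
  · rw [Nat.sub_eq_zero_of_le hnd, Nat.cast_zero, add_zero]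
    exact hxb
  refine (add_le_add_left hx _).trans ?_
  induction a with
  | bot => simp
  | coe a =>
    induction b with
    | bot => simp at h₂
    | coe b =>
      induction a with
      | top => exact absurd (WithBot.coe_le_coe.1 h₁) (by simp)
      | coe a =>
        induction b with
        | top => exact WithBot.coe_le_coe.2 le_top
        | coe b =>
          change ((a + r : ℕ) : WithBot ℕ∞) ≤ (d : WithBot ℕ∞) at h₁
          change ((b + r : ℕ) : WithBot ℕ∞) = (n : WithBot ℕ∞) at h₂
          change ((a + (n - d) : ℕ) : WithBot ℕ∞) ≤ (b : WithBot ℕ∞)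
          norm_cast at h₁ h₂ ⊢
          omega

/-- Dimensions at corresponding points of a closed subscheme of a variety. -/
theorem exists_dims_of_surjective {k B C : Type u} [Field k] [CommRing B] [CommRing C] [Algebra k B]
    [Algebra k C] [Algebra.FiniteType k B] [Algebra.FiniteType k C] (π : B →ₐ[k] C) (hπ : Function.Surjective π)
    (Q : Ideal C) [Q.IsPrime] :
    ∃ r : ℕ, ringKrullDim (Localization.AtPrime Q) + (r : WithBot ℕ∞) =
        FlatMor.localDim (PrimeSpectrum C) ⟨Q, inferInstance⟩ ∧
      ringKrullDim (Localization.AtPrime (Q.comap π.toRingHom)) + (r : WithBot ℕ∞) =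
        FlatMor.localDim (PrimeSpectrum B) ⟨Q.comap π.toRingHom, inferInstance⟩ := by
  obtain ⟨r, hr⟩ := Groth.Syntomic.exists_trdeg_residueField_eq (k := k) C Q
  have hbij : Function.Bijective (Ideal.ResidueField.mapₐ (Q.comap π.toRingHom) Q π rfl) :=
    RingHom.SurjectiveOnStalks.residueFieldMap_bijective
      (RingHom.surjectiveOnStalks_of_surjective hπ) (Q.comap π.toRingHom) Q rfl
  exact ⟨r, (Groth.Agent.S2141.result Q r hr).symm, (Groth.Agent.S2141.result (Q.comap π.toRingHom) r
    ((AlgEquiv.ofBijective _ hbij).trdeg_eq.trans hr)).symm⟩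

/-- The point of a fibre, with the bound on its local dimension. -/
theorem exists_fibre_point {R A : Type u} [CommRing R] [CommRing A] [Algebra R A] (q : Ideal A) [q.IsPrime]
    (d : ℕ) (hd : FlatMor.fibreDimAt (Spec.map (CommRingCat.ofHom (algebraMap R A))) ⟨q, inferInstance⟩ ≤
      (d : WithBot ℕ∞)) :
    ∃ Q : PrimeSpectrum ((q.comap (algebraMap R A)).Fiber A),
      Q.asIdeal.comap (Algebra.TensorProduct.includeRight : A →ₐ[R] (q.comap (algebraMap R A)).Fiber A) = q ∧
        FlatMor.localDim (PrimeSpectrum ((q.comap (algebraMap R A)).Fiber A)) Q ≤ (d : WithBot ℕ∞) := by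
  let x : PrimeSpectrum A := ⟨q, inferInstance⟩
  let p : PrimeSpectrum R := PrimeSpectrum.comap (algebraMap R A) x
  let E := PrimeSpectrum.preimageHomeomorphFiber R A p
  refine ⟨E ⟨x, rfl⟩, congrArg (fun y => y.1.asIdeal) (E.symm_apply_apply ⟨x, rfl⟩), le_of_eq_of_le ?_ hd⟩
  have h := Groth.FibreDim.fibreDimAt_eq_of_range (Spec.map (CommRingCat.ofHom (algebraMap R A))) p
    (A := PrimeSpectrum (p.asIdeal.Fiber A)) (e := fun Q => ((E.symm Q).1 : PrimeSpectrum A))
    ((IsEmbedding.subtypeVal (p := fun y => y ∈ PrimeSpectrum.comap (algebraMap R A) ⁻¹' {p})).comp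
      E.symm.isEmbedding)
    ((E.symm.surjective.range_comp Subtype.val).trans Subtype.range_coe) (E ⟨x, rfl⟩)
  rw [E.symm_apply_apply] at h
  exact h.symm

/-- The local dimension of affine space over a residue field. -/
theorem localDim_fibre_mvPolynomial {R : Type u} [CommRing R] (p : Ideal R) [p.IsPrime] (n : ℕ)
    (x : PrimeSpectrum (p.Fiber (MvPolynomial (Fin n) R))) :
    FlatMor.localDim (PrimeSpectrum (p.Fiber (MvPolynomial (Fin n) R))) x = n := by
  rw [Groth.FibreDim.localDim_eq_of_homeomorph (PrimeSpectrum.homeomorphOfRingEquiv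
    (MvPolynomial.algebraTensorAlgEquiv R p.ResidueField (σ := Fin n)).toRingEquiv)]
  exact Groth.FibreDim.localDim_mvPolynomial _ _ _

/-- The local rings of affine space over a residue field are regular. -/
theorem isRegularLocalRing_fibre_mvPolynomial {R : Type u} [CommRing R] (p : Ideal R) [p.IsPrime] (n : ℕ)
    (Q : Ideal (p.Fiber (MvPolynomial (Fin n) R))) [Q.IsPrime] :
    IsRegularLocalRing (Localization.AtPrime Q) := by
  haveI : IsRegularRing (p.Fiber (MvPolynomial (Fin n) R)) := IsRegularRing.of_ringEquiv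
    (MvPolynomial.algebraTensorAlgEquiv (σ := Fin n) R p.ResidueField).symm.toRingEquiv
  exact IsRegularRing.isRegularLocalRing_localization _

/-- Regular sequences on the closed fibre inside an ideal. -/
theorem exists_list_fibre {S T : Type u} [CommRing S] [CommRing T] [IsLocalRing S] [IsNoetherianRing S]
    (I J : Ideal S) [IsRegularLocalRing (S ⧸ I)] (hJ : J ≤ maximalIdeal S) (χ : S →+* T)
    (hχ : Function.Surjective χ) (hker : RingHom.ker χ = I ⊔ J) {r d n : ℕ}
    (hT : ringKrullDim T + (r : WithBot ℕ∞) ≤ d) (hS : ringKrullDim (S ⧸ I) + (r : WithBot ℕ∞) = n) :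
    ∃ l : List S, l.length = n - d ∧ (∀ x ∈ l, x ∈ J) ∧ IsWeaklyRegular (S ⧸ I) l := by
  haveI : IsLocalHom (Ideal.Quotient.mk I) := IsLocalHom.of_surjective _ Ideal.Quotient.mk_surjective
  let J' : Ideal (S ⧸ I) := J.map (Ideal.Quotient.mk I)
  have hJ' : J' ≤ maximalIdeal (S ⧸ I) := by
    refine Ideal.map_le_iff_le_comap.2 (hJ.trans fun x hx => ?_)
    rw [Ideal.mem_comap, IsLocalRing.mem_maximalIdeal, mem_nonunits_iff, isUnit_map_iff]
    exact hx
  let eJ : ((S ⧸ I) ⧸ J') ≃+* T := (DoubleQuot.quotQuotEquivQuotSup I J).trans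
    ((Ideal.quotEquivOfEq hker.symm).trans (RingHom.quotientKerEquivOfSurjective hχ))
  obtain ⟨l, hlen, hlJ, hl⟩ := exists_isWeaklyRegular_mem J' hJ' (n - d) (S ⧸ I)
    (Groth.Calg6.isCohenMacaulayModule_of_isRegularLocalRing (S ⧸ I)) fun P' hP' hJP' _ => by
      rw [Module.supportDim_self_eq_ringKrullDim]
      refine codim_arith hT hS (le_of_le_of_eq ?_ (ringKrullDim_eq_of_ringEquiv eJ))
        (ringKrullDim_quotient_le P')
      exact ringKrullDim_le_of_surjective (Ideal.Quotient.factor hJP') (Ideal.Quotient.factor_surjective hJP')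
  have hlift : ∀ x ∈ l, ∃ y ∈ J, Ideal.Quotient.mk I y = x := fun x hx =>
    (Ideal.mem_map_iff_of_surjective _ Ideal.Quotient.mk_surjective).1 (hlJ x hx)
  choose y hyJ hy using hlift
  let l' : List S := l.pmap y fun _ h => h
  have hmap : l'.map (algebraMap S (S ⧸ I)) = l := by
    simp only [l', List.map_pmap]
    exact List.pmap_eq_self.2 fun x hx => hy x hx
  refine ⟨l', by simp [l', hlen], fun x hx => ?_, by rwa [← isWeaklyRegular_map_algebraMap_iff (S ⧸ I) (S ⧸ I), hmap]⟩
  obtain ⟨z, hz, rfl⟩ := List.mem_pmap.1 hx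
  exact hyJ z hz

variable {R A : Type u} [CommRing R] [CommRing A] [IsNoetherianRing R] [IsNoetherianRing A] [Algebra R A]
  (n : ℕ) [Algebra (MvPolynomial (Fin n) R) A] [IsScalarTower R (MvPolynomial (Fin n) R) A]

set_option maxHeartbeats 400000 in
/-- **Regular sequences in the ideal, of length the fibrewise codimension.** -/
theorem exists_isWeaklyRegular_ker (hsurj : Function.Surjective (algebraMap (MvPolynomial (Fin n) R) A))
    (q : Ideal A) [q.IsPrime] (d : ℕ)
    (hd : FlatMor.fibreDimAt (Spec.map (CommRingCat.ofHom (algebraMap R A))) ⟨q, inferInstance⟩ ≤ (d : WithBot ℕ∞)) :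
    ∃ l : List (Localization.AtPrime (q.comap (algebraMap (MvPolynomial (Fin n) R) A))),
      l.length = n - d ∧ IsWeaklyRegular (Localization.AtPrime (q.comap (algebraMap (MvPolynomial (Fin n) R) A))) l ∧
        ∀ x ∈ l, x ∈ (RingHom.ker (algebraMap (MvPolynomial (Fin n) R) A)).map
          (algebraMap (MvPolynomial (Fin n) R)
            (Localization.AtPrime (q.comap (algebraMap (MvPolynomial (Fin n) R) A)))) := by
  let P := MvPolynomial (Fin n) R
  let q' := q.comap (algebraMap P A)
  let S := Localization.AtPrime q'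
  let p := q.comap (algebraMap R A)
  let k := p.ResidueField
  have hqp : q'.comap (algebraMap R P) = p := by
    show (q.comap (algebraMap P A)).comap (algebraMap R P) = _
    rw [Ideal.comap_comap, ← IsScalarTower.algebraMap_eq]
  -- the two fibres
  let C := p.Fiber A
  let Pk := p.Fiber P
  let π : Pk →ₐ[k] C := Algebra.TensorProduct.map (AlgHom.id k k) (IsScalarTower.toAlgHom R P A)
  have hπ : Function.Surjective π := Algebra.TensorProduct.map_surjective _ _ Function.surjective_id hsurj
  haveI : Algebra.FiniteType R A := Algebra.FiniteType.of_surjective (IsScalarTower.toAlgHom R P A) hsurj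
  obtain ⟨⟨Q, _⟩, hQ, hQd⟩ := exists_fibre_point q d hd
  let Q' : Ideal Pk := Q.comap π.toRingHom
  have hQ' : Q'.comap (Algebra.TensorProduct.includeRight : P →ₐ[R] Pk) = q' := by
    refine Eq.trans ?_ (congrArg (Ideal.comap (algebraMap P A)) hQ)
    ext x
    simp only [Q', Ideal.mem_comap, Algebra.TensorProduct.includeRight_apply]
    rfl
  -- local dimensions
  obtain ⟨r, hr, hr'⟩ := exists_dims_of_surjective π hπ Q
  have hC : ringKrullDim (Localization.AtPrime Q) + (r : WithBot ℕ∞) ≤ (d : WithBot ℕ∞) :=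
    le_of_eq_of_le hr hQd
  have hP : ringKrullDim (Localization.AtPrime Q') + (r : WithBot ℕ∞) = n :=
    hr'.trans (localDim_fibre_mvPolynomial p n _)
  obtain ⟨eP⟩ := nonempty_fibre_equiv_quot p Q' q' hQ'
  obtain ⟨eC⟩ := nonempty_fibre_equiv_quot p Q q hQ
  -- the closed fibre of `S`
  let pS : Ideal S := p.map (algebraMap R S)
  let J : Ideal S := (RingHom.ker (algebraMap P A)).map (algebraMap P S)
  haveI : IsRegularLocalRing (Localization.AtPrime Q') := isRegularLocalRing_fibre_mvPolynomial p n Q'
  haveI : IsNoetherianRing S := IsLocalization.isNoetherianRing q'.primeCompl _ inferInstance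
  haveI : IsRegularLocalRing (S ⧸ pS) := IsRegularLocalRing.of_ringEquiv (R := Localization.AtPrime Q') (R' := (S ⧸ pS)) eP
  have hpS : pS ≤ maximalIdeal S := by
    refine Ideal.map_le_iff_le_comap.2 fun x hx => ?_
    rw [Ideal.mem_comap, IsScalarTower.algebraMap_apply R P S, IsLocalization.AtPrime.to_map_mem_maximal_iff S q']
    exact (hqp ▸ hx : x ∈ q'.comap (algebraMap R P))
  haveI : IsLocalHom (Ideal.Quotient.mk pS) := IsLocalHom.of_surjective _ Ideal.Quotient.mk_surjective
  let θ : S →+* Localization.AtPrime q := Localization.localRingHom q' q (algebraMap P A) rfl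
  have hθ : Function.Surjective θ := Groth.KoszulLCI.surjective_localRingHom (algebraMap P A) hsurj q
  have hker : RingHom.ker θ = J := Groth.KoszulLCI.ker_localRingHom_eq_map (algebraMap P A) hsurj q
  have hθR : θ.comp (algebraMap R S) = algebraMap R (Localization.AtPrime q) := RingHom.ext fun a => by
    rw [RingHom.comp_apply, IsScalarTower.algebraMap_apply R P S, Localization.localRingHom_to_map,
      IsScalarTower.algebraMap_apply R A (Localization.AtPrime q), ← IsScalarTower.algebraMap_apply R P A]
  let χ : S →+* Localization.AtPrime q ⧸ p.map (algebraMap R (Localization.AtPrime q)) :=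
    (Ideal.Quotient.mk _).comp θ
  have hχ : Function.Surjective χ := Ideal.Quotient.mk_surjective.comp hθ
  have hkerχ : RingHom.ker χ = pS ⊔ J := by
    rw [← hker, ← RingHom.comap_ker, Ideal.mk_ker, ← hθR, ← Ideal.map_map,
      Ideal.comap_map_of_surjective θ hθ]
    rfl
  have hJ : J ≤ maximalIdeal S :=
    IsLocalRing.le_maximalIdeal (Groth.KoszulLCI.map_atPrime_ne_top (Ideal.ker_le_comap _))
  obtain ⟨l', hlen, hlJ, hF⟩ := exists_list_fibre pS J hJ χ hχ hkerχ
    (le_of_eq_of_le (by rw [ringKrullDim_eq_of_ringEquiv eC]) hC)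
    ((congrArg (· + (r : WithBot ℕ∞)) (ringKrullDim_eq_of_ringEquiv eP).symm).trans hP)
  -- flatness over the base
  let Rp := Localization.AtPrime p
  letI : Algebra Rp S := (Localization.localRingHom p q' (algebraMap R P) hqp.symm).toAlgebra
  haveI : IsScalarTower R Rp S := IsScalarTower.of_algebraMap_eq fun x => by
    show _ = Localization.localRingHom p q' (algebraMap R P) hqp.symm (algebraMap R Rp x)
    rw [Localization.localRingHom_to_map, ← IsScalarTower.algebraMap_apply]
  haveI : IsLocalHom (algebraMap Rp S) := Localization.isLocalHom_localRingHom _ _ _ _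
  haveI : IsNoetherianRing Rp := IsLocalization.isNoetherianRing p.primeCompl _ inferInstance
  haveI : Module.Flat Rp S :=
    (RingHom.Flat.localRingHom (f := algebraMap R P) (RingHom.flat_algebraMap_iff.2 inferInstance) q' p hqp.symm :)
  have hm : (maximalIdeal Rp).map (algebraMap Rp S) • (⊤ : Submodule S S) = pS := by
    rw [smul_eq_mul, Ideal.mul_top, ← Localization.AtPrime.map_eq_maximalIdeal, Ideal.map_map,
      ← IsScalarTower.algebraMap_eq]
  refine ⟨l', hlen, ?_, hlJ⟩
  refine (Groth.EGA41Two.FlatFibre.weaklyRegular_and_flat (A := Rp) l' S ?_).1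
  exact ((Submodule.quotEquivOfEq _ _ hm.symm).isWeaklyRegular_congr l').1 hF

end Groth.DualCore
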