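import Groth.Agent.DualCore.FlatHom
import Groth.Agent.DualCore.Biduality
import Mathlib.RingTheory.Localization.BaseChange
import Mathlib.RingTheory.Flat.FaithfullyFlat.Basic
import Mathlib.RingTheory.Finiteness.Descent

/-!
# Dualizing complexes and flat base change
-/

set_option autoImplicit false

universe u

open CategoryTheory CategoryTheory.Limits DerivedCategory TensorProduct

attribute [local instance] HasDerivedCategory.standard
attribute [local instance] Groth.DualCore.homModuleA Groth.DualCore.homTowerA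

namespace Groth.DualCore

section Basics

variable {A : Type u} [CommRing A]

lemma isDualizing_of_iso {ω ω' : Dual.D A} (e : ω ≅ ω') (h : Dual.IsDualizing A ω) :
    Dual.IsDualizing A ω' where
  isNoetherianRing := h.isNoetherianRing
  finite_injective_dimension := by
    obtain ⟨a, b, hab⟩ := h.finite_injective_dimension
    exact ⟨a, b, fun M _ _ i hi =>
      haveI := hab M i hi
      ((Linear.homCongr A (Iso.refl _) ((shiftFunctor (Dual.D A) i).mapIso e)).symm.toEquiv.subsingleton :
        Subsingleton (Dual.inD A M ⟶ ω'⟦i⟧))⟩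
  finite_cohomology i := by
    haveI := h.finite_cohomology i
    exact Module.Finite.equiv ((homologyFunctor (ModuleCat.{u} A) i).mapIso e).toLinearEquiv
  toEnd_bijective := by
    have : (fun a : A => a • 𝟙 ω') =
        Linear.homCongr A e e ∘ fun a : A => a • 𝟙 ω := by
      funext a
      simp [Linear.homCongr, Linear.comp_smul, Linear.smul_comp]
    rw [this]
    exact (Linear.homCongr A e e).bijective.comp h.toEnd_bijective
  ext_self_subsingleton i hi :=
    haveI := h.ext_self_subsingleton i hi
    (Linear.homCongr A e ((shiftFunctor (Dual.D A) i).mapIso e)).symm.toEquiv.subsingleton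

/-- `Hom(X, ω⟦i⟧) ≅ Hom(X, ω⟦n⟧⟦i - n⟧)`. -/
noncomputable def homShiftEquiv (X ω : Dual.D A) (n i j : ℤ) (h : n + j = i) :
    (X ⟶ ω⟦n⟧⟦j⟧) ≃ₗ[A] (X ⟶ ω⟦i⟧) :=
  Linear.homCongr A (Iso.refl X) ((shiftFunctorAdd' (Dual.D A) n j i h).app ω).symm

lemma isDualizing_shift {ω : Dual.D A} (h : Dual.IsDualizing A ω) (n : ℤ) :
    Dual.IsDualizing A (ω⟦n⟧) where
  isNoetherianRing := h.isNoetherianRing
  finite_injective_dimension := by
    obtain ⟨a, b, hab⟩ := h.finite_injective_dimension
    exact ⟨a - n, b - n, fun M _ _ i hi =>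
      haveI := hab M (n + i) (by lia)
      (homShiftEquiv (Dual.inD A M) ω n (n + i) i rfl).toEquiv.subsingleton⟩
  finite_cohomology i := by
    haveI : Module.Finite A (((homologyFunctor (ModuleCat.{u} A) 0).shift (n + i)).obj ω) :=
      h.finite_cohomology (n + i)
    exact Module.Finite.equiv ((((homologyFunctor (ModuleCat.{u} A) 0).shiftIso n i (n + i) rfl)).app
      ω).symm.toLinearEquiv
  toEnd_bijective := by
    have : (fun a : A => a • 𝟙 (ω⟦n⟧)) = shiftHom ω ω n ∘ fun a : A => a • 𝟙 ω := by
      funext a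
      rw [Function.comp_apply, shiftHom_apply, Functor.map_smul, CategoryTheory.Functor.map_id]
    rw [this]
    exact (shiftHom ω ω n).bijective.comp h.toEnd_bijective
  ext_self_subsingleton i hi :=
    haveI := h.ext_self_subsingleton i hi
    ((shiftHom ω (ω⟦i⟧) n).trans (Linear.homCongr A (Iso.refl _)
      (((shiftFunctorAdd' (Dual.D A) i n (n + i) (add_comm i n)).app ω).symm ≪≫
        (shiftFunctorAdd' (Dual.D A) n i (n + i) rfl).app ω))).symm.toEquiv.subsingleton

/-- Maps into `ω⟦j⟧` from complexes in disjoint degrees vanish. -/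
lemma InjRep.subsingleton_hom_Q {ω : Dual.D A} (r : InjRep ω) (K : CochainComplex (ModuleCat.{u} A) ℤ)
    (p q j : ℤ) [K.IsStrictlyGE p] [K.IsStrictlyLE q] (hj : r.b < p + j ∨ q + j < r.a) :
    Subsingleton (Q.obj K ⟶ ω⟦j⟧) := by
  haveI := r.hGE
  haveI := r.hLE
  haveI : (r.I⟦j⟧).IsStrictlyGE (r.a - j) := r.I.isStrictlyGE_shift r.a j (r.a - j) (by lia)
  haveI : (r.I⟦j⟧).IsStrictlyLE (r.b - j) := r.I.isStrictlyLE_shift r.b j (r.b - j) (by lia)
  let e : Q.obj (r.I⟦j⟧) ≅ ω⟦j⟧ :=
    (Q.commShiftIso j).app r.I ≪≫ (shiftFunctor (Dual.D A) j).mapIso r.iso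
  refine subsingleton_of_forall_eq 0 fun v => ?_
  obtain ⟨f, hf⟩ := Q_map_surjective (v ≫ e.inv)
  have hf0 : f = 0 := by
    ext n : 1
    rcases lt_or_ge n p with hn | hn
    · exact (CochainComplex.isZero_of_isStrictlyGE K p n hn).eq_of_src _ _
    rcases lt_or_ge q n with hn' | hn'
    · exact (CochainComplex.isZero_of_isStrictlyLE K q n hn').eq_of_src _ _
    · rcases hj with hj | hj
      · exact (CochainComplex.isZero_of_isStrictlyLE (r.I⟦j⟧) (r.b - j) n (by lia)).eq_of_tgt _ _
      · exact (CochainComplex.isZero_of_isStrictlyGE (r.I⟦j⟧) (r.a - j) n (by lia)).eq_of_tgt _ _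
  rw [hf0, Functor.map_zero] at hf
  rw [← cancel_mono e.inv, ← hf, zero_comp]

/-- Finite injective dimension can be checked on finite modules. -/
theorem injDim_of_finite (ω : Dual.D A) (a b : ℤ)
    (h : ∀ (M : Type u) [AddCommGroup M] [Module A M], Module.Finite A M → ∀ i : ℤ, (i < a ∨ b < i) →
      Subsingleton (Dual.inD A M ⟶ ω⟦i⟧))
    (M : Type u) [AddCommGroup M] [Module A M] (i : ℤ) (hi : i < a ∨ b < i) :
    Subsingleton (Dual.inD A M ⟶ ω⟦i⟧) := by
  obtain ⟨r, ra, rb⟩ := exists_injRep' ω a b h
  haveI : Subsingleton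
      ((CochainComplex.singleFunctor (ModuleCat.{u} A) 0 ⋙ Q).obj (ModuleCat.of A M) ⟶ ω⟦i⟧) :=
    r.subsingleton_hom_Q
      ((CochainComplex.singleFunctor (ModuleCat.{u} A) 0).obj (ModuleCat.of A M)) 0 0 i (by lia)
  exact subsingleton_hom_of_iso
    ((singleFunctorIsoCompQ (ModuleCat.{u} A) 0).app (ModuleCat.of A M)).symm _

/-- `a ↦ a • 𝟙` as a linear map. -/
noncomputable def toEndLin (ω : Dual.D A) : A →ₗ[A] (ω ⟶ ω) := LinearMap.toSpanSingleton A _ (𝟙 ω)

lemma toEndLin_apply (ω : Dual.D A) (a : A) : toEndLin ω a = a • 𝟙 ω := rfl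

end Basics

section Flat

variable {A B : Type u} [CommRing A] [IsNoetherianRing A] [CommRing B] [Algebra A B] [Module.Flat A B]

/-- `B ⊗ Hom(M, ω⟦i⟧) ≅ Hom(M ⊗ B, ω_B⟦i⟧)`. -/
noncomputable def extHomEquiv (X ω : Dual.D A) (a b c : ℤ) [IsGE X a] [IsLE X b] [IsGE ω c]
    (hfin : ∀ i, Module.Finite A (Dual.HD A X i)) (i : ℤ) :
    B ⊗[A] (X ⟶ ω⟦i⟧) ≃ₗ[B] ((extD A B).obj X ⟶ ((extD A B).obj ω)⟦i⟧) :=
  (LinearEquiv.ofBijective _ (good_of_bounded (B := B) X ω a b c hfin i)).trans
    (Linear.homCongr B (Iso.refl _) (((extD A B).commShiftIso i).app ω))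

/-- `inD (B ⊗ M) ≅ E (inD M)`. -/
noncomputable def extInD (M : Type u) [AddCommGroup M] [Module A M] :
    (extD A B).obj (Dual.inD A M) ≅ Dual.inD B (B ⊗[A] M) :=
  ((ext A B).mapDerivedCategorySingleFunctor 0).app (ModuleCat.of A M) ≪≫
    (singleFunctor (ModuleCat.{u} B) 0).mapIso (extEquiv (B := B) (ModuleCat.of A M)).symm.toModuleIso

lemma finite_HD_inD (M : Type u) [AddCommGroup M] [Module A M] [Module.Finite A M] (i : ℤ) :
    Module.Finite A (Dual.HD A (Dual.inD A M) i) := by
  rcases eq_or_ne i 0 with rfl | hi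
  · haveI : Module.Finite A ((𝟭 (ModuleCat.{u} A)).obj (ModuleCat.of A M) : Type u) := ‹_›
    exact Module.Finite.equiv
      ((singleFunctorCompHomologyFunctorIso (ModuleCat.{u} A) 0).app (ModuleCat.of A M)).symm.toLinearEquiv
  · haveI : Subsingleton (Dual.HD A (Dual.inD A M) i) := by
      apply ModuleCat.isZero_iff_subsingleton.1
      rcases lt_or_gt_of_ne hi with h | h
      · exact isZero_of_isGE _ 0 i h
      · exact isZero_of_isLE _ 0 i h
    exact Module.Finite.of_finite

/-- `B ⊗ Hom(M, ω⟦i⟧) ≅ Hom(B ⊗ M, ω_B⟦i⟧)` for a finite module `M`. -/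
noncomputable def extHomInDEquiv (M : Type u) [AddCommGroup M] [Module A M] [Module.Finite A M]
    (ω : Dual.D A) (c : ℤ) [IsGE ω c] (i : ℤ) :
    B ⊗[A] (Dual.inD A M ⟶ ω⟦i⟧) ≃ₗ[B] (Dual.inD B (B ⊗[A] M) ⟶ ((extD A B).obj ω)⟦i⟧) :=
  (extHomEquiv (Dual.inD A M) ω 0 0 c (finite_HD_inD M) i).trans
    (Linear.homCongr B (extInD M) (Iso.refl _))

lemma finite_HD_extD (X : Dual.D A) (i : ℤ) [Module.Finite A (Dual.HD A X i)] :
    Module.Finite B (Dual.HD B ((extD A B).obj X) i) :=
  Module.Finite.equiv (HDExtEquiv X i)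

lemma exists_bounds {ω : Dual.D A} (hω : Dual.IsDualizing A ω) :
    ∃ a b : ℤ, IsGE ω a ∧ IsLE ω b := by
  obtain ⟨a, b, h⟩ := hω.finite_injective_dimension
  exact ⟨a, b, isGE_of_HD ω a fun i hi =>
      haveI := h A i (Or.inl hi)
      (homAEquiv ω i).symm.toEquiv.subsingleton,
    (isLE_iff ω b).2 fun i hi => ModuleCat.isZero_iff_subsingleton.2
      (haveI := h A i (Or.inr hi)
       (homAEquiv ω i).symm.toEquiv.subsingleton)⟩

lemma toEnd_extD (ω : Dual.D A) (a : B ⊗[A] A) :
    θ ω ω ((toEndLin ω).baseChange B a) =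
      toEndLin ((extD A B).obj ω) (AlgebraTensorModule.rid A B B a) := by
  induction a using TensorProduct.induction_on with
  | zero => simp
  | tmul b r =>
    rw [LinearMap.baseChange_tmul, θ_tmul, toEndLin_apply, extD_map_smul,
      AlgebraTensorModule.rid_tmul, toEndLin_apply, CategoryTheory.Functor.map_id, smul_smul,
      Algebra.smul_def, mul_comm]
  | add x y hx hy => rw [map_add, map_add, map_add, map_add, hx, hy]

lemma θ_self_bijective (ω : Dual.D A) (a b : ℤ) [IsGE ω a] [IsLE ω b]
    (hfin : ∀ i, Module.Finite A (Dual.HD A ω i)) : Function.Bijective (θ (B := B) ω ω) :=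
  θ_iso_right ((shiftFunctorZero (Dual.D A) ℤ).app ω) (good_of_bounded (B := B) ω ω a b a hfin 0)

/-- Flat base change preserves everything but possibly finite injective dimension. -/
theorem toEnd_extD_bijective {ω : Dual.D A} (hω : Dual.IsDualizing A ω) :
    Function.Bijective (fun b : B => b • 𝟙 ((extD A B).obj ω)) ∧
      ∀ i : ℤ, i ≠ 0 → Subsingleton ((extD A B).obj ω ⟶ ((extD A B).obj ω)⟦i⟧) := by
  obtain ⟨a, b, ha, hb⟩ := exists_bounds hω
  refine ⟨?_, fun i hi => ?_⟩
  · let e : A ≃ₗ[A] (ω ⟶ ω) := LinearEquiv.ofBijective (toEndLin ω) hω.toEnd_bijective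
    let e' : B ≃ₗ[B] ((extD A B).obj ω ⟶ (extD A B).obj ω) :=
      ((AlgebraTensorModule.rid A B B).symm.trans (e.baseChange A B _ _)).trans
        (LinearEquiv.ofBijective _ (θ_self_bijective ω a b hω.finite_cohomology))
    have : (fun x : B => x • 𝟙 ((extD A B).obj ω)) = e' := by
      funext x
      show _ = θ ω ω ((toEndLin ω).baseChange B ((AlgebraTensorModule.rid A B B).symm x))
      rw [toEnd_extD, LinearEquiv.apply_symm_apply, toEndLin_apply]
    rw [this]
    exact e'.bijective
  · haveI := hω.ext_self_subsingleton i hi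
    exact (extHomEquiv ω ω a b a hω.finite_cohomology i).symm.toEquiv.subsingleton

end Flat

section Localization

variable {A B : Type u} [CommRing A] [IsNoetherianRing A] [CommRing B] [Algebra A B]
  (S : Submonoid A) [IsLocalization S B]

include S in
/-- A finite module over a localization comes from a finite module. -/
lemma exists_descend (N : Type u) [AddCommGroup N] [Module B N] [Module.Finite B N] :
    ∃ (M : Type u) (_ : AddCommGroup M) (_ : Module A M),
      Module.Finite A M ∧ Nonempty (B ⊗[A] M ≃ₗ[B] N) := by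
  letI : Module A N := Module.compHom N (algebraMap A B)
  haveI : IsScalarTower A B N := IsScalarTower.of_algebraMap_smul fun _ _ => rfl
  obtain ⟨s, hs⟩ := Module.Finite.fg_top (R := B) (M := N)
  let M : Submodule A N := Submodule.span A (s : Set N)
  haveI := IsLocalization.flat B S
  haveI : Module.Finite A M := Module.Finite.span_of_finite A s.finite_toSet
  let f : B ⊗[A] M →ₗ[B] N := M.subtype.liftBaseChange B
  refine ⟨M, inferInstance, inferInstance, inferInstance, ⟨LinearEquiv.ofBijective f ⟨?_, ?_⟩⟩⟩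
  · have h1 : (f : B ⊗[A] M → N) =
        (IsLocalization.moduleLid (A := B) S N) ∘ (M.subtype.lTensor B) := by
      funext z
      induction z using TensorProduct.induction_on with
      | zero => simp
      | tmul b m => simp [f, IsLocalization.moduleLid]; rfl
      | add x y hx hy => simp only [map_add, Function.comp_apply] at hx hy ⊢; rw [hx, hy]
    rw [h1]
    exact (IsLocalization.moduleLid (A := B) S N).injective.comp
      (Module.Flat.lTensor_preserves_injective_linearMap _ M.injective_subtype)
  · rw [← LinearMap.range_eq_top, eq_top_iff, ← hs, Submodule.span_le]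
    exact fun x hx => ⟨1 ⊗ₜ ⟨x, Submodule.subset_span hx⟩, one_smul B x⟩

include S in
/-- **Localization of a dualizing complex.** -/
theorem isDualizing_extD [Module.Flat A B] {ω : Dual.D A} (hω : Dual.IsDualizing A ω) :
    Dual.IsDualizing B ((extD A B).obj ω) where
  isNoetherianRing := IsLocalization.isNoetherianRing S B inferInstance
  finite_injective_dimension := by
    obtain ⟨a, b, hab⟩ := hω.finite_injective_dimension
    obtain ⟨a', -, ha', -⟩ := exists_bounds hω
    refine ⟨a, b, injDim_of_finite _ a b fun N _ _ _ i hi => ?_⟩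
    obtain ⟨M, _, _, _, ⟨e⟩⟩ := exists_descend (A := A) (B := B) S N
    haveI := hab M i hi
    haveI := (extHomInDEquiv (B := B) M ω a' i).symm.toEquiv.subsingleton
    exact subsingleton_hom_of_iso ((singleFunctor (ModuleCat.{u} B) 0).mapIso e.toModuleIso) _
  finite_cohomology i :=
    haveI := hω.finite_cohomology i
    finite_HD_extD ω i
  toEnd_bijective := (toEnd_extD_bijective hω).1
  ext_self_subsingleton := (toEnd_extD_bijective hω).2

end Localization

section Descent

variable {A : Type u} [CommRing A] [IsNoetherianRing A] {ι : Type*} (B : ι → Type u)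
  [∀ j, CommRing (B j)] [∀ j, Algebra A (B j)] [∀ j, Module.Flat A (B j)]

omit [∀ j, Module.Flat A (B j)] in
/-- Finite injective dimension from uniform local bounds. -/
theorem injDim_of_family [∀ j, Module.Flat A (B j)]
    (hB : ∀ (M : Type (u + 1)) [AddCommGroup M] [Module A M],
      (∀ j, Subsingleton (B j ⊗[A] M)) → Subsingleton M)
    (K : Dual.D A) (c : ℤ) [IsGE K c] (p q : ℤ)
    (h : ∀ j (M : Type u) [AddCommGroup M] [Module (B j) M] (i : ℤ), (i < p ∨ q < i) →
      Subsingleton (Dual.inD (B j) M ⟶ ((extD A (B j)).obj K)⟦i⟧))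
    (M : Type u) [AddCommGroup M] [Module A M] (_ : Module.Finite A M) (i : ℤ) (hi : i < p ∨ q < i) :
    Subsingleton (Dual.inD A M ⟶ K⟦i⟧) :=
  hB _ fun j => by
    haveI := h j (B j ⊗[A] M) i hi
    exact (extHomInDEquiv (B := B j) M K c i).toEquiv.subsingleton

/-- **Descent**: being dualizing can be checked on a jointly faithful family of flat algebras. -/
theorem isDualizing_of_family
    (hB : ∀ (M : Type (u + 1)) [AddCommGroup M] [Module A M],
      (∀ j, Subsingleton (B j ⊗[A] M)) → Subsingleton M)
    (K : Dual.D A) (hfin : ∀ i, Module.Finite A (Dual.HD A K i)) (a b : ℤ) [IsGE K a] [IsLE K b]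
    (hinj : ∃ a b : ℤ, ∀ (M : Type u) [AddCommGroup M] [Module A M], Module.Finite A M → ∀ i : ℤ,
      (i < a ∨ b < i) → Subsingleton (Dual.inD A M ⟶ K⟦i⟧))
    (hend : ∀ j, Function.Bijective (fun x : B j => x • 𝟙 ((extD A (B j)).obj K)))
    (hext : ∀ j (i : ℤ), i ≠ 0 →
      Subsingleton ((extD A (B j)).obj K ⟶ ((extD A (B j)).obj K)⟦i⟧)) :
    Dual.IsDualizing A K where
  isNoetherianRing := inferInstance
  finite_injective_dimension := by
    obtain ⟨p, q, hpq⟩ := hinj
    exact ⟨p, q, injDim_of_finite K p q hpq⟩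
  finite_cohomology := hfin
  toEnd_bijective := by
    have key : ∀ j, Function.Bijective ((toEndLin K).baseChange (B j)) := fun j => by
      have hθ := θ_self_bijective (B := B j) K a b hfin
      have h' : Function.Bijective
          (fun x => toEndLin ((extD A (B j)).obj K) (AlgebraTensorModule.rid A (B j) (B j) x)) :=
        (hend j).comp (AlgebraTensorModule.rid A (B j) (B j)).bijective
      have : (fun x => θ K K ((toEndLin K).baseChange (B j) x)) =
          fun x => toEndLin ((extD A (B j)).obj K) (AlgebraTensorModule.rid A (B j) (B j) x) :=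
        funext (toEnd_extD K)
      rw [← this] at h'
      exact (Function.Bijective.of_comp_iff' hθ _).1 h'
    constructor
    · show Function.Injective (toEndLin K)
      rw [← LinearMap.ker_eq_bot]
      by_contra hne
      -- pass to a larger universe
      have : Subsingleton (ULift.{u + 1} (LinearMap.ker (toEndLin K))) := hB _ fun j => by
        have hinjk : Function.Injective ((LinearMap.ker (toEndLin K)).subtype.baseChange (B j)) :=
          Module.Flat.lTensor_preserves_injective_linearMap _ (Submodule.subtype_injective _)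
        have hz : ∀ z, (LinearMap.ker (toEndLin K)).subtype.baseChange (B j) z = 0 := fun z =>
          (key j).1 (by
            rw [← LinearMap.comp_apply, ← LinearMap.baseChange_comp, LinearMap.comp_ker_subtype,
              LinearMap.baseChange_zero, LinearMap.zero_apply, map_zero])
        haveI : Subsingleton (B j ⊗[A] LinearMap.ker (toEndLin K)) :=
          ⟨fun x y => hinjk ((hz x).trans (hz y).symm)⟩
        exact (TensorProduct.congr (LinearEquiv.refl A (B j))
          (ULift.moduleEquiv (R := A) (M := LinearMap.ker (toEndLin K)))).toEquiv.subsingleton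
      haveI : Subsingleton (LinearMap.ker (toEndLin K)) := (Equiv.ulift).symm.subsingleton
      exact hne Submodule.eq_bot_of_subsingleton
    · show Function.Surjective (toEndLin K)
      rw [← LinearMap.range_eq_top]
      by_contra hne
      have : Subsingleton ((K ⟶ K) ⧸ LinearMap.range (toEndLin K)) := hB _ fun j => by
        have hs : Function.Surjective
            ((LinearMap.range (toEndLin K)).mkQ.baseChange (B j)) :=
          LinearMap.lTensor_surjective _ (Submodule.mkQ_surjective _)
        refine subsingleton_of_forall_eq 0 fun z => ?_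
        obtain ⟨w, rfl⟩ := hs z
        obtain ⟨x, rfl⟩ := (key j).2 w
        rw [← LinearMap.comp_apply, ← LinearMap.baseChange_comp, LinearMap.range_mkQ_comp,
          LinearMap.baseChange_zero, LinearMap.zero_apply]
      exact hne (Submodule.Quotient.subsingleton_iff.1 this)
  ext_self_subsingleton i hi := hB _ fun j => by
    haveI := hext j i hi
    exact (extHomEquiv (B := B j) K K a b a hfin i).toEquiv.subsingleton

end Descent

end Groth.DualCore
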