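import Groth.Agent.DualCore.Regular
import Mathlib.RingTheory.Localization.BaseChange
import Mathlib.Algebra.Module.FinitePresentation

/-!
A bounded complex with finite cohomology which is a shifted copy of the ring at a prime is one near that prime.
-/

set_option autoImplicit false
set_option linter.style.haveILetI false

universe u

open CategoryTheory CategoryTheory.Limits DerivedCategory
open scoped TensorProduct

attribute [local instance] HasDerivedCategory.standard

namespace Groth.DualCore

variable {A : Type u} [CommRing A]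

/-- A finite module vanishing in a localization is killed by an element of the submonoid. -/
lemma exists_smul_eq_zero_of_subsingleton (S : Submonoid A) (B : Type u) [CommRing B] [Algebra A B]
    [IsLocalization S B] (M : Type u) [AddCommGroup M] [Module A M] [Module.Finite A M]
    [Subsingleton (B ⊗[A] M)] : ∃ r ∈ S, ∀ x : M, r • x = 0 := by
  classical
  obtain ⟨s, hs⟩ := Module.Finite.fg_top (R := A) (M := M)
  have h : ∀ x : M, ∃ r : S, r • x = 0 := fun x =>
    (IsLocalizedModule.eq_zero_iff S (TensorProduct.mk A B M 1)).1 (Subsingleton.elim _ _)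
  choose r hr using h
  refine ⟨_, (∏ x ∈ s, r x).2, fun y => ?_⟩
  induction show y ∈ Submodule.span A (s : Set M) by simp [hs] using Submodule.span_induction with
  | mem x hx =>
    show (∏ i ∈ s, r i) • x = 0
    rw [← Finset.prod_erase_mul s r hx, mul_smul, hr, smul_zero]
  | zero => simp
  | add a b _ _ ha hb => rw [smul_add, ha, hb, add_zero]
  | smul a x _ hx => rw [smul_comm, hx, smul_zero]

/-- A module killed by a unit of `B` vanishes after tensoring with `B`. -/
lemma subsingleton_tensor_of_smul_eq_zero (B : Type u) [CommRing B] [Algebra A B] (r : A)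
    (hr : IsUnit (algebraMap A B r)) (M : Type u) [AddCommGroup M] [Module A M]
    (h : ∀ x : M, r • x = 0) : Subsingleton (B ⊗[A] M) := by
  refine subsingleton_of_forall_eq 0 fun z => ?_
  induction z with
  | zero => rfl
  | add a b ha hb => rw [ha, hb, add_zero]
  | tmul b x =>
    obtain ⟨u, hu⟩ := hr
    have : b = r • ((↑u⁻¹ : B) * b) := by rw [Algebra.smul_def, ← hu, ← mul_assoc, Units.mul_inv, one_mul]
    rw [this, TensorProduct.smul_tmul, h, TensorProduct.tmul_zero]

/-- A finite module which is free of rank one at a prime is so near the prime. -/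
lemma exists_away_equiv [IsNoetherianRing A] (q : Ideal A) [q.IsPrime] (M : Type u) [AddCommGroup M]
    [Module A M] [Module.Finite A M]
    (e : Localization.AtPrime q ⊗[A] M ≃ₗ[Localization.AtPrime q] Localization.AtPrime q) :
    ∃ r ∉ q, ∀ t, r ∣ t → Nonempty (Localization.Away t ⊗[A] M ≃ₗ[Localization.Away t] Localization.Away t) := by
  let S := q.primeCompl
  let f := TensorProduct.mk A (Localization.AtPrime q) M 1
  let g := Algebra.linearMap A (Localization.AtPrime q)
  haveI : Module.FinitePresentation A M := Module.finitePresentation_of_finite A M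
  obtain ⟨⟨x, s⟩, hs⟩ := IsLocalizedModule.surj S f (e.symm 1)
  let l : A →ₗ[A] M := LinearMap.toSpanSingleton A M x
  have hl : IsLocalizedModule.map S g f l = ((s : A) • LinearMap.id) ∘ₗ (e.symm.toLinearMap.restrictScalars A) := by
    apply IsLocalizedModule.ext S g (IsLocalizedModule.map_units f)
    apply LinearMap.ext_ring
    rw [LinearMap.comp_apply, LinearMap.comp_apply, IsLocalizedModule.map_apply]
    show f ((1 : A) • x) = (s : A) • e.symm (algebraMap A _ 1)
    rw [one_smul, map_one]
    exact hs.symm
  obtain ⟨r, hr, h⟩ := exists_bijective_map_powers S g f l (by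
    rw [hl]
    exact ((Module.End.isUnit_iff _).1 (IsLocalizedModule.map_units f s)).comp e.symm.bijective)
  refine ⟨r, hr, fun t ht => ⟨?_⟩⟩
  let el := LinearEquiv.ofBijective (LocalizedModule.map (Submonoid.powers t) l) (h t ht)
  exact (LocalizedModule.equivTensorProduct (Submonoid.powers t) M).symm.trans (el.symm.trans
    ((LocalizedModule.equivTensorProduct (Submonoid.powers t) A).trans
      (TensorProduct.AlgebraTensorModule.rid A (Localization (Submonoid.powers t))
        (Localization (Submonoid.powers t)))))

/-- **Spreading out.** -/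
theorem exists_away_iso [IsNoetherianRing A] (q : Ideal A) [q.IsPrime] (K : Dual.D A) (a b : ℤ)
    [IsGE K a] [IsLE K b] (hfin : ∀ i, Module.Finite A (Dual.HD A K i)) (m : ℤ)
    (e : (extD A (Localization.AtPrime q)).obj K ≅
      (Dual.inD (Localization.AtPrime q) (Localization.AtPrime q))⟦m⟧) :
    ∃ f ∉ q, Nonempty ((extD A (Localization.Away f)).obj K ≅
      (Dual.inD (Localization.Away f) (Localization.Away f))⟦m⟧) := by
  let B := Localization.AtPrime q
  let T := fun j : ℤ => (HDExtEquiv (B := B) K j).trans ((HDCongr e j).trans (HDShiftEquiv _ m j (m + j) rfl))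
  have hvan : ∀ j : ℤ, j ≠ -m → ∃ r ∈ q.primeCompl, ∀ x : Dual.HD A K j, r • x = 0 := fun j hj => by
    haveI := subsingleton_HD_inD (A := B) B (m + j) (by lia)
    haveI := (T j).toEquiv.subsingleton
    haveI := hfin j
    exact exists_smul_eq_zero_of_subsingleton q.primeCompl B _
  haveI := hfin (-m)
  have e₀ : B ⊗[A] Dual.HD A K (-m) ≃ₗ[B] B :=
    (HDExtEquiv (B := B) K (-m)).trans ((HDCongr e (-m)).trans
      ((HDShiftEquiv _ m (-m) 0 (by lia)).trans (HDinDEquiv B)))
  obtain ⟨r₀, hr₀, hfree⟩ := exists_away_equiv q _ e₀
  classical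
  choose r hr hkill using hvan
  let ρ : ℤ → A := fun j => if hj : j = -m then 1 else r j hj
  let f := r₀ * ∏ j ∈ Finset.Icc a b, ρ j
  have hf : f ∈ q.primeCompl := mul_mem hr₀ (prod_mem fun j _ => by
    simp only [ρ]
    split
    · exact one_mem _
    · exact hr j _)
  refine ⟨f, hf, ?_⟩
  let C := Localization.Away f
  have hsub : ∀ j, j ≠ -m → Subsingleton (Dual.HD C ((extD A C).obj K) j) := fun j hj => by
    suffices Subsingleton (C ⊗[A] Dual.HD A K j) from (HDExtEquiv (B := C) K j).symm.toEquiv.subsingleton
    by_cases hmem : j ∈ Finset.Icc a b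
    · refine subsingleton_tensor_of_smul_eq_zero C (r j hj) (isUnit_of_dvd_unit (map_dvd (algebraMap A C) ?_)
        (IsLocalization.map_units (M := Submonoid.powers f) C ⟨f, Submonoid.mem_powers f⟩)) _ (hkill j hj)
      refine (dvd_trans ?_ (Finset.dvd_prod_of_mem ρ hmem)).trans (dvd_mul_left _ _)
      simp [ρ, hj]
    · haveI : Subsingleton (Dual.HD A K j) := by
        apply ModuleCat.isZero_iff_subsingleton.1
        simp only [Finset.mem_Icc, not_and_or, not_le] at hmem
        rcases hmem with h | h
        · exact isZero_of_isGE K a j h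
        · exact isZero_of_isLE K b j h
      exact subsingleton_tensor_of_smul_eq_zero C 1 (by simp) _ fun _ => Subsingleton.elim _ _
  obtain ⟨i⟩ := nonempty_iso_of_single_degree _ (-m) hsub
  obtain ⟨ef⟩ := hfree f (dvd_mul_right _ _)
  exact ⟨((shiftFunctorCompIsoId (Dual.D C) (-m) m (neg_add_cancel m)).app _).symm ≪≫
    (shiftFunctor (Dual.D C) m).mapIso (i ≪≫ (singleFunctor (ModuleCat.{u} C) 0).mapIso
      ((HDExtEquiv (B := C) K (-m)).symm.trans ef).toModuleIso)⟩

end Groth.DualCore
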