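import Groth.Agent.DualCore.ResidueCriterion
import Groth.Agent.DualCore.SpreadOut
import Groth.Agent.DualCore.FibreGorenstein
import Groth.Agent.DualCore.Local
import Groth.Agent.DAlg.NilpotentPair

/-!
Gorenstein fibres and invertibility of the relative dualizing complex.
-/

set_option autoImplicit false
set_option linter.style.haveILetI false

universe u

open CategoryTheory CategoryTheory.Limits DerivedCategory
open scoped TensorProduct

attribute [local instance] HasDerivedCategory.standard

namespace Groth.DualCore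

/-- Transitivity of derived base change in a tower. -/
theorem nonempty_lbc_trans {A B C : Type u} [CommRing A] [CommRing B] [CommRing C] [Algebra A B] [Algebra B C]
    [Algebra A C] [IsScalarTower A B C] [DRing.HasLBaseChange (algebraMap A B)]
    [DRing.HasLBaseChange (algebraMap B C)] [DRing.HasLBaseChange (algebraMap A C)] (K : Dual.D A) :
    Nonempty ((DRing.LBaseChange (algebraMap B C)).obj ((DRing.LBaseChange (algebraMap A B)).obj K) ≅
      (DRing.LBaseChange (algebraMap A C)).obj K) := by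
  have key : ∀ (φ : A →+* C) [DRing.HasLBaseChange φ], φ = (algebraMap B C).comp (algebraMap A B) →
      Nonempty ((DRing.LBaseChange (algebraMap B C)).obj ((DRing.LBaseChange (algebraMap A B)).obj K) ≅
        (DRing.LBaseChange φ).obj K) := by
    intro φ _ hφ
    subst hφ
    exact DAlg.nonempty_lBaseChange_comp _ _ K
  exact key _ (IsScalarTower.algebraMap_eq A B C)

/-- Derived base change of a shifted copy of the ring. -/
theorem nonempty_lbc_shift_inD {A B : Type u} [CommRing A] [CommRing B] (φ : A →+* B)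
    [DRing.HasLBaseChange φ] (m : ℤ) :
    Nonempty ((DRing.LBaseChange φ).obj ((Dual.inD A A)⟦m⟧) ≅ (Dual.inD B B)⟦m⟧) := by
  letI := (DAlg.lBaseChangeAdj φ).leftAdjointCommShift ℤ
  obtain ⟨u⟩ := nonempty_LBaseChange_inD φ
  exact ⟨((DRing.LBaseChange φ).commShiftIso m).app _ ≪≫ (shiftFunctor _ m).mapIso u⟩

variable {R A : Type u} [CommRing R] [CommRing A] [IsNoetherianRing R] [IsNoetherianRing A] [Algebra R A]
  [Module.Flat R A] {n : ℕ} (ψ : MvPolynomial (Fin n) R →ₐ[R] A) (hψ : Function.Surjective ψ)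
  [DRing.HasLBaseChange (algebraMap R (MvPolynomial (Fin n) R))]
  (Rψ : Dual.D (MvPolynomial (Fin n) R) ⥤ Dual.D A) (adj : DRing.restrictD ψ.toRingHom ⊣ Rψ)

include hψ adj in
/-- The shriek of `R` has bounded finite cohomology. -/
theorem bounds_shriek_self : ∃ a b : ℤ, IsGE (Dual2.shriekVia n Rψ (Dual.inD R R)) a ∧
    IsLE (Dual2.shriekVia n Rψ (Dual.inD R R)) b ∧
      ∀ i, Module.Finite A (Dual.HD A (Dual2.shriekVia n Rψ (Dual.inD R R)) i) := by
  obtain ⟨⟨E, b, hE, hF, ⟨e⟩⟩, a, b', hab⟩ := isRelPerfect_shriek_self ψ hψ Rψ adj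
  have h : ∀ i, (i < a ∨ b' < i) → Subsingleton (Dual.HD A (Dual2.shriekVia n Rψ (Dual.inD R R)) i) := fun i hi =>
    (DAlg.resHD_subsingleton_iff (algebraMap R A) _ i).1 (DAlg.TorAmp.subsingleton_HD hab hi)
  refine ⟨a, b', isGE_of_HD _ a fun i hi => h i (Or.inl hi),
    (isLE_iff _ b').2 fun i hi => ModuleCat.isZero_iff_subsingleton.2 (h i (Or.inr hi)), fun i => ?_⟩
  haveI : Module.Finite A (E.X i) := (hF i).1
  haveI : IsNoetherian A (E.X i) := isNoetherian_of_isNoetherianRing_of_finite A _
  haveI : Module.Finite A (Dual.HD A (DRing.toD E) i) :=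
    Module.Finite.equiv ((FlatCxBase.homologyEquivQuot E rfl rfl).trans (DAlg.HDEquiv E i).symm)
  exact Module.Finite.equiv (HDCongr e i)

include hψ adj in
/-- At the local rings of the fibres the base change of the shriek of `R` is dualizing. -/
theorem isDualizing_fibre_atPrime (p : Ideal R) [p.IsPrime] (Q : Ideal (p.Fiber A)) [Q.IsPrime]
    [Algebra A (p.Fiber A)] (halg : algebraMap A (p.Fiber A) =
      (Algebra.TensorProduct.includeRight : A →ₐ[R] p.Fiber A).toRingHom)
    (B : Type u) [CommRing B] [Algebra (p.Fiber A) B] [IsLocalization Q.primeCompl B]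
    [Algebra A B] [IsScalarTower A (p.Fiber A) B] [DRing.HasLBaseChange (algebraMap A B)] :
    Dual.IsDualizing B ((DRing.LBaseChange (algebraMap A B)).obj (Dual2.shriekVia n Rψ (Dual.inD R R))) := by
  haveI := isNoetherianRing_fibre (A := R) (B := A) p
  haveI : DRing.HasLBaseChange
      (Algebra.TensorProduct.includeRight : A →ₐ[R] TensorProduct R p.ResidueField A).toRingHom :=
    DAlg.hasLBaseChange _
  haveI : DRing.HasLBaseChange (algebraMap A (p.Fiber A)) := DAlg.hasLBaseChange _
  haveI : Module.Flat (p.Fiber A) B := IsLocalization.flat B Q.primeCompl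
  haveI : DRing.HasLBaseChange (algebraMap (p.Fiber A) B) := DAlg.hasLBaseChange _
  have key : ∀ (φ : A →+* p.Fiber A) [DRing.HasLBaseChange φ],
      φ = (Algebra.TensorProduct.includeRight : A →ₐ[R] p.Fiber A).toRingHom →
      Dual.IsDualizing (p.Fiber A) ((DRing.LBaseChange φ).obj (Dual2.shriekVia n Rψ (Dual.inD R R))) := by
    intro φ _ hφ
    subst hφ
    exact isDualizing_baseChange_field ψ hψ Rψ adj p.ResidueField
  obtain ⟨t⟩ := nonempty_lbc_trans (A := A) (B := p.Fiber A) (C := B)
    (Dual2.shriekVia n Rψ (Dual.inD R R))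
  exact isDualizing_of_iso (((LBaseChangeIso (p.Fiber A) B).app _).symm ≪≫ t)
    (isDualizing_extD Q.primeCompl (key _ halg))

include hψ adj in
/-- Gorenstein fibres make the shriek of `R` invertible. -/
theorem exists_away_iso_shriek_self
    (hG : ∀ (p : Ideal R) [p.IsPrime], LocCoh.IsGorensteinRing (p.Fiber A)) (q : Ideal A) [q.IsPrime] :
    ∃ f ∉ q, ∃ m : ℤ, Nonempty ((extD A (Localization.Away f)).obj (Dual2.shriekVia n Rψ (Dual.inD R R)) ≅
      (Dual.inD (Localization.Away f) (Localization.Away f))⟦m⟧) := by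
  let p := q.comap (algebraMap R A)
  let κ := q.ResidueField
  letI : Algebra A (p.Fiber A) := Algebra.TensorProduct.rightAlgebra
  let χ : p.Fiber A →ₐ[R] κ := Algebra.TensorProduct.lift
    (Ideal.ResidueField.mapₐ p q (Algebra.ofId R A) rfl) (IsScalarTower.toAlgHom R A κ) fun _ _ => Commute.all _ _
  haveI hQ : (RingHom.ker χ).IsPrime := RingHom.ker_isPrime _
  let Q := RingHom.ker χ
  obtain ⟨B, _, _, _⟩ : ∃ (B : Type u) (_ : CommRing B) (_ : Algebra (p.Fiber A) B),
      IsLocalization Q.primeCompl B :=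
    ⟨Localization.AtPrime Q, inferInstance, inferInstance, inferInstance⟩
  letI : Algebra A B := ((algebraMap (p.Fiber A) B).comp (algebraMap A (p.Fiber A))).toAlgebra
  haveI : IsScalarTower A (p.Fiber A) B := IsScalarTower.of_algebraMap_eq fun _ => rfl
  haveI := hG p
  haveI := isNoetherianRing_fibre (A := R) (B := A) p
  haveI := LocCoh.IsGorensteinRing.isGorensteinLocalRing_localization (A := p.Fiber A) Q
  haveI : IsNoetherianRing B := IsLocalization.isNoetherianRing Q.primeCompl B inferInstance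
  haveI : IsLocalRing B := IsLocalization.AtPrime.isLocalRing B Q
  obtain ⟨N, hN⟩ := (GrothGoren.exists_injLT_iff_of_ringEquiv
    (IsLocalization.algEquiv Q.primeCompl (Localization.AtPrime Q) B).toRingEquiv).1
      ((GrothGoren.isGorenstein_iff (Localization.AtPrime Q)).1 inferInstance)
  haveI : DRing.HasLBaseChange (algebraMap A B) := DAlg.hasLBaseChange _
  obtain ⟨m, ⟨eB⟩⟩ := exists_shift_iso (isDualizing_inD_of_injLT hN)
    (isDualizing_fibre_atPrime ψ hψ Rψ adj p Q rfl B)
  -- the map to the residue field of `q`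
  let θ : B →+* κ := IsLocalization.lift (M := Q.primeCompl) (g := χ.toRingHom) fun y =>
    isUnit_iff_ne_zero.2 y.2
  letI : Algebra B κ := θ.toAlgebra
  haveI : IsScalarTower A B κ := IsScalarTower.of_algebraMap_eq fun a => by
    show _ = θ (algebraMap A B a)
    rw [IsScalarTower.algebraMap_apply A (p.Fiber A) B, IsLocalization.lift_eq]
    show algebraMap A κ a = χ (1 ⊗ₜ a)
    simp [χ]
  let Aq := Localization.AtPrime q
  haveI : DRing.HasLBaseChange (algebraMap A Aq) := DAlg.hasLBaseChange _
  haveI : DRing.HasLBaseChange (algebraMap Aq κ) := DAlg.hasLBaseChange _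
  haveI : DRing.HasLBaseChange (algebraMap A κ) := DAlg.hasLBaseChange _
  haveI : DRing.HasLBaseChange (algebraMap B κ) := DAlg.hasLBaseChange _
  haveI : IsLocalHom (algebraMap Aq κ) := IsLocalHom.of_surjective _ IsLocalRing.residue_surjective
  let ω := Dual2.shriekVia n Rψ (Dual.inD R R)
  obtain ⟨a, b, ha, hb, hfin⟩ := bounds_shriek_self ψ hψ Rψ adj
  obtain ⟨t₁⟩ := nonempty_lbc_trans (A := A) (B := Aq) (C := κ) ω
  obtain ⟨t₂⟩ := nonempty_lbc_trans (A := A) (B := B) (C := κ) ω
  obtain ⟨t₃⟩ := nonempty_lbc_shift_inD (algebraMap B κ) m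
  let K := (extD A Aq).obj ω
  haveI : IsLE K b := (isLE_iff K b).2 fun i hi => ModuleCat.isZero_iff_subsingleton.2 <| by
    haveI : Subsingleton (Dual.HD A ω i) := ModuleCat.isZero_iff_subsingleton.1 (isZero_of_isLE ω b i hi)
    exact (HDExtEquiv (B := Aq) ω i).symm.toEquiv.subsingleton
  have hfinK : ∀ i, Module.Finite Aq (Dual.HD Aq K i) := fun i => by
    haveI := hfin i
    exact Module.Finite.equiv (HDExtEquiv (B := Aq) ω i)
  obtain ⟨eK⟩ := nonempty_iso_of_fibre (k := κ) K b hfinK m
    ((DRing.LBaseChange (algebraMap Aq κ)).mapIso ((LBaseChangeIso A Aq).app ω).symm ≪≫ t₁ ≪≫ t₂.symm ≪≫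
      (DRing.LBaseChange (algebraMap B κ)).mapIso eB ≪≫ t₃)
  obtain ⟨f, hf, e⟩ := exists_away_iso q ω a b hfin m eK
  exact ⟨f, hf, m, e⟩

include hψ adj in
/-- Invertibility of the shriek of `R` makes the fibres Gorenstein. -/
theorem isGorensteinRing_fibre_of_invertible
    (h : ∀ q : Ideal A, q.IsPrime → ∃ f ∉ q, ∃ m : ℤ,
      Nonempty ((extD A (Localization.Away f)).obj (Dual2.shriekVia n Rψ (Dual.inD R R)) ≅
        (Dual.inD (Localization.Away f) (Localization.Away f))⟦m⟧))
    (p : Ideal R) [p.IsPrime] : LocCoh.IsGorensteinRing (p.Fiber A) := by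
  haveI := isNoetherianRing_fibre (A := R) (B := A) p
  letI : Algebra A (p.Fiber A) := Algebra.TensorProduct.rightAlgebra
  refine { isGorensteinLocalRing_localization := fun Q _ => ?_ }
  obtain ⟨B, _, _, _⟩ : ∃ (B : Type u) (_ : CommRing B) (_ : Algebra (p.Fiber A) B),
      IsLocalization Q.primeCompl B :=
    ⟨Localization.AtPrime Q, inferInstance, inferInstance, inferInstance⟩
  letI : Algebra A B := ((algebraMap (p.Fiber A) B).comp (algebraMap A (p.Fiber A))).toAlgebra
  haveI : IsScalarTower A (p.Fiber A) B := IsScalarTower.of_algebraMap_eq fun _ => rfl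
  haveI : IsLocalRing B := IsLocalization.AtPrime.isLocalRing B Q
  obtain ⟨f, hf, m, ⟨e⟩⟩ := h (Q.comap (algebraMap A (p.Fiber A))) inferInstance
  have hu : IsUnit (algebraMap A B f) := by
    rw [IsScalarTower.algebraMap_apply A (p.Fiber A) B]
    exact IsLocalization.map_units (M := Q.primeCompl) B ⟨_, hf⟩
  let C := Localization.Away f
  letI : Algebra C B := (IsLocalization.Away.lift f hu).toAlgebra
  haveI : IsScalarTower A C B := IsScalarTower.of_algebraMap_eq fun a =>
    (IsLocalization.Away.lift_eq f hu a).symm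
  haveI : DRing.HasLBaseChange (algebraMap A C) := DAlg.hasLBaseChange _
  haveI : DRing.HasLBaseChange (algebraMap C B) := DAlg.hasLBaseChange _
  haveI : DRing.HasLBaseChange (algebraMap A B) := DAlg.hasLBaseChange _
  let ω := Dual2.shriekVia n Rψ (Dual.inD R R)
  obtain ⟨t⟩ := nonempty_lbc_trans (A := A) (B := C) (C := B) ω
  obtain ⟨s⟩ := nonempty_lbc_shift_inD (algebraMap C B) m
  let e' : (DRing.LBaseChange (algebraMap A B)).obj ω ≅ (Dual.inD B B)⟦m⟧ :=
    t.symm ≪≫ (DRing.LBaseChange (algebraMap C B)).mapIso ((LBaseChangeIso A C).app ω ≪≫ e) ≪≫ s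
  haveI : IsNoetherianRing B := IsLocalization.isNoetherianRing Q.primeCompl B inferInstance
  haveI : IsNoetherianRing (Localization.AtPrime Q) :=
    IsLocalization.isNoetherianRing Q.primeCompl _ inferInstance
  refine (GrothGoren.isGorenstein_iff (Localization.AtPrime Q)).2 ((GrothGoren.exists_injLT_iff_of_ringEquiv
    (IsLocalization.algEquiv Q.primeCompl B (Localization.AtPrime Q)).toRingEquiv).1
      (exists_injLT_of_isDualizing ?_))
  exact isDualizing_of_iso ((shiftFunctorCompIsoId (Dual.D B) m (-m) (add_neg_cancel m)).app _)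
    (isDualizing_shift (isDualizing_of_iso e' (isDualizing_fibre_atPrime ψ hψ Rψ adj p Q rfl B)) (-m))

end Groth.DualCore
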