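import Groth.Agent.DualCore.ShriekComp

/-!
Flat base change of the upper shriek, on objects bounded below.
-/

set_option autoImplicit false

universe u

open CategoryTheory CategoryTheory.Limits DerivedCategory TensorProduct

attribute [local instance] HasDerivedCategory.standard
attribute [local instance] MvPolynomial.algebraMvPolynomial
attribute [local instance] Algebra.TensorProduct.rightAlgebra

namespace Groth.DualCore

/-- Flat base change of the upper shriek. -/
theorem nonempty_shriek_baseChange (R R' A : Type u) [CommRing R] [CommRing R'] [CommRing A] [IsNoetherianRing R]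
    [Algebra R R'] [Module.Flat R R'] [Algebra R A] (n : ℕ) (ψ : MvPolynomial (Fin n) R →ₐ[R] A)
    (hψ : Function.Surjective ψ) [DRing.HasLBaseChange (algebraMap R (MvPolynomial (Fin n) R))]
    (Rψ : Dual.D (MvPolynomial (Fin n) R) ⥤ Dual.D A) (adj : DRing.restrictD ψ.toRingHom ⊣ Rψ) (m : ℕ)
    (ψ' : MvPolynomial (Fin m) R' →ₐ[R'] (R' ⊗[R] A)) (hψ' : Function.Surjective ψ')
    [DRing.HasLBaseChange (algebraMap R' (MvPolynomial (Fin m) R'))]
    (Rψ' : Dual.D (MvPolynomial (Fin m) R') ⥤ Dual.D (R' ⊗[R] A)) (adj' : DRing.restrictD ψ'.toRingHom ⊣ Rψ')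
    [DRing.HasLBaseChange (algebraMap A (R' ⊗[R] A))]
    [DRing.HasLBaseChange (algebraMap R R')] (K : Dual.D R) (c : ℤ) [IsGE K c] :
    Nonempty ((DRing.LBaseChange (algebraMap A (R' ⊗[R] A))).obj (Dual2.shriekVia n Rψ K) ≅
      Dual2.shriekVia m Rψ' ((DRing.LBaseChange (algebraMap R R')).obj K)) := by
  let ψ₂ : MvPolynomial (Fin n) R' →ₐ[R'] R' ⊗[R] A :=
    MvPolynomial.aeval fun i => (1 : R') ⊗ₜ[R] ψ (MvPolynomial.X i)
  have hψ₂eq : ψ₂.toRingHom.comp (algebraMap (MvPolynomial (Fin n) R) (MvPolynomial (Fin n) R')) =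
      (algebraMap A (R' ⊗[R] A)).comp ψ.toRingHom := by
    refine MvPolynomial.ringHom_ext (fun r => ?_) fun i => ?_
    · show ψ₂ (MvPolynomial.map (algebraMap R R') (MvPolynomial.C r)) = (1 : R') ⊗ₜ[R] ψ (MvPolynomial.C r)
      rw [MvPolynomial.map_C, MvPolynomial.aeval_C,
        show ψ (MvPolynomial.C r) = algebraMap R A r from ψ.commutes r]
      exact Algebra.TensorProduct.tmul_one_eq_one_tmul r
    · show ψ₂ (MvPolynomial.map (algebraMap R R') (MvPolynomial.X i)) = (1 : R') ⊗ₜ[R] ψ (MvPolynomial.X i)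
      rw [MvPolynomial.map_X, MvPolynomial.aeval_X]
  letI : Algebra (MvPolynomial (Fin n) R) A := ψ.toRingHom.toAlgebra
  letI : Algebra (MvPolynomial (Fin n) R') (R' ⊗[R] A) := ψ₂.toRingHom.toAlgebra
  letI : Algebra (MvPolynomial (Fin n) R) (R' ⊗[R] A) :=
    ((algebraMap A (R' ⊗[R] A)).comp ψ.toRingHom).toAlgebra
  haveI : IsScalarTower (MvPolynomial (Fin n) R) A (R' ⊗[R] A) := IsScalarTower.of_algebraMap_eq' rfl
  haveI : IsScalarTower (MvPolynomial (Fin n) R) (MvPolynomial (Fin n) R') (R' ⊗[R] A) :=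
    IsScalarTower.of_algebraMap_eq' hψ₂eq.symm
  haveI : IsScalarTower R (MvPolynomial (Fin n) R) A :=
    IsScalarTower.of_algebraMap_eq fun r => (ψ.commutes r).symm
  haveI : IsScalarTower R (MvPolynomial (Fin n) R') (R' ⊗[R] A) :=
    IsScalarTower.of_algebraMap_eq fun r => by
      rw [IsScalarTower.algebraMap_apply R R' (R' ⊗[R] A),
        IsScalarTower.algebraMap_apply R R' (MvPolynomial (Fin n) R')]
      exact (ψ₂.commutes _).symm
  haveI : IsScalarTower R' (MvPolynomial (Fin n) R') (R' ⊗[R] A) :=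
    IsScalarTower.of_algebraMap_eq fun r => (ψ₂.commutes r).symm
  haveI : Algebra.IsPushout (MvPolynomial (Fin n) R) (MvPolynomial (Fin n) R') A (R' ⊗[R] A) :=
    Algebra.IsPushout.symm ((Algebra.IsPushout.comp_iff R (MvPolynomial (Fin n) R) R'
      (MvPolynomial (Fin n) R') (T := A) (T' := R' ⊗[R] A)).1 inferInstance)
  haveI : Module.Flat (MvPolynomial (Fin n) R) (MvPolynomial (Fin n) R') :=
    Module.Flat.isBaseChange R (MvPolynomial (Fin n) R) R' (MvPolynomial (Fin n) R')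
      (Algebra.IsPushout.out (R := R) (S := MvPolynomial (Fin n) R) (R' := R') (S' := MvPolynomial (Fin n) R'))
  haveI : Module.Flat A (R' ⊗[R] A) :=
    Module.Flat.isBaseChange R A R' (R' ⊗[R] A)
      (Algebra.IsPushout.out (R := R) (S := A) (R' := R') (S' := R' ⊗[R] A))
  haveI : Module.Finite (MvPolynomial (Fin n) R) A :=
    Module.Finite.of_surjective (Algebra.linearMap (MvPolynomial (Fin n) R) A) hψ
  haveI : Module.Flat R (MvPolynomial (Fin n) R') := Module.Flat.trans R R' (MvPolynomial (Fin n) R')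
  haveI : Module.Flat R (MvPolynomial (Fin m) R') := Module.Flat.trans R R' (MvPolynomial (Fin m) R')
  -- the universal object
  let L : Dual.D (MvPolynomial (Fin n) R) := ((extD R (MvPolynomial (Fin n) R)).obj K)⟦(n : ℤ)⟧
  haveI := isGE_extD (B := MvPolynomial (Fin n) R) K c
  haveI : IsGE L (c - n) := TStructure.t.isGE_shift _ c n (c - n)
  haveI : IsGE ((𝟭 (Dual.D (MvPolynomial (Fin n) R))).obj L) (c - n) := inferInstanceAs (IsGE L (c - n))
  have hε := represents_extD (A' := MvPolynomial (Fin n) R') (B' := R' ⊗[R] A)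
    (represents_counit (φ := algebraMap (MvPolynomial (Fin n) R) A) Rψ adj L) (c - n)
  letI := adj.rightAdjointCommShift ℤ
  let i₁ : (DRing.LBaseChange (algebraMap A (R' ⊗[R] A))).obj (Dual2.shriekVia n Rψ K) ≅
      ((extD A (R' ⊗[R] A)).obj (Rψ.obj L))⟦(0 : ℤ)⟧ :=
    (LBaseChangeIso A _).app _ ≪≫ (extD A (R' ⊗[R] A)).mapIso
      (((Rψ.commShiftIso (n : ℤ)).app _).symm ≪≫
        Rψ.mapIso ((shiftFunctor _ (n : ℤ)).mapIso ((LBaseChangeIso R _).app K))) ≪≫
      ((shiftFunctorZero (Dual.D (R' ⊗[R] A)) ℤ).app _).symm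
  let b₁ := (HomIso.congr (Iso.refl (𝟭 (Dual.D (R' ⊗[R] A)))) i₁).trans (HomIso.ofRepresents (𝟭 _) hε 0)
  let j : ((extD (MvPolynomial (Fin n) R) (MvPolynomial (Fin n) R')).obj L)⟦(0 : ℤ)⟧ ≅
      ((extD R' (MvPolynomial (Fin n) R')).obj ((extD R R').obj K))⟦(n : ℤ)⟧ :=
    (shiftFunctorZero _ ℤ).app _ ≪≫
      ((extD (MvPolynomial (Fin n) R) (MvPolynomial (Fin n) R')).commShiftIso (n : ℤ)).app _ ≪≫
      (shiftFunctor _ (n : ℤ)).mapIso
        ((extDComp R (MvPolynomial (Fin n) R) (MvPolynomial (Fin n) R')).app K ≪≫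
          ((extDComp R R' (MvPolynomial (Fin n) R')).app K).symm)
  obtain ⟨b₂⟩ := nonempty_homIso_presentations ψ₂
    (fun z => by
      induction z using TensorProduct.induction_on with
      | zero => exact ⟨0, map_zero ψ₂⟩
      | tmul r a =>
        obtain ⟨p, rfl⟩ := hψ a
        refine ⟨MvPolynomial.C r * algebraMap (MvPolynomial (Fin n) R) (MvPolynomial (Fin n) R') p, ?_⟩
        rw [map_mul, show ψ₂ (algebraMap _ _ p) = (1 : R') ⊗ₜ[R] ψ p from RingHom.congr_fun hψ₂eq p,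
          MvPolynomial.aeval_C]
        show (r ⊗ₜ[R] (1 : A)) * ((1 : R') ⊗ₜ[R] ψ p) = r ⊗ₜ[R] ψ p
        rw [Algebra.TensorProduct.tmul_mul_tmul, mul_one, one_mul]
      | add a b ha hb =>
        obtain ⟨p, hp⟩ := ha
        obtain ⟨q, hq⟩ := hb
        exact ⟨p + q, by rw [map_add, hp, hq]⟩) ψ' hψ' ((extD R R').obj K)
  obtain ⟨a₃⟩ := nonempty_shriekHomIso m adj' ((DRing.LBaseChange (algebraMap R R')).obj K)
  exact ((b₁.trans (HomIso.congr (Functor.leftUnitor _) j)).trans (b₂.trans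
    ((a₃.trans (HomIso.congr (Iso.refl _)
      ((shiftFunctor _ (m : ℤ)).mapIso ((extD R' _).mapIso ((LBaseChangeIso R R').app K))))).symm))).nonempty_iso

end Groth.DualCore
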