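import Groth.Agent.DualCore.Extend
import Groth.Agent.DualCore.Coextend
import Groth.Prelude.Def_TrivBC
import Mathlib.CategoryTheory.Localization.Adjunction

/-!
The adjunction between flat base change and restriction on derived categories, with its unit; composition of
restriction functors.
-/

set_option autoImplicit false

universe u

open CategoryTheory CategoryTheory.Limits DerivedCategory HomologicalComplex

attribute [local instance] HasDerivedCategory.standard

namespace Groth.DualCore

local notation "up" => ComplexShape.up ℤ

/-- An adjunction on complexes from an adjunction of additive functors. -/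
noncomputable def mapCxAdj {C D : Type*} [Category* C] [Category* D] [Preadditive C] [Preadditive D]
    {G : C ⥤ D} {F : D ⥤ C} (adj : G ⊣ F) [G.Additive] [F.Additive] {ι : Type*} (c : ComplexShape ι) :
    G.mapHomologicalComplex c ⊣ F.mapHomologicalComplex c :=
  Adjunction.mkOfUnitCounit
    { unit :=
        { app := fun K =>
            { f := fun i => adj.unit.app (K.X i)
              comm' := fun i j _ => (adj.unit.naturality (K.d i j)).symm }
          naturality := fun K L g => by
            ext i
            exact adj.unit.naturality (g.f i) }
      counit :=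
        { app := fun K =>
            { f := fun i => adj.counit.app (K.X i)
              comm' := fun i j _ => (adj.counit.naturality (K.d i j)).symm }
          naturality := fun K L g => by
            ext i
            exact adj.counit.naturality (g.f i) }
      left_triangle := by
        ext K i
        simp only [NatTrans.comp_app, Functor.whiskerRight_app, Functor.associator_hom_app, Functor.whiskerLeft_app,
          Category.id_comp, HomologicalComplex.comp_f]
        exact adj.left_triangle_components _
      right_triangle := by
        ext K i
        simp only [NatTrans.comp_app, Functor.whiskerRight_app, Functor.associator_inv_app, Functor.whiskerLeft_app,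
          Category.id_comp, HomologicalComplex.comp_f]
        exact adj.right_triangle_components _ }

section Adj

variable (A B : Type u) [CommRing A] [CommRing B] [Algebra A B] [Module.Flat A B]

/-- Base change of complexes. -/
noncomputable abbrev extC : CochainComplex (ModuleCat.{u} A) ℤ ⥤ CochainComplex (ModuleCat.{u} B) ℤ :=
  (ext A B).mapHomologicalComplex up

/-- Base change is left adjoint to restriction, on complexes. -/
noncomputable def extResCxAdj : extC A B ⊣ resC (algebraMap A B) :=
  mapCxAdj (ModuleCat.extendRestrictScalarsAdj (algebraMap A B)) up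

/-- Flat base change is left adjoint to restriction on derived categories. -/
noncomputable def extResAdj : extD A B ⊣ DRing.restrictD (algebraMap A B) :=
  letI : CatCommSq (extC A B) Q Q (extD A B) := ⟨(ext A B).mapDerivedCategoryFactors.symm⟩
  letI : CatCommSq (resC (algebraMap A B)) Q Q (DRing.restrictD (algebraMap A B)) :=
    ⟨(res (algebraMap A B)).mapDerivedCategoryFactors.symm⟩
  (extResCxAdj A B).localization Q (quasiIso (ModuleCat.{u} A) up) Q (quasiIso (ModuleCat.{u} B) up) _ _

lemma extResAdj_unit_app (E : CochainComplex (ModuleCat.{u} A) ℤ) :
    (extResAdj A B).unit.app (Q.obj E) =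
      Q.map ((extResCxAdj A B).unit.app E) ≫ (res (algebraMap A B)).mapDerivedCategoryFactors.inv.app _ ≫
        (DRing.restrictD (algebraMap A B)).map ((ext A B).mapDerivedCategoryFactors.inv.app E) := by
  letI : CatCommSq (extC A B) Q Q (extD A B) := ⟨(ext A B).mapDerivedCategoryFactors.symm⟩
  letI : CatCommSq (resC (algebraMap A B)) Q Q (DRing.restrictD (algebraMap A B)) :=
    ⟨(res (algebraMap A B)).mapDerivedCategoryFactors.symm⟩
  exact Adjunction.localization_unit_app _ _ _ _ _ _ _ E

end Adj

section Comp

variable {A B C : Type u} [CommRing A] [CommRing B] [CommRing C]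

/-- Restriction along a composite. -/
noncomputable def restrictDComp (φ : A →+* B) (ψ : B →+* C) (χ : A →+* C) (h : χ = ψ.comp φ) :
    DRing.restrictD χ ≅ DRing.restrictD ψ ⋙ DRing.restrictD φ :=
  letI := TrivBC.liftingRes₂ ψ φ
  Localization.liftNatIso Q (quasiIso (ModuleCat.{u} C) up)
    (resC χ ⋙ Q) (resC ψ ⋙ resC φ ⋙ Q) _ _
    (Functor.isoWhiskerRight (NatIso.mapHomologicalComplex (ModuleCat.restrictScalarsComp'.{u} φ ψ χ h) up ≪≫
      (Functor.mapHomologicalComplexCompIso
        (Iso.refl (ModuleCat.restrictScalars.{u} ψ ⋙ ModuleCat.restrictScalars.{u} φ)) up).symm) Q ≪≫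
      Functor.associator _ _ _)

/-- Restriction along the identity. -/
noncomputable def restrictDId (f : A →+* A) (hf : f = RingHom.id A) : DRing.restrictD f ≅ 𝟭 (Dual.D A) :=
  letI : Localization.Lifting Q (quasiIso (ModuleCat.{u} A) up) Q (𝟭 (Dual.D A)) := ⟨Functor.rightUnitor _⟩
  Localization.liftNatIso Q (quasiIso (ModuleCat.{u} A) up) (resC f ⋙ Q) Q _ _
    (Functor.isoWhiskerRight (NatIso.mapHomologicalComplex (ModuleCat.restrictScalarsId'.{u} f hf) up ≪≫
      Functor.mapHomologicalComplexIdIso _ up) Q ≪≫ Functor.leftUnitor Q)

/-- Restriction along an isomorphism of rings is an equivalence. -/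
noncomputable abbrev restrictDEquiv (e : A ≃+* B) : Dual.D B ≌ Dual.D A :=
  CategoryTheory.Equivalence.mk (DRing.restrictD (e : A →+* B)) (DRing.restrictD (e.symm : B →+* A))
    ((restrictDId _ rfl).symm ≪≫
      restrictDComp (e.symm : B →+* A) (e : A →+* B) (RingHom.id B) (RingHom.ext fun x => (e.apply_symm_apply x).symm))
    ((restrictDComp (e : A →+* B) (e.symm : B →+* A) (RingHom.id A)
      (RingHom.ext fun x => (e.symm_apply_apply x).symm)).symm ≪≫ restrictDId _ rfl)

lemma restrictD_full_faithful_of_bijective (φ : A →+* B) (hφ : Function.Bijective φ) :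
    (DRing.restrictD φ).Full ∧ (DRing.restrictD φ).Faithful := by
  have h : φ = (RingEquiv.ofBijective φ hφ : A →+* B) := RingHom.ext fun _ => rfl
  rw [h]
  exact ⟨(restrictDEquiv (RingEquiv.ofBijective φ hφ)).full_functor,
    (restrictDEquiv (RingEquiv.ofBijective φ hφ)).faithful_functor⟩

end Comp

end Groth.DualCore
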