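import Groth.Agent.DTenCalc.RightAdjoint
import Groth.Agent.DTenCalc.SymMonoidal
import Groth.Agent.DAlg.LTensorCxIso
import Groth.Agent.S7068
import Groth.Agent.PCohHom.Perf
import Groth.Prelude.Def_DualSh
import Groth.Agent.DualCore.ShriekAdj
import Mathlib.Algebra.Homology.BifunctorShift

/-!
The upper shriek of a flat algebra of finite presentation is a derived tensor product.
-/

set_option autoImplicit false

universe u

open CategoryTheory CategoryTheory.Limits DerivedCategory MonoidalCategory DTen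
open Groth.DAlg.KFlatMod (IsKFlatCx)

attribute [local instance] HasDerivedCategory.standard

namespace Groth.DualCore

/-- A flat algebra of finite presentation is perfect over a polynomial ring mapping onto it. -/
theorem isPerfect_algD {R A : Type u} [CommRing R] [CommRing A] [Algebra R A] [Module.Flat R A]
    [Algebra.FinitePresentation R A] {n : ℕ} (ψ : MvPolynomial (Fin n) R →ₐ[R] A) (hψ : Function.Surjective ψ) :
    DRing.IsPerfect (MvPolynomial (Fin n) R) (DTenCalc.algD ψ.toRingHom) := by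
  have h := (PCohHom.perfHom_iff ψ hψ).1 (Groth.Agent.S7068.result R A)
  letI := ψ.toRingHom.toAlgebra
  obtain ⟨e⟩ := DTenCalc.nonempty_algD_iso (R := MvPolynomial (Fin n) R) (S := A)
  obtain ⟨E, a, b, h1, h2, ⟨e'⟩⟩ := (h : DRing.IsPerfectModule (MvPolynomial (Fin n) R) A)
  exact ⟨E, a, b, h1, h2, ⟨e' ≪≫ e.symm⟩⟩

/-- The tensor product in the form of the derived functor of one variable. -/
theorem nonempty_ten_iso_LTensorCx {A : Type u} [CommRing A] [DTen.HasLTen A] [DTen.HasLTen₃ A]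
    [DTen.IsSymMonoidal A] (W0 X : Dual.D A) (W : DRing.Cx A) [DRing.HasLTensorCx A W] (n : ℤ)
    (e : DRing.toD W ≅ W0⟦n⟧) :
    Nonempty (((DTen.LTen A).obj W0).obj X⟦n⟧ ≅ (DRing.LTensorCx A W).obj X) := by
  obtain ⟨Y, hY, ⟨eY⟩⟩ := DTenCalc.exists_kFlat_rep X
  let E0 := Q.objPreimage W0
  let e0 : Q.obj E0 ≅ W0 := Q.objObjPreimageIso W0
  have hs : IsIso ((DTen.symm A).app (Q.obj Y, Q.obj E0)) := by
    haveI := DTen.IsSymMonoidal.isIso_symm (A := A)
    infer_instance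
  have := DTenCalc.isIso_ε Y E0 hY
  have := DTenCalc.isIso_ε Y (E0⟦n⟧) hY
  have := DTenCalc.isIso_ε Y W hY
  let F := DTen.LTen₂ A
  let i₁ : ((DTen.LTen A).obj W0).obj X ≅ Q.obj (Y ⊗ E0) :=
    F.mapIso (Iso.prod e0 eY).symm ≪≫ @asIso _ _ _ _ _ hs ≪≫ asIso ((DTen.ε A).app (Y, E0))
  let i₂ : (Q.obj (Y ⊗ E0))⟦n⟧ ≅ Q.obj (Y ⊗ (E0⟦n⟧)) :=
    ((Q.commShiftIso n).app _).symm ≪≫
      Q.mapIso (CochainComplex.mapBifunctorShift₂Iso Y E0 (curriedTensor (ModuleCat.{u} A)) n).symm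
  let i₃ : Q.obj (Y ⊗ (E0⟦n⟧)) ≅ Q.obj (Y ⊗ W) :=
    (asIso ((DTen.ε A).app (Y, E0⟦n⟧))).symm ≪≫
      F.mapIso (Iso.prod (Iso.refl _) ((Q.commShiftIso n).app E0 ≪≫ (shiftFunctor _ n).mapIso e0 ≪≫ e.symm)) ≪≫
      asIso ((DTen.ε A).app (Y, W))
  exact ⟨(shiftFunctor _ n).mapIso i₁ ≪≫ i₂ ≪≫ i₃ ≪≫ (DAlg.lTensorCxIso W Y hY).symm ≪≫
    (DRing.LTensorCx A W).mapIso eY⟩

variable {R A : Type u} [CommRing R] [CommRing A] [Algebra R A] [Module.Flat R A] [Algebra.FinitePresentation R A]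
  {n : ℕ} (ψ : MvPolynomial (Fin n) R →ₐ[R] A) (hψ : Function.Surjective ψ)
  [DRing.HasLBaseChange (algebraMap R (MvPolynomial (Fin n) R))]

include hψ in
/-- The value of the shriek. -/
theorem nonempty_shriek_iso_LTensorCx (Rψ : Dual.D (MvPolynomial (Fin n) R) ⥤ Dual.D A)
    (adj : DRing.restrictD ψ.toRingHom ⊣ Rψ) (W : DRing.Cx A)
    (hW : Nonempty (DRing.toD W ≅ Dual2.shriekVia n Rψ (Dual.inD R R)))
    [DRing.HasLBaseChange (algebraMap R A)] [DRing.HasLTensorCx A W] (K : Dual.D R) :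
    Nonempty (Dual2.shriekVia n Rψ K ≅ (DRing.LTensorCx A W).obj ((DRing.LBaseChange (algebraMap R A)).obj K)) := by
  obtain ⟨eW⟩ := hW
  let φ := ψ.toRingHom
  haveI : DTen.HasRHomRel φ := ⟨adj.isLeftAdjoint⟩
  haveI := DTenCalc.hasLBase φ
  haveI := DTenCalc.hasLTen (A := MvPolynomial (Fin n) R)
  haveI := DTenCalc.hasLTen (A := A)
  haveI := DTenCalc.hasResTen φ
  haveI := DTenCalc.resLegIso φ
  haveI := DTenCalc.hasLTen₃ (A := MvPolynomial (Fin n) R)
  haveI := DTenCalc.hasLTen₃ (A := A)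
  haveI := DTenCalc.isSymMonoidal (A := MvPolynomial (Fin n) R)
  haveI := DTenCalc.isSymMonoidal (A := A)
  haveI := DTenCalc.isIso_candMap φ (isPerfect_algD ψ hψ)
  let LP := DRing.LBaseChange (algebraMap R (MvPolynomial (Fin n) R))
  let T : Rψ ≅ DTen.RHomRel φ := adj.rightAdjointUniq (DTen.relAdj φ)
  let base : LP ⋙ DTen.LBase φ ≅ DRing.LBaseChange (algebraMap R A) :=
    Adjunction.leftAdjointUniq
      (((DAlg.lBaseChangeAdj (algebraMap R (MvPolynomial (Fin n) R))).comp (DTen.baseAdj φ)).ofNatIsoRight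
        (restrictDComp (algebraMap R (MvPolynomial (Fin n) R)) φ (algebraMap R A)
          (RingHom.ext fun r => (ψ.commutes r).symm)).symm)
      (DAlg.lBaseChangeAdj (algebraMap R A))
  let u : LP.obj (Dual.inD R R) ≅ DTen.unit (MvPolynomial (Fin n) R) :=
    (LBaseChangeIso R _).app _ ≪≫
      ((ext R (MvPolynomial (Fin n) R)).mapDerivedCategorySingleFunctor 0).app (ModuleCat.of R R) ≪≫
      (singleFunctor (ModuleCat.{u} (MvPolynomial (Fin n) R)) 0).mapIso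
        ((extEquiv (ModuleCat.of R R)).symm.trans (TensorProduct.AlgebraTensorModule.rid R _ _)).toModuleIso ≪≫
      (singleFunctorIsoCompQ (ModuleCat.{u} (MvPolynomial (Fin n) R)) 0).app _
  let W0 := (DTen.RHomRel φ).obj (DTen.unit (MvPolynomial (Fin n) R))
  let eW' : DRing.toD W ≅ W0⟦(n : ℤ)⟧ := eW ≪≫ (shiftFunctor _ (n : ℤ)).mapIso (Rψ.mapIso u ≪≫ T.app _)
  obtain ⟨t⟩ := nonempty_ten_iso_LTensorCx W0 ((DRing.LBaseChange (algebraMap R A)).obj K) W (n : ℤ) eW'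
  exact ⟨(shiftFunctor _ (n : ℤ)).mapIso (T.app (LP.obj K) ≪≫ (asIso (DTenCalc.candMap φ)).symm.app _ ≪≫
    ((DTen.LTen A).obj W0).mapIso (base.app K)) ≪≫ t⟩

end Groth.DualCore
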