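import Groth.Agent.DualCore.TrivBCMap
import Groth.Agent.DualCore.RestrictLeftAdjoint
import Groth.Agent.DualCore.ShriekBC
import Groth.Agent.DualCore.ShriekPerfect
import Groth.Agent.HTopHyper.HTor.BaseChange

/-!
Base change of the upper shriek of a flat map, along an arbitrary map of the base.
-/

set_option autoImplicit false
set_option linter.style.haveILetI false

universe u

open CategoryTheory CategoryTheory.Limits DerivedCategory TensorProduct

attribute [local instance] HasDerivedCategory.standard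
attribute [local instance] MvPolynomial.algebraMvPolynomial
attribute [local instance] Algebra.TensorProduct.rightAlgebra

namespace Groth.DualCore

/-- `Tor^P_p(A, P ⊗_R R') = 0` for `p ≥ 1` when `A` and `P` are flat over `R`. -/
theorem subsingleton_tor_pushout {R P A R' P' : Type u} [CommRing R] [CommRing P] [CommRing A] [CommRing R']
    [CommRing P'] [Algebra R P] [Algebra P A] [Algebra R A] [IsScalarTower R P A] [Algebra R R'] [Algebra P P']
    [Algebra R P'] [Algebra R' P'] [IsScalarTower R P P'] [IsScalarTower R R' P'] [Algebra.IsPushout R P R' P']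
    [Module.Flat R P] [Module.Flat R A] (p : ℕ) (hp : 1 ≤ p) : Subsingleton (DRing.Tor P p A P') := by
  obtain ⟨q, rfl⟩ := Nat.exists_eq_add_of_le hp
  rw [add_comm]
  let S := HTorLib.Syz.free (ModuleCat.of R R')
  have h : ∀ k, Function.Injective ((S.u k).baseChange P) := fun k => by
    rw [LinearMap.baseChange_eq_ltensor]
    exact Module.Flat.lTensor_preserves_injective_linearMap _ (S.inj k)
  obtain ⟨e⟩ := (S.baseChange h).tor_succ (ModuleCat.of P A) q
  have hinj : Function.Injective (((S.u q).baseChange P).lTensor A) := by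
    intro x y hxy
    obtain ⟨a, rfl⟩ := (TensorProduct.AlgebraTensorModule.cancelBaseChange R P P A (S.N (q + 1))).symm.surjective x
    obtain ⟨b, rfl⟩ := (TensorProduct.AlgebraTensorModule.cancelBaseChange R P P A (S.N (q + 1))).symm.surjective y
    rw [HTorLib.lTensor_cancel_symm, HTorLib.lTensor_cancel_symm] at hxy
    exact congrArg _ (Module.Flat.lTensor_preserves_injective_linearMap _ (S.inj q)
      ((TensorProduct.AlgebraTensorModule.cancelBaseChange R P P A (S.P q)).symm.injective hxy))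
  have : Subsingleton (LinearMap.ker (((S.baseChange h).u q).lTensor (ModuleCat.of P A))) :=
    Submodule.subsingleton_iff_eq_bot.2 (LinearMap.ker_eq_bot.2 hinj)
  have hs : Subsingleton (DRing.Tor P (q + 1) A (P ⊗[R] R')) := e.toEquiv.subsingleton
  let i : P ⊗[R] R' ≃ₗ[P] P' := (Algebra.IsPushout.out (R := R) (S := P) (R' := R') (S' := P')).equiv
  exact ((((CategoryTheory.Tor (ModuleCat.{u} P) (q + 1)).obj (ModuleCat.of P A)).mapIso
    i.toModuleIso).symm.toLinearEquiv.toEquiv).subsingleton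

/-- Base change of the upper shriek of a flat map. -/
theorem nonempty_shriek_baseChange_of_flat_fp (R R' A : Type u) [CommRing R] [CommRing R'] [CommRing A]
    [Algebra R R'] [Algebra R A] [Module.Flat R A] [Algebra.FinitePresentation R A] (n : ℕ)
    (ψ : MvPolynomial (Fin n) R →ₐ[R] A)
    (hψ : Function.Surjective ψ) [DRing.HasLBaseChange (algebraMap R (MvPolynomial (Fin n) R))]
    (Rψ : Dual.D (MvPolynomial (Fin n) R) ⥤ Dual.D A) (adj : DRing.restrictD ψ.toRingHom ⊣ Rψ) (m : ℕ)
    (ψ' : MvPolynomial (Fin m) R' →ₐ[R'] (R' ⊗[R] A)) (hψ' : Function.Surjective ψ')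
    [DRing.HasLBaseChange (algebraMap R' (MvPolynomial (Fin m) R'))]
    (Rψ' : Dual.D (MvPolynomial (Fin m) R') ⥤ Dual.D (R' ⊗[R] A)) (adj' : DRing.restrictD ψ'.toRingHom ⊣ Rψ')
    [DRing.HasLBaseChange (algebraMap A (R' ⊗[R] A))]
    [DRing.HasLBaseChange (algebraMap R R')] (K : Dual.D R) :
    Nonempty ((DRing.LBaseChange (algebraMap A (R' ⊗[R] A))).obj (Dual2.shriekVia n Rψ K) ≅
      Dual2.shriekVia m Rψ' ((DRing.LBaseChange (algebraMap R R')).obj K)) := by
  let P := MvPolynomial (Fin n) R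
  let P' := MvPolynomial (Fin n) R'
  let ψ₂ : MvPolynomial (Fin n) R' →ₐ[R'] R' ⊗[R] A :=
    MvPolynomial.aeval fun i => (1 : R') ⊗ₜ[R] ψ (MvPolynomial.X i)
  have hψ₂eq : ψ₂.toRingHom.comp (algebraMap (MvPolynomial (Fin n) R) (MvPolynomial (Fin n) R')) =
      (algebraMap A (R' ⊗[R] A)).comp ψ.toRingHom := by
    refine MvPolynomial.ringHom_ext (fun r => ?_) fun i => ?_
    · show ψ₂ (MvPolynomial.map (algebraMap R R') (MvPolynomial.C r)) = (1 : R') ⊗ₜ[R] ψ (MvPolynomial.C r)
      rw [MvPolynomial.map_C, MvPolynomial.aeval_C,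
        show ψ (MvPolynomial.C r) = algebraMap R A r from ψ.commutes r]
      exact Algebra.TensorProduct.tmul_one_eq_one_tmul r
    · show ψ₂ (MvPolynomial.map (algebraMap R R') (MvPolynomial.X i)) = (1 : R') ⊗ₜ[R] ψ (MvPolynomial.X i)
      rw [MvPolynomial.map_X, MvPolynomial.aeval_X]
  letI : Algebra P A := ψ.toRingHom.toAlgebra
  letI : Algebra P' (R' ⊗[R] A) := ψ₂.toRingHom.toAlgebra
  letI : Algebra P (R' ⊗[R] A) := ((algebraMap A (R' ⊗[R] A)).comp ψ.toRingHom).toAlgebra
  haveI : IsScalarTower P A (R' ⊗[R] A) := IsScalarTower.of_algebraMap_eq' rfl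
  haveI : IsScalarTower P P' (R' ⊗[R] A) := IsScalarTower.of_algebraMap_eq' hψ₂eq.symm
  haveI : IsScalarTower R P A := IsScalarTower.of_algebraMap_eq fun r => (ψ.commutes r).symm
  haveI : IsScalarTower R P' (R' ⊗[R] A) :=
    IsScalarTower.of_algebraMap_eq fun r => by
      rw [IsScalarTower.algebraMap_apply R R' (R' ⊗[R] A), IsScalarTower.algebraMap_apply R R' P']
      exact (ψ₂.commutes _).symm
  haveI : IsScalarTower R' P' (R' ⊗[R] A) :=
    IsScalarTower.of_algebraMap_eq fun r => (ψ₂.commutes r).symm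
  haveI : Algebra.IsPushout P P' A (R' ⊗[R] A) :=
    Algebra.IsPushout.symm ((Algebra.IsPushout.comp_iff R P R' P' (T := A) (T' := R' ⊗[R] A)).1 inferInstance)
  haveI : Algebra.IsPushout P A P' (R' ⊗[R] A) := Algebra.IsPushout.symm inferInstance
  haveI : DRing.HasLBaseChange (algebraMap P P') := DAlg.hasLBaseChange _
  haveI := DTenCalc.hasLBase (algebraMap P A)
  haveI := DTenCalc.hasLBase (algebraMap P P')
  haveI := DTenCalc.hasLTen (A := P)
  haveI := DTenCalc.hasLTen (A := A)
  haveI := DTenCalc.hasLTen (A := P')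
  haveI := DTenCalc.hasLTen₃ (A := P)
  haveI := DTenCalc.isSymMonoidal (A := P)
  haveI := DTenCalc.hasResTen (algebraMap P A)
  haveI := DTenCalc.hasResTen (algebraMap P P')
  haveI := DTenCalc.resLegIso (algebraMap P A)
  haveI := DTenCalc.resLegIso (algebraMap P P')
  haveI := isLeftAdjoint_restrictD (algebraMap P' (R' ⊗[R] A))
  let R₂ := (DRing.restrictD (algebraMap P' (R' ⊗[R] A))).rightAdjoint
  let adj₂ : DRing.restrictD (algebraMap P' (R' ⊗[R] A)) ⊣ R₂ := Adjunction.ofIsLeftAdjoint _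
  let adjρ := DAlg.lBaseChangeAdj (algebraMap P P')
  let adjα := DAlg.lBaseChangeAdj (algebraMap A (R' ⊗[R] A))
  let adjP : DRing.restrictD (algebraMap P A) ⊣ Rψ := adj
  have hsq : (algebraMap A (R' ⊗[R] A)).comp (algebraMap P A) =
      (algebraMap P' (R' ⊗[R] A)).comp (algebraMap P P') := hψ₂eq.symm
  have htor : ∀ p : ℕ, 1 ≤ p → Subsingleton (DRing.Tor P p A P') := fun p hp =>
    subsingleton_tor_pushout (R := R) (R' := R') p hp
  let LP := DRing.LBaseChange (algebraMap R P)
  let K₁ : Dual.D P := (LP.obj K)⟦(n : ℤ)⟧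
  have hcmp := DAlg.isIso_cmp htor adjρ adjα hsq
  have hB := (TrivBC.isIso_bcMap_iff adjρ adjα hsq adjP adj₂ hcmp K₁ (hcmp _)).2
    (TrivBC.evMap_bijective_of_isPerfect adjP (isPerfect_algD ψ hψ) K₁)
  letI := adj.rightAdjointCommShift ℤ
  let i₁ : (DRing.LBaseChange (algebraMap A (R' ⊗[R] A))).obj (Dual2.shriekVia n Rψ K) ≅
      R₂.obj ((DRing.LBaseChange (algebraMap P P')).obj K₁) :=
    (DRing.LBaseChange (algebraMap A (R' ⊗[R] A))).mapIso ((Rψ.commShiftIso (n : ℤ)).app (LP.obj K)).symm ≪≫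
      @asIso _ _ _ _ _ hB
  letI := adjρ.leftAdjointCommShift ℤ
  haveI : DRing.HasLBaseChange (algebraMap R' P') := DAlg.hasLBaseChange _
  let c : LP ⋙ DRing.LBaseChange (algebraMap P P') ≅
      DRing.LBaseChange (algebraMap R R') ⋙ DRing.LBaseChange (algebraMap R' P') :=
    Adjunction.leftAdjointUniq ((DAlg.lBaseChangeAdj (algebraMap R P)).comp adjρ)
      (((DAlg.lBaseChangeAdj (algebraMap R R')).comp (DAlg.lBaseChangeAdj (algebraMap R' P'))).ofNatIsoRight
        ((restrictDComp (algebraMap R R') (algebraMap R' P') (algebraMap R P')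
          (IsScalarTower.algebraMap_eq R R' P')).symm ≪≫
        restrictDComp (algebraMap R P) (algebraMap P P') (algebraMap R P')
          (IsScalarTower.algebraMap_eq R P P')))
  let j : (DRing.LBaseChange (algebraMap P P')).obj K₁ ≅
      ((extD R' P').obj ((DRing.LBaseChange (algebraMap R R')).obj K))⟦(n : ℤ)⟧ :=
    ((DRing.LBaseChange (algebraMap P P')).commShiftIso (n : ℤ)).app (LP.obj K) ≪≫
      (shiftFunctor _ (n : ℤ)).mapIso (c.app K ≪≫ (LBaseChangeIso R' P').app _)
  let b₁ := (HomIso.congr (Iso.refl (𝟭 (Dual.D (R' ⊗[R] A)))) i₁).trans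
    ((HomIso.ofAdj adj₂ _).trans (HomIso.congr (Iso.refl _) j))
  obtain ⟨b₂⟩ := nonempty_homIso_presentations ψ₂
    (fun z => by
      induction z using TensorProduct.induction_on with
      | zero => exact ⟨0, map_zero ψ₂⟩
      | tmul r a =>
        obtain ⟨p, rfl⟩ := hψ a
        refine ⟨MvPolynomial.C r * algebraMap P P' p, ?_⟩
        rw [map_mul, show ψ₂ (algebraMap _ _ p) = (1 : R') ⊗ₜ[R] ψ p from RingHom.congr_fun hψ₂eq p,
          MvPolynomial.aeval_C]
        show (r ⊗ₜ[R] (1 : A)) * ((1 : R') ⊗ₜ[R] ψ p) = r ⊗ₜ[R] ψ p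
        rw [Algebra.TensorProduct.tmul_mul_tmul, mul_one, one_mul]
      | add a b ha hb =>
        obtain ⟨p, hp⟩ := ha
        obtain ⟨q, hq⟩ := hb
        exact ⟨p + q, by rw [map_add, hp, hq]⟩) ψ' hψ' ((DRing.LBaseChange (algebraMap R R')).obj K)
  obtain ⟨a₃⟩ := nonempty_shriekHomIso m adj' ((DRing.LBaseChange (algebraMap R R')).obj K)
  exact (b₁.trans (b₂.trans a₃.symm)).nonempty_iso

/-- Base change of the upper shriek of a flat map, over a Noetherian base. -/
theorem nonempty_shriek_baseChange_of_flat_source (R R' A : Type u) [CommRing R] [CommRing R'] [CommRing A]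
    [IsNoetherianRing R] [Algebra R R'] [Algebra R A] [Module.Flat R A] (n : ℕ)
    (ψ : MvPolynomial (Fin n) R →ₐ[R] A)
    (hψ : Function.Surjective ψ) [DRing.HasLBaseChange (algebraMap R (MvPolynomial (Fin n) R))]
    (Rψ : Dual.D (MvPolynomial (Fin n) R) ⥤ Dual.D A) (adj : DRing.restrictD ψ.toRingHom ⊣ Rψ) (m : ℕ)
    (ψ' : MvPolynomial (Fin m) R' →ₐ[R'] (R' ⊗[R] A)) (hψ' : Function.Surjective ψ')
    [DRing.HasLBaseChange (algebraMap R' (MvPolynomial (Fin m) R'))]
    (Rψ' : Dual.D (MvPolynomial (Fin m) R') ⥤ Dual.D (R' ⊗[R] A)) (adj' : DRing.restrictD ψ'.toRingHom ⊣ Rψ')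
    [DRing.HasLBaseChange (algebraMap A (R' ⊗[R] A))]
    [DRing.HasLBaseChange (algebraMap R R')] (K : Dual.D R) :
    Nonempty ((DRing.LBaseChange (algebraMap A (R' ⊗[R] A))).obj (Dual2.shriekVia n Rψ K) ≅
      Dual2.shriekVia m Rψ' ((DRing.LBaseChange (algebraMap R R')).obj K)) := by
  haveI : Algebra.FiniteType R A := Algebra.FiniteType.of_surjective ψ hψ
  haveI : Algebra.FinitePresentation R A := Algebra.FinitePresentation.of_finiteType.1 inferInstance
  exact nonempty_shriek_baseChange_of_flat_fp R R' A n ψ hψ Rψ adj m ψ' hψ' Rψ' adj' K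

end Groth.DualCore
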