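import Groth.Agent.DualCore.LocalExt
import Groth.Agent.DualCore.FibreCodim
import Groth.Agent.DualCore.GorensteinInvertible
import Groth.Agent.DualCore.ExtDuality
import Groth.Agent.DualCore.ShriekTorBC
import Groth.Agent.DAlg.RelPerfectBC
import Groth.Agent.Calg3.ResidueAcyclic

/-!
Cohomological bounds of complexes from their derived fibres, and the range of the relative dualizing complex of a
flat algebra.
-/

set_option autoImplicit false
set_option linter.style.haveILetI false

universe u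

open CategoryTheory CategoryTheory.Limits DerivedCategory AlgebraicGeometry Topology
open scoped TensorProduct

attribute [local instance] HasDerivedCategory.standard

namespace Groth.DualCore

/-- Derived base change preserves upper bounds. -/
theorem isLE_lbc {A B : Type u} [CommRing A] [CommRing B] (φ : A →+* B) [DRing.HasLBaseChange φ] (K : Dual.D A)
    (b : ℤ) [IsLE K b] : IsLE ((DRing.LBaseChange φ).obj K) b := by
  obtain ⟨P, hP, hfree, ⟨e⟩⟩ := DAlg.exists_free_rep A (K := K) (b := b) fun i hi =>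
    ModuleCat.isZero_iff_subsingleton.1 (isZero_of_isLE K b i hi)
  have hflat : DRing.TermwiseFlat P := fun i => haveI := hfree i; inferInstance
  obtain ⟨e'⟩ := DAlg.nonempty_lBaseChangeFlatIso φ P hP hflat
  refine (isLE_iff _ b).2 fun i hi => ModuleCat.isZero_iff_subsingleton.2 ?_
  exact DAlg.subsingleton_HD_of_iso (e'.symm ≪≫ (DRing.LBaseChange φ).mapIso e)
    ((ModuleCat.extendScalars φ).map_isZero (hP i hi))

section Local

variable {A : Type u} [CommRing A] [IsNoetherianRing A] [IsLocalRing A] {k : Type u} [Field k] [Algebra A k]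
  [IsLocalHom (algebraMap A k)] [DRing.HasLBaseChange (algebraMap A k)]

omit [IsNoetherianRing A] in
/-- The upper bound of a complex with finite cohomology is that of its derived fibre. -/
theorem isLE_of_fibre (K : Dual.D A) (b c : ℤ) [IsLE K b] (hfin : ∀ i, Module.Finite A (Dual.HD A K i))
    (hc : IsLE ((DRing.LBaseChange (algebraMap A k)).obj K) c) : IsLE K c := by
  refine (isLE_iff K c).2 fun i hi => ModuleCat.isZero_iff_subsingleton.2 ?_
  change Subsingleton (Dual.HD A K i)
  by_contra hns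
  obtain ⟨t, ⟨hct, hnt⟩, hmax⟩ := Int.exists_greatest_of_bdd
    (P := fun j => c < j ∧ Nontrivial (Dual.HD A K j))
    ⟨b, fun j hj => by
      by_contra! hlt
      exact not_subsingleton_iff_nontrivial.2 hj.2
        (ModuleCat.isZero_iff_subsingleton.1 (isZero_of_isLE K b j hlt))⟩
    ⟨i, hi, not_subsingleton_iff_nontrivial.1 hns⟩
  haveI : IsLE K t := (isLE_iff K t).2 fun j hj => by
    apply ModuleCat.isZero_iff_subsingleton.2
    change Subsingleton (Dual.HD A K j)
    exact not_nontrivial_iff_subsingleton.1 fun h => absurd (hmax j ⟨hct.trans hj, h⟩) (by omega)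
  haveI : IsLE (K⟦t⟧) 0 := DerivedCategory.TStructure.t.isLE_shift K t t 0 (add_zero _)
  let et := HDShiftEquiv K t 0 t (add_zero _)
  haveI : Module.Finite A (Dual.HD A (K⟦t⟧) 0) := haveI := hfin t; Module.Finite.equiv et.symm
  haveI : Nontrivial (Dual.HD A (K⟦t⟧) 0) := et.toEquiv.nontrivial
  obtain ⟨h, g, hg⟩ := exists_comp_ne_zero (k := k) (K⟦t⟧)
  let F := DRing.LBaseChange (algebraMap A k)
  let R := DRing.restrictD (algebraMap A k)
  let adj : F ⊣ R := DAlg.lBaseChangeAdj (algebraMap A k)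
  haveI : IsGE ((Dual.inD k k)⟦-t⟧) t :=
    DerivedCategory.TStructure.t.isGE_shift (Dual.inD k k) 0 (-t) t (by omega)
  let w : (R.obj ((Dual.inD k k)⟦-t⟧))⟦t⟧ ≅ Dual.inD A k :=
    (shiftFunctor _ t).mapIso ((R.commShiftIso (-t)).app (Dual.inD k k)) ≪≫
      (shiftFunctorCompIsoId (Dual.D A) (-t) t (neg_add_cancel t)).app _ ≪≫ resInD (A := A) (B := k) k
  obtain ⟨g', hg'⟩ := (shiftFunctor (Dual.D A) t).map_surjective (g ≫ w.inv)
  have h6 : g' = 0 := by
    haveI := hc
    have h0 : (adj.homEquiv _ _).symm g' = (adj.homEquiv _ _).symm 0 :=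
      (DerivedCategory.TStructure.t.zero_of_isLE_of_isGE _ c t hct inferInstance inferInstance).trans
        (DerivedCategory.TStructure.t.zero_of_isLE_of_isGE _ c t hct inferInstance inferInstance).symm
    exact (adj.homEquiv _ _).symm.injective h0
  apply hg
  have : g = 0 := by rw [← cancel_mono w.inv, zero_comp, ← hg', h6, Functor.map_zero]
  rw [this, comp_zero]

end Local

/-- Tor amplitude from the derived fibres at all primes. -/
theorem hasTorAmplitudeIn_of_fibres {R : Type u} [CommRing R] [IsNoetherianRing R] (K : Dual.D R) (a b : ℤ)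
    (hb : ∀ i, b < i → Subsingleton (Dual.HD R K i))
    (h : ∀ (p : Ideal R) [p.IsPrime] [DRing.HasLBaseChange (algebraMap R p.ResidueField)], ∀ i < a,
      Subsingleton (Dual.HD p.ResidueField ((DRing.LBaseChange (algebraMap R p.ResidueField)).obj K) i)) :
    DRing.HasTorAmplitudeIn R a b K := by
  obtain ⟨P, hP, hfree, ⟨e⟩⟩ := DAlg.exists_free_rep R hb
  have hflat : DRing.TermwiseFlat P := fun i => haveI := hfree i; inferInstance
  have hproj : ∀ i, Module.Projective R (P.X i) := fun i => haveI := hfree i; inferInstance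
  obtain ⟨E, hE, hEf, ⟨e'⟩⟩ := DAlg.torAmplitude_of_isZero P (a := a) hP hflat fun M i hi => by
    -- reindex as a chain complex
    let X : ℕ → ModuleCat.{u} R := fun j => P.X (max b (a - 1) + 1 - j)
    let d : ∀ j, X (j + 1) →ₗ[R] X j := fun j => (P.d _ _).hom
    have hd : ∀ j (x : X (j + 1 + 1)), d j (d (j + 1) x) = 0 := fun j x =>
      congr($(P.d_comp_d _ _ _).hom x)
    let m : ℕ := (max b (a - 1) + 1 - (a - 1)).toNat
    obtain ⟨j, hj, hij⟩ : ∃ j : ℕ, m ≤ j + 1 ∧ i = max b (a - 1) + 1 - (j + 1 : ℕ) :=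
      ⟨(max b (a - 1) + 1 - i).toNat - 1, by omega, by omega⟩
    have key : Groth.Calg3.ResidueAcyclic.Acyc X d m M := by
      refine Groth.Calg3.ResidueAcyclic.acyc_all hd (fun j => hflat _) (fun p _ => ?_) M
      intro l hl x hx
      haveI : DRing.HasLBaseChange (algebraMap R p.ResidueField) := DAlg.hasLBaseChange _
      obtain ⟨l, rfl⟩ : ∃ l', l = l' + 1 := ⟨l - 1, by omega⟩
      have hz := (DAlg.isZero_extCx_iff P (max b (a - 1) + 1 - (l + 1 : ℕ))).1
        ((DAlg.subsingleton_HD_extCx_iff P (algebraMap R p.ResidueField) hP hproj e _).1 (h p _ (by omega)))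
      obtain ⟨w, hw⟩ := (FlatCxBase.isZero_T_iff P ((ComplexShape.up ℤ).prev_eq'
          (show max b (a - 1) + 1 - ((l + 1 + 1 : ℕ) : ℤ) + 1 = _ by omega))
        ((ComplexShape.up ℤ).next_eq'
          (show max b (a - 1) + 1 - ((l + 1 : ℕ) : ℤ) + 1 = max b (a - 1) + 1 - (l : ℤ) by omega)) _).1 hz
        (TensorProduct.comm R _ _ x) (by
          have hx' : (d l).lTensor p.ResidueField x = 0 := hx
          have := congr(TensorProduct.comm R p.ResidueField (X l) $hx')
          rw [map_zero] at this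
          exact (LinearMap.rTensor_comm _ _).trans this)
      refine ⟨TensorProduct.comm R _ _ w, ?_⟩
      apply (TensorProduct.comm R p.ResidueField (X (l + 1))).injective
      rw [← hw]
      exact ((LinearMap.rTensor_comm _ _).symm.trans (congrArg _ (TensorProduct.comm_comm _ _ _ _)))
    subst hij
    refine (FlatCxBase.isZero_T_iff P ((ComplexShape.up ℤ).prev_eq'
          (show max b (a - 1) + 1 - ((j + 1 + 1 : ℕ) : ℤ) + 1 = _ by omega))
        ((ComplexShape.up ℤ).next_eq'
          (show max b (a - 1) + 1 - ((j + 1 : ℕ) : ℤ) + 1 = max b (a - 1) + 1 - (j : ℤ) by omega)) M).2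
      fun x hx => ?_
    obtain ⟨w, hw⟩ := key (j + 1) hj (TensorProduct.comm R _ _ x) (by
      show (d j).lTensor M _ = 0
      exact (LinearMap.lTensor_comm _ _).trans ((congrArg _ hx).trans (map_zero _)))
    exact ⟨TensorProduct.comm R _ _ w, by
      apply (TensorProduct.comm R (X (j + 1)) M).injective
      rw [← hw]
      exact ((LinearMap.lTensor_comm _ _).symm.trans (congrArg _ (TensorProduct.comm_comm _ _ _ _)))⟩
  exact ⟨E, hE, hEf, ⟨e' ≪≫ e⟩⟩

section Shriek

variable {R A : Type u} [CommRing R] [CommRing A] [IsNoetherianRing R] [IsNoetherianRing A] [Algebra R A]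
  (n : ℕ) (ψ : MvPolynomial (Fin n) R →ₐ[R] A) (hψ : Function.Surjective ψ)
  [DRing.HasLBaseChange (algebraMap R (MvPolynomial (Fin n) R))]
  (Rψ : Dual.D (MvPolynomial (Fin n) R) ⥤ Dual.D A) (adj : DRing.restrictD ψ.toRingHom ⊣ Rψ)

include hψ adj in
/-- Localized cohomology of `φ^!(R)` below the fibre dimension. -/
theorem subsingleton_localized_HD_shriek_below (q : PrimeSpectrum A) (d : ℕ)
    (hd : FlatMor.fibreDimAt (Spec.map (CommRingCat.ofHom (algebraMap R A))) q ≤ (d : WithBot ℕ∞))
    (i : ℤ) (hi : i < -(d : ℤ)) :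
    Subsingleton (LocalizedModule q.asIdeal.primeCompl
      (Dual.HD A (Dual2.shriekVia n Rψ (Dual.inD R R)) i)) := by
  let P := MvPolynomial (Fin n) R
  letI : Algebra P A := ψ.toRingHom.toAlgebra
  haveI : IsScalarTower R P A := IsScalarTower.of_algebraMap_eq fun r => (ψ.commutes r).symm
  obtain ⟨u⟩ := nonempty_LBaseChange_inD (algebraMap R P)
  let e : Dual2.shriekVia n Rψ (Dual.inD R R) ≅ (Rψ.obj (Dual.inD P P))⟦(n : ℤ)⟧ :=
    (shiftFunctor _ (n : ℤ)).mapIso (Rψ.mapIso u)
  obtain ⟨l, hlen, hl, hlI⟩ := exists_isWeaklyRegular_ker n hψ q.asIdeal d hd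
  let S := Localization.AtPrime (q.asIdeal.comap (algebraMap P A))
  haveI : IsNoetherianRing S := IsLocalization.isNoetherianRing
    (q.asIdeal.comap (algebraMap P A)).primeCompl _ inferInstance
  haveI : Module.Finite P A := Module.Finite.of_surjective (Algebra.linearMap P A) hψ
  obtain ⟨T⟩ := nonempty_localization_HD_equiv (P := P) Rψ adj hψ q.asIdeal ((n : ℤ) + i)
  haveI : Subsingleton (Dual.inD S (S ⊗[P] A) ⟶ (Dual.inD S S)⟦(n : ℤ) + i⟧) :=
    subsingleton_hom_of_killed l hl (S ⊗[P] A) (fun a ha x => smul_eq_zero_of_mem_map_ker S a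
      (Ideal.span_le.2 (fun y hy => hlI y hy) ha) x) _ (by omega)
  haveI := T.toEquiv.subsingleton
  let Aq := Localization.AtPrime q.asIdeal
  let E := ((HDCongr e i).trans (HDShiftEquiv _ (n : ℤ) i _ rfl))
  exact ((LocalizedModule.equivTensorProduct q.asIdeal.primeCompl _).trans
    (TensorProduct.AlgebraTensorModule.congr (LinearEquiv.refl Aq Aq) E)).toEquiv.subsingleton

end Shriek

section Field

variable {k C : Type u} [Field k] [CommRing C] [IsNoetherianRing C] [Algebra k C]
  (m : ℕ) (ψ : MvPolynomial (Fin m) k →ₐ[k] C) (hψ : Function.Surjective ψ)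
  [DRing.HasLBaseChange (algebraMap k (MvPolynomial (Fin m) k))]
  (Rψ : Dual.D (MvPolynomial (Fin m) k) ⥤ Dual.D C) (adj : DRing.restrictD ψ.toRingHom ⊣ Rψ)

include hψ adj in
/-- Over a field the relative dualizing complex has no cohomology in positive degrees. -/
theorem isLE_shriek_field : IsLE (Dual2.shriekVia m Rψ (Dual.inD k k)) 0 := by
  refine (isLE_iff _ 0).2 fun i hi => ModuleCat.isZero_iff_subsingleton.2 ?_
  change Subsingleton (Dual.HD C (Dual2.shriekVia m Rψ (Dual.inD k k)) i)
  refine subsingleton_of_maximal (A := C) _ fun q => ?_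
  let P := MvPolynomial (Fin m) k
  letI : Algebra P C := ψ.toRingHom.toAlgebra
  obtain ⟨u⟩ := nonempty_LBaseChange_inD (algebraMap k P)
  let e : Dual2.shriekVia m Rψ (Dual.inD k k) ≅ (Rψ.obj (Dual.inD P P))⟦(m : ℤ)⟧ :=
    (shiftFunctor _ (m : ℤ)).mapIso (Rψ.mapIso u)
  let q' := q.asIdeal.comap (algebraMap P C)
  let S := Localization.AtPrime q'
  haveI : IsRegularLocalRing S := IsRegularRing.isRegularLocalRing_localization _
  haveI : Module.Finite P C := Module.Finite.of_surjective (Algebra.linearMap P C) hψ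
  obtain ⟨N, hN⟩ := GrothGoren.exists_injLT_of_regular _ S le_rfl
  have hle : ringKrullDim S ≤ (m : WithBot ℕ∞) := by
    rw [IsLocalization.AtPrime.ringKrullDim_eq_height q' S]
    refine (Ideal.height_le_ringKrullDim_of_ne_top (Ideal.IsPrime.ne_top inferInstance)).trans_eq ?_
    rw [MvPolynomial.ringKrullDim_of_isNoetherianRing, ringKrullDim_eq_zero_of_field, zero_add, Nat.card_fin]
  obtain ⟨r, hr⟩ : ∃ r : ℕ, ringKrullDim S = r := ⟨_, IsRegularLocalRing.spanFinrank_maximalIdeal.symm⟩
  have hrm : r ≤ m := by rw [hr] at hle; exact_mod_cast hle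
  obtain ⟨T⟩ := nonempty_localization_HD_equiv (P := P) Rψ adj hψ q.asIdeal ((m : ℤ) + i)
  haveI : Subsingleton (Dual.inD S (S ⊗[P] C) ⟶ (Dual.inD S S)⟦(m : ℤ) + i⟧) :=
    subsingleton_hom_inD_self hN r hr _ r ((Module.supportDim_le_ringKrullDim S _).trans hr.le) _
      (Or.inr (by omega))
  haveI := T.toEquiv.subsingleton
  let Cq := Localization.AtPrime q.asIdeal
  let E := ((HDCongr e i).trans (HDShiftEquiv _ (m : ℤ) i _ rfl))
  exact (TensorProduct.AlgebraTensorModule.congr (LinearEquiv.refl Cq Cq) E).toEquiv.subsingleton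

omit [IsNoetherianRing C] in
/-- Over a field the fibre dimension is the local dimension. -/
theorem fibreDimAt_field (x : PrimeSpectrum C) :
    FlatMor.fibreDimAt (Spec.map (CommRingCat.ofHom (algebraMap k C))) x =
      FlatMor.localDim (PrimeSpectrum C) x := by
  have h := Groth.FibreDim.fibreDimAt_eq_of_range (Spec.map (CommRingCat.ofHom (algebraMap k C)))
    (PrimeSpectrum.comap (algebraMap k C) x) (A := PrimeSpectrum C) (e := id) IsEmbedding.id
    (Set.ext fun y => ⟨fun _ => Subsingleton.elim (α := PrimeSpectrum k) _ _, fun _ => ⟨y, rfl⟩⟩) x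
  exact h

include hψ adj in
/-- Over a field, the range of the relative dualizing complex. -/
theorem subsingleton_HD_shriek_field_below (d : ℕ)
    (hd : ∀ x : PrimeSpectrum C, FlatMor.localDim (PrimeSpectrum C) x ≤ (d : WithBot ℕ∞))
    (i : ℤ) (hi : i < -(d : ℤ)) :
    Subsingleton (Dual.HD C (Dual2.shriekVia m Rψ (Dual.inD k k)) i) := by
  refine subsingleton_of_maximal (A := C) _ fun q => ?_
  haveI := subsingleton_localized_HD_shriek_below (R := k) m ψ hψ Rψ adj ⟨q.asIdeal, inferInstance⟩ d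
    ((fibreDimAt_field _).trans_le (hd _)) i hi
  exact (LocalizedModule.equivTensorProduct q.asIdeal.primeCompl _).symm.toEquiv.subsingleton

end Field

end Groth.DualCore

namespace Groth.DualCore

variable {R A : Type u} [CommRing R] [CommRing A] [IsNoetherianRing R] [IsNoetherianRing A] [Algebra R A]
  [Module.Flat R A] (n : ℕ) (ψ : MvPolynomial (Fin n) R →ₐ[R] A) (hψ : Function.Surjective ψ)
  [DRing.HasLBaseChange (algebraMap R (MvPolynomial (Fin n) R))]
  (Rψ : Dual.D (MvPolynomial (Fin n) R) ⥤ Dual.D A) (adj : DRing.restrictD ψ.toRingHom ⊣ Rψ)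

include hψ adj in
/-- The range of the derived fibres of `φ^!(R)`. -/
theorem range_lbc_shriek_field (k : Type u) [Field k] [Algebra R k] [Algebra A (k ⊗[R] A)]
    (halg : algebraMap A (k ⊗[R] A) = (Algebra.TensorProduct.includeRight : A →ₐ[R] k ⊗[R] A).toRingHom)
    [DRing.HasLBaseChange (algebraMap A (k ⊗[R] A))] :
    IsLE ((DRing.LBaseChange (algebraMap A (k ⊗[R] A))).obj (Dual2.shriekVia n Rψ (Dual.inD R R))) 0 ∧
      ∀ d : ℕ, (∀ x : PrimeSpectrum (k ⊗[R] A),
          FlatMor.localDim (PrimeSpectrum (k ⊗[R] A)) x ≤ (d : WithBot ℕ∞)) →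
        ∀ i : ℤ, i < -(d : ℤ) → Subsingleton (Dual.HD (k ⊗[R] A)
          ((DRing.LBaseChange (algebraMap A (k ⊗[R] A))).obj (Dual2.shriekVia n Rψ (Dual.inD R R))) i) := by
  obtain rfl : ‹Algebra A (k ⊗[R] A)› = Algebra.TensorProduct.rightAlgebra := Algebra.algebra_ext _ _
    fun a => RingHom.congr_fun halg a
  letI : Algebra A (k ⊗[R] A) := Algebra.TensorProduct.rightAlgebra
  haveI : Algebra.FiniteType R A := Algebra.FiniteType.of_surjective ψ hψ
  haveI : IsNoetherianRing (k ⊗[R] A) := Algebra.FiniteType.isNoetherianRing k _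
  obtain ⟨m, ψ', hψ'⟩ := Algebra.FiniteType.iff_quotient_mvPolynomial''.1
    (inferInstance : Algebra.FiniteType k (k ⊗[R] A))
  haveI : DRing.HasLBaseChange (algebraMap k (MvPolynomial (Fin m) k)) := DAlg.hasLBaseChange _
  haveI : DRing.HasLBaseChange (algebraMap R k) := DAlg.hasLBaseChange _
  haveI := isLeftAdjoint_restrictD ψ'.toRingHom
  let R' := (DRing.restrictD ψ'.toRingHom).rightAdjoint
  let adj' : DRing.restrictD ψ'.toRingHom ⊣ R' := Adjunction.ofIsLeftAdjoint _
  obtain ⟨e⟩ := nonempty_shriek_baseChange_of_flat_source R k A n ψ hψ Rψ adj m ψ' hψ' R' adj' (Dual.inD R R)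
  let e' := e ≪≫ (shiftFunctor _ (m : ℤ)).mapIso (R'.mapIso
    ((DRing.LBaseChange (algebraMap k (MvPolynomial (Fin m) k))).mapIso
      (nonempty_LBaseChange_inD (algebraMap R k)).some))
  refine ⟨?_, fun d hd i hi => ?_⟩
  · haveI := isLE_shriek_field m ψ' hψ' R' adj'
    exact DerivedCategory.TStructure.t.isLE_of_iso e'.symm 0
  · haveI := subsingleton_HD_shriek_field_below m ψ' hψ' R' adj' d hd i hi
    exact (HDCongr e' i).toEquiv.subsingleton

include hψ adj in
/-- For a flat algebra `φ^!(R)` has no cohomology in positive degrees. -/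
theorem isLE_shriek_self_flat : IsLE (Dual2.shriekVia n Rψ (Dual.inD R R)) 0 := by
  let ω := Dual2.shriekVia n Rψ (Dual.inD R R)
  obtain ⟨a, b, ha, hb, hfin⟩ := bounds_shriek_self ψ hψ Rψ adj
  refine (isLE_iff _ 0).2 fun i hi => ModuleCat.isZero_iff_subsingleton.2 ?_
  change Subsingleton (Dual.HD A ω i)
  refine subsingleton_of_maximal (A := A) _ fun q' => ?_
  let q : Ideal A := q'.asIdeal
  let p := q.comap (algebraMap R A)
  let κ := q.ResidueField
  letI : Algebra A (p.Fiber A) := Algebra.TensorProduct.rightAlgebra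
  let χ : p.Fiber A →ₐ[R] κ := Algebra.TensorProduct.lift
    (Ideal.ResidueField.mapₐ p q (Algebra.ofId R A) rfl) (IsScalarTower.toAlgHom R A κ) fun _ _ => Commute.all _ _
  letI : Algebra (p.Fiber A) κ := χ.toRingHom.toAlgebra
  haveI : IsScalarTower A (p.Fiber A) κ := IsScalarTower.of_algebraMap_eq fun a => by
    show algebraMap A κ a = χ (1 ⊗ₜ a)
    simp [χ]
  let Aq := Localization.AtPrime q
  haveI : DRing.HasLBaseChange (algebraMap A Aq) := DAlg.hasLBaseChange _
  haveI : DRing.HasLBaseChange (algebraMap Aq κ) := DAlg.hasLBaseChange _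
  haveI : DRing.HasLBaseChange (algebraMap A κ) := DAlg.hasLBaseChange _
  haveI : DRing.HasLBaseChange (algebraMap A (p.Fiber A)) := DAlg.hasLBaseChange _
  haveI : DRing.HasLBaseChange (algebraMap (p.Fiber A) κ) := DAlg.hasLBaseChange _
  haveI : IsLocalHom (algebraMap Aq κ) := IsLocalHom.of_surjective _ IsLocalRing.residue_surjective
  haveI : IsNoetherianRing Aq := IsLocalization.isNoetherianRing q.primeCompl _ inferInstance
  obtain ⟨t₁⟩ := nonempty_lbc_trans (A := A) (B := Aq) (C := κ) ω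
  obtain ⟨t₂⟩ := nonempty_lbc_trans (A := A) (B := p.Fiber A) (C := κ) ω
  let K := (extD A Aq).obj ω
  haveI : IsLE K b := (isLE_iff K b).2 fun j hj => ModuleCat.isZero_iff_subsingleton.2 <| by
    haveI : Subsingleton (Dual.HD A ω j) := ModuleCat.isZero_iff_subsingleton.1 (isZero_of_isLE ω b j hj)
    exact (HDExtEquiv (B := Aq) ω j).symm.toEquiv.subsingleton
  have hfinK : ∀ j, Module.Finite Aq (Dual.HD Aq K j) := fun j => by
    haveI := hfin j
    exact Module.Finite.equiv (HDExtEquiv (B := Aq) ω j)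
  haveI := (range_lbc_shriek_field n ψ hψ Rψ adj p.ResidueField rfl).1
  haveI := isLE_lbc (algebraMap (p.Fiber A) κ) ((DRing.LBaseChange (algebraMap A (p.Fiber A))).obj ω) 0
  haveI : IsLE K 0 := isLE_of_fibre (k := κ) K b 0 hfinK (DerivedCategory.TStructure.t.isLE_of_iso
    (t₂ ≪≫ t₁.symm ≪≫ (DRing.LBaseChange (algebraMap Aq κ)).mapIso ((LBaseChangeIso A Aq).app ω)) 0)
  haveI : Subsingleton (Dual.HD Aq K i) := ModuleCat.isZero_iff_subsingleton.1 (isZero_of_isLE K 0 i hi)
  exact (HDExtEquiv (B := Aq) ω i).toEquiv.subsingleton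

include hψ adj in
/-- Fibres of dimension at most `d` bound the tor amplitude of `φ^!(R)`. -/
theorem hasTorAmplitudeIn_shriek_self (d : ℕ)
    (hd : ∀ q : PrimeSpectrum A,
      FlatMor.fibreDimAt (Spec.map (CommRingCat.ofHom (algebraMap R A))) q ≤ (d : WithBot ℕ∞)) :
    DRing.HasTorAmplitudeIn R (-(d : ℤ)) 0
      ((DRing.restrictD (algebraMap R A)).obj (Dual2.shriekVia n Rψ (Dual.inD R R))) := by
  haveI := isLE_shriek_self_flat n ψ hψ Rψ adj
  have hb : ∀ i, 0 < i → Subsingleton (Dual.HD A (Dual2.shriekVia n Rψ (Dual.inD R R)) i) := fun i hi =>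
    ModuleCat.isZero_iff_subsingleton.1 (isZero_of_isLE _ 0 i hi)
  refine hasTorAmplitudeIn_of_fibres _ _ _
    (fun i hi => (DAlg.resHD_subsingleton_iff (algebraMap R A) _ i).2 (hb i hi)) fun p _ _ i hi => ?_
  letI : Algebra A (p.Fiber A) := Algebra.TensorProduct.rightAlgebra
  haveI : DRing.HasLBaseChange (algebraMap A (p.Fiber A)) := DAlg.hasLBaseChange _
  obtain ⟨e⟩ := DAlg.nonempty_res_lBaseChange_iso (R := R) (A := A) (R' := p.ResidueField) (A' := p.Fiber A)
    (K := Dual2.shriekVia n Rψ (Dual.inD R R)) (b := 0) hb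
  haveI := (DAlg.resHD_subsingleton_iff (algebraMap p.ResidueField (p.Fiber A)) _ i).2
    ((range_lbc_shriek_field n ψ hψ Rψ adj p.ResidueField rfl).2 d (fun Q => by
      let E := PrimeSpectrum.preimageHomeomorphFiber R A ⟨p, inferInstance⟩
      have h := Groth.FibreDim.fibreDimAt_eq_of_range (Spec.map (CommRingCat.ofHom (algebraMap R A)))
        ⟨p, inferInstance⟩ (A := PrimeSpectrum (p.Fiber A))
        (e := fun Q => ((E.symm Q).1 : PrimeSpectrum A))
        ((IsEmbedding.subtypeVal (p := fun y => y ∈ PrimeSpectrum.comap (algebraMap R A) ⁻¹'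
          {⟨p, inferInstance⟩})).comp E.symm.isEmbedding)
        ((E.symm.surjective.range_comp Subtype.val).trans Subtype.range_coe) Q
      exact h.symm.trans_le (hd _)) i hi)
  exact (HDCongr e i).toEquiv.subsingleton

end Groth.DualCore
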