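import Groth.Agent.Gorenstein.BaseChange
import Mathlib

/-!
# Base change along a field extension
-/

set_option autoImplicit false

universe u

open TensorProduct IsLocalRing

namespace Groth.DualCore

variable {k : Type u} [Field k]

/-- Residue fields of finite type algebras are finitely generated extensions. -/
theorem exists_fg_residueField (A : Type u) [CommRing A] [Algebra k A] [Algebra.FiniteType k A]
    (p : Ideal A) [p.IsPrime] :
    ∃ s : Finset p.ResidueField, IntermediateField.adjoin k (s : Set p.ResidueField) = ⊤ := by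
  classical
  obtain ⟨n, f, hf⟩ := Algebra.FiniteType.iff_quotient_mvPolynomial''.1 ‹Algebra.FiniteType k A›
  refine ⟨Finset.univ.image fun i => algebraMap A p.ResidueField (f (MvPolynomial.X i)),
    eq_top_iff.2 fun z _ => ?_⟩
  have hmem : ∀ a : A, algebraMap A p.ResidueField a ∈ IntermediateField.adjoin k
      ((Finset.univ.image fun i => algebraMap A p.ResidueField (f (MvPolynomial.X i)) : Finset _) : Set p.ResidueField) := by
    intro a
    obtain ⟨g, rfl⟩ := hf a
    induction g using MvPolynomial.induction_on with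
    | C c =>
      rw [← MvPolynomial.algebraMap_eq, AlgHom.commutes, ← IsScalarTower.algebraMap_apply]
      exact IntermediateField.algebraMap_mem _ c
    | add g h hg hh => rw [map_add, map_add]; exact add_mem hg hh
    | mul_X g i hg =>
      rw [map_mul, map_mul]
      exact mul_mem hg (IntermediateField.subset_adjoin _ _ (by simp))
  obtain ⟨a, b, -, rfl⟩ := IsFractionRing.div_surjective (A ⧸ p) z
  obtain ⟨a, rfl⟩ := Ideal.Quotient.mk_surjective a
  obtain ⟨b, rfl⟩ := Ideal.Quotient.mk_surjective b
  exact div_mem (hmem a) (hmem b)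

/-- The dimension of `κ(p) ⊗ K` is at most the number of generators. -/
theorem ringKrullDim_tensor_residueField_le (A : Type u) [CommRing A] [Algebra k A] {n : ℕ}
    (f : MvPolynomial (Fin n) k →ₐ[k] A) (hf : Function.Surjective f) (p : Ideal A) [p.IsPrime]
    (K : Type u) [Field K] [Algebra k K] :
    ringKrullDim (p.ResidueField ⊗[k] K) ≤ (n : WithBot ℕ∞) := by
  let A' := A ⧸ p
  let M := nonZeroDivisors A'
  letI : Algebra (A' ⊗[k] K) (p.ResidueField ⊗[k] K) :=
    (Algebra.TensorProduct.map (IsScalarTower.toAlgHom k A' p.ResidueField) (AlgHom.id k K)).toRingHom.toAlgebra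
  letI : Algebra (K ⊗[k] A') (K ⊗[k] p.ResidueField) :=
    (Algebra.TensorProduct.map (AlgHom.id K K) (IsScalarTower.toAlgHom k A' p.ResidueField)).toRingHom.toAlgebra
  haveI : IsScalarTower K (K ⊗[k] A') (K ⊗[k] p.ResidueField) :=
    IsScalarTower.of_algebraMap_eq' (R := K) (S := K ⊗[k] A') (A := K ⊗[k] p.ResidueField)
      (AlgHom.comp_algebraMap (Algebra.TensorProduct.map (AlgHom.id K K)
        (IsScalarTower.toAlgHom k A' p.ResidueField))).symm
  have H : (algebraMap (K ⊗[k] A') (K ⊗[k] p.ResidueField)).comp Algebra.TensorProduct.includeRight.toRingHom =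
      Algebra.TensorProduct.includeRight.toRingHom.comp (algebraMap A' p.ResidueField) := by
    refine RingHom.ext fun x => ?_
    show Algebra.TensorProduct.map (AlgHom.id K K) (IsScalarTower.toAlgHom k A' p.ResidueField) ((1 : K) ⊗ₜ[k] x) =
      (1 : K) ⊗ₜ[k] algebraMap A' p.ResidueField x
    rw [Algebra.TensorProduct.map_tmul, AlgHom.id_apply]
    rfl
  haveI := IsLocalization.tensorProduct_tensorProduct_right (S := K) (R := k) M p.ResidueField H
  rw [ringKrullDim_eq_of_ringEquiv (Algebra.TensorProduct.comm k p.ResidueField K).toRingEquiv]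
  refine (Order.krullDim_le_of_strictMono (PrimeSpectrum.comap (algebraMap (K ⊗[k] A') (K ⊗[k] p.ResidueField)))
    (Monotone.strictMono_of_injective (fun _ _ h => Ideal.comap_mono h)
      (PrimeSpectrum.localization_comap_injective (K ⊗[k] p.ResidueField)
        (M.map (Algebra.TensorProduct.includeRight (R := k) (A := K)))))).trans ?_
  let g : MvPolynomial (Fin n) K →+* K ⊗[k] A' :=
    (Algebra.TensorProduct.map (AlgHom.id k K) ((Ideal.Quotient.mkₐ k p).comp f)).toRingHom.comp
      (MvPolynomial.algebraTensorAlgEquiv k K).symm.toRingEquiv.toRingHom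
  have hs : Function.Surjective ((Ideal.Quotient.mkₐ k p).comp f) := by
    intro x
    obtain ⟨a, rfl⟩ := Ideal.Quotient.mkₐ_surjective k p x
    obtain ⟨b, rfl⟩ := hf a
    exact ⟨b, rfl⟩
  refine (ringKrullDim_le_of_surjective g ?_).trans ?_
  · exact (Algebra.TensorProduct.map_surjective (AlgHom.id k K) ((Ideal.Quotient.mkₐ k p).comp f)
      Function.surjective_id hs).comp
      (MvPolynomial.algebraTensorAlgEquiv k K).symm.surjective
  · rw [MvPolynomial.ringKrullDim_of_isNoetherianRing, ringKrullDim_eq_zero_of_field, Nat.card_fin, zero_add]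

/-- The fibres of `B → B ⊗ k'`. -/
noncomputable def fibreTensorEquiv (B : Type u) [CommRing B] [Algebra k B] (k' : Type u) [Field k'] [Algebra k k']
    (p : Ideal B) [p.IsPrime] : p.Fiber (B ⊗[k] k') ≃ₐ[p.ResidueField] p.ResidueField ⊗[k] k' :=
  Algebra.TensorProduct.cancelBaseChange k B p.ResidueField p.ResidueField k'

end Groth.DualCore
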