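import Groth.Agent.DualCore.Unique
import Groth.Agent.Matlis.Criterion
import Mathlib.Algebra.Colimit.Module

/-!
# Duality on finite length modules

For `ω` with residue condition the functor `N ↦ Hom(N, ω)` on finite length modules is represented
by an injective hull of the residue field, the colimit of `Hom(A/𝔪ᵏ, ω)`.
-/

set_option autoImplicit false

universe u w

open CategoryTheory CategoryTheory.Limits DerivedCategory IsLocalRing

attribute [local instance] HasDerivedCategory.standard

namespace Groth.DualCore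

variable {A : Type u} [CommRing A] [IsLocalRing A] {ω : Dual.D A}

/-- `A/𝔪ᵏ`. -/
abbrev Qk (A : Type u) [CommRing A] [IsLocalRing A] (k : ℕ) : Type u := A ⧸ maximalIdeal A ^ k

/-- `A/𝔪ˡ → A/𝔪ᵏ`. -/
noncomputable abbrev qmap {k l : ℕ} (h : k ≤ l) : Qk A l →ₗ[A] Qk A k :=
  Submodule.factor (Ideal.pow_le_pow_right h)

/-- A simple module over a local ring is the residue field. -/
lemma nonempty_simple_equiv (M : Type u) [AddCommGroup M] [Module A M] [IsSimpleModule A M] :
    Nonempty (M ≃ₗ[A] ResidueField A) := by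
  obtain ⟨m, hm, ⟨e⟩⟩ := (isSimpleModule_iff_quot_maximal (R := A) (M := M)).1 inferInstance
  exact ⟨e.trans (Submodule.quotEquivOfEq _ _ (IsLocalRing.eq_maximalIdeal hm))⟩

section Basic

variable (hω : HasResidue ω)
include hω

lemma subsingleton_hom_finiteLength {N : Type u} [AddCommGroup N] [Module A N] (hN : IsFiniteLength A N)
    (i : ℤ) (hi : i ≠ 0) : Subsingleton (Dual.inD A N ⟶ ω⟦i⟧) := by
  induction hN with
  | @of_subsingleton M _ _ _ => exact subsingleton_hom_of_subsingleton ω M i
  | @of_simple_quotient M _ _ N' _ _ ih =>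
    obtain ⟨e⟩ := nonempty_simple_equiv (A := A) (M ⧸ N')
    haveI := hω.vanish i hi
    haveI := subsingleton_hom_congr ω e i
    haveI := ih
    exact subsingleton_hom_of_exact ω N'.subtype N'.mkQ N'.injective_subtype N'.mkQ_surjective
      (LinearMap.exact_subtype_mkQ N') i

lemma map1_injective_of_surjective {M N : Type u} [AddCommGroup M] [Module A M] [AddCommGroup N]
    [Module A N] (f : M →ₗ[A] N) (hf : Function.Surjective f)
    (hker : IsFiniteLength A (LinearMap.ker f)) : Function.Injective (map1 ω 0 f) := by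
  rw [← LinearMap.ker_eq_bot, LinearMap.ker_eq_bot']
  intro u hu
  haveI := subsingleton_hom_finiteLength hω hker (-1) (by lia)
  obtain ⟨v, rfl⟩ := (map1_exact_right _ f (LinearMap.ker f).injective_subtype hf
    (LinearMap.exact_subtype_ker_map f) ω (-1) 0 (by lia) u).1 hu
  rw [Subsingleton.elim v 0, map_zero]

lemma length_hom_finiteLength {N : Type u} [AddCommGroup N] [Module A N] (hN : IsFiniteLength A N) :
    Module.length A (Dual.inD A N ⟶ ω⟦(0 : ℤ)⟧) = Module.length A N := by
  obtain ⟨e₀⟩ := hω.equiv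
  induction hN with
  | @of_subsingleton M _ _ _ =>
    rw [Module.length_eq_zero_iff.2 (subsingleton_hom_of_subsingleton ω M 0),
      Module.length_eq_zero_iff.2 ‹_›]
  | @of_simple_quotient M _ _ N' hS hN' ih =>
    obtain ⟨e⟩ := nonempty_simple_equiv (A := A) (M ⧸ N')
    have hex := LinearMap.exact_subtype_mkQ N'
    have hN'' := N'.injective_subtype
    have hinj : Function.Injective (map1 ω 0 N'.mkQ) := map1_injective_of_surjective hω N'.mkQ N'.mkQ_surjective
      (by rw [N'.ker_mkQ]; exact hN')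
    have hsurj : Function.Surjective (map1 ω 0 N'.subtype) := fun v => by
      haveI := hω.vanish 1 one_ne_zero
      haveI := subsingleton_hom_congr ω e 1
      exact (map1_exact_left _ N'.mkQ hN'' N'.mkQ_surjective hex ω 0 1 (zero_add 1) v).1
        (Subsingleton.elim _ _)
    haveI : IsSimpleModule A (ResidueField A) := GrothMatlis.isSimpleModule_residueField A
    haveI : IsSimpleModule A (Dual.inD A (M ⧸ N') ⟶ ω⟦(0 : ℤ)⟧) :=
      IsSimpleModule.congr ((Linear.homCongr A
        ((singleFunctor (ModuleCat.{u} A) 0).mapIso e.toModuleIso) (Iso.refl (ω⟦(0 : ℤ)⟧))).trans e₀)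
    rw [Module.length_eq_add_of_exact _ _ hinj hsurj
      (map1_exact_mid N'.subtype N'.mkQ hN'' N'.mkQ_surjective hex ω 0),
      Module.length_eq_add_of_exact _ _ hN'' N'.mkQ_surjective hex, ih,
      Module.length_eq_one A (Dual.inD A (M ⧸ N') ⟶ ω⟦(0 : ℤ)⟧), Module.length_eq_one A (M ⧸ N')]
    rw [add_comm]

variable [IsNoetherianRing A]

lemma qmap_injective {k l : ℕ} (h : k ≤ l) : Function.Injective (map1 ω 0 (qmap (A := A) h)) :=
  map1_injective_of_surjective hω _ (Submodule.factor_surjective _)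
    ((GrothMatlis.isFiniteLength_quotient_pow l).of_injective (f := (LinearMap.ker (qmap h)).subtype)
      (Submodule.injective_subtype _))

/-- A class on `A/𝔪ˡ` killed by `𝔪ᵏ` comes from `A/𝔪ᵏ`. -/
lemma exists_of_killed {k l : ℕ} (h : k ≤ l) (u : Dual.inD A (Qk A l) ⟶ ω⟦(0 : ℤ)⟧)
    (hu : ∀ a ∈ maximalIdeal A ^ k, a • u = 0) : ∃ v, map1 ω 0 (qmap h) v = u := by
  classical
  let Ker := LinearMap.ker (qmap (A := A) h)
  have hfl : IsFiniteLength A Ker := (GrothMatlis.isFiniteLength_quotient_pow l).of_injective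
    (f := Ker.subtype) Ker.injective_subtype
  refine (map1_exact_mid Ker.subtype (qmap h) Ker.injective_subtype (Submodule.factor_surjective _)
    (LinearMap.exact_subtype_ker_map _) ω 0 u).1 ?_
  obtain ⟨s, hs⟩ := (IsNoetherian.noetherian (maximalIdeal A ^ k) : (maximalIdeal A ^ k).FG)
  let a : s → A := fun x => x.1
  have hmem : ∀ x : s, a x • (Submodule.Quotient.mk 1 : Qk A l) ∈ Ker := fun x => by
    rw [LinearMap.mem_ker]
    show Submodule.factor _ (Submodule.Quotient.mk (a x • (1 : A))) = (0 : Qk A k)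
    show (Submodule.Quotient.mk (a x • (1 : A)) : Qk A k) = 0
    rw [smul_eq_mul, mul_one]
    exact (Submodule.Quotient.mk_eq_zero _).2 (hs ▸ Submodule.subset_span x.2)
  let P : (s → Qk A l) →ₗ[A] Ker := LinearMap.codRestrict Ker
    (∑ x : s, (a x • LinearMap.id) ∘ₗ LinearMap.proj x) (fun v => by
      rw [LinearMap.sum_apply]
      refine Submodule.sum_mem _ fun x _ => ?_
      obtain ⟨y, hy⟩ := Submodule.Quotient.mk_surjective _ (v x)
      show a x • v x ∈ Ker
      rw [← hy, show (Submodule.Quotient.mk y : Qk A l) = y • Submodule.Quotient.mk 1 by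
        rw [← Submodule.Quotient.mk_smul, smul_eq_mul, mul_one], smul_comm]
      exact Submodule.smul_mem _ _ (hmem x))
  have hP : Function.Surjective P := by
    rintro ⟨z, hz⟩
    obtain ⟨y, rfl⟩ := Submodule.Quotient.mk_surjective _ z
    replace hz : (Submodule.Quotient.mk y : Qk A k) = 0 := hz
    rw [Submodule.Quotient.mk_eq_zero, ← hs,
      show (s : Set A) = Set.range a by rw [Subtype.range_coe_subtype]; rfl] at hz
    obtain ⟨c, hc⟩ := (Submodule.mem_span_range_iff_exists_fun A).1 hz
    refine ⟨fun x => c x • Submodule.Quotient.mk 1, Subtype.ext ?_⟩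
    show (∑ x : s, (a x • LinearMap.id) ∘ₗ LinearMap.proj x) (fun x => c x • (Submodule.Quotient.mk 1 : Qk A l)) = (Submodule.Quotient.mk y : Qk A l)
    rw [LinearMap.sum_apply, ← hc]
    show ∑ x : s, a x • c x • (Submodule.Quotient.mk 1 : Qk A l) = _
    rw [← Submodule.mkQ_apply, ← Submodule.mkQ_apply, map_sum]
    refine Finset.sum_congr rfl fun x _ => ?_
    rw [← smul_assoc, ← map_smul, smul_eq_mul, smul_eq_mul, mul_one, mul_comm, smul_eq_mul]
  have hPfl : IsFiniteLength A (LinearMap.ker P) := by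
    have hpi : IsFiniteLength A (s → Qk A l) := by
      rw [isFiniteLength_iff_isNoetherian_isArtinian]
      obtain ⟨h1, h2⟩ := isFiniteLength_iff_isNoetherian_isArtinian.1
        (GrothMatlis.isFiniteLength_quotient_pow (R := A) l)
      exact ⟨inferInstance, inferInstance⟩
    exact hpi.of_injective (f := (LinearMap.ker P).subtype) (Submodule.injective_subtype _)
  refine map1_injective_of_surjective hω P hP hPfl ?_
  rw [map_zero]
  show inDmap P ≫ inDmap Ker.subtype ≫ u = 0
  rw [← Category.assoc, ← inDmap_comp, LinearMap.subtype_comp_codRestrict]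
  have : ∀ t : Finset s, inDmap (∑ x ∈ t, (a x • LinearMap.id) ∘ₗ LinearMap.proj (R := A)
      (φ := fun _ : s => Qk A l) x) ≫ u = 0 := by
    intro t
    induction t using Finset.induction with
    | empty => rw [Finset.sum_empty, inDmap_zero, zero_comp]
    | insert y t hy ih =>
      rw [Finset.sum_insert hy, inDmap_add, Preadditive.add_comp, ih, add_zero, inDmap_comp,
        Category.assoc, inDmap_smul, inDmap_id, Linear.smul_comp, Category.id_comp,
        hu _ (hs ▸ Submodule.subset_span y.2), comp_zero]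
  exact this Finset.univ

end Basic

section Hull

variable [IsNoetherianRing A] (hω : HasResidue ω)
  {X : Type w} [AddCommGroup X] [Module A X]
  (ι : ∀ k, (Dual.inD A (Qk A k) ⟶ ω⟦(0 : ℤ)⟧) →ₗ[A] X)
  (hι : ∀ k l (h : k ≤ l) u, ι l (map1 ω 0 (qmap h) u) = ι k u)
  (hinj : ∀ k, Function.Injective (ι k))
  (hrep : ∀ x : X, ∃ k u, ι k u = x)

include hω hι hinj hrep

/-- `Hom(A/𝔪ᵏ, ω)` is the `𝔪ᵏ`-torsion of the colimit. -/
lemma exists_torsion_equiv (k : ℕ) :
    Nonempty ((Dual.inD A (Qk A k) ⟶ ω⟦(0 : ℤ)⟧) ≃ₗ[A] LocCoh.torsionBy (maximalIdeal A ^ k) X) := by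
  have hmem : ∀ u, ι k u ∈ LocCoh.torsionBy (maximalIdeal A ^ k) X := fun u =>
    (Submodule.mem_torsionBySet_iff _ _).2 fun ⟨a, ha⟩ => by
      show a • ι k u = 0
      rw [← LinearMap.map_smul (ι k) a u, show a • u = map1 ω 0 (a • LinearMap.id : Qk A k →ₗ[A] Qk A k) u from (map1_smul_id ω 0 a u).symm]
      have : (a • LinearMap.id : Qk A k →ₗ[A] Qk A k) = 0 := LinearMap.ext fun y => by
        obtain ⟨y, rfl⟩ := Submodule.Quotient.mk_surjective _ y
        show a • (Submodule.Quotient.mk y : Qk A k) = 0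
        rw [← Submodule.Quotient.mk_smul, Submodule.Quotient.mk_eq_zero]
        exact Ideal.mul_mem_right y _ ha
      rw [this, map1_apply, inDmap_zero, zero_comp, map_zero]
  refine ⟨LinearEquiv.ofBijective ((ι k).codRestrict _ hmem) ⟨fun u v h => hinj k
    (congrArg Subtype.val h), fun ⟨x, hx⟩ => ?_⟩⟩
  obtain ⟨l, u, rfl⟩ := hrep x
  let u' := map1 ω 0 (qmap (A := A) (le_max_right k l)) u
  obtain ⟨v, hv⟩ := exists_of_killed hω (le_max_left k l) u' fun a ha => hinj (max k l) (by
    rw [map_smul, map_zero, hι]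
    exact (Submodule.mem_torsionBySet_iff _ _).1 hx ⟨a, ha⟩)
  refine ⟨v, Subtype.ext ?_⟩
  show ι k v = ι l u
  rw [← hι k (max k l) (le_max_left k l) v, hv, hι]

omit hinj in
lemma isPowerTorsion_of_system : LocCoh.IsPowerTorsion (maximalIdeal A) X := by
  intro x
  obtain ⟨k, u, rfl⟩ := hrep x
  refine ⟨k, fun a ha => ?_⟩
  rw [← LinearMap.map_smul (ι k) a u, show a • u = map1 ω 0 (a • LinearMap.id : Qk A k →ₗ[A] Qk A k) u from (map1_smul_id ω 0 a u).symm]
  have : (a • LinearMap.id : Qk A k →ₗ[A] Qk A k) = 0 := LinearMap.ext fun y => by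
    obtain ⟨y, rfl⟩ := Submodule.Quotient.mk_surjective _ y
    show a • (Submodule.Quotient.mk y : Qk A k) = 0
    rw [← Submodule.Quotient.mk_smul, Submodule.Quotient.mk_eq_zero]
    exact Ideal.mul_mem_right y _ ha
  rw [this, map1_apply, inDmap_zero, zero_comp, map_zero]

end Hull

section HullU

variable [IsNoetherianRing A] (hω : HasResidue ω)
  {X : Type u} [AddCommGroup X] [Module A X]
  (ι : ∀ k, (Dual.inD A (Qk A k) ⟶ ω⟦(0 : ℤ)⟧) →ₗ[A] X)
  (hι : ∀ k l (h : k ≤ l) u, ι l (map1 ω 0 (qmap h) u) = ι k u)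
  (hinj : ∀ k, Function.Injective (ι k))
  (hrep : ∀ x : X, ∃ k u, ι k u = x)

include hω hι hinj hrep

/-- The colimit of `Hom(A/𝔪ᵏ, ω)` is an injective hull of the residue field. -/
theorem exists_isInjectiveHull_of_system :
    ∃ φ : ResidueField A →ₗ[A] X, InjHull.IsInjectiveHull φ := by
  obtain ⟨e₀⟩ := hω.equiv
  refine GrothMatlis.hull_of_length_cofinal (isPowerTorsion_of_system hω ι hι hrep) ?_
    (fun n => maximalIdeal A ^ n) (fun n => ⟨n, le_rfl⟩) (fun N => ⟨N, le_rfl⟩) fun n => ?_
  · obtain ⟨e₁⟩ := exists_torsion_equiv hω ι hι hinj hrep 1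
    haveI : IsSimpleModule A (ResidueField A) := GrothMatlis.isSimpleModule_residueField A
    let q : Qk A 1 ≃ₗ[A] ResidueField A := Submodule.quotEquivOfEq _ _ (pow_one _)
    exact IsSimpleModule.congr
      (((LinearEquiv.arrowCongr q (LinearEquiv.refl A X)).symm.trans
        (GrothMatlis.dualQuotientEquiv (E := X) (maximalIdeal A ^ 1))).trans (e₁.symm.trans
          ((Linear.homCongr A ((singleFunctor (ModuleCat.{u} A) 0).mapIso q.toModuleIso)
            (Iso.refl (ω⟦(0 : ℤ)⟧))).trans e₀)))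
  · obtain ⟨e⟩ := exists_torsion_equiv hω ι hι hinj hrep n
    rw [((GrothMatlis.dualQuotientEquiv (E := X) (maximalIdeal A ^ n)).trans e.symm).length_eq,
      length_hom_finiteLength hω (GrothMatlis.isFiniteLength_quotient_pow n)]

end HullU

end Groth.DualCore
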