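import Groth.Agent.DualCore.ShriekAdj
import Groth.Agent.DualCore.FiniteMap
import Groth.Agent.DualCore.CoextPlus
import Groth.Agent.DAlg.PushoutRestrict

/-!
Flat base change of `RHom_A(B, -)` for a finite `A → B` of a Noetherian ring, on objects bounded below.
-/

set_option autoImplicit false

universe u

open CategoryTheory CategoryTheory.Limits DerivedCategory TensorProduct

attribute [local instance] HasDerivedCategory.standard

namespace Groth.DualCore

/-- A morphism bijective on maps out of all shifts of `A` is an isomorphism. -/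
theorem isIso_of_bijective_comp {A : Type u} [CommRing A] {Y Z : Dual.D A} (u : Y ⟶ Z)
    (h : ∀ i : ℤ, Function.Bijective fun g : (Dual.inD A A)⟦-i⟧ ⟶ Y => g ≫ u) : IsIso u := by
  rw [DerivedCategory.isIso_iff]
  intro i
  let adj := (shiftEquiv (Dual.D A) i).symm.toAdjunction
  have h' : Function.Bijective fun g : Dual.inD A A ⟶ Y⟦i⟧ => g ≫ u⟦i⟧' := by
    have e : (fun g : Dual.inD A A ⟶ Y⟦i⟧ => g ≫ u⟦i⟧') =
        adj.homEquiv _ Z ∘ (fun g => g ≫ u) ∘ (adj.homEquiv _ Y).symm := by
      funext g
      exact ((adj.homEquiv_naturality_right _ u).trans (congrArg (· ≫ _) (Equiv.apply_symm_apply _ g))).symm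
    rw [e]
    exact (Equiv.bijective _).comp ((h i).comp (Equiv.bijective _))
  haveI : IsIso ((homologyFunctor (ModuleCat.{u} A) 0).map (u⟦i⟧')) := by
    rw [ConcreteCategory.isIso_iff_bijective]
    refine ⟨fun x y hxy => ?_, fun y => ?_⟩
    · obtain ⟨f, rfl⟩ := (evalOne_bijective (Y⟦i⟧)).2 x
      obtain ⟨g, rfl⟩ := (evalOne_bijective (Y⟦i⟧)).2 y
      exact congrArg _ (h'.1 ((evalOne_bijective (Z⟦i⟧)).1
        ((evalOne_comp f (u⟦i⟧')).trans (hxy.trans (evalOne_comp g (u⟦i⟧')).symm))))
    · obtain ⟨f, rfl⟩ := (evalOne_bijective (Z⟦i⟧)).2 y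
      obtain ⟨g, rfl⟩ := h'.2 f
      exact ⟨evalOne _ g, (evalOne_comp g (u⟦i⟧')).symm⟩
  exact (NatIso.isIso_map_iff ((homologyFunctor (ModuleCat.{u} A) 0).shiftIso i 0 i (add_zero i)) u).1 this

section

variable (A B A' B' : Type u) [CommRing A] [CommRing B] [CommRing A'] [CommRing B'] [Algebra A B] [Algebra A A']
  [Algebra B B'] [Algebra A' B'] [Algebra A B'] [IsScalarTower A B B'] [IsScalarTower A A' B']
  [Algebra.IsPushout A A' B B'] [Module.Flat A A'] [Module.Flat B B']

/-- Restriction commutes with flat base change on derived categories. -/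
noncomputable def bcD : DRing.restrictD (algebraMap A B) ⋙ extD A A' ≅
    extD B B' ⋙ DRing.restrictD (algebraMap A' B') :=
  letI : Localization.Lifting Q (HomologicalComplex.quasiIso (ModuleCat.{u} B) (ComplexShape.up ℤ))
      (resC (algebraMap A B) ⋙ extC A A' ⋙ Q) (DRing.restrictD (algebraMap A B) ⋙ extD A A') :=
    ⟨(Functor.associator _ _ _).symm ≪≫
      Functor.isoWhiskerRight (res (algebraMap A B)).mapDerivedCategoryFactors _ ≪≫ Functor.associator _ _ _ ≪≫
      Functor.isoWhiskerLeft _ (ext A A').mapDerivedCategoryFactors⟩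
  letI : Localization.Lifting Q (HomologicalComplex.quasiIso (ModuleCat.{u} B) (ComplexShape.up ℤ))
      (extC B B' ⋙ resC (algebraMap A' B') ⋙ Q) (extD B B' ⋙ DRing.restrictD (algebraMap A' B')) :=
    ⟨(Functor.associator _ _ _).symm ≪≫
      Functor.isoWhiskerRight (ext B B').mapDerivedCategoryFactors _ ≪≫ Functor.associator _ _ _ ≪≫
      Functor.isoWhiskerLeft _ (res (algebraMap A' B')).mapDerivedCategoryFactors⟩
  Localization.liftNatIso Q (HomologicalComplex.quasiIso (ModuleCat.{u} B) (ComplexShape.up ℤ))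
    (resC (algebraMap A B) ⋙ extC A A' ⋙ Q) (extC B B' ⋙ resC (algebraMap A' B') ⋙ Q) _ _
    ((Functor.associator _ _ _).symm ≪≫ Functor.isoWhiskerRight
      (NatIso.ofComponents (fun E => DAlg.resExtCxIso (R := A) (A := B) (R' := A') (A' := B') E)
        (fun {E F} f => (NatIso.mapHomologicalComplex (DAlg.resExtNatIso A B A' B')
          (ComplexShape.up ℤ)).hom.naturality f)) Q ≪≫ Functor.associator _ _ _)

variable {A B A' B'}

/-- The map `Hom(ext X, ext W) → Hom(ext res X, ext K)` induced by `ε`. -/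
noncomputable def bcHom {W : Dual.D B} {K : Dual.D A} (ε : (DRing.restrictD (algebraMap A B)).obj W ⟶ K)
    (X : Dual.D B) (g : (extD B B').obj X ⟶ (extD B B').obj W) :
    (extD A A').obj ((DRing.restrictD (algebraMap A B)).obj X) ⟶ (extD A A').obj K :=
  (bcD A B A' B').hom.app X ≫ (DRing.restrictD (algebraMap A' B')).map g ≫
    (bcD A B A' B').inv.app W ≫ (extD A A').map ε

lemma bcHom_smul_map {W : Dual.D B} {K : Dual.D A} (ε : (DRing.restrictD (algebraMap A B)).obj W ⟶ K)
    (X : Dual.D B) (r : A') (g₀ : X ⟶ W) :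
    bcHom (A' := A') (B' := B') ε X (algebraMap A' B' r • (extD B B').map g₀) =
      r • (extD A A').map ((DRing.restrictD (algebraMap A B)).map g₀ ≫ ε) := by
  rw [bcHom, resD_map_smul, Linear.smul_comp, Linear.comp_smul, Functor.map_comp]
  congr 1
  exact ((bcD A B A' B').hom.naturality_assoc g₀ _).symm.trans
    (congrArg (_ ≫ ·) (Iso.hom_inv_id_app_assoc _ W _))

variable [IsNoetherianRing A] [Module.Finite A B]

/-- The bijection on maps out of shifts of `B`. -/
theorem bijective_bcHom {W : Dual.D B} {K : Dual.D A} {ε : (DRing.restrictD (algebraMap A B)).obj W ⟶ K}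
    (hε : Represents (algebraMap A B) ε) (c : ℤ) [IsGE K c] (i : ℤ) :
    Function.Bijective (bcHom (A' := A') (B' := B') ε ((Dual.inD B B)⟦i⟧)) := by
  let X := (Dual.inD B B)⟦i⟧
  let H := DRing.restrictD (algebraMap A B)
  have hB : Function.Bijective (θ (B := B') X W) :=
    θ_iso_right ((shiftFunctorCompIsoId (Dual.D B) (-i) i (neg_add_cancel i)).app W)
      (θ_shift i (θ_inD_self (B := B') (W⟦-i⟧)))
  have hA : Function.Bijective (θ (B := A') (H.obj X) K) := by
    have hg : Good A' (H.obj X) K :=
      (((good_inD (B := A') K c B)).shift i).iso ((shiftFunctor _ i).mapIso (resInD (A := A) (B := B) B).symm ≪≫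
        ((H.commShiftIso i).app (Dual.inD B B)).symm)
    exact θ_iso_right ((shiftFunctorZero (Dual.D A) ℤ).app K) (hg 0)
  letI := homModuleA (A := A) X W
  haveI := homTowerA (A := A) (B := B) X W
  let T : A' ⊗[A] (X ⟶ W) ≃ B' ⊗[B] (X ⟶ W) :=
    (Algebra.IsPushout.cancelBaseChange A A' B B' (X ⟶ W)).symm.toEquiv
  let L : (X ⟶ W) →ₗ[A] (H.obj X ⟶ K) :=
    { toFun := fun g => H.map g ≫ ε
      map_add' := fun a b => by rw [Functor.map_add, Preadditive.add_comp]
      map_smul' := fun a g => by
        show H.map (algebraMap A B a • g) ≫ ε = a • (H.map g ≫ ε)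
        rw [resD_map_smul, Linear.smul_comp] }
  have hL : Function.Bijective L := hε X
  have key : ∀ z, bcHom (A' := A') (B' := B') ε X (θ X W (T z)) = θ (H.obj X) K (L.lTensor A' z) := by
    intro z
    induction z using TensorProduct.induction_on with
    | zero =>
      rw [show T 0 = 0 from map_zero (Algebra.IsPushout.cancelBaseChange A A' B B' (X ⟶ W)).symm, map_zero,
        map_zero, map_zero, bcHom, Functor.map_zero, Limits.zero_comp, Limits.comp_zero]
    | tmul r g =>
      rw [show T (r ⊗ₜ g) = algebraMap A' B' r ⊗ₜ g from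
        Algebra.IsPushout.cancelBaseChange_symm_tmul A A' B B' (X ⟶ W) r g, θ_tmul, bcHom_smul_map,
        LinearMap.lTensor_tmul, θ_tmul]
      rfl
    | add a b ha hb =>
      rw [show T (a + b) = T a + T b from map_add (Algebra.IsPushout.cancelBaseChange A A' B B' (X ⟶ W)).symm a b,
        map_add, map_add, map_add, ← ha, ← hb, bcHom, bcHom, bcHom, Functor.map_add, Preadditive.add_comp,
        Preadditive.comp_add]
  have hT : Function.Bijective (fun z => θ (B := B') X W (T z)) := hB.comp T.bijective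
  refine (Function.Bijective.of_comp_iff _ hT).1 ?_
  rw [show bcHom (A' := A') (B' := B') ε X ∘ (fun z => θ (B := B') X W (T z)) =
    θ (H.obj X) K ∘ L.lTensor A' from funext key]
  exact hA.comp ((TensorProduct.congr (LinearEquiv.refl A A') (LinearEquiv.ofBijective L hL)).bijective)

/-- `RHom_A(B, K) ⊗ A'` computes `RHom_{A'}(B', K ⊗ A')`. -/
theorem represents_extD {W : Dual.D B} {K : Dual.D A} {ε : (DRing.restrictD (algebraMap A B)).obj W ⟶ K}
    (hε : Represents (algebraMap A B) ε) (c : ℤ) [IsGE K c] :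
    Represents (algebraMap A' B') ((bcD A B A' B').inv.app W ≫ (extD A A').map ε) := by
  let H' := DRing.restrictD (algebraMap A' B')
  let ε' : H'.obj ((extD B B').obj W) ⟶ (extD A A').obj K := (bcD A B A' B').inv.app W ≫ (extD A A').map ε
  haveI := isGE_extD (B := A') K c
  obtain ⟨W'', ε'', -, hε''⟩ := exists_represents (algebraMap A' B') ((extD A A').obj K) c
  obtain ⟨u, hu⟩ := (hε'' ((extD B B').obj W)).2 ε'
  simp only at hu
  haveI : IsIso u := by
    refine isIso_of_bijective_comp u fun i => ?_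
    let e : (extD B B').obj ((Dual.inD B B)⟦-i⟧) ≅ (Dual.inD B' B')⟦-i⟧ :=
      ((extD B B').commShiftIso (-i)).app _ ≪≫ (shiftFunctor _ (-i)).mapIso
        (((ext B B').mapDerivedCategorySingleFunctor 0).app (ModuleCat.of B B) ≪≫
          (singleFunctor (ModuleCat.{u} B') 0).mapIso
            ((extEquiv (ModuleCat.of B B)).symm.trans (TensorProduct.AlgebraTensorModule.rid B B' B')).toModuleIso)
    let X := (Dual.inD B B)⟦-i⟧
    have h1 := bijective_bcHom (A' := A') (B' := B') hε c (-i)
    have h2 : Function.Bijective fun g : (extD B B').obj X ⟶ (extD B B').obj W => g ≫ u := by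
      let E := (Iso.homFromEquiv (Z := (extD A A').obj K) ((bcD A B A' B').app X)).trans
        (Equiv.ofBijective _ (hε'' ((extD B B').obj X))).symm
      have e2 : (fun g => g ≫ u) = E.symm.symm ∘ bcHom (A' := A') (B' := B') ε X := by
        funext g
        rw [Function.comp_apply, Equiv.symm_symm]
        apply E.symm.injective
        rw [Equiv.symm_apply_apply]
        show (bcD A B A' B').hom.app X ≫ H'.map (g ≫ u) ≫ ε'' = bcHom ε X g
        rw [Functor.map_comp, Category.assoc, hu]
        rfl
      rw [e2]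
      exact (Equiv.bijective _).comp h1
    have e3 : (fun g : (Dual.inD B' B')⟦-i⟧ ⟶ _ => g ≫ u) =
        (Iso.homFromEquiv e) ∘ (fun g => g ≫ u) ∘ (Iso.homFromEquiv e).symm := by
      funext g
      simp
    rw [e3]
    exact (Equiv.bijective _).comp (h2.comp (Equiv.bijective _))
  intro X
  have e4 : (fun g : X ⟶ (extD B B').obj W => H'.map g ≫ ε') =
      (fun g => H'.map g ≫ ε'') ∘ fun g => g ≫ u := by
    funext g
    show H'.map g ≫ ε' = H'.map (g ≫ u) ≫ ε''
    rw [Functor.map_comp, Category.assoc, hu]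
  show Function.Bijective fun g : X ⟶ (extD B B').obj W => H'.map g ≫ ε'
  rw [e4]
  exact (hε'' X).comp (Iso.homToEquiv (asIso u)).bijective

end

end Groth.DualCore
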