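import Groth.Agent.DualCore.FiniteMap

/-!
# Dualizing complexes: residue criterion; flat maps with trivial closed fibres
-/

set_option autoImplicit false

universe u

open CategoryTheory CategoryTheory.Limits DerivedCategory TensorProduct IsLocalRing

attribute [local instance] HasDerivedCategory.standard

namespace Groth.DualCore

section Criterion

variable {B : Type u} [CommRing B] [IsNoetherianRing B]

/-- The residue condition at a maximal ideal gives the residue condition after localizing. -/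
theorem hasResidue_extD_atPrime (W : Dual.D B) (a : ℤ) [IsGE W a] (n : Ideal B) [n.IsMaximal] (d : ℤ)
    (hd : ∀ i, i ≠ d → Subsingleton (Dual.inD B (B ⧸ n) ⟶ W⟦i⟧))
    (ed : (Dual.inD B (B ⧸ n) ⟶ W⟦d⟧) ≃ₗ[B] (B ⧸ n)) :
    HasResidue (((extD B (Localization.AtPrime n)).obj W)⟦d⟧) := by
  let Bn := Localization.AtPrime n
  let eres : ∀ i, Bn ⊗[B] (Dual.inD B (B ⧸ n) ⟶ W⟦i⟧) ≃ₗ[Bn]
      (Dual.inD Bn (ResidueField Bn) ⟶ ((extD B Bn).obj W)⟦i⟧) := fun i =>
    (extHomInDEquiv (B := Bn) (B ⧸ n) W a i).trans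
      (Linear.homCongr Bn ((singleFunctor (ModuleCat.{u} Bn) 0).mapIso
        (tensorQuotEquivResidueField n).toModuleIso) (Iso.refl _))
  refine ⟨fun i hi => ?_, ⟨?_⟩⟩
  · haveI := hd (d + i) (by lia)
    haveI := (eres (d + i)).symm.toEquiv.subsingleton
    exact (homShiftEquiv _ _ d (d + i) i rfl).toEquiv.subsingleton
  · exact ((homShiftEquiv _ _ d d 0 (add_zero d)).trans (eres d).symm).trans
      ((AlgebraTensorModule.congr (LinearEquiv.refl Bn Bn) ed).trans (tensorQuotEquivResidueField n))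

/-- Finiteness of the cohomology of a localized shifted complex. -/
theorem finite_HD_extD_shift {A : Type u} [CommRing A] [IsNoetherianRing A] (C : Type u) [CommRing C]
    [Algebra A C] [Module.Flat A C] (W : Dual.D A) (hfin : ∀ i, Module.Finite A (Dual.HD A W i))
    (d i : ℤ) : Module.Finite C (Dual.HD C (((extD A C).obj W)⟦d⟧) i) := by
  haveI := hfin (d + i)
  haveI : Module.Finite C (((homologyFunctor (ModuleCat.{u} C) 0).shift (d + i)).obj ((extD A C).obj W)) :=
    Module.Finite.equiv (HDExtEquiv (B := C) W (d + i))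
  exact Module.Finite.equiv ((((homologyFunctor (ModuleCat.{u} C) 0).shiftIso d i (d + i) rfl)).app
    ((extD A C).obj W)).symm.toLinearEquiv

/-- Residue conditions at all maximal ideals in uniformly bounded degrees suffice. -/
theorem isDualizing_of_hasResidue_atPrime (W : Dual.D B) (hfin : ∀ i, Module.Finite B (Dual.HD B W i))
    (a b q : ℤ) [IsGE W a] [IsLE W b]
    (h : ∀ (n : Ideal B) [n.IsMaximal], ∃ d : ℤ, d ≤ q ∧
      HasResidue (((extD B (Localization.AtPrime n)).obj W)⟦d⟧)) :
    Dual.IsDualizing B W := by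
  have hloc : ∀ (n : Ideal B) [n.IsMaximal],
      Dual.IsDualizing (Localization.AtPrime n) ((extD B (Localization.AtPrime n)).obj W) ∧
        ∀ (M : Type u) [AddCommGroup M] [Module (Localization.AtPrime n) M],
          Module.Finite (Localization.AtPrime n) M → ∀ i : ℤ, (i < a ∨ q < i) →
            Subsingleton (Dual.inD (Localization.AtPrime n) M ⟶
              ((extD B (Localization.AtPrime n)).obj W)⟦i⟧) := fun n _ => by
    obtain ⟨d, hdq, hres⟩ := h n
    let Bn := Localization.AtPrime n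
    haveI : IsNoetherianRing Bn := IsLocalization.isNoetherianRing n.primeCompl _ inferInstance
    haveI : IsGE ((extD B Bn).obj W) a := isGE_extD (B := Bn) W a
    haveI : IsGE (((extD B Bn).obj W)⟦d⟧) (a - d) := TStructure.t.isGE_shift _ a d (a - d)
    have hfin' := finite_HD_extD_shift Bn W hfin d
    refine ⟨isDualizing_of_iso ((shiftFunctorCompIsoId (Dual.D Bn) d (-d) (add_neg_cancel d)).app _)
      (isDualizing_shift (isDualizing_of_hasResidue hres hfin' (a - d)) (-d)), fun M _ _ _ i hi => ?_⟩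
    rcases hi with hi | hi
    · exact subsingleton_hom_of_lt _ a M i hi
    · obtain ⟨dM, hdM⟩ := exists_supportDim_eq Bn Bn
      haveI : Subsingleton (Dual.inD Bn M ⟶ ((extD B Bn).obj W)⟦d⟧⟦i - d⟧) :=
        subsingleton_hom_of_supportDim _ (a - d) hfin' hres.isNormalized
          ((Module.supportDim_le_ringKrullDim Bn M).trans
            (le_of_eq ((Module.supportDim_self_eq_ringKrullDim Bn).symm.trans hdM))) _ (Or.inr (by lia))
      exact (homShiftEquiv (Dual.inD Bn M) ((extD B Bn).obj W) d i (i - d) (by lia)).symm.toEquiv.subsingleton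
  exact isDualizing_of_maximal W hfin a b
    ⟨a, q, injDim_of_family (fun m : MaximalSpectrum B => Localization.AtPrime m.asIdeal)
      (fun M _ _ hM => subsingleton_of_maximal M hM) W a a q
      fun m M _ _ i hi => injDim_of_finite _ a q (hloc m.asIdeal).2 M i hi⟩
    fun n _ => (hloc n).1

/-- Residue fields at all maximal ideals in uniformly bounded degrees suffice. -/
theorem isDualizing_of_residue (W : Dual.D B) (hfin : ∀ i, Module.Finite B (Dual.HD B W i))
    (a b q : ℤ) [IsGE W a] [IsLE W b]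
    (h : ∀ (n : Ideal B) [n.IsMaximal], ∃ d : ℤ, d ≤ q ∧
      (∀ i, i ≠ d → Subsingleton (Dual.inD B (B ⧸ n) ⟶ W⟦i⟧)) ∧
      Nonempty ((Dual.inD B (B ⧸ n) ⟶ W⟦d⟧) ≃ₗ[B] (B ⧸ n))) :
    Dual.IsDualizing B W :=
  isDualizing_of_hasResidue_atPrime W hfin a b q fun n _ => by
    obtain ⟨d, hdq, hd, ⟨ed⟩⟩ := h n
    exact ⟨d, hdq, hasResidue_extD_atPrime W a n d hd ed⟩

end Criterion

section Flat

variable {A B : Type u} [CommRing A] [IsNoetherianRing A] [CommRing B] [Algebra A B]
  [Module.Flat A B]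

/-- `Hom(B/mB, ω_B⟦i⟧)` for a maximal ideal `m` of `A`. -/
noncomputable def homQuotMapEquiv (ω : Dual.D A) (c : ℤ) [IsGE ω c] (m : Ideal A) (i : ℤ) :
    B ⊗[A] (Dual.inD A (A ⧸ m) ⟶ ω⟦i⟧) ≃ₗ[B]
      (Dual.inD B (B ⧸ m.map (algebraMap A B)) ⟶ ((extD A B).obj ω)⟦i⟧) :=
  (extHomInDEquiv (B := B) (A ⧸ m) ω c i).trans
    (Linear.homCongr B ((singleFunctor (ModuleCat.{u} B) 0).mapIso
      (Algebra.TensorProduct.quotIdealMapEquivTensorQuot B m).symm.toLinearEquiv.toModuleIso) (Iso.refl _))

variable [IsNoetherianRing B]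

/-- **Flat maps with trivial closed fibres preserve dualizing complexes.** -/
theorem isDualizing_extD_of_maximal {ω : Dual.D A} (hω : Dual.IsDualizing A ω)
    (h : ∀ n : Ideal B, n.IsMaximal → ∃ m : Ideal A, m.IsMaximal ∧ m.map (algebraMap A B) = n) :
    Dual.IsDualizing B ((extD A B).obj ω) := by
  obtain ⟨a, b, ha, hb⟩ := exists_bounds hω
  obtain ⟨p, q, hpq⟩ := hω.finite_injective_dimension
  haveI := isGE_extD (B := B) ω a
  haveI := isLE_extD (B := B) ω b
  obtain ⟨r⟩ := exists_injRep ω p q hpq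
  refine isDualizing_of_residue _ (fun i => haveI := hω.finite_cohomology i; finite_HD_extD ω i)
    a b q fun n hn => ?_
  obtain ⟨m, hm, rfl⟩ := h n hn
  obtain ⟨d, hd, ⟨ed⟩⟩ := r.residue_single_degree m hω
  haveI : Nontrivial (A ⧸ m) := Ideal.Quotient.nontrivial_iff.2 hm.ne_top
  refine ⟨d, ?_, fun i hi => ?_, ⟨?_⟩⟩
  · by_contra hlt
    haveI := hpq (A ⧸ m) d (Or.inr (not_le.1 hlt))
    haveI := ed.symm.toEquiv.subsingleton
    exact not_subsingleton (A ⧸ m) inferInstance
  · haveI := hd i hi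
    exact (homQuotMapEquiv ω a m i).symm.toEquiv.subsingleton
  · exact (homQuotMapEquiv ω a m d).symm.trans ((AlgebraTensorModule.congr (LinearEquiv.refl B B) ed).trans
      (Algebra.TensorProduct.quotIdealMapEquivTensorQuot B m).symm.toLinearEquiv)

/-- The version for an ideal in the radical modulo which nothing changes. -/
theorem isDualizing_extD_of_iso_mod {ω : Dual.D A} (hω : Dual.IsDualizing A ω) (I : Ideal A)
    (hs : Function.Surjective ((Ideal.Quotient.mk (I.map (algebraMap A B))).comp (algebraMap A B)))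
    (hJ : I.map (algebraMap A B) ≤ (⊥ : Ideal B).jacobson) :
    Dual.IsDualizing B ((extD A B).obj ω) := by
  refine isDualizing_extD_of_maximal hω fun n hn => ?_
  have hIn : I.map (algebraMap A B) ≤ n := hJ.trans (sInf_le ⟨bot_le, hn⟩)
  have hs' : Function.Surjective ((Ideal.Quotient.mk n).comp (algebraMap A B)) := fun y => by
    obtain ⟨y, rfl⟩ := Ideal.Quotient.mk_surjective y
    obtain ⟨a, ha⟩ := hs (Ideal.Quotient.mk _ y)
    exact ⟨a, Ideal.Quotient.eq.2 (hIn (Ideal.Quotient.eq.1 ha))⟩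
  refine ⟨n.comap (algebraMap A B), ?_, le_antisymm Ideal.map_comap_le fun y hy => ?_⟩
  · haveI := hn
    letI := Ideal.Quotient.field n
    have := RingHom.ker_isMaximal_of_surjective ((Ideal.Quotient.mk n).comp (algebraMap A B)) hs'
    rwa [← RingHom.comap_ker, Ideal.mk_ker] at this
  · obtain ⟨a, ha⟩ := hs (Ideal.Quotient.mk _ y)
    have h1 : algebraMap A B a - y ∈ I.map (algebraMap A B) := Ideal.Quotient.eq.1 ha
    have h2 : algebraMap A B a ∈ n := by simpa using n.add_mem (hIn h1) hy
    have h3 : I.map (algebraMap A B) ≤ (n.comap (algebraMap A B)).map (algebraMap A B) :=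
      Ideal.map_mono (Ideal.map_le_iff_le_comap.1 hIn)
    simpa using Ideal.sub_mem _ (Ideal.mem_map_of_mem (algebraMap A B) (show a ∈ n.comap (algebraMap A B) from h2)) (h3 h1)

end Flat

end Groth.DualCore
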