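import Groth.Agent.DualCore.FlatRadical
import Groth.Agent.DualCore.CoextPlus
import Groth.Agent.DualCore.Regular

/-!
# Flat base change with Gorenstein fibres
-/

set_option autoImplicit false

universe u

open CategoryTheory CategoryTheory.Limits DerivedCategory TensorProduct IsLocalRing

attribute [local instance] HasDerivedCategory.standard

namespace Groth.DualCore

section Quotient

variable {R : Type u} [CommRing R] [IsLocalRing R] [IsNoetherianRing R] (P : Ideal R) (hP : P ≠ ⊤)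
  (W : Dual.D R) (a d : ℤ) [IsGE W a]
  (hvan : ∀ i, i ≠ d → Subsingleton (Dual.inD R (R ⧸ P) ⟶ W⟦i⟧))
  (ed : (Dual.inD R (R ⧸ P) ⟶ W⟦d⟧) ≃ₗ[R] (R ⧸ P))

include a hvan ed in
omit [IsLocalRing R] [IsNoetherianRing R] in
/-- `RHom_R(R/P, W)` is `R/P` placed in degree `d`. -/
theorem exists_represents_quotient : ∃ (W' : Dual.D (R ⧸ P))
    (ε : (DRing.restrictD (algebraMap R (R ⧸ P))).obj W' ⟶ W),
      Represents (algebraMap R (R ⧸ P)) ε ∧ Nonempty (W'⟦d⟧ ≅ Dual.inD (R ⧸ P) (R ⧸ P)) := by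
  obtain ⟨W', ε, hGE, h⟩ := exists_represents (algebraMap R (R ⧸ P)) W a
  have hv : ∀ j, j ≠ d → Subsingleton (Dual.HD (R ⧸ P) W' j) := fun j hj => by
    haveI := (h.subsingleton_iff (R ⧸ P) j).2 (hvan j hj)
    exact (homAEquiv W' j).symm.toEquiv.subsingleton
  obtain ⟨f⟩ := nonempty_iso_of_single_degree W' d hv
  let e₁ : Dual.HD (R ⧸ P) W' d ≃+ (R ⧸ P) :=
    (homAEquiv W' d).symm.toAddEquiv.trans ((h.homInDEquiv (R ⧸ P) d).trans ed.toAddEquiv)
  have he₁ : ∀ (c : R ⧸ P) (x : Dual.HD (R ⧸ P) W' d), e₁ (c • x) = c • e₁ x := fun c x => by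
    obtain ⟨r, rfl⟩ := Ideal.Quotient.mk_surjective c
    show ed (h.homInDEquiv (R ⧸ P) d ((homAEquiv W' d).symm (Ideal.Quotient.mk P r • x))) = _
    rw [map_smul, show Ideal.Quotient.mk P r = algebraMap R (R ⧸ P) r from rfl,
      h.homInDEquiv_smul (R ⧸ P) d r, map_smul, algebraMap_smul]
    rfl
  exact ⟨W', ε, h, ⟨f ≪≫ (singleFunctor (ModuleCat.{u} (R ⧸ P)) 0).mapIso
    ({ e₁ with map_smul' := he₁ } : Dual.HD (R ⧸ P) W' d ≃ₗ[R ⧸ P] (R ⧸ P)).toModuleIso⟩⟩

include hP a hvan ed in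
/-- Residue condition from a Gorenstein quotient. -/
theorem hasResidue_of_quotient {k : ℕ} (hk : GrothGoren.InjLT (R ⧸ P) (R ⧸ P) k) (c : ℕ)
    (hc : ringKrullDim (R ⧸ P) = c) : HasResidue (W⟦d + c⟧) := by
  obtain ⟨W', ε, h, ⟨e'⟩⟩ := exists_represents_quotient P W a d hvan ed
  haveI : Nontrivial (R ⧸ P) := Ideal.Quotient.nontrivial_iff.2 hP
  haveI : IsLocalRing (R ⧸ P) := IsLocalRing.of_surjective' (Ideal.Quotient.mk P) Ideal.Quotient.mk_surjective
  haveI : IsLocalHom (Ideal.Quotient.mk P) :=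
    IsLocalHom.of_surjective _ Ideal.Quotient.mk_surjective
  let k' := ResidueField (R ⧸ P)
  -- the two residue fields
  let g : R →ₗ[R] k' := Algebra.linearMap R k'
  have hg : Function.Surjective g := fun x => by
    obtain ⟨y, rfl⟩ := residue_surjective x
    obtain ⟨r, rfl⟩ := Ideal.Quotient.mk_surjective y
    exact ⟨r, rfl⟩
  have hker : maximalIdeal R = LinearMap.ker g := by
    ext r
    rw [LinearMap.mem_ker]
    show _ ↔ residue (R ⧸ P) (Ideal.Quotient.mk P r) = 0
    rw [residue_eq_zero_iff, mem_maximalIdeal, mem_maximalIdeal, mem_nonunits_iff, mem_nonunits_iff,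
      isUnit_map_iff]
  let eκ : ResidueField R ≃ₗ[R] k' :=
    (Submodule.quotEquivOfEq _ _ hker).trans (g.quotKerEquivOfSurjective hg)
  have hres := hasResidue_inD_shift hk c hc
  let iso2 : W'⟦d + c⟧ ≅ (Dual.inD (R ⧸ P) (R ⧸ P))⟦(c : ℤ)⟧ :=
    (shiftFunctorAdd' (Dual.D (R ⧸ P)) d c (d + c) rfl).app W' ≪≫
      (shiftFunctor (Dual.D (R ⧸ P)) (c : ℤ)).mapIso e'
  -- `Hom_{R/P}(k', W'⟦i⟧)` in terms of `A[c]`
  let eB : ∀ i j : ℤ, d + c + j = i → (Dual.inD (R ⧸ P) k' ⟶ W'⟦i⟧) ≃ₗ[R ⧸ P]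
      (Dual.inD (R ⧸ P) k' ⟶ (Dual.inD (R ⧸ P) (R ⧸ P))⟦(c : ℤ)⟧⟦j⟧) := fun i j hij =>
    (homShiftEquiv (Dual.inD (R ⧸ P) k') W' (d + c) i j hij).symm.trans
      (Linear.homCongr (R ⧸ P) (Iso.refl _) ((shiftFunctor (Dual.D (R ⧸ P)) j).mapIso iso2))
  let eR : ∀ i : ℤ, (Dual.inD R (ResidueField R) ⟶ W⟦i⟧) ≃ₗ[R] (Dual.inD R k' ⟶ W⟦i⟧) := fun i =>
    Linear.homCongr R ((singleFunctor (ModuleCat.{u} R) 0).mapIso eκ.toModuleIso) (Iso.refl _)
  obtain ⟨e0⟩ := hres.equiv
  refine ⟨fun i hi => ?_, ⟨?_⟩⟩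
  · haveI := hres.vanish i hi
    haveI : Subsingleton (Dual.inD (R ⧸ P) k' ⟶ W'⟦d + c + i⟧) :=
      (eB _ i rfl).toEquiv.subsingleton
    haveI := (h.subsingleton_iff k' (d + c + i)).1 inferInstance
    haveI := (eR (d + c + i)).toEquiv.subsingleton
    exact (homShiftEquiv _ W (d + c) (d + c + i) i rfl).toEquiv.subsingleton
  · let e₀ : (Dual.inD (R ⧸ P) k' ⟶ W'⟦d + c⟧) ≃ₗ[R ⧸ P] k' := (eB (d + c) 0 (add_zero _)).trans e0
    let e₁ : (Dual.inD R k' ⟶ W⟦d + c⟧) ≃+ k' :=
      (h.homInDEquiv k' (d + c)).symm.trans e₀.toAddEquiv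
    have he₁ : ∀ (r : R) x, e₁ (r • x) = r • e₁ x := fun r x => by
      obtain ⟨y, rfl⟩ := (h.homInDEquiv k' (d + c)).surjective x
      rw [← h.homInDEquiv_smul k' (d + c) r]
      show e₀ ((h.homInDEquiv k' (d + c)).symm _) = r • e₀ ((h.homInDEquiv k' (d + c)).symm _)
      rw [AddEquiv.symm_apply_apply, AddEquiv.symm_apply_apply, map_smul, algebraMap_smul]
    exact (homShiftEquiv _ W (d + c) (d + c) 0 (add_zero _)).trans ((eR (d + c)).trans
      (({ e₁ with map_smul' := he₁ } : (Dual.inD R k' ⟶ W⟦d + c⟧) ≃ₗ[R] k').trans eκ.symm))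

include hP a hvan ed in
/-- Conversely, the quotient of a ring with dualizing complex is Gorenstein. -/
theorem exists_injLT_quotient (hW : Dual.IsDualizing R W) :
    ∃ k, GrothGoren.InjLT (R ⧸ P) (R ⧸ P) k := by
  obtain ⟨W', ε, h, ⟨e'⟩⟩ := exists_represents_quotient P W a d hvan ed
  haveI : Nontrivial (R ⧸ P) := Ideal.Quotient.nontrivial_iff.2 hP
  haveI : IsLocalRing (R ⧸ P) := IsLocalRing.of_surjective' (Ideal.Quotient.mk P) Ideal.Quotient.mk_surjective
  exact exists_injLT_of_isDualizing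
    (isDualizing_of_iso e' (isDualizing_shift (isDualizing_of_represents h hW) d))

end Quotient

section Fibre

variable {A : Type u} [CommRing A] [IsNoetherianRing A] {B : Type u} [CommRing B] [IsNoetherianRing B]
  [Algebra A B] [Module.Flat A B] {ω : Dual.D A} (hω : Dual.IsDualizing A ω)

include hω in
/-- Over the prime `p` below `n`, the complex looks like the fibre ring. -/
theorem exists_fibre_degree (n : Ideal B) [n.IsPrime] : ∃ (a d : ℤ),
    IsGE ((extD B (Localization.AtPrime n)).obj ((extD A B).obj ω)) a ∧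
    (∀ q : ℤ, (∀ (M : Type u) [AddCommGroup M] [Module A M] (i : ℤ), q < i →
      Subsingleton (Dual.inD A M ⟶ ω⟦i⟧)) → d ≤ q) ∧
    (∀ i, i ≠ d → Subsingleton (Dual.inD (Localization.AtPrime n)
      (Localization.AtPrime n ⧸ (n.comap (algebraMap A B)).map (algebraMap A (Localization.AtPrime n))) ⟶
        ((extD B (Localization.AtPrime n)).obj ((extD A B).obj ω))⟦i⟧)) ∧
    Nonempty ((Dual.inD (Localization.AtPrime n)
      (Localization.AtPrime n ⧸ (n.comap (algebraMap A B)).map (algebraMap A (Localization.AtPrime n))) ⟶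
        ((extD B (Localization.AtPrime n)).obj ((extD A B).obj ω))⟦d⟧) ≃ₗ[Localization.AtPrime n]
      (Localization.AtPrime n ⧸ (n.comap (algebraMap A B)).map (algebraMap A (Localization.AtPrime n)))) := by
  let p : Ideal A := n.comap (algebraMap A B)
  let R := Localization.AtPrime n
  let Ap := Localization.AtPrime p
  obtain ⟨a, b, ha, -⟩ := exists_bounds hω
  haveI := isGE_extD (B := B) ω a
  haveI := isGE_extD (B := Ap) ω a
  letI : Algebra Ap R := (IsLocalization.lift (M := p.primeCompl) (g := algebraMap A R) fun y => by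
    rw [IsScalarTower.algebraMap_apply A B R]
    exact IsLocalization.map_units R (⟨algebraMap A B y, y.2⟩ : n.primeCompl)).toAlgebra
  haveI : IsScalarTower A Ap R := IsScalarTower.of_algebraMap_eq fun x =>
    (IsLocalization.lift_eq _ x).symm
  have hωp := isDualizing_atPrime p hω
  obtain ⟨d, hres⟩ := exists_hasResidue hωp
  let E := fun i : ℤ => Dual.inD A (A ⧸ p) ⟶ ω⟦i⟧
  let F := fun i : ℤ => Dual.inD Ap (ResidueField Ap) ⟶ ((extD A Ap).obj ω)⟦i⟧
  let eF : ∀ i, Ap ⊗[A] E i ≃ₗ[Ap] F i := fun i =>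
    (extHomInDEquiv (B := Ap) (A ⧸ p) ω a i).trans (Linear.homCongr Ap
      ((singleFunctor (ModuleCat.{u} Ap) 0).mapIso (tensorQuotEquivResidueField p).toModuleIso)
      (Iso.refl _))
  let t : R ⊗[B] (B ⊗[A] (A ⧸ p)) ≃ₗ[R] R ⧸ p.map (algebraMap A R) :=
    (AlgebraTensorModule.cancelBaseChange A B R R (A ⧸ p)).trans
      (Algebra.TensorProduct.quotIdealMapEquivTensorQuot R p).symm.toLinearEquiv
  let eR : ∀ i, R ⊗[A] E i ≃ₗ[R]
      (Dual.inD R (R ⧸ p.map (algebraMap A R)) ⟶ ((extD B R).obj ((extD A B).obj ω))⟦i⟧) := fun i =>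
    ((AlgebraTensorModule.cancelBaseChange A B R R (E i)).symm.trans
      ((AlgebraTensorModule.congr (LinearEquiv.refl R R) (extHomInDEquiv (B := B) (A ⧸ p) ω a i)).trans
        (extHomInDEquiv (B := R) (B ⊗[A] (A ⧸ p)) ((extD A B).obj ω) a i))).trans
      (Linear.homCongr R ((singleFunctor (ModuleCat.{u} R) 0).mapIso t.toModuleIso) (Iso.refl _))
  let eA : ∀ i, R ⊗[A] E i ≃ₗ[R] R ⊗[Ap] F i := fun i =>
    (AlgebraTensorModule.cancelBaseChange A Ap R R (E i)).symm.trans
      (AlgebraTensorModule.congr (LinearEquiv.refl R R) (eF i))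
  obtain ⟨e0⟩ := hres.equiv
  refine ⟨a, d, isGE_extD (B := R) _ a, fun q hq => ?_, fun i hi => ?_, ⟨?_⟩⟩
  · by_contra hlt
    obtain ⟨e0⟩ := hres.equiv
    haveI : Subsingleton (E d) := hq (A ⧸ p) d (not_le.1 hlt)
    haveI : Subsingleton (F d) := (eF d).symm.toEquiv.subsingleton
    haveI : Subsingleton (ResidueField Ap) :=
      (((homShiftEquiv (Dual.inD Ap (ResidueField Ap)) ((extD A Ap).obj ω) d d 0 (add_zero d)).symm.trans
        e0).symm).toEquiv.subsingleton
    exact not_subsingleton (ResidueField Ap) inferInstance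
  · haveI := hres.vanish (i - d) (sub_ne_zero.2 hi)
    haveI : Subsingleton (F i) :=
      (homShiftEquiv (Dual.inD Ap (ResidueField Ap)) ((extD A Ap).obj ω) d i (i - d) (by lia)).symm.toEquiv.subsingleton
    exact ((eR i).symm.trans (eA i)).toEquiv.subsingleton
  · exact (eR d).symm.trans ((eA d).trans
      (((AlgebraTensorModule.congr (LinearEquiv.refl R R)
        (((homShiftEquiv (Dual.inD Ap (ResidueField Ap)) ((extD A Ap).obj ω) d d 0 (add_zero d)).symm.trans
          e0).trans (tensorQuotEquivResidueField p).symm)).trans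
        (AlgebraTensorModule.cancelBaseChange A Ap R R (A ⧸ p))).trans
          (Algebra.TensorProduct.quotIdealMapEquivTensorQuot R p).symm.toLinearEquiv))

omit [IsNoetherianRing A] [IsNoetherianRing B] [Module.Flat A B] in
lemma map_comap_ne_top (n : Ideal B) [n.IsPrime] :
    (n.comap (algebraMap A B)).map (algebraMap A (Localization.AtPrime n)) ≠ ⊤ := fun h => by
  rw [IsScalarTower.algebraMap_eq A B (Localization.AtPrime n), ← Ideal.map_map,
    ← top_le_iff] at h
  have := h.trans (Ideal.map_mono (f := algebraMap B (Localization.AtPrime n)) Ideal.map_comap_le)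
  rw [top_le_iff, Localization.AtPrime.map_eq_maximalIdeal] at this
  exact (IsLocalRing.maximalIdeal.isMaximal _).ne_top this

include hω in
/-- **Flat base change with Gorenstein fibres.** -/
theorem isDualizing_extD_of_fibre (N : ℕ)
    (h : ∀ (n : Ideal B) [n.IsMaximal], ∃ (k c : ℕ), c ≤ N ∧
      GrothGoren.InjLT (Localization.AtPrime n ⧸ (n.comap (algebraMap A B)).map (algebraMap A (Localization.AtPrime n)))
        (Localization.AtPrime n ⧸ (n.comap (algebraMap A B)).map (algebraMap A (Localization.AtPrime n))) k ∧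
      ringKrullDim (Localization.AtPrime n ⧸ (n.comap (algebraMap A B)).map (algebraMap A (Localization.AtPrime n))) = c) :
    Dual.IsDualizing B ((extD A B).obj ω) := by
  obtain ⟨a, b, ha, hb⟩ := exists_bounds hω
  obtain ⟨p, q, hpq⟩ := hω.finite_injective_dimension
  haveI := isGE_extD (B := B) ω a
  haveI := isLE_extD (B := B) ω b
  refine isDualizing_of_hasResidue_atPrime _ (fun i => haveI := hω.finite_cohomology i; finite_HD_extD ω i)
    a b (q + N) fun n _ => ?_
  haveI : IsNoetherianRing (Localization.AtPrime n) :=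
    IsLocalization.isNoetherianRing n.primeCompl _ inferInstance
  obtain ⟨k, c, hcN, hk, hc⟩ := h n
  obtain ⟨a', d, hGE, hd, hvan, ⟨ed⟩⟩ := exists_fibre_degree hω n
  have := hd q fun M _ _ i hi => hpq M i (Or.inr hi)
  exact ⟨d + c, by lia, hasResidue_of_quotient _ (map_comap_ne_top n) _ a' d hvan ed hk c hc⟩

include hω in
/-- If the base change is dualizing, the fibres are Gorenstein. -/
theorem exists_injLT_fibre (hB : Dual.IsDualizing B ((extD A B).obj ω)) (n : Ideal B) [n.IsPrime] :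
    ∃ k, GrothGoren.InjLT (Localization.AtPrime n ⧸ (n.comap (algebraMap A B)).map (algebraMap A (Localization.AtPrime n)))
      (Localization.AtPrime n ⧸ (n.comap (algebraMap A B)).map (algebraMap A (Localization.AtPrime n))) k := by
  haveI : IsNoetherianRing (Localization.AtPrime n) :=
    IsLocalization.isNoetherianRing n.primeCompl _ inferInstance
  obtain ⟨a', d, hGE, -, hvan, ⟨ed⟩⟩ := exists_fibre_degree hω n
  exact exists_injLT_quotient _ (map_comap_ne_top n) _ a' d hvan ed (isDualizing_atPrime n hB)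

end Fibre

end Groth.DualCore
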