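import Mathlib.CategoryTheory.Adjunction.Basic

/-!
Natural bijections between Hom sets out of two functors.
-/

set_option autoImplicit false

universe v v' v'' w u u' u''

open CategoryTheory

namespace Groth.DualCore

variable {C : Type u} [Category.{v} C] {D : Type u'} [Category.{v} D] {D' : Type u''} [Category.{v} D']

/-- A natural bijection `(F Z ⟶ L) ≃ (F' Z ⟶ L')`. -/
structure HomIso (F : C ⥤ D) (L : D) (F' : C ⥤ D') (L' : D') where
  equiv : ∀ Z, (F.obj Z ⟶ L) ≃ (F'.obj Z ⟶ L')
  natural : ∀ {Z Z' : C} (h : Z' ⟶ Z) (g : F.obj Z ⟶ L), equiv Z' (F.map h ≫ g) = F'.map h ≫ equiv Z g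

namespace HomIso

/-- Inverse. -/
def symm {F : C ⥤ D} {L : D} {F' : C ⥤ D'} {L' : D'} (e : HomIso F L F' L') : HomIso F' L' F L where
  equiv Z := (e.equiv Z).symm
  natural {Z Z'} h g := by
    apply (e.equiv Z').injective
    rw [Equiv.apply_symm_apply, e.natural, Equiv.apply_symm_apply]

/-- Composition. -/
def trans {F : C ⥤ D} {L : D} {F' : C ⥤ D'} {L' : D'} {D'' : Type*} [Category.{v} D''] {F'' : C ⥤ D''} {L'' : D''}
    (e : HomIso F L F' L') (e' : HomIso F' L' F'' L'') : HomIso F L F'' L'' where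
  equiv Z := (e.equiv Z).trans (e'.equiv Z)
  natural h g := by simp [e.natural, e'.natural]

/-- Transport along isomorphisms. -/
def congr {F F' : C ⥤ D} {L L' : D} (α : F ≅ F') (β : L ≅ L') : HomIso F L F' L' where
  equiv Z :=
    { toFun := fun g => α.inv.app Z ≫ g ≫ β.hom
      invFun := fun g => α.hom.app Z ≫ g ≫ β.inv
      left_inv := fun g => by simp
      right_inv := fun g => by simp }
  natural h g := by simp [α.inv.naturality_assoc]

/-- An adjunction. -/
def ofAdj {F : C ⥤ D} {R : D ⥤ C} (adj : F ⊣ R) (L : D) : HomIso (𝟭 C) (R.obj L) F L where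
  equiv Z := (adj.homEquiv Z L).symm
  natural h g := adj.homEquiv_naturality_left_symm h g

/-- Composition with a fully faithful functor. -/
noncomputable def ofFullyFaithful {F : C ⥤ D} (L : D) (G : D ⥤ D') [G.Full] [G.Faithful] : HomIso F L (F ⋙ G) (G.obj L) where
  equiv Z := Equiv.ofBijective (fun g => G.map g) ⟨G.map_injective, G.map_surjective⟩
  natural h g := G.map_comp _ g

/-- Yoneda. -/
theorem nonempty_iso {W W' : C} (e : HomIso (𝟭 C) W (𝟭 C) W') : Nonempty (W ≅ W') :=
  ⟨{ hom := e.equiv W (𝟙 W)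
     inv := (e.equiv W').symm (𝟙 W')
     hom_inv_id := by
       apply (e.equiv W).injective
       refine (e.natural (e.equiv W (𝟙 W)) ((e.equiv W').symm (𝟙 W'))).trans ?_
       rw [Equiv.apply_symm_apply]
       exact Category.comp_id _
     inv_hom_id := by
       have := e.natural ((e.equiv W').symm (𝟙 W')) (𝟙 W)
       refine this.symm.trans ?_
       show e.equiv W' (((e.equiv W').symm (𝟙 W') : W' ⟶ W) ≫ 𝟙 W) = 𝟙 W'
       rw [Category.comp_id, Equiv.apply_symm_apply] }⟩

end HomIso

end Groth.DualCore
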