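import Groth.Agent.DualCore.FiniteLength
import Groth.Agent.DualCore.Regular

/-!
# The pairing with `lim Hom(A/𝔪ᵏ, ω)`
-/

set_option autoImplicit false

universe u

open CategoryTheory CategoryTheory.Limits CategoryTheory.Pretriangulated DerivedCategory IsLocalRing

attribute [local instance] HasDerivedCategory.standard

namespace Groth.DualCore

variable {A : Type u} [CommRing A] [IsLocalRing A] [IsNoetherianRing A]

/-- A model in universe `u` of `lim Hom(A/𝔪ᵏ, ω)`. -/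
structure HullSys (ω : Dual.D A) where
  /-- the module -/
  X : Type u
  [acg : AddCommGroup X]
  [mod : Module A X]
  /-- the structure maps -/
  ι : ∀ k, (Dual.inD A (Qk A k) ⟶ ω⟦(0 : ℤ)⟧) →ₗ[A] X
  compat : ∀ k l (h : k ≤ l) u, ι l (map1 ω 0 (qmap h) u) = ι k u
  inj : ∀ k, Function.Injective (ι k)
  rep : ∀ x : X, ∃ k u, ι k u = x

attribute [instance] HullSys.acg HullSys.mod

variable {ω : Dual.D A}

/-- Existence of the model. -/
theorem exists_hullSys (hω : HasResidue ω) : Nonempty (HullSys ω) := by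
  let G := fun k => Dual.inD A (Qk A k) ⟶ ω⟦(0 : ℤ)⟧
  let g : ∀ k l, k ≤ l → G k →ₗ[A] G l := fun _ _ h => map1 ω 0 (qmap (A := A) h)
  haveI : DirectedSystem G (fun k l h => ⇑(g k l h)) :=
    { map_self := fun k u => by
        show map1 ω 0 _ u = u
        rw [show qmap (A := A) (le_refl k) = LinearMap.id from Submodule.linearMap_qext _ rfl, map1_id]
      map_map := fun k l m hkl hlm u => by
        show map1 ω 0 _ (map1 ω 0 _ u) = map1 ω 0 _ u
        rw [← map1_comp]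
        congr 1
        exact congrArg _ (Submodule.linearMap_qext _ rfl) }
  let ι := fun k => Module.DirectLimit.of A ℕ G g k
  have hι : ∀ k l (h : k ≤ l) u, ι l (g k l h u) = ι k u := fun k l h u => Module.DirectLimit.of_f
  have hinj : ∀ k, Function.Injective (ι k) := fun k => by
    rw [← LinearMap.ker_eq_bot, LinearMap.ker_eq_bot']
    intro u hu
    obtain ⟨l, hl, hlu⟩ := Module.DirectLimit.of.zero_exact hu
    exact qmap_injective hω hl (hlu.trans (map_zero _).symm)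
  have hrep : ∀ x : Module.DirectLimit G g, ∃ k u, ι k u = x := fun x => Module.DirectLimit.exists_of x
  haveI : ∀ k, Small.{u} (G k) := fun k => by
    haveI : IsNoetherian A (G k) := by
      refine (isFiniteLength_iff_isNoetherian_isArtinian.1 (Module.length_ne_top_iff.1 ?_)).1
      rw [length_hom_finiteLength hω (GrothMatlis.isFiniteLength_quotient_pow k)]
      exact Module.length_ne_top_iff.2 (GrothMatlis.isFiniteLength_quotient_pow k)
    obtain ⟨n, p, hp⟩ := Module.Finite.exists_fin' A (G k)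
    exact small_of_surjective hp
  haveI : Small.{u} (Module.DirectLimit G g) :=
    small_of_surjective (f := fun p : Σ k, Shrink.{u} (G k) => ι p.1 ((equivShrink _).symm p.2))
      fun x => by
        obtain ⟨k, u, rfl⟩ := hrep x
        exact ⟨⟨k, equivShrink _ u⟩, by simp⟩
  let σ : Shrink.{u} (Module.DirectLimit G g) ≃ₗ[A] Module.DirectLimit G g := Shrink.linearEquiv A _
  exact ⟨{ X := Shrink.{u} (Module.DirectLimit G g)
           ι := fun k => σ.symm.toLinearMap ∘ₗ ι k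
           compat := fun k l h u => congrArg σ.symm (hι k l h u)
           inj := fun k => σ.symm.injective.comp (hinj k)
           rep := fun x => by
             obtain ⟨k, u, hu⟩ := hrep (σ x)
             exact ⟨k, u, (congrArg σ.symm hu).trans (σ.symm_apply_apply x)⟩ }⟩

namespace HullSys

variable (S : HullSys ω)

/-- It is an injective hull. -/
theorem exists_hull (hω : HasResidue ω) :
    ∃ φ : ResidueField A →ₗ[A] S.X, InjHull.IsInjectiveHull φ :=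
  exists_isInjectiveHull_of_system hω S.ι S.compat S.inj S.rep

theorem baer (hω : HasResidue ω) : Module.Baer A S.X := by
  obtain ⟨φ, hφ⟩ := S.exists_hull hω
  exact GrothMatlis.baer hφ.isInjective

/-- The pairing. -/
noncomputable def pair (Y : Dual.D A) (k : ℕ) :
    (Dual.inD A (Qk A k) ⟶ Y) →ₗ[A] ((Y ⟶ ω⟦(0 : ℤ)⟧) →ₗ[A] S.X) :=
  LinearMap.mk₂ A (fun f g => S.ι k (f ≫ g))
    (fun f f' g => by rw [Preadditive.add_comp, map_add]) (fun a f g => by rw [Linear.smul_comp, map_smul])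
    (fun f g g' => by rw [Preadditive.comp_add, map_add]) (fun a f g => by rw [Linear.comp_smul, map_smul])

lemma pair_apply (Y : Dual.D A) (k : ℕ) (f : Dual.inD A (Qk A k) ⟶ Y) (g : Y ⟶ ω⟦(0 : ℤ)⟧) :
    S.pair Y k f g = S.ι k (f ≫ g) := rfl

lemma pair_qmap (Y : Dual.D A) {k l : ℕ} (h : k ≤ l) (f : Dual.inD A (Qk A k) ⟶ Y) :
    S.pair Y l (inDmap (qmap h) ≫ f) = S.pair Y k f := by
  apply LinearMap.ext
  intro g
  rw [pair_apply, pair_apply, Category.assoc]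
  exact S.compat k l h (f ≫ g)

lemma pair_comp {Y Y' : Dual.D A} (k : ℕ) (f : Dual.inD A (Qk A k) ⟶ Y) (h : Y ⟶ Y')
    (g : Y' ⟶ ω⟦(0 : ℤ)⟧) : S.pair Y' k (f ≫ h) g = S.pair Y k f (h ≫ g) := by
  rw [pair_apply, pair_apply, Category.assoc]

omit [IsNoetherianRing A] in
lemma inDmap_qmap_trans {Y : Dual.D A} {k l m : ℕ} (h : k ≤ l) (h' : l ≤ m)
    (f : Dual.inD A (Qk A k) ⟶ Y) :
    inDmap (qmap h') ≫ inDmap (qmap h) ≫ f = inDmap (qmap (h.trans h')) ≫ f := by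
  rw [← Category.assoc, ← inDmap_comp]
  congr 2
  exact Submodule.linearMap_qext _ rfl

/-- `lim Hom(A/𝔪ᵏ, Y) → Hom(Hom(Y, ω), X)` is injective. -/
def IsInj (Y : Dual.D A) : Prop :=
  ∀ (k : ℕ) (f : Dual.inD A (Qk A k) ⟶ Y), S.pair Y k f = 0 →
    ∃ (l : ℕ) (h : k ≤ l), inDmap (qmap h) ≫ f = 0

/-- `lim Hom(A/𝔪ᵏ, Y) → Hom(Hom(Y, ω), X)` is surjective. -/
def IsSurj (Y : Dual.D A) : Prop :=
  ∀ φ : (Y ⟶ ω⟦(0 : ℤ)⟧) →ₗ[A] S.X, ∃ k f, S.pair Y k f = φ

variable {S}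

lemma IsInj.of_iso {Y Y' : Dual.D A} (e : Y ≅ Y') (h : S.IsInj Y) : S.IsInj Y' := fun k f hf => by
  obtain ⟨l, hl, hlf⟩ := h k (f ≫ e.inv) (LinearMap.ext fun g => by
    rw [pair_comp, hf]; rfl)
  refine ⟨l, hl, ?_⟩
  rw [← cancel_mono e.inv, Category.assoc, hlf, zero_comp]

lemma IsSurj.of_iso {Y Y' : Dual.D A} (e : Y ≅ Y') (h : S.IsSurj Y) : S.IsSurj Y' := fun φ => by
  obtain ⟨k, f, hf⟩ := h (φ ∘ₗ Linear.leftComp A _ e.inv)
  refine ⟨k, f ≫ e.hom, LinearMap.ext fun g => ?_⟩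
  rw [pair_comp, hf]
  show φ (e.inv ≫ e.hom ≫ g) = φ g
  rw [e.inv_hom_id_assoc]

omit [IsNoetherianRing A] in
/-- Extension along a map whose kernel is contained in the kernel. -/
lemma exists_extension {X : Type u} [AddCommGroup X] [Module A X] (hX : Module.Baer A X)
    {H H' : Type (u + 1)} [AddCommGroup H] [Module A H] [AddCommGroup H'] [Module A H']
    (ρ : H →ₗ[A] H') (φ : H →ₗ[A] X) (h : ∀ v, ρ v = 0 → φ v = 0) : ∃ ψ : H' →ₗ[A] X, ψ ∘ₗ ρ = φ := by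
  obtain ⟨ψ, hψ⟩ := hX.extension_property ((LinearMap.ker ρ).liftQ ρ le_rfl)
    (LinearMap.ker_eq_bot.1 (Submodule.ker_liftQ_eq_bot' _ _ rfl))
    ((LinearMap.ker ρ).liftQ φ fun v hv => h v hv)
  refine ⟨ψ, LinearMap.ext fun v => ?_⟩
  exact LinearMap.congr_fun hψ (Submodule.Quotient.mk v)

variable (hω : HasResidue ω) (T : Triangle (Dual.D A)) (hT : T ∈ distTriang (Dual.D A))
include hω hT

/-- A functional which vanishes on maps through `T.obj₃` comes from `T.obj₁`. -/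
lemma surj_of_ker (h₁ : S.IsSurj T.obj₁) (φ : (T.obj₂ ⟶ ω⟦(0 : ℤ)⟧) →ₗ[A] S.X)
    (hφ : ∀ g, φ (T.mor₂ ≫ g) = 0) : ∃ k f, S.pair T.obj₂ k f = φ := by
  obtain ⟨ψ, hψ⟩ := exists_extension (S.baer hω) (Linear.leftComp A _ T.mor₁) φ fun v hv => by
    obtain ⟨w, rfl⟩ := T.yoneda_exact₂ hT v hv
    exact hφ w
  obtain ⟨k, f₁, hf₁⟩ := h₁ ψ
  refine ⟨k, f₁ ≫ T.mor₁, LinearMap.ext fun g => ?_⟩
  rw [pair_comp, hf₁, ← hψ]
  rfl

/-- An element dying in `T.obj₃` which pairs to zero dies. -/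
lemma inj_of_ker (h₁ : S.IsInj T.obj₁) (h₀ : S.IsSurj (T.obj₃⟦(-1 : ℤ)⟧)) (k : ℕ)
    (f : Dual.inD A (Qk A k) ⟶ T.obj₂) (hf : S.pair T.obj₂ k f = 0) (hf₂ : f ≫ T.mor₂ = 0) :
    ∃ (l : ℕ) (h : k ≤ l), inDmap (qmap h) ≫ f = 0 := by
  obtain ⟨f₁, hf₁⟩ := T.coyoneda_exact₂ hT f hf₂
  let d : T.obj₃⟦(-1 : ℤ)⟧ ⟶ T.obj₁ := T.invRotate.mor₁
  have hd : d ≫ T.mor₁ = 0 := comp_distTriang_mor_zero₁₂ _ (inv_rot_of_distTriang _ hT)
  obtain ⟨ψ, hψ⟩ := exists_extension (S.baer hω) (Linear.leftComp A _ d) (S.pair T.obj₁ k f₁)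
    fun v hv => by
      obtain ⟨w, rfl⟩ := T.invRotate.yoneda_exact₂ (inv_rot_of_distTriang _ hT) v hv
      refine (S.pair_comp k f₁ T.mor₁ w).symm.trans ?_
      rw [← hf₁, hf]; rfl
  obtain ⟨k₀, f₀, hf₀⟩ := h₀ ψ
  let l := max k k₀
  let u₁ := inDmap (qmap (A := A) (le_max_left k k₀)) ≫ f₁
  let u₀ := inDmap (qmap (A := A) (le_max_right k k₀)) ≫ f₀
  obtain ⟨m, hlm, hm⟩ := h₁ l (u₁ - u₀ ≫ d) (by
    rw [map_sub, sub_eq_zero]
    apply LinearMap.ext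
    intro g
    show S.pair T.obj₁ l (inDmap (qmap (le_max_left k k₀)) ≫ f₁) g =
      S.pair T.obj₁ l (u₀ ≫ d) g
    rw [S.pair_qmap, pair_comp, S.pair_qmap, hf₀, ← hψ]
    rfl)
  refine ⟨m, (le_max_left k k₀).trans hlm, ?_⟩
  rw [Preadditive.comp_sub, sub_eq_zero] at hm
  have h2 : inDmap (qmap ((le_max_left k k₀).trans hlm)) ≫ f₁ =
      (inDmap (qmap hlm) ≫ u₀) ≫ d := by
    rw [← inDmap_qmap_trans (le_max_left k k₀) hlm]
    exact hm.trans (Category.assoc _ _ _).symm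
  rw [hf₁, ← Category.assoc, h2, Category.assoc, hd, comp_zero]

/-- The five lemma, surjectivity. -/
lemma surj_of_triangle (h₁ : S.IsSurj T.obj₁) (h₃ : S.IsSurj T.obj₃)
    (h₄ : S.IsInj (T.obj₁⟦(1 : ℤ)⟧)) : S.IsSurj T.obj₂ := fun φ => by
  obtain ⟨k, f₃, hf₃⟩ := h₃ (φ ∘ₗ Linear.leftComp A _ T.mor₂)
  obtain ⟨l, hl, hlf⟩ := h₄ k (f₃ ≫ T.mor₃) (LinearMap.ext fun g => by
    rw [pair_comp, hf₃]
    show φ (T.mor₂ ≫ T.mor₃ ≫ g) = 0
    rw [← Category.assoc, comp_distTriang_mor_zero₂₃ _ hT, zero_comp, map_zero])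
  rw [← Category.assoc] at hlf
  obtain ⟨f₂, hf₂⟩ := T.coyoneda_exact₃ hT _ hlf
  obtain ⟨k', f', hf'⟩ := surj_of_ker hω T hT h₁ (φ - S.pair T.obj₂ l f₂) fun g => by
    rw [LinearMap.sub_apply, ← pair_comp, ← hf₂, pair_qmap, hf₃, sub_eq_zero]
    rfl
  refine ⟨max l k', inDmap (qmap (le_max_left l k')) ≫ f₂ + inDmap (qmap (le_max_right l k')) ≫ f', ?_⟩
  rw [map_add, pair_qmap, pair_qmap, hf', add_sub_cancel]

/-- The five lemma, injectivity. -/
lemma inj_of_triangle (h₁ : S.IsInj T.obj₁) (h₃ : S.IsInj T.obj₃)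
    (h₀ : S.IsSurj (T.obj₃⟦(-1 : ℤ)⟧)) : S.IsInj T.obj₂ := fun k f hf => by
  obtain ⟨l, hl, hlf⟩ := h₃ k (f ≫ T.mor₂) (LinearMap.ext fun g => by
    rw [pair_comp, hf]; rfl)
  rw [← Category.assoc] at hlf
  obtain ⟨m, hm, hmf⟩ := inj_of_ker hω T hT h₁ h₀ l (inDmap (qmap hl) ≫ f)
    (by rw [pair_qmap, hf]) hlf
  exact ⟨m, hl.trans hm, (inDmap_qmap_trans hl hm f).symm.trans hmf⟩

end HullSys

end Groth.DualCore
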