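import Groth.Agent.DualCore.TensorTop
import Groth.Agent.DualCore.Regular
import Groth.Agent.DAlg.TotFinite
import Groth.Agent.DAlg.TensorSingleRight
import Mathlib.Algebra.Homology.BifunctorShift

/-!
Invertible objects of `D(A)` over a local ring are shifts of `A`.
-/

set_option autoImplicit false
set_option linter.style.haveILetI false

universe u

open CategoryTheory CategoryTheory.Limits HomologicalComplex MonoidalCategory
open scoped TensorProduct

attribute [local instance] HasDerivedCategory.standard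

namespace Groth.DualCore

open Groth.DAlg Groth.DAlg.KFlatMod Groth.DerivedCoh

variable {A : Type u} [CommRing A]

local notation "up" => ComplexShape.up ℤ

/-- Cohomology in `D(A)` of a complex. -/
noncomputable def HDQEquiv (K : DRing.Cx A) (i : ℤ) : Dual.HD A (DRing.toD K) i ≃ₗ[A] K.homology i :=
  ((DerivedCategory.homologyFunctorFactors (ModuleCat.{u} A) i).app K).toLinearEquiv

/-- `R[-m] ⊗ F ≅ F[-m]`. -/
noncomputable def totSingleRingIso (F : DRing.Cx A) (m : ℤ) :
    KFlat.tot (T A) ((single (ModuleCat.{u} A) up m).obj (𝟙_ (ModuleCat.{u} A))) F ≅ F⟦-m⟧ :=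
  (TensorSingleLeft.objIso (T A) m F (𝟙_ (ModuleCat.{u} A))).symm ≪≫
    (NatIso.mapHomologicalComplex (leftUnitorNatIso (ModuleCat.{u} A)) up).app (F⟦-m⟧) ≪≫
      (Functor.mapHomologicalComplexIdIso (ModuleCat.{u} A) up).app _

/-- `G ⊗ R[m] ≅ G[m]`. -/
noncomputable def totRingShiftIso (G : DRing.Cx A) (m : ℤ) :
    KFlat.tot (T A) G
      (((single (ModuleCat.{u} A) up 0).obj (𝟙_ (ModuleCat.{u} A)))⟦m⟧) ≅ G⟦m⟧ :=
  CochainComplex.mapBifunctorShift₂Iso G _ (T A) m ≪≫
    (shiftFunctor (DRing.Cx A) m).mapIso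
      ((TensorSingleRight.objIso (T A) (𝟙_ (ModuleCat.{u} A)) G).symm ≪≫
        (NatIso.mapHomologicalComplex (rightUnitorNatIso (ModuleCat.{u} A)) up).app G ≪≫
          (Functor.mapHomologicalComplexIdIso (ModuleCat.{u} A) up).app G)

/-- A complex ending in a free module of rank one in cohomology retracts onto it. -/
theorem exists_retraction_top (G : DRing.Cx A) (a : ℤ) (ha : DRing.VanishesAbove G a)
    (e : G.homology a ≃ₗ[A] A) :
    ∃ (s : (single (ModuleCat.{u} A) up a).obj (𝟙_ (ModuleCat.{u} A)) ⟶ G)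
      (π : G ⟶ (single (ModuleCat.{u} A) up a).obj (𝟙_ (ModuleCat.{u} A))), s ≫ π = 𝟙 _ := by
  have hz : IsZero (G.X (a + 1)) := ha _ (by omega)
  haveI : IsIso (G.homologyι a) := G.isIso_homologyι a (a + 1) (by simp) (hz.eq_of_tgt _ _)
  let φ : G.X a ⟶ 𝟙_ (ModuleCat.{u} A) := G.pOpcycles a ≫ inv (G.homologyι a) ≫ ModuleCat.ofHom e.toLinearMap
  haveI : IsIso (ModuleCat.ofHom e.toLinearMap) := (e.toModuleIso).isIso_hom
  haveI h1 : Epi (inv (G.homologyι a) ≫ ModuleCat.ofHom e.toLinearMap) :=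
    @epi_comp _ _ _ _ _ _ (IsIso.epi_of_iso _) _ ((ModuleCat.epi_iff_surjective _).2 e.surjective)
  haveI : Epi φ := @epi_comp _ _ _ _ _ _ inferInstance _ h1
  haveI : Projective (𝟙_ (ModuleCat.{u} A)) :=
    (IsProjective.iff_projective _).1 (inferInstanceAs (Module.Projective A A))
  let σ := Projective.factorThru (𝟙 _) φ
  refine ⟨mkHomFromSingle σ (fun j hj => (ha j (by simp at hj; omega)).eq_of_tgt _ _),
    mkHomToSingle φ (fun i hi => by simp [φ]), from_single_hom_ext ?_⟩
  rw [comp_f, mkHomFromSingle_f, mkHomToSingle_f, id_f, Category.assoc,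
    ← Category.assoc σ φ, Projective.factorThru_comp, Category.id_comp, Iso.hom_inv_id]

theorem map_retract {C D : Type*} [Category C] [Category D] (F : C ⥤ D) {X Y : C} {Z : D} (f : X ⟶ Y) (g : Y ⟶ X)
    (h : f ≫ g = 𝟙 X) (e : F.obj Y ≅ Z) : (F.map f ≫ e.hom) ≫ (e.inv ≫ F.map g) = 𝟙 (F.obj X) := by
  rw [Category.assoc, Iso.hom_inv_id_assoc, ← F.map_comp, h, F.map_id]

theorem conj_retract {C : Type*} [Category C] {X X' Y : C} (f : X ⟶ Y) (g : Y ⟶ X) (h : f ≫ g = 𝟙 X) (e : X ≅ X') :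
    (e.inv ≫ f) ≫ (g ≫ e.hom) = 𝟙 X' := by
  rw [Category.assoc, reassoc_of% h, Iso.inv_hom_id]

variable [IsLocalRing A]

set_option maxHeartbeats 800000 in
/-- **Invertible objects over a local ring.** -/
theorem exists_iso_shift_of_lTensorCx_iso (L : Dual.D A) (E : DRing.Cx A) [DRing.HasLTensorCx A E]
    (hLfin : ∀ i : ℤ, Module.Finite A (Dual.HD A L i))
    (hLbdd : ∃ b : ℤ, ∀ i : ℤ, b < i → Subsingleton (Dual.HD A L i))
    (hEfin : ∀ i : ℤ, Module.Finite A (Dual.HD A (DRing.toD E) i))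
    (hEbdd : ∃ b : ℤ, ∀ i : ℤ, b < i → Subsingleton (Dual.HD A (DRing.toD E) i))
    (h : (DRing.LTensorCx A E).obj L ≅ Dual.inD A A) :
    ∃ n : ℤ, Nonempty (L ≅ (Dual.inD A A)⟦n⟧) ∧ Nonempty (DRing.toD E ≅ (Dual.inD A A)⟦(-n)⟧) := by
  -- representatives
  have key : ∀ a c : ℤ, (∀ i, a < i → Subsingleton (Dual.HD A L i)) →
      (∀ i, c < i → Subsingleton (Dual.HD A (DRing.toD E) i)) →
      ∃ G F : DRing.Cx A, DRing.VanishesAbove G a ∧ DRing.VanishesAbove F c ∧ DRing.TermwiseFlat G ∧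
        (∀ i, Module.Projective A (F.X i)) ∧ Nonempty (DRing.toD G ≅ L) ∧ Nonempty (DRing.toD F ≅ DRing.toD E) ∧
          Nonempty (DRing.toD (HTor.tensorCx G F) ≅ Dual.inD A A) := by
    intro a c ha hc
    obtain ⟨G, hG, hGF, ⟨eG⟩⟩ := exists_free_rep A ha
    obtain ⟨F, hF, hFF, ⟨eF⟩⟩ := exists_free_rep A hc
    have hFp : ∀ i, Module.Projective A (F.X i) := fun i => haveI := hFF i; inferInstance
    have hGf : DRing.TermwiseFlat G := fun i => haveI := hGF i; inferInstance
    obtain ⟨g, hg⟩ := exists_map_of_projective hF hFp eF.hom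
    haveI : QuasiIso g := by
      rw [← DerivedCategory.isIso_Q_map_iff_quasiIso, hg]
      infer_instance
    have hGk : IsKFlatCx A G := isKFlatCx_of_flat G hG hGf
    have hgq := KFlat.quasiIso_totR _ (isKFlat_flip (isKFlatCx_iff.1 hGk)) g
    exact ⟨G, F, hG, hF, hGf, hFp, ⟨eG⟩, ⟨eF⟩,
      ⟨@asIso _ _ _ _ (DerivedCategory.Q.map ((KFlat.totR (T A) G).map g))
        ((DerivedCategory.isIso_Q_map_iff_quasiIso _ _).2 hgq) ≪≫
        (lTensorCxIso E G hGk).symm ≪≫ (DRing.LTensorCx A E).mapIso eG ≪≫ h⟩⟩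
  haveI : Nontrivial (Dual.HD A (Dual.inD A A) 0) := (HDinDEquiv A).toEquiv.nontrivial
  -- vanishing of the tensor product above the bounds
  have hsum : ∀ a c : ℤ, (∀ i, a < i → Subsingleton (Dual.HD A L i)) →
      (∀ i, c < i → Subsingleton (Dual.HD A (DRing.toD E) i)) → 0 ≤ a + c := by
    intro a c ha hc
    by_contra hlt
    obtain ⟨G, F, hG, hF, hGf, -, -, -, ⟨eT⟩⟩ := key a c ha hc
    haveI := Groth.HTorLib.subsingleton_homology_tensor G F a c hG hF 0 (by omega)
    haveI := ((HDCongr eT.symm 0).trans (HDQEquiv _ 0)).toEquiv.subsingleton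
    exact not_subsingleton (Dual.HD A (Dual.inD A A) 0) inferInstance
  obtain ⟨bL, hbL⟩ := hLbdd
  obtain ⟨bE, hbE⟩ := hEbdd
  have exL : ∃ a, Nontrivial (Dual.HD A L a) := by
    by_contra hno
    push Not at hno
    have := hsum (-bE - 1) bE (fun i _ => hno i) hbE
    omega
  have exE : ∃ c, Nontrivial (Dual.HD A (DRing.toD E) c) := by
    by_contra hno
    push Not at hno
    have := hsum bL (-bL - 1) hbL (fun i _ => hno i)
    omega
  obtain ⟨a, haN, haM⟩ := Int.exists_greatest_of_bdd ⟨bL, fun z hz => by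
    by_contra hlt
    exact (not_nontrivial_iff_subsingleton.2 (hbL z (by omega))) hz⟩ exL
  obtain ⟨c, hcN, hcM⟩ := Int.exists_greatest_of_bdd ⟨bE, fun z hz => by
    by_contra hlt
    exact (not_nontrivial_iff_subsingleton.2 (hbE z (by omega))) hz⟩ exE
  have ha : ∀ i, a < i → Subsingleton (Dual.HD A L i) := fun i hi =>
    not_nontrivial_iff_subsingleton.1 fun hn => absurd (haM i hn) (by omega)
  have hc : ∀ i, c < i → Subsingleton (Dual.HD A (DRing.toD E) i) := fun i hi =>
    not_nontrivial_iff_subsingleton.1 fun hn => absurd (hcM i hn) (by omega)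
  obtain ⟨G, F, hG, hF, hGf, hFp, ⟨eG⟩, ⟨eF⟩, ⟨eT⟩⟩ := key a c ha hc
  let eGa := ((HDQEquiv G a).symm.trans (HDCongr eG a))
  let eFc := ((HDQEquiv F c).symm.trans (HDCongr eF c))
  haveI : Module.Finite A (G.homology a) := haveI := hLfin a; Module.Finite.equiv eGa.symm
  haveI : Module.Finite A (F.homology c) := haveI := hEfin c; Module.Finite.equiv eFc.symm
  haveI : Nontrivial (G.homology a) := haveI := haN; eGa.toEquiv.nontrivial
  haveI : Nontrivial (F.homology c) := haveI := hcN; eFc.toEquiv.nontrivial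
  obtain ⟨etop⟩ := TensorTop.nonempty_top_equiv G F hGf a c (a + c) hG (fun j hj =>
    haveI := hc j hj
    ((HDQEquiv F j).symm.trans (HDCongr eF j)).toEquiv.subsingleton) rfl
  let etop' := etop.trans ((HDQEquiv _ (a + c)).symm.trans (HDCongr eT (a + c)))
  have hac : a + c = 0 := by
    by_contra hne
    haveI := subsingleton_HD_inD (A := A) A (a + c) hne
    haveI := TensorTop.nontrivial_tensor (A := A) (G.homology a) (F.homology c)
    exact not_subsingleton _ etop'.toEquiv.subsingleton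
  obtain ⟨⟨ea⟩, ⟨ec⟩⟩ := TensorTop.nonempty_equiv_ring (etop'.trans
    (((eqToIso (congrArg (fun i => (DerivedCategory.homologyFunctor (ModuleCat.{u} A) i).obj (Dual.inD A A)) hac)).toLinearEquiv).trans (HDinDEquiv A)))
  -- `E` is a shift of the ring
  obtain ⟨s, π, hsπ⟩ := exists_retraction_top G a hG ea
  let i₁ : DRing.toD (F⟦-a⟧) ⟶ Dual.inD A A :=
    DerivedCategory.Q.map ((totSingleRingIso F a).inv ≫ (KFlat.totL (T A) F).map s) ≫ eT.hom
  let p₁ : Dual.inD A A ⟶ DRing.toD (F⟦-a⟧) :=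
    eT.inv ≫ DerivedCategory.Q.map ((KFlat.totL (T A) F).map π ≫ (totSingleRingIso F a).hom)
  have hip : i₁ ≫ p₁ = 𝟙 _ := by
    exact map_retract DerivedCategory.Q _ _ (conj_retract ((KFlat.totL (T A) F).map s) ((KFlat.totL (T A) F).map π)
      (((KFlat.totL (T A) F).map_comp s π).symm.trans
        ((congrArg (KFlat.totL (T A) F).map hsπ).trans ((KFlat.totL (T A) F).map_id _)))
      (totSingleRingIso F a)) eT
  have hEvan : ∀ j, j ≠ c → Subsingleton (Dual.HD A (DRing.toD E) j) := fun j hj => by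
    haveI := subsingleton_HD_inD (A := A) A (j + a) (by omega)
    haveI : Subsingleton (Dual.HD A (DRing.toD (F⟦-a⟧)) (j + a)) := by
      refine Function.Injective.subsingleton (f := (DerivedCategory.homologyFunctor (ModuleCat.{u} A) (j + a)).map i₁)
        fun x y hxy => ?_
      have hid := congrArg (DerivedCategory.homologyFunctor (ModuleCat.{u} A) (j + a)).map hip
      rw [Functor.map_comp, CategoryTheory.Functor.map_id] at hid
      have h1 := congrArg (ModuleCat.Hom.hom) hid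
      rw [← LinearMap.id_apply (R := A) x, ← LinearMap.id_apply (R := A) y]
      rw [show (LinearMap.id : _ →ₗ[A] _) = _ from h1.symm]
      simp only [ModuleCat.hom_comp, LinearMap.comp_apply]
      exact congrArg _ hxy
    haveI : Subsingleton (Dual.HD A ((shiftFunctor (CochainComplex (ModuleCat.{u} A) ℤ) (-a) ⋙
        DerivedCategory.Q).obj F) (j + a)) := ‹Subsingleton (Dual.HD A (DRing.toD (F⟦-a⟧)) (j + a))›
    exact ((HDCongr eF j).symm.trans ((HDShiftEquiv (DRing.toD F) (-a) (j + a) j (by omega)).symm.trans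
      (HDCongr ((DerivedCategory.Q.commShiftIso (-a)).app F).symm (j + a)))).toEquiv.subsingleton
  obtain ⟨eE⟩ := nonempty_iso_of_single_degree (DRing.toD E) c hEvan
  let eE' : (DRing.toD E)⟦c⟧ ≅ Dual.inD A A :=
    eE ≪≫ (DerivedCategory.singleFunctor (ModuleCat.{u} A) 0).mapIso (eFc.symm.trans ec).toModuleIso
  let eE'' : DRing.toD E ≅ (Dual.inD A A)⟦-c⟧ :=
    ((shiftFunctorCompIsoId (Dual.D A) c (-c) (add_neg_cancel c)).app (DRing.toD E)).symm ≪≫
      (shiftFunctor (Dual.D A) (-c)).mapIso eE'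
  -- `L` is a shift of the ring
  let P : DRing.Cx A := ((single (ModuleCat.{u} A) up 0).obj (𝟙_ (ModuleCat.{u} A)))⟦-c⟧
  let eP : DRing.toD P ≅ DRing.toD F :=
    (DerivedCategory.Q.commShiftIso (-c)).app _ ≪≫ (shiftFunctor (Dual.D A) (-c)).mapIso
      ((DerivedCategory.singleFunctorIsoCompQ (ModuleCat.{u} A) 0).app (ModuleCat.of A A)).symm ≪≫
      eE''.symm ≪≫ eF.symm
  have hPb : DRing.VanishesAbove P c := fun j hj => HomologicalComplex.isZero_single_obj_X up 0 _ _ (by simp only; omega)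
  have hPp : ∀ j, Module.Projective A (P.X j) := fun j => by
    by_cases h0 : j + -c = 0
    · exact Module.Projective.of_equiv (M := A) ((HomologicalComplex.singleObjXIsoOfEq up 0
        (𝟙_ (ModuleCat.{u} A)) (j + -c) h0).symm.toLinearEquiv :)
    · haveI : Subsingleton (P.X j) :=
        ModuleCat.subsingleton_of_isZero (HomologicalComplex.isZero_single_obj_X up 0 _ _ h0)
      infer_instance
  obtain ⟨g, hg⟩ := exists_map_of_projective hPb hPp eP.hom
  haveI : QuasiIso g := by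
    rw [← DerivedCategory.isIso_Q_map_iff_quasiIso, hg]
    infer_instance
  have hgq := KFlat.quasiIso_totR _ (isKFlat_flip (isKFlatCx_iff.1 (isKFlatCx_of_flat G hG hGf))) g
  let eL : L⟦-c⟧ ≅ Dual.inD A A :=
    (shiftFunctor (Dual.D A) (-c)).mapIso eG.symm ≪≫ ((DerivedCategory.Q.commShiftIso (-c)).app G).symm ≪≫
      DerivedCategory.Q.mapIso (totRingShiftIso G (-c)).symm ≪≫
      @asIso _ _ _ _ (DerivedCategory.Q.map ((KFlat.totR (T A) G).map g))
        ((DerivedCategory.isIso_Q_map_iff_quasiIso _ _).2 hgq) ≪≫ eT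
  exact ⟨c, ⟨((shiftFunctorCompIsoId (Dual.D A) (-c) c (neg_add_cancel c)).app L).symm ≪≫
    (shiftFunctor (Dual.D A) c).mapIso eL⟩, ⟨eE''⟩⟩

end Groth.DualCore
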