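import Groth.Agent.DualCore.RegularHom
import Groth.Agent.DualCore.GorensteinInvertible
import Groth.Agent.Gorenstein.LCI
import Groth.Agent.KoszulLCI.Perfect
import Groth.Agent.KoszulLCI.Extend

/-!
For a quotient cut out locally by regular sequences, `RHom_P(A, P)` is invertible.
-/

set_option autoImplicit false
set_option linter.style.haveILetI false

universe u

open CategoryTheory CategoryTheory.Limits DerivedCategory RingTheory.Sequence
open scoped TensorProduct

attribute [local instance] HasDerivedCategory.standard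

namespace Groth.DualCore

variable {P A : Type u} [CommRing P] [CommRing A] [Algebra P A]

/-- For a surjection, primes upstairs and downstairs give the same localizations. -/
lemma isLocalizedModule_restrict_surjective (hsurj : Function.Surjective (algebraMap P A)) (q : Ideal A)
    [q.IsPrime] {M N : Type u} [AddCommGroup M] [AddCommGroup N] [Module P M] [Module A M]
    [IsScalarTower P A M] [Module P N] [Module A N] [IsScalarTower P A N] (f : M →ₗ[A] N)
    [h : IsLocalizedModule q.primeCompl f] :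
    IsLocalizedModule (q.comap (algebraMap P A)).primeCompl (f.restrictScalars P) := by
  have e : Algebra.algebraMapSubmonoid A (q.comap (algebraMap P A)).primeCompl = q.primeCompl := by
    ext a
    constructor
    · rintro ⟨r, hr, rfl⟩
      exact hr
    · intro ha
      obtain ⟨r, rfl⟩ := hsurj a
      exact ⟨r, ha, rfl⟩
  haveI : IsLocalizedModule (Algebra.algebraMapSubmonoid A (q.comap (algebraMap P A)).primeCompl) f := e ▸ h
  exact IsLocalizedModule.restrictScalars _ f

variable [IsNoetherianRing P] [IsNoetherianRing A] (Rψ : Dual.D P ⥤ Dual.D A)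
  (adj : DRing.restrictD (algebraMap P A) ⊣ Rψ)

include adj in
/-- **Invertibility of `RHom_P(A, P)` where `A` is cut out by a regular sequence.** -/
theorem exists_away_iso_of_regular (hsurj : Function.Surjective (algebraMap P A)) (q : Ideal A) [q.IsPrime]
    (a b : ℤ) [IsGE (Rψ.obj (Dual.inD P P)) a] [IsLE (Rψ.obj (Dual.inD P P)) b]
    (hfin : ∀ i, Module.Finite A (Dual.HD A (Rψ.obj (Dual.inD P P)) i))
    (l : List (Localization.AtPrime (q.comap (algebraMap P A))))
    (hl : IsWeaklyRegular (Localization.AtPrime (q.comap (algebraMap P A))) l)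
    (hlI : Ideal.ofList l =
      (RingHom.ker (algebraMap P A)).map (algebraMap P (Localization.AtPrime (q.comap (algebraMap P A))))) :
    ∃ f ∉ q, ∃ m : ℤ, Nonempty ((extD A (Localization.Away f)).obj (Rψ.obj (Dual.inD P P)) ≅
      (Dual.inD (Localization.Away f) (Localization.Away f))⟦m⟧) := by
  let q' := q.comap (algebraMap P A)
  let S := Localization.AtPrime q'
  let Aq := Localization.AtPrime q
  let I := RingHom.ker (algebraMap P A)
  let W := Rψ.obj (Dual.inD P P)
  have hrep := represents_counit (φ := algebraMap P A) Rψ adj (Dual.inD P P)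
  haveI : Module.Finite P A := Module.Finite.of_surjective (Algebra.linearMap P A) hsurj
  let φl : P →ₗ[P] A := Algebra.linearMap P A
  let eA : A ≃ₗ[P] (P ⧸ I) := ((Submodule.quotEquivOfEq I (LinearMap.ker φl) rfl).trans
    (φl.quotKerEquivOfSurjective hsurj)).symm
  let eS : S ⊗[P] A ≃ₗ[S] (S ⧸ Ideal.ofList l) :=
    (TensorProduct.AlgebraTensorModule.congr (LinearEquiv.refl S S) eA).trans
      ((Algebra.TensorProduct.quotIdealMapEquivTensorQuot S I).symm.toLinearEquiv.trans
        (Submodule.quotEquivOfEq _ _ hlI.symm))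
  let uS : (extD P S).obj (Dual.inD P P) ≅ Dual.inD S S :=
    extInD P ≪≫ (singleFunctor (ModuleCat.{u} S) 0).mapIso
      (TensorProduct.AlgebraTensorModule.rid P S S).toModuleIso
  obtain ⟨hvan, ⟨etop⟩⟩ := hom_quot_regular l hl
  let c : ℤ := (l.length : ℤ)
  -- cohomology at the prime
  have key : ∀ i : ℤ, Nonempty ((Aq ⊗[A] Dual.HD A W i) ≃+
      (Dual.inD S (S ⧸ Ideal.ofList l) ⟶ (Dual.inD S S)⟦i⟧)) ∧
      (i = c → Nonempty (Aq ⊗[A] Dual.HD A W i ≃ₗ[Aq] Aq)) := fun i => by
    letI : Module P (Dual.HD A W i) := Module.compHom _ (algebraMap P A)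
    haveI : IsScalarTower P A (Dual.HD A W i) := IsScalarTower.of_algebraMap_smul fun _ _ => rfl
    let θ₀ : Dual.HD A W i ≃+ (Dual.inD P A ⟶ (Dual.inD P P)⟦i⟧) :=
      (homAEquiv W i).symm.toAddEquiv.trans (hrep.homInDEquiv A i)
    let θ : Dual.HD A W i ≃ₗ[P] (Dual.inD P A ⟶ (Dual.inD P P)⟦i⟧) :=
      θ₀.toLinearEquiv fun r x => by
        show hrep.homInDEquiv A i ((homAEquiv W i).symm (algebraMap P A r • x)) = _
        rw [map_smul, hrep.homInDEquiv_smul]
        rfl
    let f₁ := (TensorProduct.mk A Aq (Dual.HD A W i) 1).restrictScalars P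
    haveI : IsLocalizedModule q'.primeCompl f₁ := isLocalizedModule_restrict_surjective hsurj q _
    let f₂ := (TensorProduct.mk P S (Dual.inD P A ⟶ (Dual.inD P P)⟦i⟧) 1) ∘ₗ θ.toLinearMap
    haveI : IsLocalizedModule q'.primeCompl f₂ := IsLocalizedModule.of_linearEquiv_right _ _ _
    let T : Aq ⊗[A] Dual.HD A W i ≃ₗ[P] S ⊗[P] (Dual.inD P A ⟶ (Dual.inD P P)⟦i⟧) :=
      IsLocalizedModule.linearEquiv q'.primeCompl f₁ f₂
    let H : S ⊗[P] (Dual.inD P A ⟶ (Dual.inD P P)⟦i⟧) ≃ₗ[S]
        (Dual.inD S (S ⧸ Ideal.ofList l) ⟶ (Dual.inD S S)⟦i⟧) :=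
      (extHomInDEquiv (B := S) A (Dual.inD P P) 0 i).trans
        (Linear.homCongr S ((singleFunctor (ModuleCat.{u} S) 0).mapIso eS.toModuleIso)
          ((shiftFunctor _ i).mapIso uS))
    refine ⟨⟨T.toAddEquiv.trans H.toAddEquiv⟩, ?_⟩
    rintro rfl
    let g₁ := (Algebra.linearMap A Aq).restrictScalars P
    haveI : IsLocalizedModule q'.primeCompl g₁ := isLocalizedModule_restrict_surjective hsurj q _
    let g₂ : A →ₗ[P] S ⊗[P] A := TensorProduct.mk P S A 1
    let E : Aq ⊗[A] Dual.HD A W c ≃ₗ[P] Aq :=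
      T.trans (((H.trans (etop.trans eS.symm)).restrictScalars P).trans
        (IsLocalizedModule.linearEquiv q'.primeCompl g₂ g₁))
    let EA : Aq ⊗[A] Dual.HD A W c ≃ₗ[A] Aq := E.toAddEquiv.toLinearEquiv fun r x => by
      obtain ⟨r, rfl⟩ := hsurj r
      rw [algebraMap_smul, algebraMap_smul]
      exact E.map_smul r x
    exact ⟨EA.extendScalarsOfIsLocalization q.primeCompl Aq⟩
  let K := (extD A Aq).obj W
  have hK : ∀ j, j ≠ c → Subsingleton (Dual.HD Aq K j) := fun j hj => by
    obtain ⟨⟨T⟩, -⟩ := key j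
    haveI := hvan j hj
    haveI := T.toEquiv.subsingleton
    exact (HDExtEquiv (B := Aq) W j).symm.toEquiv.subsingleton
  obtain ⟨e₀⟩ := (key c).2 rfl
  obtain ⟨i⟩ := nonempty_iso_of_single_degree K c hK
  obtain ⟨f, hf, e⟩ := exists_away_iso q W a b hfin (-c)
    (((shiftFunctorCompIsoId (Dual.D Aq) c (-c) (add_neg_cancel c)).app K).symm ≪≫
      (shiftFunctor (Dual.D Aq) (-c)).mapIso (i ≪≫ (singleFunctor (ModuleCat.{u} Aq) 0).mapIso
        ((HDExtEquiv (B := Aq) W c).symm.trans e₀).toModuleIso))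
  exact ⟨f, hf, -c, e⟩

omit [IsNoetherianRing A] in
include adj in
/-- Bounds for `RHom_P(A, P)` for a perfect quotient. -/
theorem bounds_of_perfect (hsurj : Function.Surjective (algebraMap P A))
    (hN : DRing.IsPerfect P (DTenCalc.algD (algebraMap P A))) :
    ∃ a b : ℤ, IsGE (Rψ.obj (Dual.inD P P)) a ∧ IsLE (Rψ.obj (Dual.inD P P)) b ∧
      ∀ i, Module.Finite A (Dual.HD A (Rψ.obj (Dual.inD P P)) i) := by
  haveI : Module.Finite P A := Module.Finite.of_surjective (Algebra.linearMap P A) hsurj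
  obtain ⟨⟨D, a, b, hv, hp, ⟨i⟩⟩, -⟩ := relDual_core Rψ adj hsurj hN
  let uP : Dual.inD P P ≅ DTen.unit P := (DerivedCategory.singleFunctorIsoCompQ (ModuleCat.{u} P) 0).app _
  let e := i ≪≫ (DRing.restrictD (algebraMap P A)).mapIso (Rψ.mapIso uP.symm)
  have h : ∀ j, (j < a ∨ b < j) → Subsingleton (Dual.HD A (Rψ.obj (Dual.inD P P)) j) := fun j hj =>
    (DAlg.resHD_subsingleton_iff (algebraMap P A) _ j).1
      (DAlg.subsingleton_HD_of_iso e (hv j hj))
  refine ⟨a, b, isGE_of_HD _ a fun j hj => h j (Or.inl hj),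
    (isLE_iff _ b).2 fun j hj => ModuleCat.isZero_iff_subsingleton.2 (h j (Or.inr hj)), ?_⟩
  haveI : IsGE ((𝟭 (Dual.D P)).obj (Dual.inD P P)) 0 := inferInstanceAs (IsGE (Dual.inD P P) 0)
  exact Represents.finite_HD (represents_counit (φ := algebraMap P A) Rψ adj (Dual.inD P P))
    (finite_HD_inD P) 0

section Shriek

variable {R : Type u} [CommRing R] [IsNoetherianRing R] [Algebra R A]

/-- **The shriek of `R` is invertible for a local complete intersection.** -/
theorem exists_away_iso_shriek_of_isLCI (hl : LCI.IsLCI R A) {n : ℕ}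
    (ψ : MvPolynomial (Fin n) R →ₐ[R] A) (hψ : Function.Surjective ψ)
    [DRing.HasLBaseChange (algebraMap R (MvPolynomial (Fin n) R))]
    (Rψ : Dual.D (MvPolynomial (Fin n) R) ⥤ Dual.D A) (adj : DRing.restrictD ψ.toRingHom ⊣ Rψ)
    (q : Ideal A) [q.IsPrime] :
    ∃ f ∉ q, ∃ m : ℤ, Nonempty ((extD A (Localization.Away f)).obj (Dual2.shriekVia n Rψ (Dual.inD R R)) ≅
      (Dual.inD (Localization.Away f) (Localization.Away f))⟦m⟧) := by
  let P := MvPolynomial (Fin n) R
  letI : Algebra P A := ψ.toRingHom.toAlgebra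
  obtain ⟨-, n', α, hα, hI'⟩ := hl
  have hI : LCI.IsKoszulRegularIdeal (RingHom.ker (algebraMap P A)) :=
    Groth.KoszulLCI.isKoszulRegularIdeal_ker_of_presentation α hα ψ hψ hI'
  have hN : DRing.IsPerfect P (DTenCalc.algD (algebraMap P A)) := by
    obtain ⟨e⟩ := DTenCalc.nonempty_algD_iso (R := P) (S := A)
    exact DAlg.IsPerfect.of_iso (Groth.KoszulLCI.isPerfectModule_congr
      ((Algebra.linearMap P A).quotKerEquivOfSurjective hψ)
      (Groth.KoszulLCI.perfect_quotient_of_isKoszulRegularIdeal hI)) e.symm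
  obtain ⟨a, b, _, _, hfin⟩ := bounds_of_perfect (P := P) Rψ adj hψ hN
  let q' := q.comap (algebraMap P A)
  have hle : RingHom.ker (algebraMap P A) ≤ q' := Ideal.ker_le_comap _
  obtain ⟨g, hg, r, hr⟩ := Groth.KoszulLCI.locReg_of_isKoszulRegularIdeal hI q' hle
  obtain ⟨l, -, hl, hlI⟩ := hr q' hg
  let S := Localization.AtPrime q'
  haveI : IsNoetherianRing S := IsLocalization.isNoetherianRing q'.primeCompl _ inferInstance
  have hmem : ∀ x ∈ l, x ∈ IsLocalRing.maximalIdeal S := fun x hx =>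
    IsLocalRing.le_maximalIdeal (Groth.KoszulLCI.map_atPrime_ne_top hle)
      (hlI ▸ Groth.KoszulLCI.mem_ofList hx)
  have hreg : IsWeaklyRegular S (List.ofFn l.get) := GrothGoren.isWeaklyRegular_of_koszulH1Zero_get l.get
    (fun i => hmem _ (List.get_mem l i)) (Groth.KoszulReg.koszulH1Zero_of_isKoszulRegularSeq hl)
  rw [List.ofFn_get] at hreg
  obtain ⟨f, hf, m, ⟨e⟩⟩ := exists_away_iso_of_regular (P := P) Rψ adj hψ q a b hfin l hreg hlI
  obtain ⟨u⟩ := nonempty_LBaseChange_inD (algebraMap R P)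
  exact ⟨f, hf, m + n, ⟨(extD A (Localization.Away f)).mapIso
    ((shiftFunctor _ (n : ℤ)).mapIso (Rψ.mapIso u)) ≪≫
    ((extD A (Localization.Away f)).commShiftIso (n : ℤ)).app _ ≪≫ (shiftFunctor _ (n : ℤ)).mapIso e ≪≫
    ((shiftFunctorAdd' _ m (n : ℤ) _ rfl).app _).symm⟩⟩

end Shriek

end Groth.DualCore
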