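import Groth.Agent.Matlis.Duality

/-!
# The double dual of a finite module is its completion
-/

set_option autoImplicit false

universe u

open InjHull IsLocalRing

namespace GrothMatlis

variable {R : Type u} [CommRing R] [IsLocalRing R] [IsNoetherianRing R] {E : Type u} [AddCommGroup E]
  [Module R E] {f : ResidueField R →ₗ[R] E} (M : Type u) [AddCommGroup M] [Module R M] [Module.Finite R M]

lemma isFiniteLength_quotient_pow_smul (n : ℕ) :
    IsFiniteLength R (M ⧸ (maximalIdeal R ^ n • ⊤ : Submodule R M)) := by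
  classical
  obtain ⟨r, g, hg⟩ := Module.Finite.exists_fin' R M
  have hker : ∀ j, maximalIdeal R ^ n ≤ LinearMap.ker
      ((maximalIdeal R ^ n • ⊤ : Submodule R M).mkQ ∘ₗ g ∘ₗ LinearMap.single R (fun _ : Fin r => R) j) := by
    intro j a ha
    rw [LinearMap.mem_ker, LinearMap.comp_apply, LinearMap.comp_apply, Submodule.mkQ_apply,
      Submodule.Quotient.mk_eq_zero, LinearMap.coe_single,
      show (Pi.single j a : Fin r → R) = a • Pi.single j 1 by
        rw [← Pi.single_smul, smul_eq_mul, mul_one], map_smul]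
    exact Submodule.smul_mem_smul ha Submodule.mem_top
  let G : (Fin r → R ⧸ maximalIdeal R ^ n) →ₗ[R] M ⧸ (maximalIdeal R ^ n • ⊤ : Submodule R M) :=
    ∑ j, Submodule.liftQ _ _ (hker j) ∘ₗ LinearMap.proj j
  have hG : Function.Surjective G := fun x => by
    obtain ⟨x, rfl⟩ := Submodule.mkQ_surjective _ x
    obtain ⟨c, rfl⟩ := hg x
    refine ⟨fun j => Submodule.Quotient.mk (c j), ?_⟩
    rw [LinearMap.sum_apply]
    conv_rhs => rw [← Finset.univ_sum_single c, map_sum, map_sum]
    exact Finset.sum_congr rfl fun j _ => rfl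
  obtain ⟨h1, h2⟩ := isFiniteLength_iff_isNoetherian_isArtinian.1 (isFiniteLength_quotient_pow (R := R) n)
  rw [isFiniteLength_iff_isNoetherian_isArtinian]
  exact ⟨inferInstance, isArtinian_of_surjective _ G hG⟩

/-- A functional on a finite module factors through `M/𝔪ⁿM`. -/
lemma exists_pow_smul_le_ker (hf : IsInjectiveHull f) (g : M →ₗ[R] E) :
    ∃ n : ℕ, (maximalIdeal R ^ n • ⊤ : Submodule R M) ≤ LinearMap.ker g := by
  classical
  obtain ⟨s, hs⟩ := Module.Finite.fg_top (R := R) (M := M)
  choose d hd using fun x : M => mem_torsion_pow hf (g x)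
  refine ⟨s.sup d, Submodule.smul_le.2 fun a ha x _ => ?_⟩
  rw [LinearMap.mem_ker, map_smul]
  have h : a • g = 0 := LinearMap.ext_on hs fun y hy =>
    (Submodule.mem_torsionBySet_iff _ _).1 (hd y) ⟨a, Ideal.pow_le_pow_right (Finset.le_sup hy) ha⟩
  exact LinearMap.congr_fun h x

/-- The completion of a finite module is its double Matlis dual. -/
theorem nonempty_completion_equiv_double_dual (hf : IsInjectiveHull f) :
    Nonempty (AdicCompletion (maximalIdeal R) M ≃ₗ[R] ((M →ₗ[R] E) →ₗ[R] E)) := by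
  set m := maximalIdeal R
  let N := fun n => (m ^ n • ⊤ : Submodule R M)
  choose d hd using exists_pow_smul_le_ker M hf
  have hmono : ∀ {i j : ℕ}, i ≤ j → N j ≤ N i := fun h =>
    Submodule.smul_mono (Ideal.pow_le_pow_right h) le_rfl
  let ev : AdicCompletion m M → (M →ₗ[R] E) → E := fun c g => (N (d g)).liftQ g (hd g) (c.1 (d g))
  have key : ∀ (c : AdicCompletion m M) (g : M →ₗ[R] E) (n : ℕ) (h : N n ≤ LinearMap.ker g),
      ev c g = (N n).liftQ g h (c.1 n) := by
    intro c g n h
    have H : ∀ {i j : ℕ} (hij : i ≤ j) (hi : N i ≤ LinearMap.ker g),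
        (N i).liftQ g hi (c.1 i) = (N j).liftQ g ((hmono hij).trans hi) (c.1 j) := by
      intro i j hij hi
      rw [← c.2 hij]
      obtain ⟨x, hx⟩ := Submodule.mkQ_surjective _ (c.1 j)
      rw [← hx]
      rfl
    show (N (d g)).liftQ g (hd g) (c.1 (d g)) = _
    rw [H (le_max_left (d g) n) (hd g), H (le_max_right (d g) n) h]
  let Φ : AdicCompletion m M →ₗ[R] ((M →ₗ[R] E) →ₗ[R] E) := LinearMap.mk₂ R ev
    (fun c c' g => by
      show (N (d g)).liftQ g (hd g) (c.1 (d g) + c'.1 (d g)) = _
      rw [map_add])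
    (fun a c g => by
      show (N (d g)).liftQ g (hd g) (a • c.1 (d g)) = _
      rw [map_smul])
    (fun c g g' => by
      have h : N (max (d g) (d g')) ≤ LinearMap.ker g := (hmono (le_max_left _ _)).trans (hd g)
      have h' : N (max (d g) (d g')) ≤ LinearMap.ker g' := (hmono (le_max_right _ _)).trans (hd g')
      rw [key c g _ h, key c g' _ h', key c (g + g') _ (fun x hx => by
        rw [LinearMap.mem_ker, LinearMap.add_apply, LinearMap.mem_ker.1 (h hx),
          LinearMap.mem_ker.1 (h' hx), add_zero])]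
      obtain ⟨x, hx⟩ := Submodule.mkQ_surjective _ (c.1 (max (d g) (d g')))
      rw [← hx]
      rfl)
    (fun a c g => by
      rw [key c (a • g) _ (fun x hx => by
        rw [LinearMap.mem_ker, LinearMap.smul_apply, LinearMap.mem_ker.1 (hd g hx), smul_zero]),
        key c g _ (hd g)]
      obtain ⟨x, hx⟩ := Submodule.mkQ_surjective _ (c.1 (d g))
      rw [← hx]
      rfl)
  have hΦ : ∀ c g n (h : N n ≤ LinearMap.ker g), Φ c g = (N n).liftQ g h (c.1 n) := key
  refine ⟨LinearEquiv.ofBijective Φ ⟨?_, ?_⟩⟩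
  · rw [← LinearMap.ker_eq_bot, LinearMap.ker_eq_bot']
    intro c hc
    refine Subtype.ext (funext fun n => applyₗ_injective hf (M ⧸ N n) (LinearMap.ext fun g => ?_))
    have h : N n ≤ LinearMap.ker (g ∘ₗ (N n).mkQ) := fun x hx => by
      rw [LinearMap.mem_ker, LinearMap.comp_apply, Submodule.mkQ_apply,
        (Submodule.Quotient.mk_eq_zero _).2 hx, map_zero]
    have := hΦ c (g ∘ₗ (N n).mkQ) n h
    rw [hc] at this
    obtain ⟨x, hx⟩ := Submodule.mkQ_surjective _ (c.1 n)
    rw [← hx] at this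
    show g (c.1 n) = g 0
    rw [map_zero, ← hx]
    exact this.symm
  · intro ψ
    choose v hv using fun n =>
      (applyₗ_bijective_of_isFiniteLength hf (isFiniteLength_quotient_pow_smul M n)).2
        (ψ ∘ₗ LinearMap.lcomp R E (N n).mkQ)
    have hv' : ∀ n (g : (M ⧸ N n) →ₗ[R] E), g (v n) = ψ (g ∘ₗ (N n).mkQ) := fun n g =>
      LinearMap.congr_fun (hv n) g
    refine ⟨⟨v, fun {i j} hij => applyₗ_injective hf (M ⧸ N i) (LinearMap.ext fun g => ?_)⟩,
      LinearMap.ext fun g => ?_⟩
    · show (g ∘ₗ AdicCompletion.transitionMap m M hij) (v j) = g (v i)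
      rw [hv', hv']
      rfl
    · refine (hΦ _ g (d g) (hd g)).trans ((hv' _ _).trans (congrArg ψ ?_))
      exact Submodule.liftQ_mkQ _ _ _

end GrothMatlis
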