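import Groth.Agent.DualCore.LocalPairingGeneral
import Groth.Agent.DualCore.MatlisCompletion
import Groth.Prelude.Def_DualLC

/-!
# Grothendieck local duality
-/

set_option autoImplicit false

universe u

open CategoryTheory CategoryTheory.Limits CategoryTheory.Pretriangulated DerivedCategory IsLocalRing Opposite

attribute [local instance] HasDerivedCategory.standard

namespace Groth.DualCore

variable {A : Type u} [CommRing A] [IsLocalRing A] [IsNoetherianRing A] {ω : Dual.D A}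
  (hω : Dual.IsDualizing A ω) (hn : Dual.IsNormalized A ω) {E : Type u} [AddCommGroup E] [Module A E]
  {f : ResidueField A →ₗ[A] E} (hf : InjHull.IsInjectiveHull f)

include hω

lemma finite_hom_dualizing (K : Dual.D A) (hK : ∀ i, Module.Finite A (Dual.HD A K i)) (i : ℤ) :
    Module.Finite A (K ⟶ ω⟦i⟧) := by
  obtain ⟨a, b, h⟩ := hω.finite_injective_dimension
  obtain ⟨r⟩ := exists_injRep ω a b h
  exact finite_hom_of_injRep r hK hω.finite_cohomology i

include hn hf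

/-- The duality pairing. -/
theorem exists_duality_pairing (K : Dual.D A) (hK : ∀ i, Module.Finite A (Dual.HD A K i)) (i : ℤ) :
    ∃ P : ∀ k, (Dual.inD A (Qk A k) ⟶ K⟦i⟧) →ₗ[A] ((K ⟶ ω⟦-i⟧) →ₗ[A] E),
      (∀ k l (h : k ≤ l) u, P l (inDmap (qmap h) ≫ u) = P k u) ∧
      (∀ k u, P k u = 0 → ∃ (l : ℕ) (h : k ≤ l), inDmap (qmap h) ≫ u = 0) ∧
      ∀ φ, ∃ k u, P k u = φ := by
  have hres := hasResidue_of_normalized hω hn
  obtain ⟨a, b, h⟩ := hω.finite_injective_dimension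
  obtain ⟨r⟩ := exists_injRep ω a b h
  haveI := r.isGE_self
  obtain ⟨S⟩ := exists_hullSys hres
  obtain ⟨φ, hφ⟩ := S.exists_hull hres
  obtain ⟨eE, -⟩ := GrothMatlis.hull_unique hφ hf
  have hfinY : ∀ j, Module.Finite A (Dual.HD A (K⟦i⟧) j) := fun j =>
    haveI := hK (i + j)
    Module.Finite.equiv (HDShiftEquiv K i j (i + j) rfl).symm
  obtain ⟨hinj, hsurj⟩ := HullSys.isBij hres hω.finite_cohomology r.a r (K⟦i⟧) hfinY (S := S)
  let C : ((K⟦i⟧ ⟶ ω⟦(0 : ℤ)⟧) →ₗ[A] S.X) ≃ₗ[A] ((K ⟶ ω⟦-i⟧) →ₗ[A] E) :=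
    LinearEquiv.arrowCongr (homShiftLeft K ω i) eE
  refine ⟨fun k => C.toLinearMap ∘ₗ S.pair (K⟦i⟧) k, fun k l h u => ?_, fun k u hu => ?_, fun φ => ?_⟩
  · exact congrArg C (S.pair_qmap (K⟦i⟧) h u)
  · exact hinj k u (C.map_eq_zero_iff.1 hu)
  · obtain ⟨k, u, hu⟩ := hsurj (C.symm φ)
    exact ⟨k, u, (congrArg C hu).trans (C.apply_symm_apply φ)⟩

omit hω hn hf in
lemma ringModIdeals_map {k l : ℕ} (h : k ≤ l) :
    (localCohomology.ringModIdeals (localCohomology.idealPowersDiagram (maximalIdeal A))).map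
      (homOfLE h).op = ModuleCat.ofHom (qmap (A := A) h) :=
  ModuleCat.hom_ext (Submodule.linearMap_qext _ rfl)

omit hω hn hf in
/-- `HDI` as an eventual colimit. -/
lemma nonempty_HDI_equiv_of_pairing (K : Dual.D A) (i : ℤ) {T : Type (u + 1)} [AddCommGroup T] [Module A T]
    (P : ∀ k, (Dual.inD A (Qk A k) ⟶ K⟦i⟧) →ₗ[A] T)
    (hP : ∀ k l (h : k ≤ l) u, P l (inDmap (qmap h) ≫ u) = P k u)
    (hinj : ∀ k u, P k u = 0 → ∃ (l : ℕ) (h : k ≤ l), inDmap (qmap h) ≫ u = 0)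
    (hsurj : ∀ t, ∃ k u, P k u = t) :
    Nonempty (Dual2.HDI A (maximalIdeal A) K i ≃ₗ[A] T) := by
  let F := (localCohomology.ringModIdeals (localCohomology.idealPowersDiagram (maximalIdeal A)) ⋙
      DerivedCategory.singleFunctor (ModuleCat.{u} A) 0).op ⋙ (linearYoneda A (Dual.D A)).obj (K⟦i⟧)
  have hmap : ∀ {j j' : ℕᵒᵖᵒᵖ} (w : j ⟶ j') (u : F.obj j),
      F.map w u = inDmap (qmap (leOfHom w.unop.unop)) ≫ u := by
    intro j j' w u
    show (DerivedCategory.singleFunctor (ModuleCat.{u} A) 0).map _ ≫ u = _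
    rw [show w.unop = (homOfLE (leOfHom w.unop.unop)).op from Subsingleton.elim _ _, ringModIdeals_map]
    rfl
  let s : Cocone F :=
    { pt := ModuleCat.of A T
      ι :=
        { app := fun j => ModuleCat.ofHom (P j.unop.unop)
          naturality := fun j j' w => by
            ext1
            apply LinearMap.ext
            intro u
            show P j'.unop.unop (F.map w u) = P j.unop.unop u
            rw [hmap]
            exact hP _ _ _ u } }
  have hd : ∀ j (u : F.obj j), colimit.desc F s (colimit.ι F j u) = P j.unop.unop u := fun j u =>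
    ConcreteCategory.congr_hom (colimit.ι_desc s j) u
  refine ⟨LinearEquiv.ofBijective (colimit.desc F s).hom ⟨?_, fun t => ?_⟩⟩
  · rw [← LinearMap.ker_eq_bot, LinearMap.ker_eq_bot']
    intro x hx
    haveI : PreservesFilteredColimitsOfSize.{0, 0} (forget AddCommGrpCat.{u + 1}) :=
      preservesFilteredColimitsOfSize_shrink.{0, u + 1, 0, u + 1} _
    haveI : PreservesColimit F (forget (ModuleCat.{u + 1} A)) :=
      inferInstanceAs (PreservesColimit F (forget₂ (ModuleCat.{u + 1} A) AddCommGrpCat ⋙ forget AddCommGrpCat))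
    obtain ⟨j, u, rfl⟩ := Concrete.colimit_exists_rep F x
    obtain ⟨l, hl, hz⟩ := hinj _ u ((hd j u).symm.trans hx)
    let w : j ⟶ op (op l) := (homOfLE hl).op.op
    have h1 : F.map w u = 0 := by
      rw [hmap]
      exact hz
    rw [← ConcreteCategory.congr_hom (colimit.w F w) u]
    show colimit.ι F _ (F.map w u) = 0
    rw [h1, map_zero]
  · obtain ⟨k, u, hu⟩ := hsurj t
    exact ⟨colimit.ι F (op (op k)) u, (hd (op (op k)) u).trans hu⟩

omit hω hn hf in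
lemma extDEquiv_trans (M : Type u) [AddCommGroup M] [Module A M] (i : ℕ) {k l : ℕ} (h : k ≤ l)
    (α : Abelian.Ext (Groth.LocCohBase.quotPow (maximalIdeal A) k) (ModuleCat.of A M) i) :
    extDEquiv (Qk A l) M i ((Abelian.Ext.mk₀ (Groth.LocCohBase.trans (maximalIdeal A) h)).comp α (zero_add i)) =
      inDmap (qmap h) ≫ extDEquiv (Qk A k) M i α := by
  have : Groth.LocCohBase.trans (maximalIdeal A) h = ModuleCat.ofHom (qmap h) :=
    ModuleCat.hom_ext (Submodule.linearMap_qext _ rfl)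
  rw [this]
  generalize (qmap h : Qk A l →ₗ[A] Qk A k) = g
  exact @extDEquiv_precomp A _ (Qk A k) (Qk A l) M _ _ _ _ _ _ i g α

omit hω hn hf in
/-- Local cohomology as an eventual colimit. -/
lemma nonempty_localCohomology_equiv_of_pairing (M : Type u) [AddCommGroup M] [Module A M] (i : ℕ)
    {T : Type u} [AddCommGroup T] [Module A T]
    (P : ∀ k, (Dual.inD A (Qk A k) ⟶ (Dual.inD A M)⟦(i : ℤ)⟧) →ₗ[A] T)
    (hP : ∀ k l (h : k ≤ l) u, P l (inDmap (qmap h) ≫ u) = P k u)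
    (hinj : ∀ k u, P k u = 0 → ∃ (l : ℕ) (h : k ≤ l), inDmap (qmap h) ≫ u = 0)
    (hsurj : ∀ t, ∃ k u, P k u = t) :
    Nonempty (LocCoh.H (maximalIdeal A) i M ≃ₗ[A] T) := by
  let φ : ∀ k, Abelian.Ext (Groth.LocCohBase.quotPow (maximalIdeal A) k) (ModuleCat.of A M) i →ₗ[A] T :=
    fun k => P k ∘ₗ (extDEquiv (Qk A k) M i).toLinearMap
  have hφ : ∀ {k l : ℕ} (h : k ≤ l) α,
      φ l ((Abelian.Ext.mk₀ (Groth.LocCohBase.trans (maximalIdeal A) h)).comp α (zero_add i)) = φ k α :=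
    fun {k l} h α => (congrArg (P l) (extDEquiv_trans M i h α)).trans (hP k l h _)
  obtain ⟨Φ, hΦ⟩ := Groth.LocCohBase.exists_desc (I := maximalIdeal A) i (ModuleCat.of A M) φ hφ
  refine ⟨LinearEquiv.ofBijective Φ ⟨?_, fun t => ?_⟩⟩
  · rw [← LinearMap.ker_eq_bot, LinearMap.ker_eq_bot']
    intro x hx
    obtain ⟨k, α, rfl⟩ := Groth.LocCohBase.exists_rep (I := maximalIdeal A) i (ModuleCat.of A M) x
    rw [hΦ] at hx
    obtain ⟨l, hl, hz⟩ := hinj k _ hx
    rw [Groth.LocCohBase.ι_eq_zero_iff]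
    refine ⟨l, hl, (extDEquiv (Qk A l) M i).injective ?_⟩
    rw [map_zero]
    exact (extDEquiv_trans M i hl α).trans hz
  · obtain ⟨k, u, hu⟩ := hsurj t
    obtain ⟨α, rfl⟩ := (extDEquiv (Qk A k) M i).surjective u
    exact ⟨Groth.LocCohBase.ι (maximalIdeal A) i (ModuleCat.of A M) k α, (hΦ k α).trans hu⟩

/-- Local duality for the local cohomology of complexes. -/
theorem nonempty_HDI_equiv (K : Dual.D A) (hK : ∀ i, Module.Finite A (Dual.HD A K i)) (i : ℤ) :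
    Nonempty (Dual2.HDI A (maximalIdeal A) K i ≃ₗ[A] ((K ⟶ ω⟦-i⟧) →ₗ[A] E)) := by
  obtain ⟨P, hP, hinj, hsurj⟩ := exists_duality_pairing hω hn hf K hK i
  exact nonempty_HDI_equiv_of_pairing K i P hP hinj hsurj

/-- Local duality for modules. -/
theorem exists_localCohomology_equiv (M : Type u) [AddCommGroup M] [Module A M] [Module.Finite A M]
    (i : ℕ) : ∃ (H : Type u) (_ : AddCommGroup H) (_ : Module A H) (_ : Module.Finite A H),
      Nonempty (H ≃ₗ[A] (Dual.inD A M ⟶ ω⟦-(i : ℤ)⟧)) ∧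
      Nonempty (LocCoh.H (maximalIdeal A) i M ≃ₗ[A] (H →ₗ[A] E)) := by
  obtain ⟨P, hP, hinj, hsurj⟩ := exists_duality_pairing hω hn hf (Dual.inD A M) (finite_HD_inD M) i
  haveI := finite_hom_dualizing hω (Dual.inD A M) (finite_HD_inD M) (-(i : ℤ))
  haveI : Small.{u} (Dual.inD A M ⟶ ω⟦-(i : ℤ)⟧) := by
    obtain ⟨n, p, hp⟩ := Module.Finite.exists_fin' A (Dual.inD A M ⟶ ω⟦-(i : ℤ)⟧)
    exact small_of_surjective hp
  let σ := Shrink.linearEquiv.{u} A (Dual.inD A M ⟶ ω⟦-(i : ℤ)⟧)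
  haveI : Module.Finite A (Shrink.{u} (Dual.inD A M ⟶ ω⟦-(i : ℤ)⟧)) := Module.Finite.equiv σ.symm
  refine ⟨Shrink.{u} (Dual.inD A M ⟶ ω⟦-(i : ℤ)⟧), inferInstance, inferInstance, inferInstance, ⟨σ⟩, ?_⟩
  let C : ((Dual.inD A M ⟶ ω⟦-(i : ℤ)⟧) →ₗ[A] E) ≃ₗ[A] (Shrink.{u} (Dual.inD A M ⟶ ω⟦-(i : ℤ)⟧) →ₗ[A] E) :=
    LinearEquiv.arrowCongr σ.symm (LinearEquiv.refl A E)
  exact nonempty_localCohomology_equiv_of_pairing M i (fun k => C.toLinearMap ∘ₗ P k)
    (fun k l h u => congrArg C (hP k l h u)) (fun k u hu => hinj k u (C.map_eq_zero_iff.1 hu))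
    (fun t => by
      obtain ⟨k, u, hu⟩ := hsurj (C.symm t)
      exact ⟨k, u, (congrArg C hu).trans (C.apply_symm_apply t)⟩)

/-- The completed form of local duality. -/
theorem nonempty_completion_equiv (M : Type u) [AddCommGroup M] [Module A M] [Module.Finite A M] (i : ℕ) :
    Nonempty (AdicCompletion (maximalIdeal A) (Dual.inD A M ⟶ ω⟦-(i : ℤ)⟧) ≃ₗ[A]
      (LocCoh.H (maximalIdeal A) i M →ₗ[A] E)) := by
  obtain ⟨H, _, _, _, ⟨σ⟩, ⟨e⟩⟩ := exists_localCohomology_equiv hω hn hf M i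
  obtain ⟨d⟩ := GrothMatlis.nonempty_completion_equiv_double_dual H hf
  exact ⟨(AdicCompletion.congr (maximalIdeal A) σ.symm).restrictScalars A ≪≫ₗ d ≪≫ₗ LinearEquiv.arrowCongr e.symm (LinearEquiv.refl A E)⟩

/-- Local duality over a complete ring, complexes. -/
theorem nonempty_equiv_dual_HDI [IsAdicComplete (maximalIdeal A) A] (K : Dual.D A)
    (hK : ∀ i, Module.Finite A (Dual.HD A K i)) (i : ℤ) :
    Nonempty ((K ⟶ ω⟦-i⟧) ≃ₗ[A] (Dual2.HDI A (maximalIdeal A) K i →ₗ[A] E)) := by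
  obtain ⟨e⟩ := nonempty_HDI_equiv hω hn hf K hK i
  haveI := finite_hom_dualizing hω K hK (-i)
  haveI : Small.{u} (K ⟶ ω⟦-i⟧) := by
    obtain ⟨n, p, hp⟩ := Module.Finite.exists_fin' A (K ⟶ ω⟦-i⟧)
    exact small_of_surjective hp
  let σ := Shrink.linearEquiv.{u} A (K ⟶ ω⟦-i⟧)
  haveI : Module.Finite A (Shrink.{u} (K ⟶ ω⟦-i⟧)) := Module.Finite.equiv σ.symm
  let d := LinearEquiv.ofBijective (LinearMap.applyₗ : Shrink.{u} (K ⟶ ω⟦-i⟧) →ₗ[A] _)
    ⟨GrothMatlis.applyₗ_injective hf _, GrothMatlis.duality_finite_surjective hf _⟩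
  let e' : (Shrink.{u} (K ⟶ ω⟦-i⟧) →ₗ[A] E) ≃ₗ[A] Dual2.HDI A (maximalIdeal A) K i :=
    LinearEquiv.arrowCongr σ (LinearEquiv.refl A E) ≪≫ₗ e.symm
  exact ⟨σ.symm ≪≫ₗ d ≪≫ₗ LinearEquiv.arrowCongr e' (LinearEquiv.refl A E)⟩

end Groth.DualCore
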