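import Groth.Agent.DualCore.LCIInvertible

/-!
The cohomology of `RHom_P(A, P)` at a prime of a quotient `A` of `P`, as `Ext` over the local ring of `P`.
-/

set_option autoImplicit false
set_option linter.style.haveILetI false

universe u

open CategoryTheory CategoryTheory.Limits DerivedCategory
open scoped TensorProduct

attribute [local instance] HasDerivedCategory.standard

namespace Groth.DualCore

variable {P A : Type u} [CommRing P] [CommRing A] [Algebra P A] [IsNoetherianRing P]
  (Rψ : Dual.D P ⥤ Dual.D A) (adj : DRing.restrictD (algebraMap P A) ⊣ Rψ)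

/-- The localized quotient is killed by the localized kernel. -/
theorem smul_eq_zero_of_mem_map_ker (S : Type u) [CommRing S] [Algebra P S] (a : S)
    (ha : a ∈ (RingHom.ker (algebraMap P A)).map (algebraMap P S)) (x : S ⊗[P] A) : a • x = 0 := by
  suffices h : (RingHom.ker (algebraMap P A)).map (algebraMap P S) ≤ Module.annihilator S (S ⊗[P] A) from
    Module.mem_annihilator.1 (h ha) x
  refine Ideal.map_le_iff_le_comap.2 fun b hb => Module.mem_annihilator.2 fun z => ?_
  rw [algebraMap_smul]
  induction z with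
  | zero => rw [smul_zero]
  | add u v hu hv => rw [smul_add, hu, hv, add_zero]
  | tmul s y =>
    rw [← TensorProduct.tmul_smul, Algebra.smul_def, RingHom.mem_ker.1 hb, zero_mul, TensorProduct.tmul_zero]

include adj in
/-- **`H^i(RHom_P(A, P))_q ≅ Ext^i_{P_q}(A_q, P_q)`.** -/
theorem nonempty_localization_HD_equiv (hsurj : Function.Surjective (algebraMap P A)) (q : Ideal A) [q.IsPrime]
    (i : ℤ) :
    Nonempty (Localization.AtPrime q ⊗[A] Dual.HD A (Rψ.obj (Dual.inD P P)) i ≃+
      (Dual.inD (Localization.AtPrime (q.comap (algebraMap P A)))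
          (Localization.AtPrime (q.comap (algebraMap P A)) ⊗[P] A) ⟶
        (Dual.inD (Localization.AtPrime (q.comap (algebraMap P A)))
          (Localization.AtPrime (q.comap (algebraMap P A))))⟦i⟧)) := by
  let q' := q.comap (algebraMap P A)
  let S := Localization.AtPrime q'
  let Aq := Localization.AtPrime q
  let W := Rψ.obj (Dual.inD P P)
  have hrep := represents_counit (φ := algebraMap P A) Rψ adj (Dual.inD P P)
  haveI : Module.Finite P A := Module.Finite.of_surjective (Algebra.linearMap P A) hsurj
  let uS : (extD P S).obj (Dual.inD P P) ≅ Dual.inD S S :=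
    extInD P ≪≫ (singleFunctor (ModuleCat.{u} S) 0).mapIso
      (TensorProduct.AlgebraTensorModule.rid P S S).toModuleIso
  letI : Module P (Dual.HD A W i) := Module.compHom _ (algebraMap P A)
  haveI : IsScalarTower P A (Dual.HD A W i) := IsScalarTower.of_algebraMap_smul fun _ _ => rfl
  let θ₀ : Dual.HD A W i ≃+ (Dual.inD P A ⟶ (Dual.inD P P)⟦i⟧) :=
    (homAEquiv W i).symm.toAddEquiv.trans (hrep.homInDEquiv A i)
  let θ : Dual.HD A W i ≃ₗ[P] (Dual.inD P A ⟶ (Dual.inD P P)⟦i⟧) :=
    θ₀.toLinearEquiv fun r x => by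
      show hrep.homInDEquiv A i ((homAEquiv W i).symm (algebraMap P A r • x)) = _
      rw [map_smul, hrep.homInDEquiv_smul]
      rfl
  let f₁ := (TensorProduct.mk A Aq (Dual.HD A W i) 1).restrictScalars P
  haveI : IsLocalizedModule q'.primeCompl f₁ := isLocalizedModule_restrict_surjective hsurj q _
  let f₂ := (TensorProduct.mk P S (Dual.inD P A ⟶ (Dual.inD P P)⟦i⟧) 1) ∘ₗ θ.toLinearMap
  haveI : IsLocalizedModule q'.primeCompl f₂ := IsLocalizedModule.of_linearEquiv_right _ _ _
  exact ⟨(IsLocalizedModule.linearEquiv q'.primeCompl f₁ f₂).toAddEquiv.trans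
    ((extHomInDEquiv (B := S) A (Dual.inD P P) 0 i).trans
      (Linear.homCongr S (Iso.refl _) ((shiftFunctor _ i).mapIso uS))).toAddEquiv⟩

end Groth.DualCore
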