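import Groth.Agent.DualCore.HullSystem
import Groth.Agent.DualCore.FiniteHomUnbounded
import Groth.Agent.LocCohBase.Torsion
import Groth.Agent.LocCohBase.Nonvanishing
import Mathlib.RingTheory.Ideal.AssociatedPrime.Finiteness

/-!
# Local duality for objects with finite cohomology
-/

set_option autoImplicit false

universe u

open scoped Pointwise
open CategoryTheory CategoryTheory.Limits CategoryTheory.Pretriangulated DerivedCategory IsLocalRing

attribute [local instance] HasDerivedCategory.standard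

namespace Groth.DualCore

variable {A : Type u} [CommRing A]

/-- `Hom(X⟦i⟧, Y⟦0⟧) ≅ Hom(X, Y⟦-i⟧)`. -/
noncomputable def homShiftLeft (X Y : Dual.D A) (i : ℤ) :
    (X⟦i⟧ ⟶ Y⟦(0 : ℤ)⟧) ≃ₗ[A] (X ⟶ Y⟦-i⟧) :=
  ((shiftHom X (Y⟦-i⟧) i).trans (Linear.homCongr A (Iso.refl (X⟦i⟧))
    ((shiftFunctorAdd' (Dual.D A) (-i) i 0 (neg_add_cancel i)).app Y).symm)).symm

lemma comp_sign_smul_id {X Y : Dual.D A} (f : X ⟶ Y) (e : ℤˣ) (y : A) :
    f ≫ (e • (y • 𝟙 Y)) = e • (y • f) := by
  rw [Linear.comp_units_smul, Linear.comp_smul, Category.comp_id]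

lemma sign_smul_id_comp {X Y : Dual.D A} (g : X ⟶ Y) (e : ℤˣ) (y : A) :
    (e • (y • 𝟙 X)) ≫ g = e • (y • g) := by
  rw [Linear.units_smul_comp, Linear.smul_comp, Category.id_comp]

variable [IsLocalRing A] [IsNoetherianRing A] {ω : Dual.D A}

omit [IsNoetherianRing A] in
/-- Maps out of `A/𝔪ᵏ` are killed by `𝔪ᵏ`. -/
lemma smul_eq_zero_of_mem_pow {Y : Dual.D A} {k : ℕ} {a : A} (ha : a ∈ maximalIdeal A ^ k)
    (f : Dual.inD A (Qk A k) ⟶ Y) : a • f = 0 := by
  have h0 : (a • LinearMap.id : Qk A k →ₗ[A] Qk A k) = 0 := LinearMap.ext fun y => by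
    obtain ⟨y, rfl⟩ := Submodule.Quotient.mk_surjective _ y
    show a • (Submodule.Quotient.mk y : Qk A k) = 0
    rw [← Submodule.Quotient.mk_smul, Submodule.Quotient.mk_eq_zero]
    exact Ideal.mul_mem_right y _ ha
  rw [← Category.id_comp f, ← Linear.smul_comp, ← inDmap_id, ← inDmap_smul, h0, inDmap_zero, zero_comp]

/-- A finite power torsion module has finite length. -/
lemma isFiniteLength_of_isPowerTorsion (N : Type u) [AddCommGroup N] [Module A N] [Module.Finite A N]
    (h : LocCoh.IsPowerTorsion (maximalIdeal A) N) : IsFiniteLength A N := by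
  classical
  obtain ⟨n, g, hg⟩ := Module.Finite.exists_fin' A N
  choose e he using fun j => h (g (Pi.single j 1))
  let K := Finset.univ.sup e
  have hker : ∀ j, maximalIdeal A ^ K ≤ LinearMap.ker (g ∘ₗ LinearMap.single A (fun _ : Fin n => A) j) := by
    intro j a ha
    rw [LinearMap.mem_ker, LinearMap.comp_apply, LinearMap.coe_single,
      show (Pi.single j a : Fin n → A) = a • Pi.single j 1 by
        rw [← Pi.single_smul, smul_eq_mul, mul_one], map_smul]
    exact he j a (Ideal.pow_le_pow_right (Finset.le_sup (Finset.mem_univ j)) ha)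
  let G : (Fin n → Qk A K) →ₗ[A] N :=
    ∑ j, Submodule.liftQ _ (g ∘ₗ LinearMap.single A (fun _ : Fin n => A) j) (hker j) ∘ₗ LinearMap.proj j
  have hG : Function.Surjective G := fun x => by
    obtain ⟨c, rfl⟩ := hg x
    refine ⟨fun j => Submodule.Quotient.mk (c j), ?_⟩
    rw [LinearMap.sum_apply]
    conv_rhs => rw [← Finset.univ_sum_single c, map_sum]
    exact Finset.sum_congr rfl fun j _ => rfl
  rw [isFiniteLength_iff_isNoetherian_isArtinian]
  obtain ⟨h1, h2⟩ := isFiniteLength_iff_isNoetherian_isArtinian.1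
    (GrothMatlis.isFiniteLength_quotient_pow (R := A) K)
  exact ⟨inferInstance, isArtinian_of_surjective _ G hG⟩

/-- `Hⁱ_𝔪(M) = 0` for `i` beyond the dimension, in terms of maps in `D(A)`. -/
lemma eventually_zero_of_supportDim_lt (M : Type u) [AddCommGroup M] [Module A M] [Module.Finite A M]
    {i : ℕ} (h : Module.supportDim A M < i) (k : ℕ)
    (f : Dual.inD A (Qk A k) ⟶ (Dual.inD A M)⟦(i : ℤ)⟧) :
    ∃ (l : ℕ) (hl : k ≤ l), inDmap (qmap hl) ≫ f = 0 := by
  haveI := Groth.LocCohBase.subsingleton_H_of_supportDim_lt (maximalIdeal A) M h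
  obtain ⟨α, rfl⟩ := (extDEquiv (Qk A k) M i).surjective f
  obtain ⟨l, hl, hz⟩ := (Groth.LocCohBase.ι_eq_zero_iff (I := maximalIdeal A) i (ModuleCat.of A M) α).1
    (Subsingleton.elim (α := LocCoh.H (maximalIdeal A) i M) _ _)
  refine ⟨l, hl, ?_⟩
  rw [← extDEquiv_precomp i (qmap hl) α]
  exact (congrArg (extDEquiv (Qk A l) M i) hz).trans (map_zero _)

namespace HullSys

variable (S : HullSys ω)

/-- Both properties. -/
def IsBij (Y : Dual.D A) : Prop := S.IsInj Y ∧ S.IsSurj Y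

variable {S}

lemma IsBij.of_iso {Y Y' : Dual.D A} (e : Y ≅ Y') (h : S.IsBij Y) : S.IsBij Y' :=
  ⟨h.1.of_iso e, h.2.of_iso e⟩

lemma isSurj_of_subsingleton (Y : Dual.D A) [Subsingleton (Y ⟶ ω⟦(0 : ℤ)⟧)] : S.IsSurj Y := fun φ =>
  ⟨0, 0, LinearMap.ext fun g => by rw [Subsingleton.elim g 0, map_zero, map_zero]⟩

lemma isInj_of_subsingleton (Y : Dual.D A) (h : ∀ k, Subsingleton (Dual.inD A (Qk A k) ⟶ Y)) :
    S.IsInj Y := fun k f _ => ⟨k, le_rfl, @Subsingleton.elim _ (h k) _ _⟩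

variable (hω : HasResidue ω)
include hω

/-- The residue field. -/
lemma isBij_residueField (i : ℤ) : S.IsBij ((Dual.inD A (ResidueField A))⟦i⟧) := by
  let κ := ResidueField A
  have hvan : i ≠ 0 → Subsingleton ((Dual.inD A κ)⟦i⟧ ⟶ ω⟦(0 : ℤ)⟧) := fun hi =>
    haveI := hω.vanish (-i) (neg_ne_zero.2 hi)
    (homShiftLeft (Dual.inD A κ) ω i).toEquiv.subsingleton
  rcases lt_trichotomy i 0 with hi | rfl | hi
  · haveI := hvan hi.ne
    exact ⟨isInj_of_subsingleton _ fun k => subsingleton_hom_inD_of_neg _ _ i hi,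
      isSurj_of_subsingleton _⟩
  · refine IsBij.of_iso ((shiftFunctorZero (Dual.D A) ℤ).app (Dual.inD A κ)).symm ?_
    obtain ⟨e₀⟩ := hω.equiv
    haveI : IsSimpleModule A κ := GrothMatlis.isSimpleModule_residueField A
    haveI : IsSimpleModule A (Dual.inD A κ ⟶ ω⟦(0 : ℤ)⟧) := IsSimpleModule.congr e₀
    haveI : Nontrivial (Dual.inD A κ ⟶ ω⟦(0 : ℤ)⟧) := e₀.toEquiv.nontrivial
    obtain ⟨g₀, hg₀⟩ := exists_ne (0 : Dual.inD A κ ⟶ ω⟦(0 : ℤ)⟧)
    refine ⟨fun k f hf => ⟨k, le_rfl, ?_⟩, fun φ => ?_⟩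
    · obtain ⟨q, hq⟩ := (singleFunctor (ModuleCat.{u} A) 0).map_surjective f
      have hf0 : f = inDmap q.hom := hq.symm
      by_contra hne
      have hq0 : LinearMap.range q.hom ≠ ⊥ := fun h0 => hne (by
        rw [hf0, LinearMap.range_eq_bot.1 h0, inDmap_zero, comp_zero])
      have hsurj : Function.Surjective q.hom := LinearMap.range_eq_top.1
        ((IsSimpleOrder.eq_bot_or_eq_top _).resolve_left hq0)
      refine hg₀ (map1_injective_of_surjective hω q.hom hsurj
        ((GrothMatlis.isFiniteLength_quotient_pow k).of_injective (f := (LinearMap.ker q.hom).subtype)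
          (Submodule.injective_subtype _)) ?_)
      rw [map_zero, map1_apply, ← hf0]
      exact S.inj k ((LinearMap.congr_fun hf g₀).trans (map_zero _).symm)
    · let q : Qk A 1 ≃ₗ[A] κ := Submodule.quotEquivOfEq _ _ (pow_one _)
      obtain ⟨eq⟩ := exists_torsion_equiv hω S.ι S.compat S.inj S.rep 1
      obtain ⟨l, w, hw⟩ := S.rep (φ g₀)
      obtain ⟨v, hv⟩ := exists_of_killed hω (le_max_left 1 l)
        (map1 ω 0 (qmap (le_max_right 1 l)) w) fun a ha => S.inj (max 1 l) (by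
          rw [map_smul, map_zero, S.compat, hw, ← map_smul]
          rw [show a • g₀ = 0 from ?_, map_zero]
          rw [pow_one] at ha
          apply e₀.injective
          rw [map_smul, map_zero]
          exact GrothMatlis.smul_residueField_eq_zero ha _)
      have hv' : S.ι 1 v = φ g₀ := by rw [← S.compat 1 _ (le_max_left 1 l) v, hv, S.compat, hw]
      let g₁ : Dual.inD A (Qk A 1) ⟶ ω⟦(0 : ℤ)⟧ := map1 ω 0 q.toLinearMap g₀
      have hg₁ : g₁ ≠ 0 := fun h0 => hg₀ (map1_injective_of_rightInverse ω 0 q.toLinearMap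
        q.symm.toLinearMap (LinearMap.ext q.apply_symm_apply) (h0.trans (map_zero _).symm))
      haveI : IsSimpleModule A (Dual.inD A (Qk A 1) ⟶ ω⟦(0 : ℤ)⟧) :=
        IsSimpleModule.congr ((Linear.homCongr A ((singleFunctor (ModuleCat.{u} A) 0).mapIso q.toModuleIso)
          (Iso.refl (ω⟦(0 : ℤ)⟧))).trans e₀)
      obtain ⟨c, hc⟩ := IsSimpleModule.toSpanSingleton_surjective A hg₁ v
      refine ⟨1, c • inDmap q.toLinearMap, LinearMap.ext fun g => ?_⟩
      obtain ⟨b, rfl⟩ := IsSimpleModule.toSpanSingleton_surjective A hg₀ g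
      rw [LinearMap.toSpanSingleton_apply, map_smul φ, LinearMap.map_smul]
      congr 1
      rw [← hv']
      show S.ι 1 ((c • inDmap q.toLinearMap) ≫ g₀) = _
      rw [Linear.smul_comp]
      exact congrArg (S.ι 1) hc
  · haveI := hvan hi.ne'
    obtain ⟨n, rfl⟩ := Int.eq_ofNat_of_zero_le hi.le
    refine ⟨fun k f _ => eventually_zero_of_supportDim_lt (ResidueField A) ?_ k f, isSurj_of_subsingleton _⟩
    rw [show Module.supportDim A (ResidueField A) = 0 from ?_]
    · exact_mod_cast hi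
    · refine (Module.supportDim_quotient_eq_ringKrullDim (maximalIdeal A)).trans ?_
      exact ringKrullDim_eq_zero_of_isField
        ((Ideal.Quotient.maximal_ideal_iff_isField_quotient _).1 inferInstance)

omit [IsNoetherianRing A] hω in
lemma shift_triangle_iso_one (X : Dual.D A) (i : ℤ) :
    Nonempty (X⟦i + 1⟧ ≅ X⟦i⟧⟦(1 : ℤ)⟧) :=
  ⟨(shiftFunctorAdd' (Dual.D A) i 1 _ rfl).app X⟩

/-- Surjectivity in a shifted short exact sequence. -/
lemma surj_of_ses (T : Triangle (Dual.D A)) (hT : T ∈ distTriang (Dual.D A)) (i : ℤ)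
    (h₁ : S.IsSurj (T.obj₁⟦i⟧)) (h₃ : S.IsSurj (T.obj₃⟦i⟧)) (h₄ : S.IsInj (T.obj₁⟦i + 1⟧)) :
    S.IsSurj (T.obj₂⟦i⟧) :=
  surj_of_triangle hω ((Triangle.shiftFunctor (Dual.D A) i).obj T)
    (Triangle.shift_distinguished T hT i) h₁ h₃
    (h₄.of_iso ((shiftFunctorAdd' (Dual.D A) i 1 _ rfl).app T.obj₁))

/-- Injectivity in a shifted short exact sequence. -/
lemma inj_of_ses (T : Triangle (Dual.D A)) (hT : T ∈ distTriang (Dual.D A)) (i : ℤ)
    (h₁ : S.IsInj (T.obj₁⟦i⟧)) (h₃ : S.IsInj (T.obj₃⟦i⟧)) (h₀ : S.IsSurj (T.obj₃⟦i - 1⟧)) :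
    S.IsInj (T.obj₂⟦i⟧) :=
  inj_of_triangle hω ((Triangle.shiftFunctor (Dual.D A) i).obj T)
    (Triangle.shift_distinguished T hT i) h₁ h₃
    (h₀.of_iso ((shiftFunctorAdd' (Dual.D A) i (-1) _ (by lia)).app T.obj₃))

/-- Modules of finite length. -/
lemma isBij_finiteLength {N : Type u} [AddCommGroup N] [Module A N] (hN : IsFiniteLength A N) :
    ∀ i : ℤ, S.IsBij ((Dual.inD A N)⟦i⟧) := by
  induction hN with
  | @of_subsingleton M _ _ _ =>
    intro i
    have h0 : IsZero ((Dual.inD A M)⟦i⟧) :=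
      (shiftFunctor (Dual.D A) i).map_isZero ((singleFunctor (ModuleCat.{u} A) 0).map_isZero
        (ModuleCat.isZero_of_subsingleton (ModuleCat.of A M)))
    haveI : Subsingleton ((Dual.inD A M)⟦i⟧ ⟶ ω⟦(0 : ℤ)⟧) := ⟨fun a b => h0.eq_of_src a b⟩
    exact ⟨isInj_of_subsingleton _ fun k => ⟨fun a b => h0.eq_of_tgt a b⟩, isSurj_of_subsingleton _⟩
  | @of_simple_quotient M _ _ N' _ _ ih =>
    intro i
    obtain ⟨e⟩ := nonempty_simple_equiv (A := A) (M ⧸ N')
    have hq : ∀ j : ℤ, S.IsBij ((Dual.inD A (M ⧸ N'))⟦j⟧) := fun j =>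
      (isBij_residueField hω j).of_iso ((shiftFunctor (Dual.D A) j).mapIso
        ((singleFunctor (ModuleCat.{u} A) 0).mapIso e.toModuleIso.symm))
    let hS := ses_shortExact N'.subtype N'.mkQ N'.injective_subtype N'.mkQ_surjective
      (LinearMap.exact_subtype_mkQ N')
    exact ⟨inj_of_ses hω _ hS.singleTriangle_distinguished i (ih i).1 (hq i).1 (hq (i - 1)).2,
      surj_of_ses hω _ hS.singleTriangle_distinguished i (ih i).2 (hq i).2 (ih (i + 1)).1⟩

variable (hfinω : ∀ i, Module.Finite A (Dual.HD A ω i)) (c : ℤ) [IsGE ω c]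
include hfinω c

/-- Finite modules. -/
lemma isBij_inD : ∀ (i : ℤ) (M : Type u) [AddCommGroup M] [Module A M] [Module.Finite A M],
    S.IsBij ((Dual.inD A M)⟦i⟧) := by
  suffices ∀ (n : ℕ) (M : Type u) [AddCommGroup M] [Module A M] [Module.Finite A M] (i : ℤ),
      i < (n : ℤ) → S.IsBij ((Dual.inD A M)⟦i⟧) from fun i M _ _ _ => this (i + 1).toNat M i (by lia)
  intro n
  induction n with
  | zero =>
    intro M _ _ _ i hi
    haveI := subsingleton_hom_of_pos ω c hfinω hω.isNormalized M (-i) (by lia)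
    haveI : Subsingleton ((Dual.inD A M)⟦i⟧ ⟶ ω⟦(0 : ℤ)⟧) :=
      (homShiftLeft (Dual.inD A M) ω i).toEquiv.subsingleton
    exact ⟨isInj_of_subsingleton _ fun k => subsingleton_hom_inD_of_neg _ _ i (by simpa using hi),
      isSurj_of_subsingleton _⟩
  | succ n ih =>
    intro M _ _ _ i hi
    -- split off the torsion
    let T := DRing.torsionSub (maximalIdeal A) M
    have hTfl : IsFiniteLength A T :=
      isFiniteLength_of_isPowerTorsion T (Groth.LocCohBase.isPowerTorsion_torsionSub _ M)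
    let Q := M ⧸ T
    suffices hQ : S.IsBij ((Dual.inD A Q)⟦i⟧) by
      let hS := ses_shortExact T.subtype T.mkQ T.injective_subtype T.mkQ_surjective
        (LinearMap.exact_subtype_mkQ T)
      exact ⟨inj_of_ses hω _ hS.singleTriangle_distinguished i (isBij_finiteLength hω hTfl i).1 hQ.1
          (ih Q (i - 1) (by lia)).2,
        surj_of_ses hω _ hS.singleTriangle_distinguished i (isBij_finiteLength hω hTfl i).2 hQ.2
          (isBij_finiteLength hω hTfl (i + 1)).1⟩
    have hQtor : DRing.torsionSub (maximalIdeal A) Q = ⊥ :=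
      Groth.LocCohBase.torsionSub_quotient_eq_bot (IsNoetherian.noetherian (maximalIdeal A)) M
    rcases subsingleton_or_nontrivial Q with hsub | hnt
    · exact isBij_finiteLength hω (IsFiniteLength.of_subsingleton) i
    -- a regular element
    obtain ⟨x, hxm, hxreg⟩ : ∃ x ∈ maximalIdeal A, IsSMulRegular Q x := by
      by_contra hcon
      push Not at hcon
      have hsub : (maximalIdeal A : Set A) ⊆ ⋃ p ∈ associatedPrimes A Q, (p : Set A) := by
        intro x hx
        rw [biUnion_associatedPrimes_eq_compl_regular]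
        exact hcon x hx
      obtain ⟨p, hp, hmp⟩ := (Ideal.subset_union_prime_finite (associatedPrimes.finite A Q)
        (⊤ : Ideal A) (⊤ : Ideal A) fun p hp _ _ => hp.isPrime).1 hsub
      obtain ⟨hpp, v, hv⟩ := (isAssociatedPrime_iff_exists_injective_linearMap p Q).1 hp
      have hpm : p = maximalIdeal A :=
        ((maximalIdeal.isMaximal A).eq_of_le hpp.ne_top hmp).symm
      have hmem : v (Submodule.Quotient.mk 1) ∈ DRing.torsionSub (maximalIdeal A) Q := ⟨1, fun a ha => by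
        rw [← map_smul, ← Submodule.Quotient.mk_smul, smul_eq_mul, mul_one,
          (Submodule.Quotient.mk_eq_zero p).2 (by rw [hpm]; simpa using ha), map_zero]⟩
      rw [hQtor, Submodule.mem_bot, ← map_zero v] at hmem
      exact hpp.ne_top ((Ideal.eq_top_iff_one p).2 ((Submodule.Quotient.mk_eq_zero p).1 (hv hmem)))
    -- the sequence of multiplication by a regular element
    have step : ∀ y : A, IsSMulRegular Q y →
        (∀ k (f : Dual.inD A (Qk A k) ⟶ (Dual.inD A Q)⟦i⟧), S.pair _ k f = 0 → y • f = 0 →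
          ∃ (l : ℕ) (hl : k ≤ l), inDmap (qmap hl) ≫ f = 0) ∧
        (∀ φ : ((Dual.inD A Q)⟦i⟧ ⟶ ω⟦(0 : ℤ)⟧) →ₗ[A] S.X, y • φ = 0 → ∃ k f, S.pair _ k f = φ) := by
      intro y hy
      let N := QuotSMulTop y Q
      let hS := ses_shortExact (y • LinearMap.id : Q →ₗ[A] Q) (Submodule.mkQ (y • ⊤ : Submodule A Q))
        (smul_injective hy) (Submodule.mkQ_surjective _) (smul_exact Q y)
      let T₁ := ((Triangle.shiftFunctor (Dual.D A) i).obj hS.singleTriangle).invRotate
      have hT₁ : T₁ ∈ distTriang (Dual.D A) :=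
        inv_rot_of_distTriang _ (Triangle.shift_distinguished _ hS.singleTriangle_distinguished i)
      have hN : S.IsBij T₁.obj₁ :=
        (ih N (i - 1) (by lia)).of_iso ((shiftFunctorAdd' (Dual.D A) i (-1) (i - 1) (by lia)).app
          (Dual.inD A N))
      have hQ' : S.IsSurj (T₁.obj₃⟦(-1 : ℤ)⟧) :=
        (ih Q (i - 1) (by lia)).2.of_iso ((shiftFunctorAdd' (Dual.D A) i (-1) (i - 1) (by lia)).app
          (Dual.inD A Q))
      have hmor : T₁.mor₂ = Int.negOnePow i • (y • 𝟙 ((Dual.inD A Q)⟦i⟧)) := by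
        show Int.negOnePow i • (inDmap (y • LinearMap.id : Q →ₗ[A] Q))⟦i⟧' = _
        rw [inDmap_smul, inDmap_id, Functor.map_smul, CategoryTheory.Functor.map_id]
      refine ⟨fun k f hf hyf => inj_of_ker hω T₁ hT₁ hN.1 hQ' k f hf ?_, fun φ hφ =>
        surj_of_ker hω T₁ hT₁ hN.2 φ fun g => ?_⟩
      · rw [hmor]
        exact (comp_sign_smul_id f _ y).trans ((congrArg (fun z => Int.negOnePow i • z) hyf).trans (smul_zero _))
      · rw [hmor]
        refine (congrArg φ (sign_smul_id_comp g _ y)).trans ?_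
        refine (congrArg φ (Units.smul_def _ _)).trans ((map_zsmul φ _ _).trans ?_)
        refine (congrArg (fun z => ((Int.negOnePow i : ℤˣ) : ℤ) • z) ((map_smul φ y g).trans ?_)).trans (smul_zero _)
        exact LinearMap.congr_fun hφ g
    refine ⟨fun k f hf => (step (x ^ k) (hxreg.pow k)).1 k f hf
      (smul_eq_zero_of_mem_pow (Ideal.pow_mem_pow hxm k) f), fun φ => ?_⟩
    obtain ⟨k, hk⟩ : ∃ k, ∀ a ∈ maximalIdeal A ^ k, a • φ = 0 := by
      haveI : Module.Finite A ((Dual.inD A Q)⟦i⟧ ⟶ ω⟦(0 : ℤ)⟧) := by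
        haveI := finite_hom ω c hfinω (-i) Q
        exact Module.Finite.equiv (homShiftLeft (Dual.inD A Q) ω i).symm
      obtain ⟨ψ, hψ⟩ := S.exists_hull hω
      obtain ⟨s, hs⟩ := Module.Finite.fg_top (R := A) (M := (Dual.inD A Q)⟦i⟧ ⟶ ω⟦(0 : ℤ)⟧)
      choose e he using fun g => isPowerTorsion_of_system hω S.ι S.compat S.rep (φ g)
      refine ⟨s.sup e, fun a ha => LinearMap.ext_on hs fun g hg => ?_⟩
      exact he g a (Ideal.pow_le_pow_right (Finset.le_sup hg) ha)
    exact (step (x ^ k) (hxreg.pow k)).2 φ (hk _ (Ideal.pow_mem_pow hxm k))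

end HullSys

end Groth.DualCore
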