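import Groth.Agent.DualCore.LocalPairing
import Groth.Agent.DualCore.Representing

/-!
# Local duality for all objects with finite cohomology
-/

set_option autoImplicit false

universe u

open CategoryTheory CategoryTheory.Limits CategoryTheory.Pretriangulated DerivedCategory IsLocalRing

attribute [local instance] HasDerivedCategory.standard

namespace Groth.DualCore

variable {A : Type u} [CommRing A]

/-- Truncation of an object with finite cohomology. -/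
lemma exists_truncation [IsNoetherianRing A] (Y : Dual.D A) (p q : ℤ) (h : p + 1 = q) :
    ∃ T : Triangle (Dual.D A), T ∈ distTriang (Dual.D A) ∧ IsLE T.obj₁ p ∧ IsGE T.obj₃ q ∧
      T.obj₂ = Y ∧ (∀ b, IsLE Y b → p ≤ b → IsLE T.obj₃ b) ∧
      ((∀ i, Module.Finite A (Dual.HD A Y i)) →
        (∀ i, Module.Finite A (Dual.HD A T.obj₁ i)) ∧ ∀ i, Module.Finite A (Dual.HD A T.obj₃ i)) := by
  let t := (TStructure.t : Triangulated.TStructure (Dual.D A))
  let T := (t.triangleLEGE p q h).obj Y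
  have hT : T ∈ distTriang (Dual.D A) := t.triangleLEGE_distinguished p q h Y
  haveI h1 : IsLE T.obj₁ p := inferInstanceAs (t.IsLE ((t.truncLE p).obj Y) p)
  haveI h3 : IsGE T.obj₃ q := inferInstanceAs (t.IsGE ((t.truncGE q).obj Y) q)
  refine ⟨T, hT, h1, h3, rfl, fun b hb hpb => ?_, fun hfin => ⟨fun i => ?_, fun i => ?_⟩⟩
  · rw [isLE_iff]
    intro i hi
    exact (HomologySequence.exact₃ T hT i (i + 1) rfl).isZero_X₂
      ((isZero_of_isLE Y b i hi).eq_of_src _ _)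
      ((isZero_of_isLE T.obj₁ p (i + 1) (by lia)).eq_of_tgt _ _)
  · rcases le_or_gt i p with hi | hi
    · haveI : Mono ((homologyFunctor (ModuleCat.{u} A) i).map T.mor₁) :=
        (HomologySequence.mono_homologyMap_mor₁_iff T hT (i - 1) i (by lia)).2
          ((isZero_of_isGE T.obj₃ q (i - 1) (by lia)).eq_of_src _ _)
      haveI : Module.Finite A (Dual.HD A T.obj₂ i) := hfin i
      exact Module.Finite.of_injective ((homologyFunctor (ModuleCat.{u} A) i).map T.mor₁).hom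
        ((ModuleCat.mono_iff_injective _).1 inferInstance)
    · haveI : Subsingleton (Dual.HD A T.obj₁ i) :=
        ModuleCat.isZero_iff_subsingleton.1 (isZero_of_isLE T.obj₁ p i hi)
      exact Module.Finite.of_finite
  · rcases le_or_gt q i with hi | hi
    · haveI : Epi ((homologyFunctor (ModuleCat.{u} A) i).map T.mor₂) :=
        (HomologySequence.epi_homologyMap_mor₂_iff T hT i (i + 1) rfl).2
          ((isZero_of_isLE T.obj₁ p (i + 1) (by lia)).eq_of_tgt _ _)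
      haveI : Module.Finite A (Dual.HD A T.obj₂ i) := hfin i
      exact Module.Finite.of_surjective ((homologyFunctor (ModuleCat.{u} A) i).map T.mor₂).hom
        ((ModuleCat.epi_iff_surjective _).1 inferInstance)
    · haveI : Subsingleton (Dual.HD A T.obj₃ i) :=
        ModuleCat.isZero_iff_subsingleton.1 (isZero_of_isGE T.obj₃ q i hi)
      exact Module.Finite.of_finite

lemma factor_step (T : Triangle (Dual.D A)) (hT : T ∈ distTriang (Dual.D A)) {X Y W : Dual.D A}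
    (c : W ≅ T.obj₁⟦(1 : ℤ)⟧) (ξ : X ⟶ T.obj₃) (g : T.obj₃ ⟶ Y) (h0 : T.mor₂ ≫ g = 0) :
    ∃ (ξ' : X ⟶ W) (g' : W ⟶ Y), ξ' ≫ g' = ξ ≫ g := by
  obtain ⟨g', hg'⟩ := T.yoneda_exact₃ hT g h0
  exact ⟨ξ ≫ T.mor₃ ≫ c.inv, c.hom ≫ g', by simp [hg']⟩

lemma ses_step {M N P : Type u} [AddCommGroup M] [Module A M] [AddCommGroup N] [Module A N]
    [AddCommGroup P] [Module A P] (f : M →ₗ[A] N) (g : N →ₗ[A] P) (hf : Function.Injective f)
    (hg : Function.Surjective g) (hex : Function.Exact f g) (j j' : ℤ) (hj : j + 1 = j')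
    {X Y : Dual.D A} (ξ : X ⟶ (Dual.inD A P)⟦j⟧) (φ : (Dual.inD A P)⟦j⟧ ⟶ Y)
    (h0 : (inDmap g)⟦j⟧' ≫ φ = 0) :
    ∃ (ξ' : X ⟶ (Dual.inD A M)⟦j'⟧) (φ' : (Dual.inD A M)⟦j'⟧ ⟶ Y), ξ' ≫ φ' = ξ ≫ φ := by
  let T := (Triangle.shiftFunctor (Dual.D A) j).obj (ses_shortExact f g hf hg hex).singleTriangle
  have hT : T ∈ distTriang (Dual.D A) := Triangle.shift_distinguished _
    (ses_shortExact f g hf hg hex).singleTriangle_distinguished _
  have h0' : T.mor₂ ≫ φ = 0 := by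
    show (j.negOnePow • (inDmap g)⟦j⟧') ≫ φ = 0
    rw [Linear.units_smul_comp, h0, smul_zero]
  exact factor_step (X := X) (Y := Y) (W := (Dual.inD A M)⟦j'⟧) T hT
    ((shiftFunctorAdd' (Dual.D A) j 1 j' hj).app (Dual.inD A M)) ξ φ h0'

variable [IsLocalRing A] [IsNoetherianRing A] {ω : Dual.D A}

/-- Maps from `A/𝔪ᵏ` into an object in very low degrees die in the limit. -/
lemma eventually_zero_of_isLE (r : ℕ) (hr : ringKrullDim A = r) (Y : Dual.D A) (p : ℤ) [IsLE Y p]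
    (hp : p < -((r + 1 : ℕ) : ℤ)) : ∀ (n : ℕ) (j : ℕ), r + 1 ≤ j + n → j ≤ r + 1 →
      ∀ (N : Type u) [AddCommGroup N] [Module A N] [Module.Finite A N] (k : ℕ)
        (ξ : Dual.inD A (Qk A k) ⟶ (Dual.inD A N)⟦(j : ℤ)⟧) (g : (Dual.inD A N)⟦(j : ℤ)⟧ ⟶ Y),
        ∃ (l : ℕ) (hl : k ≤ l), inDmap (qmap hl) ≫ ξ ≫ g = 0 := by
  intro n
  induction n with
  | zero =>
    intro j hj hj' N _ _ _ k ξ g
    obtain ⟨l, hl, h⟩ := eventually_zero_of_supportDim_lt N
      (lt_of_le_of_lt ((Module.supportDim_le_ringKrullDim A N).trans hr.le)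
        (by exact_mod_cast (show r < j by omega))) k ξ
    exact ⟨l, hl, by rw [← Category.assoc, h, zero_comp]⟩
  | succ n ih =>
    intro j hj hj' N _ _ _ k ξ g
    rcases eq_or_lt_of_le hj' with rfl | hlt
    · exact ih (r + 1) (by omega) le_rfl N k ξ g
    obtain ⟨m, π, hπ, hex⟩ := exists_ses (A := A) N
    haveI : Subsingleton ((Dual.inD A (Fin m → A))⟦(j : ℤ)⟧ ⟶ Y⟦(0 : ℤ)⟧) := by
      haveI : Subsingleton (Dual.inD A (Fin m → A) ⟶ Y⟦-(j : ℤ)⟧) := by
        haveI : Subsingleton (Dual.inD A A ⟶ Y⟦-(j : ℤ)⟧) := by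
          haveI : Subsingleton (Dual.HD A Y (-(j : ℤ))) :=
            ModuleCat.isZero_iff_subsingleton.1 (isZero_of_isLE Y p _ (by omega))
          exact (homAEquiv Y (-(j : ℤ))).toEquiv.subsingleton
        exact subsingleton_of_forall_eq 0 fun u => pi_hom_ext A Y _ u fun _ => Subsingleton.elim _ _
      exact (homShiftLeft (Dual.inD A (Fin m → A)) Y (j : ℤ)).toEquiv.subsingleton
    have h0 : (inDmap π)⟦(j : ℤ)⟧' ≫ g = 0 := by
      rw [← cancel_mono ((shiftFunctorZero (Dual.D A) ℤ).inv.app Y), zero_comp]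
      exact Subsingleton.elim (α := (Dual.inD A (Fin m → A))⟦(j : ℤ)⟧ ⟶ Y⟦(0 : ℤ)⟧) _ _
    obtain ⟨ξ', g', he⟩ := ses_step (LinearMap.ker π).subtype π (Submodule.subtype_injective _) hπ hex
      (j : ℤ) ((j + 1 : ℕ) : ℤ) (by push_cast; rfl) ξ g h0
    have h1 := ih (j + 1) (by omega) (by omega) (LinearMap.ker π)
    have h2 := h1 k ξ'
    have h3 := h2 g'
    obtain ⟨l, hl, h⟩ := h3
    rw [he] at h
    exact ⟨l, hl, h⟩

namespace HullSys

variable {S : HullSys ω} (hω : HasResidue ω) (hfinω : ∀ i, Module.Finite A (Dual.HD A ω i)) (c : ℤ)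
  [IsGE ω c]

/-- Objects in very low degrees. -/
lemma isBij_of_isLE (Y : Dual.D A) (p : ℤ) [IsLE Y p] (r : ℕ) (hr : ringKrullDim A = r)
    (hp : p < -((r + 1 : ℕ) : ℤ)) (hpc : p < c) : S.IsBij Y := by
  haveI : IsGE (ω⟦(0 : ℤ)⟧) c := TStructure.t.isGE_shift ω c 0 c
  haveI : Subsingleton (Y ⟶ ω⟦(0 : ℤ)⟧) :=
    ⟨fun x y => (TStructure.t.zero x p c).trans (TStructure.t.zero y p c).symm⟩
  refine ⟨fun k f _ => ?_, isSurj_of_subsingleton _⟩
  let z := (shiftFunctorZero (Dual.D A) ℤ).app (Dual.inD A (Qk A k))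
  obtain ⟨l, hl, h⟩ := eventually_zero_of_isLE r hr Y p hp (r + 1) 0 (by omega) (by omega) (Qk A k) k
    z.inv (z.hom ≫ f)
  exact ⟨l, hl, by rwa [z.inv_hom_id_assoc] at h⟩

/-- Objects in high degrees. -/
lemma isBij_of_isGE (rep : InjRep ω) (Y : Dual.D A) (q : ℤ) [IsGE Y q] (hq : 0 < q) (hqb : rep.b < q) :
    S.IsBij Y := by
  haveI := rep.subsingleton_hom_of_isGE Y q 0 (by simpa using hqb)
  exact ⟨isInj_of_subsingleton _ fun k =>
    ⟨fun x y => (TStructure.t.zero x 0 q).trans (TStructure.t.zero y 0 q).symm⟩, isSurj_of_subsingleton _⟩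

include hω hfinω c in
/-- Bounded objects with finite cohomology. -/
lemma isBij_of_bounded (Y : Dual.D A) (a b : ℤ) [IsGE Y a] [IsLE Y b]
    (hfin : ∀ i, Module.Finite A (Dual.HD A Y i)) : S.IsBij Y := by
  suffices ∀ i : ℤ, S.IsBij (Y⟦i⟧) from
    (this 0).of_iso ((shiftFunctorZero (Dual.D A) ℤ).app Y)
  refine devissage (fun X => ∀ i : ℤ, S.IsBij (X⟦i⟧))
    (fun e h i => (h i).of_iso ((shiftFunctor (Dual.D A) i).mapIso e))
    (fun X hX i => ?_)
    (fun T hT h₁ h₃ i => ⟨inj_of_ses hω T hT i (h₁ i).1 (h₃ i).1 (h₃ (i - 1)).2,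
      surj_of_ses hω T hT i (h₁ i).2 (h₃ i).2 (h₁ (i + 1)).1⟩) a
    (fun M _ _ _ n _ i => ?_) Y b hfin
  · have h0 : IsZero (X⟦i⟧) := (shiftFunctor (Dual.D A) i).map_isZero hX
    haveI : Subsingleton (X⟦i⟧ ⟶ ω⟦(0 : ℤ)⟧) := ⟨fun a b => h0.eq_of_src a b⟩
    exact ⟨isInj_of_subsingleton _ fun k => ⟨fun a b => h0.eq_of_tgt a b⟩, isSurj_of_subsingleton _⟩
  · exact (isBij_inD hω hfinω c (i - n) M).of_iso
      ((shiftFunctor (Dual.D A) (i - n)).mapIso (singleShiftIso M n).symm ≪≫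
        ((shiftFunctorAdd' (Dual.D A) n (i - n) i (by lia)).app _).symm)

include hω hfinω c in
/-- **Local duality.** -/
theorem isBij (rep : InjRep ω) (Y : Dual.D A) (hfin : ∀ i, Module.Finite A (Dual.HD A Y i)) :
    S.IsBij Y := by
  obtain ⟨r, hr⟩ := exists_supportDim_eq A A
  rw [Module.supportDim_self_eq_ringKrullDim] at hr
  let p : ℤ := min (-((r + 1 : ℕ) : ℤ)) c - 2
  let q : ℤ := max 0 rep.b + 2
  obtain ⟨T, hT, hle, hge, hY, -, hf⟩ := exists_truncation Y p (p + 1) rfl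
  obtain ⟨hf₁, hf₃⟩ := hf hfin
  have hlow : ∀ X : Dual.D A, IsLE X p → S.IsBij X ∧ S.IsBij (X⟦(1 : ℤ)⟧) := fun X hX => by
    refine ⟨isBij_of_isLE c X p r hr (by omega) (by omega), ?_⟩
    haveI : IsLE (X⟦(1 : ℤ)⟧) (p - 1) := TStructure.t.isLE_shift X p 1 (p - 1)
    exact isBij_of_isLE c _ (p - 1) r hr (by omega) (by omega)
  have hmid : ∀ X : Dual.D A, IsGE X (p + 1) → (∀ i, Module.Finite A (Dual.HD A X i)) →
      S.IsBij X := fun X hX hXfin => by
    obtain ⟨T', hT', hle', hge', hX', -, hf'⟩ := exists_truncation X q (q + 1) rfl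
    obtain ⟨hf₁', hf₃'⟩ := hf' hXfin
    haveI : IsGE T'.obj₂ (p + 1) := by rw [hX']; exact hX
    haveI : IsGE T'.obj₁ (p + 1) := by
      rw [isGE_iff]
      intro i hi
      haveI : Mono ((homologyFunctor (ModuleCat.{u} A) i).map T'.mor₁) :=
        (HomologySequence.mono_homologyMap_mor₁_iff T' hT' (i - 1) i (by lia)).2
          ((isZero_of_isGE T'.obj₃ (q + 1) (i - 1) (by omega)).eq_of_src _ _)
      exact IsZero.of_mono ((homologyFunctor (ModuleCat.{u} A) i).map T'.mor₁)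
        (isZero_of_isGE T'.obj₂ (p + 1) i hi)
    haveI : IsGE (T'.obj₁⟦(1 : ℤ)⟧) p := TStructure.t.isGE_shift T'.obj₁ (p + 1) 1 p
    haveI : IsLE (T'.obj₁⟦(1 : ℤ)⟧) (q - 1) := TStructure.t.isLE_shift T'.obj₁ q 1 (q - 1)
    have hfs : ∀ i, Module.Finite A (Dual.HD A (T'.obj₁⟦(1 : ℤ)⟧) i) := fun i =>
      haveI := hf₁' (1 + i)
      Module.Finite.equiv (HDShiftEquiv T'.obj₁ 1 i (1 + i) rfl).symm
    haveI : IsGE (T'.obj₃⟦(-1 : ℤ)⟧) (q + 2) := TStructure.t.isGE_shift T'.obj₃ (q + 1) (-1) (q + 2)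
    have h₁ := isBij_of_bounded hω hfinω c T'.obj₁ (p + 1) q hf₁' (S := S)
    have h₃ := isBij_of_isGE rep T'.obj₃ (q + 1) (by omega) (by omega) (S := S)
    rw [← hX']
    exact ⟨inj_of_triangle hω T' hT' h₁.1 h₃.1
        (isBij_of_isGE rep (T'.obj₃⟦(-1 : ℤ)⟧) (q + 2) (by omega) (by omega)).2,
      surj_of_triangle hω T' hT' h₁.2 h₃.2 (isBij_of_bounded hω hfinω c _ p (q - 1) hfs).1⟩
  haveI : IsGE (T.obj₃⟦(-1 : ℤ)⟧) (p + 1) := by
    haveI := TStructure.t.isGE_shift T.obj₃ (p + 1) (-1) (p + 2)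
    exact TStructure.t.isGE_of_ge _ (p + 1) (p + 2) (by lia)
  rw [← hY]
  exact ⟨inj_of_triangle hω T hT (hlow _ hle).1.1 (hmid _ hge hf₃).1
      (hmid _ inferInstance fun i =>
        haveI := hf₃ (-1 + i)
        Module.Finite.equiv (HDShiftEquiv T.obj₃ (-1) i (-1 + i) rfl).symm).2,
    surj_of_triangle hω T hT (hlow _ hle).1.2 (hmid _ hge hf₃).2 (hlow _ hle).2.1⟩

end HullSys

end Groth.DualCore
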