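import Groth.Agent.DualCore.EpiFlat
import Mathlib.AlgebraicGeometry.Morphisms.Flat
import Mathlib.Algebra.Category.Ring.Epi
import Mathlib.RingTheory.TensorProduct.MvPolynomial

/-!
The upper shriek of an affine open immersion is the base change.
-/

set_option autoImplicit false

universe u

open CategoryTheory AlgebraicGeometry TensorProduct

attribute [local instance] HasDerivedCategory.standard
attribute [local instance] MvPolynomial.algebraMvPolynomial

namespace Groth.DualCore

variable {R R' : Type u} [CommRing R] [CommRing R'] [Algebra R R'] (n : ℕ)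

lemma isEpi_mvPolynomial [Algebra.IsEpi R R'] :
    Algebra.IsEpi (MvPolynomial (Fin n) R) (MvPolynomial (Fin n) R') := by
  rw [Algebra.isEpi_iff_forall_one_tmul_eq]
  let f : R' ⊗[R] R' →ₗ[R] MvPolynomial (Fin n) R' ⊗[MvPolynomial (Fin n) R] MvPolynomial (Fin n) R' :=
    TensorProduct.mapOfCompatibleSMul (MvPolynomial (Fin n) R) R R _ _ ∘ₗ
      TensorProduct.map (IsScalarTower.toAlgHom R R' (MvPolynomial (Fin n) R')).toLinearMap
        (IsScalarTower.toAlgHom R R' (MvPolynomial (Fin n) R')).toLinearMap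
  intro s
  induction s using MvPolynomial.induction_on with
  | C r => exact congrArg f ((Algebra.isEpi_iff_forall_one_tmul_eq R R').1 inferInstance r)
  | add a b ha hb => rw [TensorProduct.tmul_add, TensorProduct.add_tmul, ha, hb]
  | mul_X a i ha =>
    have hX : (MvPolynomial.X i : MvPolynomial (Fin n) R') =
        algebraMap (MvPolynomial (Fin n) R) (MvPolynomial (Fin n) R') (MvPolynomial.X i) :=
      (MvPolynomial.map_X _ i).symm
    rw [mul_comm, hX, ← Algebra.smul_def, TensorProduct.tmul_smul, ha, TensorProduct.smul_tmul']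

lemma nontrivial_residue_tensor (p : PrimeSpectrum (MvPolynomial (Fin n) R))
    (hp : PrimeSpectrum.comap (algebraMap R (MvPolynomial (Fin n) R)) p ∈
      Set.range (PrimeSpectrum.comap (algebraMap R R'))) :
    Nontrivial (p.asIdeal.ResidueField ⊗[R] R') := by
  let pR := PrimeSpectrum.comap (algebraMap R (MvPolynomial (Fin n) R)) p
  haveI := (PrimeSpectrum.nontrivial_iff_mem_rangeComap (S := R') pR).2 hp
  letI : Algebra pR.asIdeal.ResidueField p.asIdeal.ResidueField :=
    (Ideal.ResidueField.map pR.asIdeal p.asIdeal (algebraMap R (MvPolynomial (Fin n) R)) rfl).toAlgebra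
  haveI : IsScalarTower R pR.asIdeal.ResidueField p.asIdeal.ResidueField := by
    refine IsScalarTower.of_algebraMap_eq fun r => ?_
    rw [RingHom.algebraMap_toAlgebra, IsScalarTower.algebraMap_apply R (MvPolynomial (Fin n) R)
      p.asIdeal.ResidueField]
    exact (Ideal.ResidueField.map_algebraMap ..).symm
  exact (TensorProduct.AlgebraTensorModule.cancelBaseChange R pR.asIdeal.ResidueField pR.asIdeal.ResidueField
    p.asIdeal.ResidueField R').symm.toEquiv.nontrivial

lemma killsTorsion [Module.Flat (MvPolynomial (Fin n) R) (MvPolynomial (Fin n) R')]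
    {a : MvPolynomial (Fin n) R}
    (ha : ∀ p : PrimeSpectrum (MvPolynomial (Fin n) R), PrimeSpectrum.comap (algebraMap R (MvPolynomial (Fin n) R)) p ∉
      Set.range (PrimeSpectrum.comap (algebraMap R R')) → a ∈ p.asIdeal) :
    KillsTorsion (MvPolynomial (Fin n) R') a := by
  intro M _ _ hM m
  let I := LinearMap.ker (LinearMap.toSpanSingleton (MvPolynomial (Fin n) R) M m)
  suffices a ∈ Ideal.radical I by
    obtain ⟨k, hk⟩ := this
    exact ⟨k, hk⟩
  rw [Ideal.radical_eq_sInf, Submodule.mem_sInf]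
  rintro P ⟨hIP, hP⟩
  haveI : Ideal.IsPrime P := hP
  refine ha ⟨P, hP⟩ fun hmem => ?_
  have hsub : Subsingleton (MvPolynomial (Fin n) R' ⊗[MvPolynomial (Fin n) R] (MvPolynomial (Fin n) R ⧸ I)) :=
    (Module.Flat.lTensor_preserves_injective_linearMap (M := MvPolynomial (Fin n) R')
      (I.liftQ (LinearMap.toSpanSingleton _ M m) le_rfl)
      (LinearMap.ker_eq_bot.1 (Submodule.ker_liftQ_eq_bot _ _ _ le_rfl))).subsingleton
  haveI := nontrivial_residue_tensor n ⟨P, hP⟩ hmem
  let g : MvPolynomial (Fin n) R' →+* (Ideal.ResidueField P) ⊗[R] R' :=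
    MvPolynomial.eval₂Hom (Algebra.TensorProduct.includeRight : R' →ₐ[R] _).toRingHom
      (fun i => algebraMap (MvPolynomial (Fin n) R) (Ideal.ResidueField P) (MvPolynomial.X i) ⊗ₜ 1)
  have hg : ∀ q, g (algebraMap _ _ q) = algebraMap (MvPolynomial (Fin n) R) (Ideal.ResidueField P) q ⊗ₜ (1 : R') := by
    intro q
    refine RingHom.congr_fun (f := g.comp (algebraMap _ _))
      (g := (Algebra.TensorProduct.includeLeftRingHom.comp (algebraMap _ (Ideal.ResidueField P)))) ?_ q
    refine MvPolynomial.ringHom_ext (fun r => ?_) fun i => ?_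
    · show g (MvPolynomial.map (algebraMap R R') (MvPolynomial.C r)) = _
      rw [MvPolynomial.map_C, MvPolynomial.eval₂Hom_C]
      show (1 : (Ideal.ResidueField P)) ⊗ₜ[R] algebraMap R R' r =
        algebraMap (MvPolynomial (Fin n) R) (Ideal.ResidueField P) (algebraMap R _ r) ⊗ₜ[R] (1 : R')
      rw [← IsScalarTower.algebraMap_apply]
      exact (Algebra.TensorProduct.tmul_one_eq_one_tmul r).symm
    · show g (MvPolynomial.map (algebraMap R R') (MvPolynomial.X i)) = _
      rw [MvPolynomial.map_X, MvPolynomial.eval₂Hom_X']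
      rfl
  let gA : MvPolynomial (Fin n) R' →ₐ[MvPolynomial (Fin n) R] (Ideal.ResidueField P) ⊗[R] R' :=
    { g with commutes' := hg }
  let hA : (MvPolynomial (Fin n) R ⧸ I) →ₐ[MvPolynomial (Fin n) R] (Ideal.ResidueField P) ⊗[R] R' :=
    Ideal.Quotient.liftₐ I (Algebra.ofId _ _) fun q hq => by
      show algebraMap (MvPolynomial (Fin n) R) (Ideal.ResidueField P) q ⊗ₜ[R] (1 : R') = 0
      rw [Ideal.algebraMap_residueField_eq_zero.2 (hIP hq), TensorProduct.zero_tmul]
  have h01 : (1 : (Ideal.ResidueField P) ⊗[R] R') = 0 := by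
    have := congrArg (Algebra.TensorProduct.lift gA hA fun _ _ => Commute.all _ _)
      (Subsingleton.elim (h := hsub) 1 0)
    rwa [map_one, map_zero] at this
  exact one_ne_zero h01

/-- The universal property of the base change, through any presentation. -/
theorem nonempty_homIso_openImmersion (hopen : IsOpenImmersion (Spec.map (CommRingCat.ofHom (algebraMap R R'))))
    (ψ : MvPolynomial (Fin n) R →ₐ[R] R') (hψ : Function.Surjective ψ) [Module.Flat R R'] (K : Dual.D R) :
    Nonempty (HomIso (DRing.restrictD ψ.toRingHom) (((extD R (MvPolynomial (Fin n) R)).obj K)⟦(n : ℤ)⟧)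
      (𝟭 (Dual.D R')) ((extD R R').obj K)) := by
  haveI : Algebra.IsEpi R R' := CommRingCat.epi_iff_epi.1 (by
    haveI : Mono (Spec.map (CommRingCat.ofHom (algebraMap R R'))) := inferInstance
    haveI : Mono (CommRingCat.ofHom (algebraMap R R')).op := Scheme.Spec.mono_of_mono_map this
    exact unop_epi_of_mono (CommRingCat.ofHom (algebraMap R R')).op)
  haveI : Module.Flat (MvPolynomial (Fin n) R) (MvPolynomial (Fin n) R') :=
    Module.Flat.isBaseChange R (MvPolynomial (Fin n) R) R' (MvPolynomial (Fin n) R')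
      (Algebra.IsPushout.out (R := R) (S := MvPolynomial (Fin n) R) (R' := R') (S' := MvPolynomial (Fin n) R'))
  haveI := isEpi_mvPolynomial (R := R) (R' := R') n
  let U := Set.range (PrimeSpectrum.comap (algebraMap R R'))
  have hU : IsOpen U := hopen.base_open.isOpen_range
  let Z := PrimeSpectrum.comap (algebraMap R (MvPolynomial (Fin n) R)) ⁻¹' Uᶜ
  have hZ : IsClosed Z := hU.isClosed_compl.preimage
    (PrimeSpectrum.continuous_comap _)
  obtain ⟨a, ha, k, hk, hak⟩ : ∃ a ∈ PrimeSpectrum.vanishingIdeal Z, ∃ k ∈ RingHom.ker ψ.toRingHom, a + k = 1 := by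
    rw [← Submodule.mem_sup]
    by_contra h
    obtain ⟨P, hPm, hP⟩ := Ideal.exists_le_maximal (PrimeSpectrum.vanishingIdeal Z ⊔ RingHom.ker ψ.toRingHom) (fun e => h (by rw [e]; exact Submodule.mem_top))
    have hPZ : (⟨P, hPm.isPrime⟩ : PrimeSpectrum _) ∈ Z := by
      rw [← hZ.closure_eq, ← PrimeSpectrum.zeroLocus_vanishingIdeal_eq_closure]
      exact le_sup_left.trans hP
    obtain ⟨q, hq⟩ : (⟨P, hPm.isPrime⟩ : PrimeSpectrum _) ∈ Set.range (PrimeSpectrum.comap ψ.toRingHom) := by
      rw [range_comap_of_surjective _ ψ.toRingHom hψ]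
      exact le_sup_right.trans hP
    refine hPZ ⟨q, ?_⟩
    rw [← hq]
    have e : ψ.toRingHom.comp (algebraMap R (MvPolynomial (Fin n) R)) = algebraMap R R' := ψ.comp_algebraMap
    rw [← e, PrimeSpectrum.comap_comp_apply]
  let χ : MvPolynomial (Fin n) R' →ₐ[R'] R' := MvPolynomial.aeval fun i => ψ (MvPolynomial.X i)
  have hχ : ψ.toRingHom = χ.toRingHom.comp (algebraMap (MvPolynomial (Fin n) R) (MvPolynomial (Fin n) R')) := by
    refine MvPolynomial.ringHom_ext (fun r => ?_) fun i => ?_
    · show ψ (MvPolynomial.C r) = χ (MvPolynomial.map (algebraMap R R') (MvPolynomial.C r))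
      rw [MvPolynomial.map_C, MvPolynomial.aeval_C]
      exact ψ.commutes r
    · show ψ (MvPolynomial.X i) = χ (MvPolynomial.map (algebraMap R R') (MvPolynomial.X i))
      rw [MvPolynomial.map_X, MvPolynomial.aeval_X]
  haveI : Module.Flat R (MvPolynomial (Fin n) R') := Module.Flat.trans R R' (MvPolynomial (Fin n) R')
  obtain ⟨e1⟩ := nonempty_homIso_epi χ.toRingHom ψ.toRingHom hχ
    (killsTorsion (R := R) (R' := R') n fun p hp => (PrimeSpectrum.mem_vanishingIdeal _ _).1 ha p hp)
    (by
      have h1 := congrArg ψ hak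
      rw [map_add, map_one, show ψ k = 0 from hk, add_zero] at h1
      exact h1)
    (((extD R (MvPolynomial (Fin n) R)).obj K)⟦(n : ℤ)⟧)
  obtain ⟨e2⟩ := nonempty_homIso n AlgEquiv.refl χ.toRingHom (RingHom.id R')
    (RingHom.ext fun r => (χ.commutes r).symm) (fun i => RingHom.isIntegralElem_map (RingHom.id R'))
    ((extD R R').obj K)
  exact ⟨(e1.trans (HomIso.congr (Iso.refl _)
    (((extD (MvPolynomial (Fin n) R) (MvPolynomial (Fin n) R')).commShiftIso (n : ℤ)).app _ ≪≫
      (shiftFunctor _ (n : ℤ)).mapIso ((extDComp R (MvPolynomial (Fin n) R) (MvPolynomial (Fin n) R')).app K ≪≫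
        ((extDComp R R' (MvPolynomial (Fin n) R')).app K).symm)))).trans
    (e2.symm.trans (HomIso.congr (restrictDId _ rfl) (Iso.refl _)))⟩

end Groth.DualCore
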