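import Groth.Agent.DualCore.TenLinear
import Groth.Agent.DualCore.ShriekTorBC
import Groth.Agent.S1783
import Groth.Agent.S1782
import Groth.Agent.S7073
import Groth.Agent.S7100
import Groth.Agent.Gorenstein.BaseChange
import Groth.Agent.DualCore.Regular
import Groth.Agent.DTenCalc.Surjective
import Groth.Agent.DAlg.TorAmpRestrict
import Groth.Agent.DAlg.FlatFPModulePC

/-!
The relative dualizing complex `RHom_P(A, P)` of a perfect quotient `A` of `P`.
-/

set_option autoImplicit false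
set_option linter.style.haveILetI false

universe u

open CategoryTheory CategoryTheory.Limits MonoidalCategory DTen
open Groth.DAlg.KFlatMod (IsKFlatCx)
open Groth.DTenCalc

attribute [local instance] HasDerivedCategory.standard

namespace Groth.DualCore

/-- An algebra of endomorphisms which is free of rank one is spanned by the identity. -/
theorem bijective_smul_id {A : Type u} [CommRing A] {M : Type*} [AddCommGroup M] [Module A M]
    (e : M ≃ₗ[A] A) (comp : M → M → M) (one : M) (hone : ∀ x, comp x one = x)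
    (hsmul : ∀ (a : A) (x y : M), comp x (a • y) = a • comp x y) :
    Function.Bijective fun a : A => a • one := by
  let g := e.symm 1
  have hg : ∀ x, x = e x • g := fun x => e.injective (by simp [g])
  have key : e one * e (comp g g) = 1 := by
    have h1 : g = comp g (e one • g) := by rw [← hg one, hone]
    rw [hsmul] at h1
    have := congrArg e h1
    simpa [g, map_smul] using this.symm
  refine ⟨fun a b hab => ?_, fun x => ⟨e x * e (comp g g), e.injective ?_⟩⟩
  · have := congrArg e hab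
    simp only [map_smul, smul_eq_mul] at this
    calc a = a * (e one * e (comp g g)) := by rw [key, mul_one]
      _ = b * (e one * e (comp g g)) := by rw [← mul_assoc, this, mul_assoc]
      _ = b := by rw [key, mul_one]
  · rw [map_smul, smul_eq_mul, mul_assoc, mul_comm (e (comp g g)), key, mul_one]

section Core

variable {P A : Type u} [CommRing P] [CommRing A] [Algebra P A]
  (Rψ : Dual.D P ⥤ Dual.D A) (adj : DRing.restrictD (algebraMap P A) ⊣ Rψ)

include adj in
/-- `RHom_P(A, P)` restricted to `P` is the dual of a resolution of `A`, and its endomorphisms are `A`. -/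
theorem relDual_core (hsurj : Function.Surjective (algebraMap P A))
    (hN : DRing.IsPerfect P (algD (algebraMap P A))) :
    (∃ (D : DRing.Cx P) (a b : ℤ), DRing.VanishesOutside D a b ∧ DRing.TermwiseFiniteProjective D ∧
        Nonempty (DerivedCategory.Q.obj D ≅ (DRing.restrictD (algebraMap P A)).obj (Rψ.obj (DTen.unit P)))) ∧
      Function.Bijective (fun a : A => a • 𝟙 (Rψ.obj (DTen.unit P))) ∧
      ∀ i : ℤ, i ≠ 0 → Subsingleton (Rψ.obj (DTen.unit P) ⟶ (Rψ.obj (DTen.unit P))⟦i⟧) := by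
  let φ := algebraMap P A
  haveI : DTen.HasRHomRel φ := ⟨adj.isLeftAdjoint⟩
  haveI := hasLBase φ
  haveI := hasLTen (A := P)
  haveI := hasLTen (A := A)
  haveI := hasResTen φ
  haveI := resLegIso φ
  haveI := hasLTen₃ (A := P)
  haveI := isSymMonoidal (A := P)
  obtain ⟨E, D, hED, hE, hD, ⟨eN⟩, a₀, b₀, hv, hp⟩ := exists_dual hN
  obtain ⟨i₀⟩ := nonempty_restrict_RHomRel_unit_iso φ E D hE hD eN
  let ω₀ := Rψ.obj (DTen.unit P)
  let i₁ : DerivedCategory.Q.obj D ≅ (DRing.restrictD φ).obj ω₀ :=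
    i₀.symm ≪≫ (DRing.restrictD φ).mapIso ((adj.rightAdjointUniq (DTen.relAdj φ)).app _).symm
  refine ⟨⟨D, a₀, b₀, hv, hp, ⟨i₁⟩⟩, ?_⟩
  let _ : SymmetricCategory (DRing.Cx P) := symmetricCx
  let _ : ExactPairing D E := BraidedCategory.exactPairing_swap E D
  -- maps out of the dual
  let D' := DerivedCategory.Q.obj D
  let E' := DerivedCategory.Q.obj E
  haveI := isIso_unitL_app (A := P) D'
  let uP : Dual.inD P P ≅ DTen.unit P := (DerivedCategory.singleFunctorIsoCompQ (ModuleCat.{u} P) 0).app _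
  obtain ⟨eA⟩ := nonempty_algD_iso (R := P) (S := A)
  have homs : ∀ i : ℤ, Nonempty ((D' ⟶ (DTen.unit P)⟦i⟧) ≃ₗ[P] Dual.HD P ((Dual.inD P A)⟦i⟧) 0) := fun i => by
    let T : DRing.Cx P := (𝟙_ (DRing.Cx P))⟦i⟧
    haveI := isIso_cmp_right T hE
    let j : ten (DerivedCategory.Q.obj T) E' ≅ (Dual.inD P A)⟦i⟧ :=
      asIso (DTenCalc.cmp T E) ≪≫
        DerivedCategory.Q.mapIso (CochainComplex.mapBifunctorShift₁Iso (𝟙_ (DRing.Cx P)) E
          (curriedTensor (ModuleCat.{u} P)) i ≪≫
          (shiftFunctor (DRing.Cx P) i).mapIso (λ_ E)) ≪≫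
        (DerivedCategory.Q.commShiftIso i).app E ≪≫
        (shiftFunctor (Dual.D P) i).mapIso (eN ≪≫ eA)
    exact ⟨(Linear.homCongr P (asIso ((unitL P).app D')).symm ((DerivedCategory.Q.commShiftIso i).app _).symm).trans
      ((adjRLinearEquiv D E hD hE (DTen.unit P) (DerivedCategory.Q.obj T)).trans
        ((Linear.homCongr P uP.symm j).trans
          (LinearEquiv.ofBijective (evalOne _) (evalOne_bijective _))))⟩
  have hrep := represents_counit (φ := φ) Rψ adj (DTen.unit P)
  have hom : ∀ i : ℤ, Nonempty { f : (ω₀ ⟶ ω₀⟦i⟧) ≃+ Dual.HD P ((Dual.inD P A)⟦i⟧) 0 //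
      ∀ (p : P) (g : ω₀ ⟶ ω₀⟦i⟧), f (φ p • g) = p • f g } := fun i => by
    obtain ⟨h⟩ := homs i
    let c := Linear.homCongr P i₁.symm (Iso.refl ((DTen.unit P)⟦i⟧))
    refine ⟨⟨(hrep.homEquiv ω₀ i).trans (c.trans h).toAddEquiv, fun p g => ?_⟩⟩
    show (c.trans h) (Θ φ _ ω₀ i (φ p • g)) = p • (c.trans h) (Θ φ _ ω₀ i g)
    rw [Θ_smul, map_smul]
  refine ⟨?_, fun i hi => ?_⟩
  · obtain ⟨f, hf⟩ := hom 0
    let c₀ : (ω₀ ⟶ ω₀) ≃+ (ω₀ ⟶ ω₀⟦(0 : ℤ)⟧) :=
      (Linear.homCongr A (Iso.refl ω₀) ((shiftFunctorZero (Dual.D A) ℤ).app ω₀).symm).toAddEquiv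
    let t : Dual.HD P ((Dual.inD P A)⟦(0 : ℤ)⟧) 0 ≃ₗ[P] A :=
      (HDShiftEquiv (Dual.inD P A) 0 0 0 (add_zero 0)).trans (HDinDEquiv A)
    let e₀ : (ω₀ ⟶ ω₀) ≃+ A := (c₀.trans f).trans t.toAddEquiv
    have he : ∀ (a : A) (g : ω₀ ⟶ ω₀), e₀ (a • g) = a • e₀ g := fun a g => by
      obtain ⟨p, rfl⟩ := hsurj a
      have h1 : c₀ (φ p • g) = φ p • c₀ g :=
        map_smul (Linear.homCongr A (Iso.refl ω₀) ((shiftFunctorZero (Dual.D A) ℤ).app ω₀).symm) _ g
      show t (f (c₀ (φ p • g))) = φ p • t (f (c₀ g))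
      rw [h1, hf, map_smul, ← algebraMap_smul A p (t (f (c₀ g)))]
    let e : (ω₀ ⟶ ω₀) ≃ₗ[A] A := { e₀ with map_smul' := he }
    exact bijective_smul_id e (fun x y => x ≫ y) (𝟙 ω₀) (fun x => Category.comp_id x)
      fun a x y => Linear.comp_smul _ _ _ x a y
  · obtain ⟨f, -⟩ := hom i
    haveI := subsingleton_HD_inD (A := P) A i hi
    haveI : Subsingleton (Dual.HD P ((Dual.inD P A)⟦i⟧) 0) :=
      (HDShiftEquiv (Dual.inD P A) i 0 i (add_zero i)).toEquiv.subsingleton
    exact f.toEquiv.subsingleton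

end Core

/-- `LBase` of the unit is the unit. -/
theorem nonempty_LBaseChange_inD {R S : Type u} [CommRing R] [CommRing S] (φ : R →+* S) [DRing.HasLBaseChange φ] :
    Nonempty ((DRing.LBaseChange φ).obj (Dual.inD R R) ≅ Dual.inD S S) := by
  haveI := hasLBase φ
  let uR : Dual.inD R R ≅ DTen.unit R := (DerivedCategory.singleFunctorIsoCompQ (ModuleCat.{u} R) 0).app _
  let uS : Dual.inD S S ≅ DTen.unit S := (DerivedCategory.singleFunctorIsoCompQ (ModuleCat.{u} S) 0).app _
  have := hasLTen (A := R)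
  have := hasLTen (A := S)
  have := hasResTen φ
  have := resLegIso φ
  have := isIso_bc φ (isKFlat_unit (A := R))
  have := Ext.isIso_eta φ
  exact ⟨(DRing.LBaseChange φ).mapIso uR ≪≫
    (Adjunction.leftAdjointUniq (DAlg.lBaseChangeAdj φ) (DTen.baseAdj φ)).app _ ≪≫
    asIso (bc φ (𝟙_ (DRing.Cx R))) ≪≫ DerivedCategory.Q.mapIso (asIso (Ext.eta φ)) ≪≫ uS.symm⟩

section ShriekFP

variable {R A : Type u} [CommRing R] [CommRing A] [Algebra R A] [Algebra.FinitePresentation R A]
  [Module.Flat R A] {n : ℕ} (ψ : MvPolynomial (Fin n) R →ₐ[R] A) (hψ : Function.Surjective ψ)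
  [DRing.HasLBaseChange (algebraMap R (MvPolynomial (Fin n) R))]
  (Rψ : Dual.D (MvPolynomial (Fin n) R) ⥤ Dual.D A) (adj : DRing.restrictD ψ.toRingHom ⊣ Rψ)

include hψ adj in
/-- The shriek of `R` is perfect relative to `R`. -/
theorem isRelPerfect_shriek_self_fp : Dual2.IsRelPerfect R A (Dual2.shriekVia n Rψ (Dual.inD R R)) := by
  let P := MvPolynomial (Fin n) R
  letI : Algebra P A := ψ.toRingHom.toAlgebra
  haveI : IsScalarTower R P A := IsScalarTower.of_algebraMap_eq fun r => (ψ.commutes r).symm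
  obtain ⟨u⟩ := nonempty_LBaseChange_inD (algebraMap R P)
  let uP : Dual.inD P P ≅ DTen.unit P := (DerivedCategory.singleFunctorIsoCompQ (ModuleCat.{u} P) 0).app _
  obtain ⟨⟨D, a, b, hv, hp, ⟨i⟩⟩, -⟩ := relDual_core (P := P) (A := A) Rψ adj hψ (isPerfect_algD ψ hψ)
  let ω₀ := Rψ.obj (DTen.unit P)
  let e : ω₀⟦(n : ℤ)⟧ ≅ Dual2.shriekVia n Rψ (Dual.inD R R) :=
    (shiftFunctor _ (n : ℤ)).mapIso (Rψ.mapIso (u ≪≫ uP).symm)
  have hperf : DRing.IsPerfect P ((DRing.restrictD (algebraMap P A)).obj (Dual2.shriekVia n Rψ (Dual.inD R R))) :=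
    DAlg.IsPerfect.of_iso (DAlg.IsPerfect.shift ⟨D, a, b, hv, hp, ⟨i⟩⟩ (n : ℤ))
      (((DRing.restrictD (algebraMap P A)).commShiftIso (n : ℤ)).symm.app ω₀ ≪≫
        (DRing.restrictD (algebraMap P A)).mapIso e)
  refine ⟨((Groth.Agent.S7100.result R P A hψ _).1).2 (DAlg.IsPerfect.isPseudoCoherent' hperf), ?_⟩
  obtain ⟨a', b', hab⟩ := (Groth.Agent.S7073.result R P _ hperf).2
  exact ⟨a', b', DAlg.TorAmp.of_iso hab ((restrictDComp (algebraMap R P) (algebraMap P A) (algebraMap R A)
    (IsScalarTower.algebraMap_eq R P A)).app _).symm⟩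

include hψ adj in
/-- The endomorphisms of the shriek of `R`. -/
theorem bijective_smul_id_shriek_self_fp :
    Function.Bijective (fun a : A => a • 𝟙 (Dual2.shriekVia n Rψ (Dual.inD R R))) ∧
      ∀ i : ℤ, i ≠ 0 →
        Subsingleton (Dual2.shriekVia n Rψ (Dual.inD R R) ⟶ (Dual2.shriekVia n Rψ (Dual.inD R R))⟦i⟧) := by
  let P := MvPolynomial (Fin n) R
  letI : Algebra P A := ψ.toRingHom.toAlgebra
  obtain ⟨u⟩ := nonempty_LBaseChange_inD (algebraMap R P)
  let uP : Dual.inD P P ≅ DTen.unit P := (DerivedCategory.singleFunctorIsoCompQ (ModuleCat.{u} P) 0).app _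
  obtain ⟨-, hb, hs⟩ := relDual_core (P := P) (A := A) Rψ adj hψ (isPerfect_algD ψ hψ)
  let ω₀ := Rψ.obj (DTen.unit P)
  let ω := Dual2.shriekVia n Rψ (Dual.inD R R)
  let F := shiftFunctor (Dual.D A) (n : ℤ)
  let e : F.obj ω₀ ≅ ω := F.mapIso (Rψ.mapIso (u ≪≫ uP).symm)
  refine ⟨?_, fun i hi => ?_⟩
  · let c : (ω₀ ⟶ ω₀) → (ω ⟶ ω) := fun f => e.inv ≫ F.map f ≫ e.hom
    have hc : Function.Bijective c := ((Iso.homCongr e e).bijective).comp ⟨F.map_injective, F.map_surjective⟩
    have he : (fun a : A => a • 𝟙 ω) = c ∘ fun a : A => a • 𝟙 ω₀ := by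
      funext a
      simp only [c, Function.comp_apply, Functor.map_smul, CategoryTheory.Functor.map_id, Linear.smul_comp,
        Category.id_comp, Linear.comp_smul, e.inv_hom_id]
    rw [he]
    exact hc.comp hb
  · haveI := hs i hi
    let e' : F.obj (ω₀⟦i⟧) ≅ ω⟦i⟧ := shiftComm ω₀ i (n : ℤ) ≪≫ (shiftFunctor _ i).mapIso e
    exact (Function.Surjective.subsingleton
      (((Iso.homCongr e e').surjective).comp (fun f => F.map_surjective f) :
        Function.Surjective (fun f : ω₀ ⟶ ω₀⟦i⟧ => Iso.homCongr e e' (F.map f))))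

end ShriekFP

section Shriek

variable {R A : Type u} [CommRing R] [CommRing A] [IsNoetherianRing R] [Algebra R A]
  [Module.Flat R A] {n : ℕ} (ψ : MvPolynomial (Fin n) R →ₐ[R] A) (hψ : Function.Surjective ψ)
  [DRing.HasLBaseChange (algebraMap R (MvPolynomial (Fin n) R))]
  (Rψ : Dual.D (MvPolynomial (Fin n) R) ⥤ Dual.D A) (adj : DRing.restrictD ψ.toRingHom ⊣ Rψ)

include hψ in
/-- Algebras of finite type over a Noetherian ring are of finite presentation. -/
theorem finitePresentation_of_presentation : Algebra.FinitePresentation R A :=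
  haveI : Algebra.FiniteType R A := Algebra.FiniteType.of_surjective ψ hψ
  Algebra.FinitePresentation.of_finiteType.1 inferInstance

include hψ adj in
/-- The shriek of `R` is perfect relative to `R`. -/
theorem isRelPerfect_shriek_self : Dual2.IsRelPerfect R A (Dual2.shriekVia n Rψ (Dual.inD R R)) :=
  haveI := finitePresentation_of_presentation ψ hψ
  isRelPerfect_shriek_self_fp ψ hψ Rψ adj

include hψ adj in
/-- The endomorphisms of the shriek of `R`. -/
theorem bijective_smul_id_shriek_self :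
    Function.Bijective (fun a : A => a • 𝟙 (Dual2.shriekVia n Rψ (Dual.inD R R))) ∧
      ∀ i : ℤ, i ≠ 0 →
        Subsingleton (Dual2.shriekVia n Rψ (Dual.inD R R) ⟶ (Dual2.shriekVia n Rψ (Dual.inD R R))⟦i⟧) :=
  haveI := finitePresentation_of_presentation ψ hψ
  bijective_smul_id_shriek_self_fp ψ hψ Rψ adj

include hψ adj in
/-- The base change of the shriek of `R` to a field is dualizing. -/
theorem isDualizing_baseChange_field (k : Type u) [Field k] [Algebra R k]
    [DRing.HasLBaseChange (Algebra.TensorProduct.includeRight : A →ₐ[R] TensorProduct R k A).toRingHom] :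
    Dual.IsDualizing (TensorProduct R k A)
      ((DRing.LBaseChange (Algebra.TensorProduct.includeRight : A →ₐ[R] TensorProduct R k A).toRingHom).obj
        (Dual2.shriekVia n Rψ (Dual.inD R R))) := by
  letI : Algebra A (TensorProduct R k A) := Algebra.TensorProduct.rightAlgebra
  haveI : DRing.HasLBaseChange (algebraMap A (TensorProduct R k A)) :=
    ‹DRing.HasLBaseChange (Algebra.TensorProduct.includeRight : A →ₐ[R] TensorProduct R k A).toRingHom›
  haveI : Algebra.FiniteType R A := Algebra.FiniteType.of_surjective ψ hψ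
  haveI : IsNoetherianRing (TensorProduct R k A) := Algebra.FiniteType.isNoetherianRing k _
  obtain ⟨m, ψ', hψ'⟩ := Algebra.FiniteType.iff_quotient_mvPolynomial''.1
    (inferInstance : Algebra.FiniteType k (TensorProduct R k A))
  haveI : DRing.HasLBaseChange (algebraMap k (MvPolynomial (Fin m) k)) := DAlg.hasLBaseChange _
  haveI : DRing.HasLBaseChange (algebraMap R k) := DAlg.hasLBaseChange _
  haveI := isLeftAdjoint_restrictD ψ'.toRingHom
  let R' := (DRing.restrictD ψ'.toRingHom).rightAdjoint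
  let adj' : DRing.restrictD ψ'.toRingHom ⊣ R' := Adjunction.ofIsLeftAdjoint _
  obtain ⟨e⟩ := nonempty_shriek_baseChange_of_flat_source R k A n ψ hψ Rψ adj m ψ' hψ' R' adj' (Dual.inD R R)
  obtain ⟨d, hd⟩ := GrothGoren.exists_injLT_of_regular _ k le_rfl
  have h := Groth.Agent.S1782.result k (TensorProduct R k A) m ψ' hψ' R' adj' _
    (isDualizing_of_iso (nonempty_LBaseChange_inD (algebraMap R k)).some.symm (isDualizing_inD_of_injLT hd))
  exact isDualizing_of_iso e.symm h

end Shriek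

/-- Universal property after a further restriction. -/
def HomIso.precomp {B C D E : Type*} [Category.{u + 1} B] [Category.{u + 1} C] [Category.{u + 1} D]
    [Category.{u + 1} E] {F : C ⥤ D} {L : D} {F' : C ⥤ E} {L' : E} (h : HomIso F L F' L') (G : B ⥤ C) :
    HomIso (G ⋙ F) L (G ⋙ F') L' where
  equiv Z := h.equiv (G.obj Z)
  natural g v := h.natural (G.map g) v

/-- An adjunction, after a further restriction. -/
def HomIso.ofAdjComp {B C D : Type*} [Category.{u + 1} B] [Category.{u + 1} C] [Category.{u + 1} D]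
    (G : B ⥤ C) {F : C ⥤ D} {S : D ⥤ C} (adj : F ⊣ S) (L : D) : HomIso G (S.obj L) (G ⋙ F) L where
  equiv Z := (adj.homEquiv _ L).symm
  natural g v := adj.homEquiv_naturality_left_symm (G.map g) v

open scoped TensorProduct in
/-- The shriek of `R` is a relative dualizing complex. -/
theorem nonempty_RHom_diagonal_fp {R A : Type u} [CommRing R] [CommRing A] [Algebra R A]
    [Algebra.FinitePresentation R A] [Module.Flat R A] {n : ℕ} (ψ : MvPolynomial (Fin n) R →ₐ[R] A) (hψ : Function.Surjective ψ)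
    [DRing.HasLBaseChange (algebraMap R (MvPolynomial (Fin n) R))]
    (Rψ : Dual.D (MvPolynomial (Fin n) R) ⥤ Dual.D A) (adj : DRing.restrictD ψ.toRingHom ⊣ Rψ)
    [DRing.HasLBaseChange (Algebra.TensorProduct.includeLeftRingHom : A →+* A ⊗[R] A)]
    (Rμ : Dual.D (A ⊗[R] A) ⥤ Dual.D A)
    (adjμ : DRing.restrictD (Algebra.TensorProduct.lmul' R (S := A)).toRingHom ⊣ Rμ) :
    Nonempty (Rμ.obj ((DRing.LBaseChange (Algebra.TensorProduct.includeLeftRingHom : A →+* A ⊗[R] A)).obj
      (Dual2.shriekVia n Rψ (Dual.inD R R))) ≅ Dual.inD A A) := by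
  let μ := (Algebra.TensorProduct.lmul' R (S := A)).toRingHom
  let left : A →+* A ⊗[R] A := Algebra.TensorProduct.includeLeftRingHom
  let right : A →+* A ⊗[R] A := (Algebra.TensorProduct.includeRight : A →ₐ[R] A ⊗[R] A).toRingHom
  let e : (A ⊗[R] A) ≃+* (A ⊗[R] A) := (Algebra.TensorProduct.comm R A A).toRingEquiv
  haveI : DRing.HasLBaseChange right := DAlg.hasLBaseChange _
  haveI : DRing.HasLBaseChange (algebraMap R A) := DAlg.hasLBaseChange _
  let ψ₂ : MvPolynomial (Fin n) A →ₐ[A] A ⊗[R] A :=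
    MvPolynomial.aeval fun i => (1 : A) ⊗ₜ[R] ψ (MvPolynomial.X i)
  have hψ₂ : Function.Surjective ψ₂ := fun z => by
    induction z using TensorProduct.induction_on with
    | zero => exact ⟨0, map_zero ψ₂⟩
    | tmul r a =>
      obtain ⟨p, rfl⟩ := hψ a
      refine ⟨MvPolynomial.C r * MvPolynomial.map (algebraMap R A) p, ?_⟩
      have hp : ψ₂ (MvPolynomial.map (algebraMap R A) p) = (1 : A) ⊗ₜ[R] ψ p := by
        induction p using MvPolynomial.induction_on with
        | C c =>
          rw [MvPolynomial.map_C, MvPolynomial.aeval_C,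
            show ψ (MvPolynomial.C c) = algebraMap R A c from ψ.commutes c]
          exact Algebra.TensorProduct.tmul_one_eq_one_tmul c
        | add p q hp hq => rw [map_add, map_add, map_add, hp, hq, TensorProduct.tmul_add]
        | mul_X p i hp =>
          rw [map_mul, map_mul, hp, MvPolynomial.map_X, MvPolynomial.aeval_X, map_mul,
            Algebra.TensorProduct.tmul_mul_tmul, one_mul]
      rw [map_mul, hp, MvPolynomial.aeval_C]
      show (r ⊗ₜ[R] (1 : A)) * ((1 : A) ⊗ₜ[R] ψ p) = r ⊗ₜ[R] ψ p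
      rw [Algebra.TensorProduct.tmul_mul_tmul, mul_one, one_mul]
    | add a b ha hb =>
      obtain ⟨p, hp⟩ := ha
      obtain ⟨q, hq⟩ := hb
      exact ⟨p + q, by rw [map_add, hp, hq]⟩
  haveI : DRing.HasLBaseChange (algebraMap A (MvPolynomial (Fin n) A)) := DAlg.hasLBaseChange _
  haveI := isLeftAdjoint_restrictD ψ₂.toRingHom
  let R₂ := (DRing.restrictD ψ₂.toRingHom).rightAdjoint
  let adj₂ : DRing.restrictD ψ₂.toRingHom ⊣ R₂ := Adjunction.ofIsLeftAdjoint _
  let ω := Dual2.shriekVia n Rψ (Dual.inD R R)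
  have hbc : Nonempty ((DRing.LBaseChange right).obj ω ≅
      Dual2.shriekVia n R₂ ((DRing.LBaseChange (algebraMap R A)).obj (Dual.inD R R))) := by
    letI : Algebra A (A ⊗[R] A) := Algebra.TensorProduct.rightAlgebra
    exact nonempty_shriek_baseChange_of_flat_fp R A A n ψ hψ Rψ adj n ψ₂ hψ₂ R₂ adj₂ (Dual.inD R R)
  obtain ⟨bc⟩ := hbc
  have hle : left = (e : A ⊗[R] A →+* A ⊗[R] A).comp right := RingHom.ext fun a => rfl
  have hμe : μ = μ.comp (e : A ⊗[R] A →+* A ⊗[R] A) := by
    have : (Algebra.TensorProduct.lmul' R (S := A)) =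
        (Algebra.TensorProduct.lmul' R (S := A)).comp (Algebra.TensorProduct.comm R A A).toAlgHom :=
      Algebra.TensorProduct.ext' fun a b => mul_comm a b
    exact congrArg AlgHom.toRingHom this
  let jl : DRing.LBaseChange left ≅ DRing.LBaseChange right ⋙ DRing.restrictD (e.symm : A ⊗[R] A →+* A ⊗[R] A) :=
    Adjunction.leftAdjointUniq (DAlg.lBaseChangeAdj left)
      (((DAlg.lBaseChangeAdj right).comp (restrictDEquiv e).symm.toAdjunction).ofNatIsoRight
        (restrictDComp right (e : A ⊗[R] A →+* A ⊗[R] A) left hle).symm)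
  let K' := (DRing.LBaseChange (algebraMap R A)).obj (Dual.inD R R)
  let X := (DRing.LBaseChange right).obj ω
  let b₁ := (HomIso.congr (Iso.refl (𝟭 (Dual.D A))) (Rμ.mapIso (jl.app ω))).trans (HomIso.ofAdj adjμ _)
  let b₂ := (HomIso.ofAdjComp (DRing.restrictD μ) (restrictDEquiv e).toAdjunction X).trans
    (HomIso.congr (restrictDComp (e : A ⊗[R] A →+* A ⊗[R] A) μ μ hμe).symm bc)
  obtain ⟨s⟩ := nonempty_shriekHomIso n adj₂ K'
  let b₃ := (HomIso.congr (Functor.rightUnitor _).symm (Iso.refl _)).trans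
    ((s.precomp (DRing.restrictD μ)).trans
      (HomIso.congr (restrictDComp ψ₂.toRingHom μ (μ.comp ψ₂.toRingHom) rfl).symm (Iso.refl _)))
  obtain ⟨b₄⟩ := nonempty_homIso n AlgEquiv.refl (μ.comp ψ₂.toRingHom) (algebraMap A A)
    (RingHom.ext fun r => by
      show r = μ (ψ₂ (MvPolynomial.C r))
      rw [MvPolynomial.aeval_C]
      show r = Algebra.TensorProduct.lmul' R (S := A) (r ⊗ₜ[R] (1 : A))
      rw [Algebra.TensorProduct.lmul'_apply_tmul, mul_one]) (fun i => Algebra.IsIntegral.isIntegral _) K'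
  obtain ⟨u⟩ := nonempty_LBaseChange_inD (algebraMap R A)
  exact (b₁.trans (b₂.trans (b₃.trans (b₄.symm.trans (HomIso.congr (restrictDId _ rfl) u))))).nonempty_iso

open scoped TensorProduct in
/-- The shriek of a Noetherian `R` is a relative dualizing complex. -/
theorem nonempty_RHom_diagonal {R A : Type u} [CommRing R] [CommRing A] [IsNoetherianRing R]
    [Algebra R A] [Module.Flat R A] {n : ℕ} (ψ : MvPolynomial (Fin n) R →ₐ[R] A) (hψ : Function.Surjective ψ)
    [DRing.HasLBaseChange (algebraMap R (MvPolynomial (Fin n) R))]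
    (Rψ : Dual.D (MvPolynomial (Fin n) R) ⥤ Dual.D A) (adj : DRing.restrictD ψ.toRingHom ⊣ Rψ)
    [DRing.HasLBaseChange (Algebra.TensorProduct.includeLeftRingHom : A →+* A ⊗[R] A)]
    (Rμ : Dual.D (A ⊗[R] A) ⥤ Dual.D A)
    (adjμ : DRing.restrictD (Algebra.TensorProduct.lmul' R (S := A)).toRingHom ⊣ Rμ) :
    Nonempty (Rμ.obj ((DRing.LBaseChange (Algebra.TensorProduct.includeLeftRingHom : A →+* A ⊗[R] A)).obj
      (Dual2.shriekVia n Rψ (Dual.inD R R))) ≅ Dual.inD A A) := by
  haveI := finitePresentation_of_presentation ψ hψ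
  exact nonempty_RHom_diagonal_fp ψ hψ Rψ adj Rμ adjμ

end Groth.DualCore
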