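import Groth.Agent.DualCore.TenLinear
import Groth.Agent.DualCore.RelDualizing
import Groth.Agent.DTenCalc.RightAdjoint
import Groth.Agent.DTenCalc.RHomComputes

/-!
Twisting base changes along a perfect algebra by the relative dualizing module.
-/

universe u

open CategoryTheory CategoryTheory.Limits MonoidalCategory HomologicalComplex DTen
open Groth.DAlg.KFlatMod (IsKFlatCx)
attribute [local instance] HasDerivedCategory.standard

set_option backward.isDefEq.respectTransparency false

namespace Groth.DTenCalc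

variable {R S : Type u} [CommRing R] [CommRing S] (φ : R →+* S)

theorem slide₂ {C : Type*} [Category* C] [MonoidalCategory C] {m u w x a : C} (f : m ⊗ u ⟶ w) (g : w ⟶ m)
    (e : x ⟶ a) :
    (α_ m u x).inv ≫ f ▷ x ≫ g ▷ x ≫ m ◁ e = m ◁ (u ◁ e) ≫ (α_ m u a).inv ≫ f ▷ a ≫ g ▷ a := by
  rw [← comp_whiskerRight_assoc, ← whisker_exchange, comp_whiskerRight,
    ← associator_inv_naturality_right_assoc]

/-- The twist of the projection formula, on complexes. -/
theorem flipCx (M : DRing.Cx S) (X : DRing.Cx R) :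
    (resCx φ).obj M ◁ piCx φ X ≫ resTenCx φ M ((extCx φ).obj X) =
      (α_ ((resCx φ).obj M) (algCx φ) X).inv ≫
        (resTenCx φ M (𝟙_ (DRing.Cx S)) ≫ (resCx φ).map (ρ_ M).hom) ▷ X ≫ pfCx φ M X := by
  let A := (extCx φ).obj X
  let U : DRing.Cx S := 𝟙_ (DRing.Cx S)
  have h1 := Ext.resTenCx_natural_right φ M (λ_ A).hom
  have h2 := Ext.resTenCx_natural_left φ (ρ_ M).hom A
  have h3 : (resCx φ).map ((ρ_ M).hom ▷ A) =
      (resCx φ).map (α_ M U A).hom ≫ (resCx φ).map (M ◁ (λ_ A).hom) := by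
    rw [← Functor.map_comp, MonoidalCategory.triangle]
  have h4 := Ext.res_associativity φ M U A
  have h5 := slide₂ (resTenCx φ M U) ((resCx φ).map (ρ_ M).hom)
    ((unitCx φ).app X : X ⟶ (resCx φ).obj A)
  have key : (α_ ((resCx φ).obj M) ((resCx φ).obj U) ((resCx φ).obj A)).inv ≫
      resTenCx φ M U ▷ (resCx φ).obj A ≫ (resCx φ).map (ρ_ M).hom ▷ (resCx φ).obj A ≫ resTenCx φ M A =
      (resCx φ).obj M ◁ resTenCx φ U A ≫ (resCx φ).obj M ◁ (resCx φ).map (λ_ A).hom ≫ resTenCx φ M A := by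
    rw [h1, h2, h3, reassoc_of% h4, Iso.inv_hom_id_assoc]
  rw [piCx, pfCx, pfCx]
  simp only [MonoidalCategory.whiskerLeft_comp, comp_whiskerRight, Category.assoc]
  have h6 := congrArg (· ≫ resTenCx φ M A) h5
  simp only [Category.assoc] at h6
  exact ((congrArg ((resCx φ).obj M ◁ ((resCx φ).obj U ◁ ((unitCx φ).app X)) ≫ ·) key).symm).trans h6.symm

section Derived

variable [HasLBase φ] [HasLTen R] [HasLTen S] [HasResTen φ] [ResLegIso φ] [HasLTen₃ R] [IsSymMonoidal R]

/-- The action of the algebra from the right. -/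
noncomputable def actR (M : Dual.D S) :
    ten ((DRing.restrictD φ).obj M) (algD φ) ⟶ (DRing.restrictD φ).obj M :=
  (resPF φ).app (M, DTen.unit S) ≫ (DRing.restrictD φ).map ((unitR S).app M)

theorem resPF_natural_right (a : Dual.D S) {b b' : Dual.D S} (g : b ⟶ b') :
    wl ((DRing.restrictD φ).obj a) ((DRing.restrictD φ).map g) ≫ (resPF φ).app (a, b') =
      (resPF φ).app (a, b) ≫ (DRing.restrictD φ).map (wl a g) := by
  have h := resPF_natural φ (𝟙 a) g
  rw [CategoryTheory.Functor.map_id] at h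
  exact h

theorem resPF_natural_left {a a' : Dual.D S} (f : a ⟶ a') (b : Dual.D S) :
    wr ((DRing.restrictD φ).map f) ((DRing.restrictD φ).obj b) ≫ (resPF φ).app (a', b) =
      (resPF φ).app (a, b) ≫ (DRing.restrictD φ).map (wr f b) := by
  have h := resPF_natural φ f (𝟙 b)
  rw [CategoryTheory.Functor.map_id] at h
  exact h

theorem actR_natural {M M' : Dual.D S} (f : M ⟶ M') :
    wr ((DRing.restrictD φ).map f) (algD φ) ≫ actR φ M' = actR φ M ≫ (DRing.restrictD φ).map f := by
  rw [actR, actR, reassoc_of% (resPF_natural_left φ f (DTen.unit S)), Category.assoc, ← Functor.map_comp,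
    ← Functor.map_comp]
  congr 2
  exact (unitR S).naturality f

theorem flip_rep (M : DRing.Cx S) (X : DRing.Cx R) (hM : IsKFlatCx S M) (hX : IsKFlatCx R X) :
    wl ((DRing.restrictD φ).obj (DerivedCategory.Q.obj M)) (piD φ (DerivedCategory.Q.obj X)) ≫
        (resPF φ).app (DerivedCategory.Q.obj M, (LBase φ).obj (DerivedCategory.Q.obj X)) =
      (associator ((DRing.restrictD φ).obj (DerivedCategory.Q.obj M)) (algD φ) (DerivedCategory.Q.obj X)).inv ≫
        wr (actR φ (DerivedCategory.Q.obj M)) (DerivedCategory.Q.obj X) ≫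
          projPF φ (DerivedCategory.Q.obj M) (DerivedCategory.Q.obj X) := by
  let A := (extCx φ).obj X
  let U : DRing.Cx S := 𝟙_ (DRing.Cx S)
  let M₀ := (resCx φ).obj M
  have := isIso_bc φ hX
  have := isIso_ε M A hM
  rw [← cancel_mono ((DRing.restrictD φ).map (wl (DerivedCategory.Q.obj M) (bc φ X) ≫ cmp M A) ≫
    (rf φ (M ⊗ A)).hom)]
  simp only [Category.assoc]
  rw [projPF_cmp φ M X, Functor.map_comp, Category.assoc,
    ← reassoc_of% (resPF_natural_right φ (DerivedCategory.Q.obj M) (bc φ X))]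
  erw [resPF_cmp φ M A]
  -- the left side
  have e : wl ((DRing.restrictD φ).obj (DerivedCategory.Q.obj M))
        (piD φ (DerivedCategory.Q.obj X)) ≫ wl _ ((DRing.restrictD φ).map (bc φ X)) ≫
      (LTen₂ R).map (Prod.mkHom (rf φ M).hom (rf φ A).hom) =
      wl _ (wr (rf φ U).hom (DerivedCategory.Q.obj X)) ≫ wl _ (cmp (algCx φ) X) ≫
        wl _ (DerivedCategory.Q.map (piCx φ X)) ≫ wr (rf φ M).hom _ := by
    rw [show (LTen₂ R).map (Prod.mkHom (rf φ M).hom (rf φ A).hom) =
      wl _ (rf φ A).hom ≫ wr (rf φ M).hom _ by rw [← Functor.map_comp, prod_comp, Category.id_comp, Category.comp_id],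
      ← wl_comp_assoc', ← wl_comp_assoc', Category.assoc]
    erw [piD_cmp φ X]
    rw [wl_comp_assoc', wl_comp_assoc']
  erw [reassoc_of% e]
  rw [← reassoc_of% (exchange (rf φ M).hom (DerivedCategory.Q.map (piCx φ X))),
    reassoc_of% (wl_cmp M₀ (piCx φ X)), ← Functor.map_comp, flipCx]
  -- the right side
  have e2 : actR φ (DerivedCategory.Q.obj M) ≫ (rf φ M).hom =
      wr (rf φ M).hom (algD φ) ≫ wl _ (rf φ U).hom ≫ cmp M₀ (algCx φ) ≫
        DerivedCategory.Q.map (resTenCx φ M U ≫ (resCx φ).map (ρ_ M).hom) := by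
    have hq : (DRing.restrictD φ).map (DerivedCategory.Q.map (ρ_ M).hom) ≫ (rf φ M).hom =
        (rf φ (M ⊗ U)).hom ≫ DerivedCategory.Q.map ((resCx φ).map (ρ_ M).hom) :=
      (resFactors φ).hom.naturality (ρ_ M).hom
    rw [actR, Category.assoc, unitR_app, Functor.map_comp, Category.assoc, hq,
      reassoc_of% (resPF_cmp φ M U), ← Functor.map_comp,
      show (LTen₂ R).map (Prod.mkHom (rf φ M).hom (rf φ U).hom) =
        wr (rf φ M).hom _ ≫ wl _ (rf φ U).hom by rw [← Functor.map_comp, prod_comp, Category.id_comp, Category.comp_id],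
      Category.assoc]
  rw [← wr_comp_assoc', e2]
  simp only [wr_comp, Category.assoc]
  rw [reassoc_of% (wr_cmp (resTenCx φ M U ≫ (resCx φ).map (ρ_ M).hom) X), ← Functor.map_comp, Functor.map_comp _ (α_ _ _ _).inv]
  rw [Iso.eq_inv_comp,
    ← reassoc_of% (exchange (rf φ M).hom (cmp (algCx φ) X)),
    ← reassoc_of% (exchange (rf φ M).hom (wr (rf φ U).hom (DerivedCategory.Q.obj X))),
    ← reassoc_of% (assoc_nat_left (rf φ M).hom (algD φ) (DerivedCategory.Q.obj X))]
  congr 1
  rw [← reassoc_of% (assoc_nat_mid (DerivedCategory.Q.obj M₀) (rf φ U).hom (DerivedCategory.Q.obj X))]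
  congr 1
  rw [reassoc_of% (assoc_cmp M₀ (algCx φ) X)]
  dsimp only [M₀, U]
  simp only [← Functor.map_comp, Iso.hom_inv_id_assoc]
  rfl

/-- The twist of the projection formula. -/
theorem flip (M : Dual.D S) (Y : Dual.D R) :
    wl ((DRing.restrictD φ).obj M) (piD φ Y) ≫ (resPF φ).app (M, (LBase φ).obj Y) =
      (associator ((DRing.restrictD φ).obj M) (algD φ) Y).inv ≫ wr (actR φ M) Y ≫ projPF φ M Y := by
  obtain ⟨E, hE, ⟨eE⟩⟩ := exists_kFlat_rep M
  obtain ⟨X, hX, ⟨eX⟩⟩ := exists_kFlat_rep Y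
  let m := DerivedCategory.Q.obj E
  have h1 : wl ((DRing.restrictD φ).obj m) (piD φ Y) ≫ (resPF φ).app (m, (LBase φ).obj Y) =
      (associator ((DRing.restrictD φ).obj m) (algD φ) Y).inv ≫ wr (actR φ m) Y ≫ projPF φ m Y := by
    rw [← cancel_epi (wl ((DRing.restrictD φ).obj m) (wl (algD φ) eX.hom)), ← wl_comp_assoc', piD_natural,
      wl_comp_assoc', resPF_natural_right, reassoc_of% (flip_rep φ E X hE hX)]
    have h2 : wl ((DRing.restrictD φ).obj m) (wl (algD φ) eX.hom) ≫
        (associator ((DRing.restrictD φ).obj m) (algD φ) Y).inv =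
        (associator ((DRing.restrictD φ).obj m) (algD φ) (DerivedCategory.Q.obj X)).inv ≫
          wl (ten ((DRing.restrictD φ).obj m) (algD φ)) eX.hom := by
      rw [Iso.comp_inv_eq, Category.assoc, assoc_nat_right, Iso.inv_hom_id_assoc]
    rw [reassoc_of% h2, ← reassoc_of% (exchange (actR φ m) eX.hom), projPF_natural_right]
  rw [← cancel_epi (wr ((DRing.restrictD φ).map eE.hom) (ten (algD φ) Y)),
    reassoc_of% (exchange ((DRing.restrictD φ).map eE.hom) (piD φ Y)), resPF_natural_left, reassoc_of% h1]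
  have h3 : wr ((DRing.restrictD φ).map eE.hom) (ten (algD φ) Y) ≫
      (associator ((DRing.restrictD φ).obj M) (algD φ) Y).inv =
      (associator ((DRing.restrictD φ).obj m) (algD φ) Y).inv ≫
        wr (wr ((DRing.restrictD φ).map eE.hom) (algD φ)) Y := by
    rw [Iso.comp_inv_eq, Category.assoc, assoc_nat_left, Iso.inv_hom_id_assoc]
  rw [reassoc_of% h3, ← wr_comp_assoc', actR_natural, wr_comp_assoc', projPF_natural_left]

end Derived

section Pairing

variable [HasLTen R] [HasLTen₃ R] [IsSymMonoidal R]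

/-- A pairing with a perfect object which is perfect against the unit is perfect against everything. -/
theorem bijective_pairing (D P : DRing.Cx R) [ExactPairing D P] (hP : IsKFlatCx R P) (hD : IsKFlatCx R D)
    {N M' : Dual.D R} (eN : DerivedCategory.Q.obj P ≅ N) (β : ten N M' ⟶ DTen.unit R)
    (hβ : ∀ T, Function.Bijective (fun f : T ⟶ M' => wl N f ≫ β)) (E T : Dual.D R) :
    Function.Bijective (fun f : T ⟶ ten M' E =>
      wl N f ≫ (associator N M' E).inv ≫ wr β E ≫ (unitL R).app E) := by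
  let P' := DerivedCategory.Q.obj P
  let D' := DerivedCategory.Q.obj D
  let adj := adjL D P hD hP
  let βP : ten P' M' ⟶ DTen.unit R := wr eN.hom M' ≫ β
  have hβP' : ∀ T', Function.Bijective (fun f : T' ⟶ M' => wl P' f ≫ βP) := fun T' => by
    have hk : (fun f : T' ⟶ M' => wl P' f ≫ βP) =
        (fun g => wr eN.hom T' ≫ g) ∘ (fun f : T' ⟶ M' => wl N f ≫ β) := by
      funext f
      simp only [Function.comp_apply, βP]
      rw [← reassoc_of% (exchange eN.hom f)]
    rw [hk]
    exact (preEquiv (asIso (wr eN.hom T')) _).bijective.comp (hβ T')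
  let u := adj.homEquiv M' (DTen.unit R) βP
  have hu : IsIso u := by
    refine isIso_of_yoneda_map_bijective _ fun T' => ?_
    have hk : (fun f : T' ⟶ M' => f ≫ u) = adj.homEquiv T' (DTen.unit R) ∘ (fun f => wl P' f ≫ βP) := by
      funext f
      exact (adj.homEquiv_naturality_left f βP).symm
    rw [hk]
    exact (Equiv.bijective _).comp (hβP' T')
  have := isIso_unitR_app (A := R) D'
  let a' : M' ⟶ D' := u ≫ (unitR R).app D'
  have ha : IsIso a' := inferInstanceAs (IsIso (u ≫ (unitR R).app D'))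
  have hβP : βP = wl P' a' ≫ evD D P := by
    rw [wl_comp, Category.assoc, ← adjL_counit_unit D P hD hP]
    exact ((Adjunction.homEquiv_counit adj _ _ _).symm.trans (Equiv.symm_apply_apply _ _)).symm
  let k : (T ⟶ ten M' E) ≃ (ten N T ⟶ E) :=
    (postEquiv T (asIso (wr a' E))).trans
      ((adj.homEquiv T E).symm.trans (preEquiv (asIso (wr eN.hom T)).symm E))
  suffices hk : (fun f : T ⟶ ten M' E => wl N f ≫ (associator N M' E).inv ≫ wr β E ≫ (unitL R).app E) = k by
    exact hk ▸ k.bijective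
  funext f
  simp only [k, Equiv.trans_apply, preEquiv_apply, postEquiv_apply, Iso.symm_hom, asIso_inv, asIso_hom]
  change wl N f ≫ _ = inv (wr eN.hom T) ≫ _
  rw [IsIso.eq_inv_comp]
  change wr eN.hom T ≫ wl N f ≫ _ = _
  have e3 : wr eN.hom (ten M' E) ≫ (associator N M' E).inv =
      (associator P' M' E).inv ≫ wr (wr eN.hom M') E := by
    rw [Iso.comp_inv_eq, Category.assoc, assoc_nat_left, Iso.inv_hom_id_assoc]
  have e4 : (associator P' M' E).inv ≫ wr (wl P' a') E =
      wl P' (wr a' E) ≫ (associator P' D' E).inv := by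
    rw [Iso.eq_comp_inv, Category.assoc, assoc_nat_mid, Iso.inv_hom_id_assoc]
  rw [reassoc_of% (exchange eN.hom f), reassoc_of% e3, ← wr_comp_assoc', show wr eN.hom M' ≫ β = βP from rfl,
    hβP, wr_comp_assoc', reassoc_of% e4, ← adjL_counit_eq D P hD hP, ← wl_comp_assoc']
  exact (Adjunction.homEquiv_counit adj _ _ _).symm

end Pairing

section BaseUnit

/-- Base change of the ring is the ring. -/
theorem nonempty_LBase_inD [HasLBase φ] : Nonempty ((LBase φ).obj (Dual.inD R R) ≅ Dual.inD S S) := by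
  haveI : DRing.HasLBaseChange φ := DAlg.hasLBaseChange _
  exact ⟨((Adjunction.leftAdjointUniq (DAlg.lBaseChangeAdj φ) (baseAdj φ)).app _).symm ≪≫
    (Groth.DualCore.nonempty_LBaseChange_inD φ).some⟩

end BaseUnit

section Closed

/-- The derived category of a ring is closed. -/
theorem hasRHom {A : Type u} [CommRing A] [HasLTen A] : DTen.HasRHom A := by
  refine ⟨fun L => ?_⟩
  obtain ⟨Y, hY, -, ⟨eY⟩⟩ := Groth.DAlg.exists_kProjective_rep L
  let eZ : ∀ M : Dual.D A, DerivedCategory.Q.obj (DerivedCategory.Q.objPreimage M) ≅ M := fun M =>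
    DerivedCategory.Q.objObjPreimageIso M
  let e : ∀ (T M : Dual.D A), ((tensorRightD A L).obj T ⟶ M) ≃
      (T ⟶ DerivedCategory.Q.obj (DRing.homCx Y (DerivedCategory.Q.objPreimage M))) := fun T M =>
    ((Equiv.ofBijective _ (bijective_evQ Y (DerivedCategory.Q.objPreimage M) (Or.inl hY) T)).trans
      (((LTen₂ A).mapIso (Iso.prod (Iso.refl T) eY)).homCongr (eZ M))).symm
  have he : ∀ (T' T M : Dual.D A) (f : T' ⟶ T) (g : (tensorRightD A L).obj T ⟶ M),
      e T' M ((tensorRightD A L).map f ≫ g) = f ≫ e T M g := fun T' T M f g => by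
    obtain ⟨h, rfl⟩ := (e T M).symm.surjective g
    rw [Equiv.apply_symm_apply, ← Equiv.eq_symm_apply]
    show wr f L ≫ wl T eY.inv ≫ (wr h _ ≫ evQ Y _) ≫ (eZ M).hom =
      wl T' eY.inv ≫ (wr (f ≫ h) _ ≫ evQ Y _) ≫ (eZ M).hom
    rw [wr_comp, reassoc_of% (exchange f eY.inv)]
    simp only [Category.assoc]
  exact (Adjunction.adjunctionOfEquivRight e he).isLeftAdjoint

end Closed

section Generator

open Groth.DualCore

/-- A map is invertible if it is bijective on maps out of shifts of the ring. -/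
theorem isIso_of_bijective_unit {A : Type u} [CommRing A] {X Y : Dual.D A} (f : X ⟶ Y)
    (h : ∀ i : ℤ, Function.Bijective (fun g : (Dual.inD A A)⟦i⟧ ⟶ X => g ≫ f)) : IsIso f := by
  rw [DerivedCategory.isIso_iff]
  intro n
  let H := DerivedCategory.homologyFunctor (ModuleCat.{u} A) 0
  have hn : Function.Bijective (fun g : Dual.inD A A ⟶ X⟦n⟧ => g ≫ f⟦n⟧') := by
    let adj := (shiftEquiv' (Dual.D A) (-n) n (neg_add_cancel n)).toAdjunction
    have hk : (fun g : Dual.inD A A ⟶ X⟦n⟧ => g ≫ f⟦n⟧') =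
        adj.homEquiv _ Y ∘ (fun g : (Dual.inD A A)⟦-n⟧ ⟶ X => g ≫ f) ∘ (adj.homEquiv _ X).symm := by
      funext g
      exact ((adj.homEquiv_naturality_right _ f).trans
        (congrArg (· ≫ f⟦n⟧') (Equiv.apply_symm_apply _ g))).symm
    rw [hk]
    exact (Equiv.bijective _).comp ((h (-n)).comp (Equiv.bijective _))
  haveI : IsIso (H.map (f⟦n⟧')) := by
    rw [ConcreteCategory.isIso_iff_bijective]
    let eX := LinearEquiv.ofBijective _ (evalOne_bijective (X⟦n⟧))
    let eY := LinearEquiv.ofBijective _ (evalOne_bijective (Y⟦n⟧))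
    have hk : ((H.map (f⟦n⟧')).hom : _ → _) = eY ∘ (fun g => g ≫ f⟦n⟧') ∘ eX.symm := by
      funext z
      obtain ⟨g, rfl⟩ := eX.surjective z
      show _ = eY (eX.symm (eX g) ≫ f⟦n⟧')
      rw [LinearEquiv.symm_apply_apply]
      exact (evalOne_comp g (f⟦n⟧')).symm
    exact hk ▸ eY.bijective.comp (hn.comp eX.symm.bijective)
  exact (NatIso.isIso_map_iff ((DerivedCategory.homologyFunctor (ModuleCat.{u} A) 0).shiftIso n 0 n
    (add_zero n)) f).1 ‹_›

variable {A : Type u} [CommRing A] [HasLTen A] [HasLTen₃ A] [IsSymMonoidal A]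

/-- The tensor product with a shifted unit. -/
theorem nonempty_ten_shift_unit (M : Dual.D A) (i : ℤ) :
    Nonempty (ten ((DTen.unit A)⟦i⟧) M ≅ M⟦i⟧) := by
  obtain ⟨E, hE, ⟨eE⟩⟩ := exists_kFlat_rep M
  let T : DRing.Cx A := (𝟙_ (DRing.Cx A))⟦i⟧
  have := isIso_cmp_right T hE
  exact ⟨(LTen₂ A).mapIso (Iso.prod ((DerivedCategory.Q.commShiftIso i).app _).symm eE.symm) ≪≫
    asIso (cmp T E) ≪≫
    DerivedCategory.Q.mapIso (CochainComplex.mapBifunctorShift₁Iso (𝟙_ (DRing.Cx A)) E
      (curriedTensor (ModuleCat.{u} A)) i ≪≫ (shiftFunctor (DRing.Cx A) i).mapIso (λ_ E)) ≪≫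
    (DerivedCategory.Q.commShiftIso i).app E ≪≫ (shiftFunctor (Dual.D A) i).mapIso eE⟩

/-- Twisting maps into a fixed target is bijective as soon as it is so on shifts of the ring. -/
theorem bijective_wr_of_unit [HasRHom A] (M X : Dual.D A)
    (h : ∀ i : ℤ, Function.Bijective (fun g : (Dual.inD A A)⟦i⟧ ⟶ X => wr g M)) (Z : Dual.D A) :
    Function.Bijective (fun g : Z ⟶ X => wr g M) := by
  let adj := rhomAdj A M
  let η := adj.unit.app X
  have hη : ∀ Z, (fun g : Z ⟶ X => g ≫ η) = adj.homEquiv Z (ten X M) ∘ (fun g : Z ⟶ X => wr g M) := fun Z => by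
    funext g
    exact (adj.unit.naturality g).trans (adj.homEquiv_unit _ _ _).symm
  haveI : IsIso η := isIso_of_bijective_unit η fun i =>
    Eq.mpr (congrArg Function.Bijective (hη _)) ((Equiv.bijective _).comp (h i))
  have hb : Function.Bijective (fun g : Z ⟶ X => g ≫ η) := (postEquiv Z (asIso η)).bijective
  rw [hη] at hb
  exact (Function.Bijective.of_comp_iff' (adj.homEquiv Z (ten X M)).bijective _).1 hb

/-- An object whose endomorphisms are the scalars twists maps into the unit bijectively. -/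
theorem bijective_wr_unit [HasRHom A] (M : Dual.D A) (hb : Function.Bijective (fun a : A => a • 𝟙 M))
    (hs : ∀ i : ℤ, i ≠ 0 → Subsingleton (M ⟶ M⟦i⟧)) (Z : Dual.D A) :
    Function.Bijective (fun g : Z ⟶ DTen.unit A => wr g M) := by
  refine bijective_wr_of_unit M _ (fun i => ?_) Z
  let uP : Dual.inD A A ≅ DTen.unit A := (DerivedCategory.singleFunctorIsoCompQ (ModuleCat.{u} A) 0).app _
  let c := (shiftFunctor (Dual.D A) i).mapIso uP
  suffices hu : Function.Bijective (fun g : (DTen.unit A)⟦i⟧ ⟶ DTen.unit A => wr g M) by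
    have hk : (fun g : (Dual.inD A A)⟦i⟧ ⟶ DTen.unit A => wr g M) =
        (fun g => wr c.hom M ≫ g) ∘ (fun g => wr g M) ∘ (preEquiv c _).symm := by
      funext g
      show _ = wr c.hom M ≫ wr (c.inv ≫ g) M
      rw [← wr_comp, Iso.hom_inv_id_assoc]
    rw [hk]
    exact (preEquiv (asIso (wr c.hom M)) _).bijective.comp (hu.comp (Equiv.bijective _))
  obtain ⟨es⟩ := nonempty_ten_shift_unit M i
  have := isIso_unitL_app (A := A) M
  let eu := asIso ((unitL A).app M)
  by_cases hi : i = 0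
  · subst hi
    let z := (shiftFunctorZero (Dual.D A) ℤ).app (DTen.unit A)
    let E : (DTen.unit A ⟶ DTen.unit A) ≃ₗ[A] A :=
      (Linear.homCongr A uP.symm uP.symm).trans
        ((LinearEquiv.ofBijective _ (evalOne_bijective (Dual.inD A A))).trans (HDinDEquiv A))
    obtain ⟨a₁, ha₁⟩ : ∃ a : A, a = E (𝟙 _) := ⟨_, rfl⟩
    have hid : Function.Bijective (fun a : A => a • 𝟙 (DTen.unit A)) :=
      bijective_smul_id E (fun x y => x ≫ y) (𝟙 _) (fun x => Category.comp_id x)
        fun a x y => Linear.comp_smul _ _ _ x a y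
    have h1 : Function.Bijective (fun g : DTen.unit A ⟶ DTen.unit A => wr g M) := by
      have hk : (fun g : DTen.unit A ⟶ DTen.unit A => wr g M) ∘ (fun a : A => a • 𝟙 (DTen.unit A)) =
          (Iso.homCongr eu.symm eu.symm) ∘ (fun a : A => a • 𝟙 M) := by
        funext a
        show wr (a • 𝟙 (DTen.unit A)) M = eu.hom ≫ (a • 𝟙 M) ≫ eu.inv
        rw [wr_smul_id, Linear.smul_comp]
        erw [Category.id_comp]
        rw [Linear.comp_smul, eu.hom_inv_id]
        rfl
      exact (Function.Bijective.of_comp_iff _ hid).1 (hk ▸ (Equiv.bijective _).comp hb)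
    have hk : (fun g : (DTen.unit A)⟦(0 : ℤ)⟧ ⟶ DTen.unit A => wr g M) =
        (fun g => wr z.hom M ≫ g) ∘ (fun g => wr g M) ∘ (preEquiv z _).symm := by
      funext g
      show _ = wr z.hom M ≫ wr (z.inv ≫ g) M
      rw [← wr_comp, Iso.hom_inv_id_assoc]
    rw [hk]
    exact (preEquiv (asIso (wr z.hom M)) _).bijective.comp (h1.comp (Equiv.bijective _))
  · haveI : Subsingleton ((DTen.unit A)⟦i⟧ ⟶ DTen.unit A) := by
      haveI := subsingleton_HD_inD (A := A) A (-i) (neg_ne_zero.2 hi)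
      haveI : Subsingleton (Dual.inD A A ⟶ (Dual.inD A A)⟦-i⟧) :=
        (homAEquiv (Dual.inD A A) (-i)).toEquiv.subsingleton
      haveI : Subsingleton ((Dual.inD A A)⟦i⟧ ⟶ Dual.inD A A) :=
        @Equiv.subsingleton _ _ ((shiftEquiv' (Dual.D A) i (-i) (add_neg_cancel i)).toAdjunction.homEquiv
          (Dual.inD A A) (Dual.inD A A)) ‹_›
      exact (Iso.homCongr c.symm uP.symm).subsingleton
    haveI : Subsingleton (ten ((DTen.unit A)⟦i⟧) M ⟶ ten (DTen.unit A) M) := by
      haveI := hs (-i) (neg_ne_zero.2 hi)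
      haveI : Subsingleton (M⟦i⟧ ⟶ M) :=
        @Equiv.subsingleton _ _ ((shiftEquiv' (Dual.D A) i (-i) (add_neg_cancel i)).toAdjunction.homEquiv
          M M) (hs (-i) (neg_ne_zero.2 hi))
      exact @Equiv.subsingleton _ _ (Iso.homCongr es eu) ‹Subsingleton (M⟦i⟧ ⟶ M)›
    exact ⟨fun a b _ => Subsingleton.elim a b, fun b => ⟨0, Subsingleton.elim _ _⟩⟩

/-- From `wr` to `wl`. -/
theorem bijective_wl_of_wr (M : Dual.D A) {Z X : Dual.D A}
    (h : Function.Bijective (fun g : Z ⟶ X => wr g M)) :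
    Function.Bijective (fun g : Z ⟶ X => wl M g) := by
  haveI := fun a b : Dual.D A => show IsIso (sym a b) from inferInstanceAs (IsIso ((symm A).app (a, b)))
  have hk : (fun g : Z ⟶ X => wl M g) =
      (Iso.homCongr (asIso (sym Z M)).symm (asIso (sym X M)).symm) ∘ (fun g : Z ⟶ X => wr g M) := by
    funext g
    show wl M g = sym Z M ≫ wr g M ≫ inv (sym X M)
    rw [← reassoc_of% (symm_nat g M), IsIso.hom_inv_id, Category.comp_id]
  rw [hk]
  exact (Equiv.bijective _).comp h

end Generator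

section Twist

variable [HasLBase φ] [HasLTen R] [HasLTen S] [HasResTen φ] [ResLegIso φ] [HasLTen₃ R] [IsSymMonoidal R]
  [HasLTen₃ S] [IsSymMonoidal S] [HasRHomRel φ]

/-- The pairing of the dualizing module with the algebra. -/
noncomputable def pairR :
    ten ((DRing.restrictD φ).obj ((RHomRel φ).obj (DTen.unit R))) (algD φ) ⟶ DTen.unit R :=
  actR φ ((RHomRel φ).obj (DTen.unit R)) ≫ relEv φ (DTen.unit R)

/-- A twist of a map between base changes, evaluated. -/
theorem projPF_wl (T : Dual.D R) (X : Dual.D S) (g : (LBase φ).obj T ⟶ X) (M : Dual.D S) :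
    projPF φ M T ≫ (DRing.restrictD φ).map (wl M g) =
      wl ((DRing.restrictD φ).obj M) ((baseAdj φ).homEquiv T X g) ≫ (resPF φ).app (M, X) := by
  rw [Adjunction.homEquiv_unit, wl_comp_assoc', resPF_natural_right, projPF, Category.assoc]

variable (hN : DRing.IsPerfect R (algD φ))
  (hb : Function.Bijective (fun a : S => a • 𝟙 ((RHomRel φ).obj (DTen.unit R))))
  (hs : ∀ i : ℤ, i ≠ 0 →
    Subsingleton ((RHomRel φ).obj (DTen.unit R) ⟶ ((RHomRel φ).obj (DTen.unit R))⟦i⟧))

include hb hs in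
theorem bijective_pairR [HasRHom S] (T : Dual.D R) :
    Function.Bijective (fun f : T ⟶ algD φ =>
      wl ((DRing.restrictD φ).obj ((RHomRel φ).obj (DTen.unit R))) f ≫ pairR φ) := by
  let M := (RHomRel φ).obj (DTen.unit R)
  have := isIso_projPF φ M T
  have := isIso_unitR_app (A := S) M
  have hw := bijective_wl_of_wr M (bijective_wr_unit M hb hs ((LBase φ).obj T))
  let e : (ten M ((LBase φ).obj T) ⟶ ten M (DTen.unit S)) ≃
      (ten ((DRing.restrictD φ).obj M) T ⟶ DTen.unit R) :=
    (postEquiv _ (asIso ((unitR S).app M))).trans (((relAdj φ).homEquiv _ _).symm.trans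
      (preEquiv (asIso (projPF φ M T)) _))
  have hk : (fun f : T ⟶ algD φ => wl ((DRing.restrictD φ).obj M) f ≫ pairR φ) =
      e ∘ (fun g => wl M g) ∘ ((baseAdj φ).homEquiv T (DTen.unit S)).symm := by
    funext f
    obtain ⟨g, rfl⟩ := ((baseAdj φ).homEquiv T (DTen.unit S)).surjective f
    simp only [Function.comp_apply, Equiv.symm_apply_apply]
    change _ = projPF φ M T ≫ ((relAdj φ).homEquiv _ _).symm (wl M g ≫ (unitR S).app M)
    rw [Adjunction.homEquiv_counit, Functor.map_comp, Category.assoc,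
      reassoc_of% (projPF_wl φ T (DTen.unit S) g M)]
    simp only [pairR, actR, Category.assoc]
    rfl
  rw [hk]
  exact (Equiv.bijective _).comp (hw.comp (Equiv.bijective _))

include hN hb hs in
/-- **Twisting by the dualizing module is fully faithful on base changes.** -/
theorem bijective_wl_base [HasRHom S] (T Y : Dual.D R) :
    Function.Bijective (fun g : (LBase φ).obj T ⟶ (LBase φ).obj Y =>
      wl ((RHomRel φ).obj (DTen.unit R)) g) := by
  let M := (RHomRel φ).obj (DTen.unit R)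
  let M' := (DRing.restrictD φ).obj M
  have := isIso_projPF φ M T
  have := isIso_projPF φ M Y
  have := isIso_piD φ Y
  obtain ⟨P, p, q, hv, hp, ⟨eN⟩⟩ := hN
  obtain ⟨D, ⟨hPD⟩, hP, hD⟩ := StrictDual.exists_exactPairing P hv hp
  obtain ⟨eM⟩ := nonempty_restrict_RHomRel_unit_iso φ P D hP hD eN
  have hbij := bijective_pairing P D hD hP eM.symm (pairR φ) (bijective_pairR φ hb hs) Y T
  have := isIso_candMap φ ⟨P, p, q, hv, hp, ⟨eN⟩⟩
  let e : (ten M ((LBase φ).obj T) ⟶ ten M ((LBase φ).obj Y)) ≃ (ten M' T ⟶ Y) :=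
    (postEquiv _ (asIso ((candMap φ).app Y))).trans (((relAdj φ).homEquiv _ _).symm.trans
      (preEquiv (asIso (projPF φ M T)) _))
  have hk : (fun g : (LBase φ).obj T ⟶ (LBase φ).obj Y => e (wl M g)) =
      (fun f : T ⟶ ten (algD φ) Y =>
        wl M' f ≫ (associator M' (algD φ) Y).inv ≫ wr (pairR φ) Y ≫ (unitL R).app Y) ∘
      ((postEquiv T (asIso (piD φ Y)).symm) ∘ (baseAdj φ).homEquiv T ((LBase φ).obj Y)) := by
    funext g
    simp only [Function.comp_apply]
    change projPF φ M T ≫ ((relAdj φ).homEquiv _ _).symm (wl M g ≫ (candMap φ).app Y) =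
      wl M' ((baseAdj φ).homEquiv T ((LBase φ).obj Y) g ≫ inv (piD φ Y)) ≫ _
    have hc : ((relAdj φ).homEquiv _ _).symm (wl M g ≫ (candMap φ).app Y) =
        (DRing.restrictD φ).map (wl M g) ≫ candEval φ Y := by
      rw [Equiv.symm_apply_eq]
      exact ((relAdj φ).homEquiv_naturality_left (wl M g) (candEval φ Y)).symm
    rw [hc, reassoc_of% (projPF_wl φ T ((LBase φ).obj Y) g M)]
    rw [candEval, pairR, wr_comp_assoc', wl_comp_assoc']
    conv_rhs => rw [reassoc_of% (show (associator M' (algD φ) Y).inv ≫ wr (actR φ M) Y =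
      wl M' (piD φ Y) ≫ (resPF φ).app (M, (LBase φ).obj Y) ≫ inv (projPF φ M Y) from by
        rw [← cancel_mono (projPF φ M Y)]
        simp only [Category.assoc, IsIso.inv_hom_id, Category.comp_id]
        exact (flip φ M Y).symm)]
    rw [← wl_comp_assoc' M' _ (piD φ Y), IsIso.inv_hom_id, wl_id, Category.id_comp]
  refine (Function.Bijective.of_comp_iff' e.bijective _).1 ?_
  show Function.Bijective (fun g : (LBase φ).obj T ⟶ (LBase φ).obj Y => e (wl M g))
  rw [hk]
  exact hbij.comp ((Equiv.bijective _).comp (Equiv.bijective _))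

include hN hb hs in
theorem bijective_wl_all [HasRHom S] (Z : Dual.D S) (Y : Dual.D R) :
    Function.Bijective (fun g : Z ⟶ (LBase φ).obj Y => wl ((RHomRel φ).obj (DTen.unit R)) g) := by
  let M := (RHomRel φ).obj (DTen.unit R)
  refine bijective_wl_of_wr M (bijective_wr_of_unit M _ (fun i => ?_) Z)
  obtain ⟨u⟩ := nonempty_LBase_inD φ
  let c : (LBase φ).obj ((Dual.inD R R)⟦i⟧) ≅ (Dual.inD S S)⟦i⟧ :=
    letI := (baseAdj φ).leftAdjointCommShift ℤ
    ((LBase φ).commShiftIso i).app _ ≪≫ (shiftFunctor _ i).mapIso u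
  have h := bijective_wl_base φ hN hb hs ((Dual.inD R R)⟦i⟧) Y
  have hk : (fun g : (Dual.inD S S)⟦i⟧ ⟶ (LBase φ).obj Y => wr g M) =
      (fun g => wr c.inv M ≫ g) ∘ (fun g => wr g M) ∘ (preEquiv c _) := by
    funext g
    show _ = wr c.inv M ≫ wr (c.hom ≫ g) M
    rw [← wr_comp, Iso.inv_hom_id_assoc]
  rw [hk]
  refine (preEquiv (asIso (wr c.inv M)) _).bijective.comp (Function.Bijective.comp ?_ (Equiv.bijective _))
  haveI := fun a b : Dual.D S => show IsIso (sym a b) from inferInstanceAs (IsIso ((symm S).app (a, b)))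
  have hk' : (fun g : (LBase φ).obj ((Dual.inD R R)⟦i⟧) ⟶ (LBase φ).obj Y => wr g M) =
      (Iso.homCongr (asIso (sym _ M)) (asIso (sym _ M))) ∘ (fun g => wl M g) := by
    funext g
    show wr g M = inv (sym _ M) ≫ wl M g ≫ sym _ M
    rw [symm_nat g M, IsIso.inv_hom_id_assoc]
  rw [hk']
  exact (Equiv.bijective _).comp h

end Twist

end Groth.DTenCalc
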