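import Groth.Agent.DualCore.PolyTriangle
import Mathlib.Algebra.Polynomial.Coeff
import Mathlib.Algebra.Polynomial.Div
import Mathlib.Algebra.Polynomial.RingDivision

/-!
Division by a monic polynomial on `S = P[y]`, as linear maps.
-/

set_option autoImplicit false

universe u

open Polynomial

namespace Groth.DualCore.IsPolyVar

variable {P S : Type u} [CommRing P] [CommRing S] [Algebra P S] {y : S} (hy : IsPolyVar P y)
  {p : P[X]} (hp : p.Monic)

/-- `P[X] ≅ S`. -/
noncomputable def alg : P[X] ≃ₐ[P] S := AlgEquiv.ofBijective (Polynomial.aeval (R := P) y) hy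

lemma alg_apply (f : P[X]) : hy.alg f = aeval y f := rfl

/-- The quotient by a monic polynomial, as a linear map. -/
noncomputable def quotP : P[X] →ₗ[P] P[X] where
  toFun f := f /ₘ p
  map_add' f g := hp.isRegular.left (show p * ((f + g) /ₘ p) = p * (f /ₘ p + g /ₘ p) by
    have h1 := modByMonic_add_div f p
    have h2 := modByMonic_add_div g p
    have h3 := modByMonic_add_div (f + g) p
    rw [Polynomial.add_modByMonic] at h3
    linear_combination h3 - h1 - h2)
  map_smul' c f := hp.isRegular.left (show p * ((c • f) /ₘ p) = p * (c • (f /ₘ p)) by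
    have h1 := congrArg (C c * ·) (modByMonic_add_div f p)
    have h3 := modByMonic_add_div (c • f) p
    rw [smul_modByMonic] at h3
    simp only [smul_eq_C_mul] at h3 ⊢
    linear_combination h3 - h1)

include hy in
/-- The quotient on `S`. -/
noncomputable def quot : Module.End P S :=
  hy.alg.toLinearEquiv.toLinearMap ∘ₗ quotP hp ∘ₗ hy.alg.symm.toLinearEquiv.toLinearMap

/-- The coefficients of the remainder. -/
noncomputable def coef (p : P[X]) (k : ℕ) : S →ₗ[P] P :=
  lcoeff P k ∘ₗ modByMonicHom p ∘ₗ hy.alg.symm.toLinearEquiv.toLinearMap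

lemma quot_alg (f : P[X]) : hy.quot hp (hy.alg f) = hy.alg (f /ₘ p) := by
  simp [quot, quotP]

lemma coef_alg (k : ℕ) (f : P[X]) : hy.coef p k (hy.alg f) = (f %ₘ p).coeff k := by
  simp [coef, modByMonicHom]

include hp in
theorem decomp (s : S) :
    s = aeval y p * hy.quot hp s + ∑ k ∈ Finset.range p.natDegree, y ^ k * algebraMap P S (hy.coef p k s) := by
  obtain ⟨f, rfl⟩ := hy.alg.surjective s
  rw [quot_alg, ← hy.alg_apply, ← map_mul]
  conv_lhs => rw [← modByMonic_add_div f p, map_add, add_comm]
  congr 1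
  nontriviality P
  by_cases hd : p.natDegree = 0
  · rw [hd, Finset.range_zero, Finset.sum_empty, hp.natDegree_eq_zero.1 hd, modByMonic_one, map_zero]
  rw [hy.alg_apply, aeval_eq_sum_range' (natDegree_modByMonic_lt f hp (fun h => hd (by rw [h, natDegree_one])))]
  exact Finset.sum_congr rfl fun k _ => by rw [coef_alg, Algebra.smul_def, mul_comm]

include hp in
theorem quot_mul (s : S) : hy.quot hp (aeval y p * s) = s := by
  obtain ⟨f, rfl⟩ := hy.alg.surjective s
  rw [← hy.alg_apply, ← map_mul, quot_alg, mul_divByMonic_cancel_left f hp]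

include hp in
theorem coef_mul (k : ℕ) (s : S) : hy.coef p k (aeval y p * s) = 0 := by
  obtain ⟨f, rfl⟩ := hy.alg.surjective s
  rw [← hy.alg_apply, ← map_mul, coef_alg,
    (modByMonic_eq_zero_iff_dvd hp).2 (dvd_mul_right p f), coeff_zero]

include hp in
theorem coef_pow (j k : ℕ) (hj : j < p.natDegree) : hy.coef p k (y ^ j) = if k = j then 1 else 0 := by
  nontriviality P
  have h : y ^ j = hy.alg (X ^ j) := by rw [hy.alg_apply, aeval_X_pow]
  rw [h, coef_alg, (modByMonic_eq_self_iff hp).2, coeff_X_pow]
  rw [degree_X_pow, degree_eq_natDegree hp.ne_zero]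
  exact_mod_cast hj

end Groth.DualCore.IsPolyVar
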