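import Groth.Agent.DualCore.PolyDiv

/-!
The action of `End_P(S)` on `res (S ⊗ L)` in `D(P)`.
-/

set_option autoImplicit false

universe u

open CategoryTheory CategoryTheory.Limits DerivedCategory HomologicalComplex TensorProduct

attribute [local instance] HasDerivedCategory.standard

namespace Groth.DualCore

local notation "up" => ComplexShape.up ℤ

variable (P S : Type u) [CommRing P] [CommRing S] [Algebra P S]

/-- `res ∘ ext` on modules. -/
noncomputable abbrev resExt : ModuleCat.{u} P ⥤ ModuleCat.{u} P := ext P S ⋙ res (algebraMap P S)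

variable {P S}

/-- `res (S ⊗ M) ≃ S ⊗ M` over `P`. -/
noncomputable def resExtEquivP (M : ModuleCat.{u} P) : S ⊗[P] M ≃ₗ[P] ((resExt P S).obj M : Type u) where
  toFun := extEquiv (B := S) M
  map_add' := map_add _
  map_smul' := fun r w => by
    show extEquiv M (r • w) = algebraMap P S r • extEquiv M w
    rw [← map_smul, algebraMap_smul]
  invFun := (extEquiv (B := S) M).symm
  left_inv := fun w => (extEquiv (B := S) M).symm_apply_apply w
  right_inv := fun w => (extEquiv (B := S) M).apply_symm_apply w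

lemma resExtEquivP_natural {M N : ModuleCat.{u} P} (g : M ⟶ N) (z : S ⊗[P] M) :
    ((resExt P S).map g).hom (resExtEquivP M z) = resExtEquivP N (g.hom.lTensor S z) := by
  refine (ext_map_extEquiv g z).trans ?_
  show extEquiv N _ = extEquiv N _
  rfl

/-- `ofHom` with given source and target. -/
noncomputable abbrev mkHom (X Y : ModuleCat.{u} P) (f : (X : Type u) →ₗ[P] Y) : X ⟶ Y := ModuleCat.ofHom f

/-- An endomorphism of `S` acting on `S ⊗ M`. -/
noncomputable def endMod (f : Module.End P S) (M : ModuleCat.{u} P) : (resExt P S).obj M ⟶ (resExt P S).obj M :=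
  mkHom ((resExt P S).obj M) ((resExt P S).obj M) ((resExtEquivP M).toLinearMap ∘ₗ f.rTensor M ∘ₗ (resExtEquivP M).symm.toLinearMap)

/-- A functional on `S` acting on `S ⊗ M`. -/
noncomputable def funMod (g : S →ₗ[P] P) (M : ModuleCat.{u} P) : (resExt P S).obj M ⟶ M :=
  mkHom ((resExt P S).obj M) M ((TensorProduct.lid P M).toLinearMap ∘ₗ g.rTensor M ∘ₗ (resExtEquivP M).symm.toLinearMap)

lemma endMod_apply (f : Module.End P S) (M : ModuleCat.{u} P) (z : S ⊗[P] M) :
    (endMod f M).hom (resExtEquivP M z) = resExtEquivP M (f.rTensor M z) := by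
  simp [endMod]

lemma funMod_apply (g : S →ₗ[P] P) (M : ModuleCat.{u} P) (s : S) (m : M) :
    (funMod g M).hom (resExtEquivP M (s ⊗ₜ m)) = g s • m := by
  simp [funMod]

lemma resExt_hom_ext {M : ModuleCat.{u} P} {N : ModuleCat.{u} P} {a b : (resExt P S).obj M ⟶ N}
    (h : ∀ (s : S) (m : M), a.hom (resExtEquivP M (s ⊗ₜ m)) = b.hom (resExtEquivP M (s ⊗ₜ m))) : a = b := by
  refine ModuleCat.hom_ext (LinearMap.ext fun x => ?_)
  obtain ⟨z, rfl⟩ := (resExtEquivP M).surjective x
  induction z with
  | zero => simp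
  | tmul s m => exact h s m
  | add z w hz hw => rw [map_add, map_add, map_add, hz, hw]

lemma endMod_natural (f : Module.End P S) {M N : ModuleCat.{u} P} (g : M ⟶ N) :
    (resExt P S).map g ≫ endMod f N = endMod f M ≫ (resExt P S).map g := by
  refine resExt_hom_ext fun s m => ?_
  rw [ModuleCat.hom_comp, ModuleCat.hom_comp, LinearMap.comp_apply, LinearMap.comp_apply]
  refine ((congrArg (endMod f N).hom (resExtEquivP_natural g (s ⊗ₜ m))).trans (endMod_apply f N _)).trans ?_
  refine Eq.trans ?_ ((congrArg ((resExt P S).map g).hom (endMod_apply f M (s ⊗ₜ m))).trans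
    (resExtEquivP_natural g _)).symm
  simp

lemma funMod_natural (φ : S →ₗ[P] P) {M N : ModuleCat.{u} P} (g : M ⟶ N) :
    (resExt P S).map g ≫ funMod φ N = funMod φ M ≫ g := by
  refine resExt_hom_ext fun s m => ?_
  rw [ModuleCat.hom_comp, ModuleCat.hom_comp, LinearMap.comp_apply, LinearMap.comp_apply]
  refine ((congrArg (funMod φ N).hom (resExtEquivP_natural g (s ⊗ₜ m))).trans (funMod_apply φ N s (g.hom m))).trans ?_
  exact ((congrArg g.hom (funMod_apply φ M s m)).trans (map_smul g.hom _ _)).symm

/-- The unit. -/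
noncomputable def unitMod (M : ModuleCat.{u} P) : M ⟶ (resExt P S).obj M :=
  (ModuleCat.extendRestrictScalarsAdj (algebraMap P S)).unit.app M

lemma unitMod_apply (M : ModuleCat.{u} P) (m : M) :
    (unitMod (S := S) M).hom m = resExtEquivP M ((1 : S) ⊗ₜ m) := rfl

variable (E : CochainComplex (ModuleCat.{u} P) ℤ)

/-- `res ∘ ext` on complexes. -/
noncomputable abbrev resExtC (S : Type u) [CommRing S] [Algebra P S] :
    CochainComplex (ModuleCat.{u} P) ℤ ⥤ CochainComplex (ModuleCat.{u} P) ℤ :=
  (ext P S).mapHomologicalComplex up ⋙ resC (algebraMap P S)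

/-- The action on complexes. -/
noncomputable def endCx (f : Module.End P S) : (resExtC S).obj E ⟶ (resExtC S).obj E where
  f i := endMod f (E.X i)
  comm' i j _ := (endMod_natural f (E.d i j)).symm

/-- A functional on complexes. -/
noncomputable def funCx (g : S →ₗ[P] P) : (resExtC S).obj E ⟶ E where
  f i := funMod g (E.X i)
  comm' i j _ := (funMod_natural g (E.d i j)).symm

/-- The unit on complexes. -/
noncomputable def unitCx' : E ⟶ (resExtC S).obj E where
  f i := unitMod (E.X i)
  comm' i j _ := ((ModuleCat.extendRestrictScalarsAdj (algebraMap P S)).unit.naturality (E.d i j)).symm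

lemma endCx_mul (f g : Module.End P S) : endCx E (f * g) = endCx E g ≫ endCx E f := by
  ext i : 1
  refine resExt_hom_ext fun s m => ?_
  exact (endMod_apply _ _ _).trans ((congrArg (endMod f (E.X i)).hom (endMod_apply g (E.X i) (s ⊗ₜ m))).trans
    (endMod_apply f (E.X i) _)).symm

lemma endCx_one : endCx (S := S) E 1 = 𝟙 _ := by
  ext i : 1
  refine resExt_hom_ext fun s m => ?_
  exact endMod_apply 1 (E.X i) _

lemma endCx_add (f g : Module.End P S) : endCx E (f + g) = endCx E f + endCx E g := by
  ext i : 1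
  refine resExt_hom_ext fun s m => ?_
  refine (endMod_apply _ _ _).trans ?_
  refine Eq.trans ?_ (congrArg₂ (· + ·) (endMod_apply f (E.X i) (s ⊗ₜ m)) (endMod_apply g (E.X i) (s ⊗ₜ m))).symm
  simp [TensorProduct.add_tmul]

lemma endCx_smul (r : P) (f : Module.End P S) : endCx E (r • f) = r • endCx E f := by
  ext i : 1
  refine resExt_hom_ext fun s m => ?_
  refine (endMod_apply _ _ _).trans ?_
  refine Eq.trans ?_ (congrArg (r • ·) (endMod_apply f (E.X i) (s ⊗ₜ m))).symm
  rw [LinearMap.rTensor_smul, LinearMap.smul_apply, map_smul]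

lemma funCx_comp (g : S →ₗ[P] P) (f : Module.End P S) : endCx E f ≫ funCx E g = funCx E (g ∘ₗ f) := by
  ext i : 1
  refine resExt_hom_ext fun s m => ?_
  exact ((congrArg (funMod g (E.X i)).hom (endMod_apply f (E.X i) (s ⊗ₜ m))).trans
    (funMod_apply g (E.X i) (f s) m)).trans (funMod_apply (g ∘ₗ f) (E.X i) s m).symm

lemma funCx_unit (g : S →ₗ[P] P) : funCx E g ≫ unitCx' E = endCx E (Algebra.linearMap P S ∘ₗ g) := by
  ext i : 1
  refine resExt_hom_ext fun s m => ?_
  refine ((congrArg (unitMod (E.X i)).hom (funMod_apply g (E.X i) s m)).trans (unitMod_apply _ _)).trans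
    (Eq.trans ?_ (endMod_apply _ (E.X i) _).symm)
  refine congrArg (resExtEquivP (E.X i)) ?_
  rw [LinearMap.rTensor_tmul, TensorProduct.tmul_smul, TensorProduct.smul_tmul']
  simp [Algebra.algebraMap_eq_smul_one]

lemma unit_funCx (g : S →ₗ[P] P) : unitCx' E ≫ funCx E g = g 1 • 𝟙 E := by
  ext i x
  show (funMod g (E.X i)).hom ((unitMod (E.X i)).hom x) = g 1 • x
  rw [unitMod_apply, funMod_apply]

lemma funCx_zero : funCx (S := S) E 0 = 0 := by
  ext i : 1
  refine resExt_hom_ext fun s m => ?_
  exact (funMod_apply 0 (E.X i) s m).trans (zero_smul P m)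

lemma endCx_mulLeft (s : S) :
    (resC (algebraMap P S)).map (s • 𝟙 (((ext P S).mapHomologicalComplex up).obj E)) =
      endCx E (LinearMap.mulLeft P s) := by
  ext i : 1
  refine resExt_hom_ext fun t m => ?_
  show s • extEquiv (E.X i) (t ⊗ₜ m) = (endMod _ (E.X i)).hom _
  rw [endMod_apply, LinearMap.rTensor_tmul, ← map_smul, TensorProduct.smul_tmul']
  rfl

end Groth.DualCore
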