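import Groth.Agent.DualCore.PolyStep
import Mathlib.RingTheory.MvPolynomial.Basic

/-!
Several polynomial variables: for `Q = P[y₁, …, y_k]` and a `Q`-algebra `A` integral over `P` at the `yᵢ`,
`Hom(Z|_P, L) ≃ Hom(Z|_Q, (Q ⊗ L)[k])`.
-/

set_option autoImplicit false

universe u

open CategoryTheory CategoryTheory.Limits DerivedCategory

attribute [local instance] HasDerivedCategory.standard

namespace Groth.DualCore

/-- Flat base change in two steps. -/
noncomputable def extDComp (P P' Q : Type u) [CommRing P] [CommRing P'] [CommRing Q] [Algebra P P'] [Algebra P' Q]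
    [Algebra P Q] [IsScalarTower P P' Q] [Module.Flat P P'] [Module.Flat P' Q] [Module.Flat P Q] :
    extD P P' ⋙ extD P' Q ≅ extD P Q :=
  Adjunction.leftAdjointUniq
    (((extResAdj P P').comp (extResAdj P' Q)).ofNatIsoRight
      (restrictDComp (algebraMap P P') (algebraMap P' Q) (algebraMap P Q)
        (IsScalarTower.algebraMap_eq P P' Q)).symm)
    (extResAdj P Q)

/-- Shifts add. -/
noncomputable def shiftAddIso {R : Type u} [CommRing R] (X : Dual.D R) (a b c : ℤ) (h : a + b = c) :
    (X⟦a⟧)⟦b⟧ ≅ X⟦c⟧ :=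
  ((shiftFunctorAdd' (Dual.D R) a b c h).app X).symm

lemma isPolyVar_finSucc {P : Type u} [CommRing P] {Q : Type u} [CommRing Q] [Algebra P Q] {k : ℕ}
    (e : MvPolynomial (Fin (k + 1)) P ≃ₐ[P] Q) [Algebra (MvPolynomial (Fin k) P) Q]
    [IsScalarTower P (MvPolynomial (Fin k) P) Q]
    (h : ∀ i, algebraMap (MvPolynomial (Fin k) P) Q (MvPolynomial.X i) = e (MvPolynomial.X i.succ)) :
    IsPolyVar (MvPolynomial (Fin k) P) (e (MvPolynomial.X 0)) := by
  let g := (MvPolynomial.finSuccEquiv P k).symm.trans e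
  have hg : ∀ f, Polynomial.aeval (R := MvPolynomial (Fin k) P) (e (MvPolynomial.X 0)) f = g f := by
    have h0 : g Polynomial.X = e (MvPolynomial.X 0) := by
      simp only [g, AlgEquiv.trans_apply]
      congr 1
      rw [AlgEquiv.symm_apply_eq, MvPolynomial.finSuccEquiv_X_zero]
    have hC : ∀ q, algebraMap (MvPolynomial (Fin k) P) Q q = g (Polynomial.C q) := by
      refine fun q => AlgHom.congr_fun (φ₁ := IsScalarTower.toAlgHom P (MvPolynomial (Fin k) P) Q)
        (φ₂ := g.toAlgHom.comp (Polynomial.CAlgHom)) (MvPolynomial.algHom_ext fun i => ?_) q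
      show algebraMap _ Q _ = g (Polynomial.C (MvPolynomial.X i))
      rw [h]
      simp only [g, AlgEquiv.trans_apply]
      congr 1
      rw [AlgEquiv.eq_symm_apply, MvPolynomial.finSuccEquiv_X_succ]
    intro f
    induction f using Polynomial.induction_on' with
    | add a b ha hb => rw [map_add, map_add, ha, hb]
    | monomial n q =>
      rw [Polynomial.aeval_monomial, ← Polynomial.C_mul_X_pow_eq_monomial, map_mul, map_pow, hC, h0]
  exact ⟨fun a b hab => g.injective (by rw [← hg, ← hg]; exact hab), fun q => ⟨g.symm q, by rw [hg, AlgEquiv.apply_symm_apply]⟩⟩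

/-- Several variables: `Hom(Z|_P, L) ≃ Hom(Z|_Q, (Q ⊗ L)[k])`. -/
theorem nonempty_homIso {A : Type u} [CommRing A] : ∀ (k : ℕ) {P : Type u} [CommRing P] {Q : Type u}
    [CommRing Q] [Algebra P Q] [Module.Flat P Q] (e : MvPolynomial (Fin k) P ≃ₐ[P] Q) (χ : Q →+* A) (χP : P →+* A)
    (_ : χP = χ.comp (algebraMap P Q)) (_ : ∀ i, χP.IsIntegralElem (χ (e (MvPolynomial.X i)))) (L : Dual.D P),
    Nonempty (HomIso (DRing.restrictD χP) L (DRing.restrictD χ) (((extD P Q).obj L)⟦(k : ℤ)⟧))
  | 0, P, _, Q, _, _, _, e, χ, χP, h, _, L => by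
    have hb : Function.Bijective (algebraMap P Q) := by
      have := ((MvPolynomial.isEmptyAlgEquiv P (Fin 0)).symm.trans e).bijective
      have e' : ⇑((MvPolynomial.isEmptyAlgEquiv P (Fin 0)).symm.trans e) = algebraMap P Q :=
        funext fun r => ((MvPolynomial.isEmptyAlgEquiv P (Fin 0)).symm.trans e).commutes r
      rwa [e'] at this
    haveI : (DRing.restrictD (algebraMap P Q)).IsEquivalence := by
      have h' : algebraMap P Q = (RingEquiv.ofBijective (algebraMap P Q) hb : P →+* Q) := RingHom.ext fun _ => rfl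
      rw [h']
      exact (restrictDEquiv (RingEquiv.ofBijective (algebraMap P Q) hb)).isEquivalence_functor
    haveI := (extResAdj P Q).isEquivalence_left_of_isEquivalence_right
    exact ⟨((HomIso.congr (restrictDComp (algebraMap P Q) χ χP h) (asIso ((extResAdj P Q).unit.app L))).trans
      (HomIso.ofFullyFaithful ((extD P Q).obj L) (DRing.restrictD (algebraMap P Q))).symm).trans
        (HomIso.congr (Iso.refl _) ((shiftFunctorZero (Dual.D Q) ℤ).app _).symm)⟩
  | k + 1, P, _, Q, _, _, _, e, χ, χP, h, hint, L => by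
    letI : Algebra (MvPolynomial (Fin k) P) Q :=
      ((e.toAlgHom.comp (MvPolynomial.rename Fin.succ)) : MvPolynomial (Fin k) P →+* Q).toAlgebra
    haveI : IsScalarTower P (MvPolynomial (Fin k) P) Q :=
      IsScalarTower.of_algebraMap_eq fun r => ((e.toAlgHom.comp (MvPolynomial.rename Fin.succ)).commutes r).symm
    have hX : ∀ i, algebraMap (MvPolynomial (Fin k) P) Q (MvPolynomial.X i) = e (MvPolynomial.X i.succ) :=
      fun i => congrArg e (MvPolynomial.rename_X Fin.succ i)
    have hy := isPolyVar_finSucc e hX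
    haveI := hy.flat
    let χ' : MvPolynomial (Fin k) P →+* A := χ.comp (algebraMap (MvPolynomial (Fin k) P) Q)
    have h' : χP = χ'.comp (algebraMap P (MvPolynomial (Fin k) P)) := by
      rw [h, RingHom.comp_assoc, ← IsScalarTower.algebraMap_eq]
    obtain ⟨IH⟩ := nonempty_homIso k (AlgEquiv.refl : MvPolynomial (Fin k) P ≃ₐ[P] _) χ' χP h'
      (fun i => by
        show χP.IsIntegralElem (χ (algebraMap (MvPolynomial (Fin k) P) Q (MvPolynomial.X i)))
        rw [hX]
        exact hint i.succ) L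
    obtain ⟨p, hp, hp0⟩ := hint 0
    have hχ : χ (Polynomial.aeval (e (MvPolynomial.X 0)) (p.map (algebraMap P (MvPolynomial (Fin k) P)))) = 0 := by
      rw [Polynomial.aeval_map_algebraMap, Polynomial.aeval_def, Polynomial.hom_eval₂, ← h]
      exact hp0
    let M := (extD P (MvPolynomial (Fin k) P)).obj L
    exact ⟨(IH.trans (stepHomIso hy χ χ' rfl (hp.map _) hχ (M⟦(k : ℤ)⟧))).trans
      (HomIso.congr (Iso.refl _)
        ((shiftFunctor (Dual.D Q) (1 : ℤ)).mapIso (((extD (MvPolynomial (Fin k) P) Q).commShiftIso (k : ℤ)).app M ≪≫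
          (shiftFunctor (Dual.D Q) (k : ℤ)).mapIso ((extDComp P (MvPolynomial (Fin k) P) Q).app L)) ≪≫
          shiftAddIso _ _ _ _ (by push_cast; ring)))⟩

end Groth.DualCore
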