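import Mathlib.Algebra.Polynomial.AlgebraMap
import Mathlib.Algebra.Polynomial.Eval.Degree
import Mathlib.Algebra.Ring.GeomSum
import Mathlib.LinearAlgebra.Finsupp.LSum

/-!
Linear algebra behind the upper shriek of one polynomial variable: if `H` decomposes as
`p(y) H ⊕ y^k η(V)` (`k < deg p`) and `p(S) = 0`, then `V ≅ coker (y - S)` and `y - S` is injective.
-/

universe u v w

open Polynomial

namespace Groth.DualCore.ShriekAlg

variable {P : Type u} [CommRing P] {H : Type v} [AddCommGroup H] [Module P H] {V : Type w} [AddCommGroup V]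
  [Module P V]

/-- A decomposition of `H` along a monic polynomial in `y`, compatible with endomorphisms `S`, `SV`. -/
structure Division (p : P[X]) (y S : Module.End P H) (η : V →ₗ[P] H) (SV : Module.End P V) where
  monic : p.Monic
  quot : H → H
  coef : ℕ → H →ₗ[P] V
  decomp : ∀ h, h = aeval y p (quot h) + ∑ k ∈ Finset.range p.natDegree, (y ^ k) (η (coef k h))
  injective : Function.Injective (aeval y p)
  coef_mul : ∀ k h, coef k (aeval y p h) = 0
  coef_monom : ∀ j k v, j < p.natDegree → k < p.natDegree → coef k ((y ^ j) (η v)) = if k = j then v else 0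
  commute : Commute y S
  eta_comm : ∀ v, η (SV v) = S (η v)
  killS : aeval S p = 0
  killV : aeval SV p = 0

namespace Division

variable {p : P[X]} {y S : Module.End P H} {η : V →ₗ[P] H} {SV : Module.End P V} (D : Division p y S η SV)

include D

lemma eta_pow (k : ℕ) (v : V) : η ((SV ^ k) v) = (S ^ k) (η v) := by
  induction k with
  | zero => simp
  | succ k ih => rw [pow_succ', pow_succ', Module.End.mul_apply, Module.End.mul_apply, D.eta_comm, ih]

lemma sub_injective : Function.Injective (y - S) := by
  rw [injective_iff_map_eq_zero]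
  intro h hh
  have h1 : y h = S h := sub_eq_zero.1 hh
  have key : ∀ k : ℕ, (y ^ k) h = (S ^ k) h := by
    intro k
    induction k with
    | zero => simp
    | succ k ih =>
      have h2 : (S ^ k) (y h) = y ((S ^ k) h) :=
        LinearMap.congr_fun (D.commute.pow_right k).eq.symm h
      rw [pow_succ', Module.End.mul_apply, ih, ← h2, h1, ← Module.End.mul_apply, ← pow_succ]
  refine D.injective ?_
  have h3 : aeval y p h = aeval S p h := by
    rw [aeval_eq_sum_range, aeval_eq_sum_range, LinearMap.sum_apply, LinearMap.sum_apply]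
    exact Finset.sum_congr rfl fun k _ => by rw [LinearMap.smul_apply, LinearMap.smul_apply, key]
  rw [h3, D.killS, map_zero, LinearMap.zero_apply]

/-- The retraction onto `V`. -/
noncomputable def trace : H →ₗ[P] V := ∑ k ∈ Finset.range p.natDegree, (SV ^ k).comp (D.coef k)

lemma trace_apply (h : H) : D.trace h = ∑ k ∈ Finset.range p.natDegree, (SV ^ k) (D.coef k h) := by
  simp [trace]

lemma trace_mul (h : H) : D.trace (aeval y p h) = 0 := by
  simp [trace_apply, D.coef_mul]

lemma trace_monom {j : ℕ} (hj : j ≤ p.natDegree) (v : V) : D.trace ((y ^ j) (η v)) = (SV ^ j) v := by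
  have key : ∀ j < p.natDegree, ∀ v, D.trace ((y ^ j) (η v)) = (SV ^ j) v := fun j hj v => by
    rw [trace_apply, Finset.sum_eq_single j (fun k hk hne => by
      rw [D.coef_monom j k v hj (Finset.mem_range.1 hk), if_neg hne, map_zero])
      (fun h => absurd (Finset.mem_range.2 hj) h), D.coef_monom j j v hj hj, if_pos rfl]
  rcases hj.lt_or_eq with hj | rfl
  · exact key j hj v
  · have h1 := LinearMap.congr_fun D.killV v
    rw [aeval_eq_sum_range, Finset.sum_range_succ, D.monic.coeff_natDegree, one_smul, LinearMap.add_apply,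
      LinearMap.sum_apply, LinearMap.zero_apply, add_eq_zero_iff_neg_eq] at h1
    have h2 : aeval y p (η v) = ∑ k ∈ Finset.range p.natDegree, p.coeff k • (y ^ k) (η v) +
        (y ^ p.natDegree) (η v) := by
      rw [aeval_eq_sum_range, Finset.sum_range_succ, D.monic.coeff_natDegree, one_smul, LinearMap.add_apply,
        LinearMap.sum_apply]
      rfl
    have h3 := D.trace_mul (η v)
    rw [h2, map_add, map_sum, add_eq_zero_iff_neg_eq] at h3
    rw [← h3, ← h1]
    exact congrArg Neg.neg (Finset.sum_congr rfl fun k hk => by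
      rw [map_smul, key k (Finset.mem_range.1 hk), LinearMap.smul_apply])

lemma trace_eta (v : V) : D.trace (η v) = v := by
  simpa using D.trace_monom (Nat.zero_le _) v

lemma trace_S (h : H) (hcomm : ∀ k x, D.coef k (S x) = SV (D.coef k x)) : D.trace (S h) = SV (D.trace h) := by
  simp only [trace_apply, map_sum, hcomm]
  exact Finset.sum_congr rfl fun k _ => by
    rw [← Module.End.mul_apply, ← Module.End.mul_apply, ← pow_succ, ← pow_succ']

lemma trace_y (h : H) : D.trace (y h) = SV (D.trace h) := by
  have hy : ∀ x, y (aeval y p x) = aeval y p (y x) := fun x =>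
    LinearMap.congr_fun ((Polynomial.commute_X p).map (aeval y) |>.eq |> fun e => by simpa using e) x
  conv_lhs => rw [D.decomp h, map_add, map_add, map_sum, map_sum, hy, D.trace_mul, zero_add]
  rw [trace_apply D h, map_sum]
  refine Finset.sum_congr rfl fun k hk => ?_
  rw [← Module.End.mul_apply, ← pow_succ', D.trace_monom (Finset.mem_range.1 hk), pow_succ',
    Module.End.mul_apply]

/-- `η` is injective modulo the image of `y - S`. -/
theorem eq_zero_of_mem_range (hcomm : ∀ k x, D.coef k (S x) = SV (D.coef k x)) (v : V) (h : H)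
    (e : η v = (y - S) h) : v = 0 := by
  rw [← D.trace_eta v, e, LinearMap.sub_apply, map_sub, D.trace_y, D.trace_S h hcomm, sub_self]

/-- `η` is surjective modulo the image of `y - S`. -/
theorem exists_eq_add (h : H) : ∃ (v : V) (h' : H), h = η v + (y - S) h' := by
  have hpow : ∀ (k : ℕ) (x : H), (y ^ k) x - (S ^ k) x ∈ LinearMap.range (y - S) := fun k x =>
    ⟨(∑ i ∈ Finset.range k, y ^ i * S ^ (k - 1 - i)) x, by
      rw [← Module.End.mul_apply, Commute.mul_geom_sum₂ D.commute k]
      rfl⟩
  have hp : aeval y p (D.quot h) ∈ LinearMap.range (y - S) := by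
    have : aeval y p (D.quot h) = aeval y p (D.quot h) - aeval S p (D.quot h) := by
      rw [D.killS, LinearMap.zero_apply, sub_zero]
    rw [this, aeval_eq_sum_range, aeval_eq_sum_range, LinearMap.sum_apply, LinearMap.sum_apply,
      ← Finset.sum_sub_distrib]
    refine Submodule.sum_mem _ fun k _ => ?_
    rw [LinearMap.smul_apply, LinearMap.smul_apply, ← smul_sub]
    exact Submodule.smul_mem _ _ (hpow k _)
  have : h - η (D.trace h) ∈ LinearMap.range (y - S) := by
    have h4 : h - η (D.trace h) = aeval y p (D.quot h) + ∑ k ∈ Finset.range p.natDegree,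
        ((y ^ k) (η (D.coef k h)) - (S ^ k) (η (D.coef k h))) := by
      rw [trace_apply, map_sum, Finset.sum_sub_distrib]
      conv_lhs => arg 1; rw [D.decomp h]
      simp only [D.eta_pow]
      abel
    rw [h4]
    exact add_mem hp (Submodule.sum_mem _ fun k _ => hpow k _)
  obtain ⟨h', hh'⟩ := this
  exact ⟨D.trace h, h', by rw [hh']; abel⟩

end Division

end Groth.DualCore.ShriekAlg
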