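import Groth.Agent.DualCore.PolyEnd
import Groth.Agent.DualCore.ShriekAlg
import Groth.Agent.DualCore.HomRep

/-!
One polynomial variable: for `S = P[y]` and an `S`-algebra `A` killed by a monic polynomial in `y`,
`Hom(Z|_P, L) ≃ Hom(Z|_S, (S ⊗ L)[1])`.
-/

set_option autoImplicit false

universe u

open CategoryTheory CategoryTheory.Limits DerivedCategory HomologicalComplex TensorProduct
open CategoryTheory.Pretriangulated

attribute [local instance] HasDerivedCategory.standard

namespace Groth.DualCore

local notation "up" => ComplexShape.up ℤ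

variable {P S : Type u} [CommRing P] [CommRing S] [Algebra P S]

/-- Scalars acting on `res X`. -/
noncomputable def actD (X : Dual.D S) (s : S) :
    (DRing.restrictD (algebraMap P S)).obj X ⟶ (DRing.restrictD (algebraMap P S)).obj X :=
  (DRing.restrictD (algebraMap P S)).map (s • 𝟙 X)

lemma actD_mul (X : Dual.D S) (s t : S) : actD (P := P) X (s * t) = actD X s ≫ actD X t := by
  rw [actD, actD, actD, ← Functor.map_comp, Linear.smul_comp, Category.id_comp, smul_smul]

lemma actD_add (X : Dual.D S) (s t : S) : actD (P := P) X (s + t) = actD X s + actD X t := by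
  rw [actD, actD, actD, add_smul, Functor.map_add]

lemma actD_algebraMap (X : Dual.D S) (r : P) :
    actD (P := P) X (algebraMap P S r) = r • 𝟙 ((DRing.restrictD (algebraMap P S)).obj X) :=
  resD_map_smul_id _ r X

lemma actD_one (X : Dual.D S) : actD (P := P) X 1 = 𝟙 _ := by
  rw [← map_one (algebraMap P S), actD_algebraMap, one_smul]

/-- Scalars act on `Hom(res X, W)`. -/
noncomputable def preEnd (X : Dual.D S) (W : Dual.D P) :
    S →ₐ[P] Module.End P ((DRing.restrictD (algebraMap P S)).obj X ⟶ W) where
  toFun s := Linear.leftComp P W (actD X s)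
  map_one' := LinearMap.ext fun h => by
    show actD X 1 ≫ h = h
    rw [actD_one, Category.id_comp]
  map_mul' s t := LinearMap.ext fun h => by
    show actD X (s * t) ≫ h = actD X s ≫ actD X t ≫ h
    rw [actD_mul, Category.assoc]
  map_zero' := LinearMap.ext fun h => by
    show actD X 0 ≫ h = 0
    rw [← map_zero (algebraMap P S), actD_algebraMap, zero_smul, zero_comp]
  map_add' s t := LinearMap.ext fun h => by
    show actD X (s + t) ≫ h = actD X s ≫ h + actD X t ≫ h
    rw [actD_add, Preadditive.add_comp]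
  commutes' r := LinearMap.ext fun h => by
    show actD X (algebraMap P S r) ≫ h = r • h
    rw [actD_algebraMap, Linear.smul_comp, Category.id_comp]

lemma preEnd_apply (X : Dual.D S) (W : Dual.D P) (s : S) (h : (DRing.restrictD (algebraMap P S)).obj X ⟶ W) :
    preEnd X W s h = actD X s ≫ h := rfl

section Flat

variable [Module.Flat P S]

variable (S) in
/-- `res ∘ ext` on `D(P)`. -/
noncomputable abbrev resExtD (L : Dual.D P) : Dual.D P :=
  (DRing.restrictD (algebraMap P S)).obj ((extD P S).obj L)

/-- `res (ext L)` as the complex `S ⊗ E`. -/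
noncomputable def resExtIso (L : Dual.D P) : resExtD S L ≅ Q.obj ((resExtC S).obj (Q.objPreimage L)) :=
  (DRing.restrictD (algebraMap P S)).mapIso ((extD P S).mapIso (Q.objObjPreimageIso L).symm) ≪≫
    (DRing.restrictD (algebraMap P S)).mapIso ((ext P S).mapDerivedCategoryFactors.app (Q.objPreimage L)) ≪≫
    (res (algebraMap P S)).mapDerivedCategoryFactors.app _

/-- `End_P(S)` acting on `res (ext L)`. -/
noncomputable def endD (L : Dual.D P) (f : Module.End P S) : resExtD S L ⟶ resExtD S L :=
  (resExtIso L).hom ≫ Q.map (endCx (Q.objPreimage L) f) ≫ (resExtIso L).inv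

/-- Functionals on `S` acting on `res (ext L)`. -/
noncomputable def funD (L : Dual.D P) (g : S →ₗ[P] P) : resExtD S L ⟶ L :=
  (resExtIso L).hom ≫ Q.map (funCx (Q.objPreimage L) g) ≫ (Q.objObjPreimageIso L).hom

/-- The unit. -/
noncomputable abbrev unitD (L : Dual.D P) : L ⟶ resExtD S L := (extResAdj P S).unit.app L

lemma unitD_eq (L : Dual.D P) :
    unitD (S := S) L = (Q.objObjPreimageIso L).inv ≫ Q.map (unitCx' (S := S) (Q.objPreimage L)) ≫
      (resExtIso L).inv := by
  have hc : (extResCxAdj P S).unit.app (Q.objPreimage L) = unitCx' (S := S) (Q.objPreimage L) := rfl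
  have h := (extResAdj P S).unit.naturality (Q.objObjPreimageIso L).hom
  rw [← cancel_epi (Q.objObjPreimageIso L).hom, Iso.hom_inv_id_assoc]
  refine h.trans ?_
  rw [extResAdj_unit_app, hc]
  simp [resExtIso]

lemma endD_mul (L : Dual.D P) (f g : Module.End P S) : endD L (f * g) = endD L g ≫ endD L f := by
  simp [endD, endCx_mul]

lemma endD_one (L : Dual.D P) : endD (S := S) L 1 = 𝟙 _ := by
  simp [endD, endCx_one]

lemma endD_add (L : Dual.D P) (f g : Module.End P S) : endD L (f + g) = endD L f + endD L g := by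
  simp [endD, endCx_add]

lemma endD_smul (L : Dual.D P) (r : P) (f : Module.End P S) : endD L (r • f) = r • endD L f := by
  simp [endD, endCx_smul, Functor.map_smul, Linear.smul_comp, Linear.comp_smul]

lemma endD_funD (L : Dual.D P) (g : S →ₗ[P] P) (f : Module.End P S) :
    endD L f ≫ funD L g = funD L (g ∘ₗ f) := by
  simp [endD, funD, ← funCx_comp]

lemma funD_zero (L : Dual.D P) : funD (S := S) L 0 = 0 := by
  simp [funD, funCx_zero]

lemma funD_unitD (L : Dual.D P) (g : S →ₗ[P] P) :
    funD L g ≫ unitD L = endD L (Algebra.linearMap P S ∘ₗ g) := by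
  simp [unitD_eq, funD, endD, ← funCx_unit]

lemma unitD_funD (L : Dual.D P) (g : S →ₗ[P] P) : unitD L ≫ funD L g = g 1 • 𝟙 L := by
  rw [unitD_eq, funD, Category.assoc, Category.assoc, Iso.inv_hom_id_assoc, ← Functor.map_comp_assoc,
    unit_funCx, Functor.map_smul, CategoryTheory.Functor.map_id, Linear.smul_comp, Category.id_comp,
    Linear.comp_smul, Iso.inv_hom_id]

lemma endD_mulLeft (L : Dual.D P) (s : S) :
    actD ((extD P S).obj L) s = endD L (LinearMap.mulLeft P s) := by
  let E := Q.objPreimage L
  let a : (extD P S).obj L ≅ Q.obj ((extC P S).obj E) :=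
    (extD P S).mapIso (Q.objObjPreimageIso L).symm ≪≫ (ext P S).mapDerivedCategoryFactors.app E
  have h1 : actD ((extD P S).obj L) s ≫ (DRing.restrictD (algebraMap P S)).map a.hom =
      (DRing.restrictD (algebraMap P S)).map a.hom ≫
        (DRing.restrictD (algebraMap P S)).map (Q.map (s • 𝟙 ((extC P S).obj E))) := by
    rw [actD, ← Functor.map_comp, ← Functor.map_comp, Functor.map_smul, CategoryTheory.Functor.map_id,
      Linear.smul_comp, Linear.comp_smul, Category.id_comp, Category.comp_id]
  rw [endD, ← endCx_mulLeft, ← Category.assoc, Iso.eq_comp_inv]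
  have h2 : (resExtIso L).hom = (DRing.restrictD (algebraMap P S)).map a.hom ≫
      ((res (algebraMap P S)).mapDerivedCategoryFactors.hom.app ((extC P S).obj E)) := by
    simp [resExtIso, a, E]
  rw [h2, ← Category.assoc, h1, Category.assoc, Category.assoc]
  exact congrArg _ ((res (algebraMap P S)).mapDerivedCategoryFactors_hom_naturality _)

variable (X : Dual.D S) (L : Dual.D P)

/-- `End_P(S)` acting on `Hom(res X, res (ext L))`. -/
noncomputable def postEnd :
    Module.End P S →ₐ[P] Module.End P ((DRing.restrictD (algebraMap P S)).obj X ⟶ resExtD S L) where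
  toFun f := Linear.rightComp P _ (endD L f)
  map_one' := LinearMap.ext fun h => by
    show h ≫ endD L 1 = h
    rw [endD_one, Category.comp_id]
  map_mul' f g := LinearMap.ext fun h => by
    show h ≫ endD L (f * g) = (h ≫ endD L g) ≫ endD L f
    rw [endD_mul, Category.assoc]
  map_zero' := LinearMap.ext fun h => by
    show h ≫ endD L 0 = 0
    rw [← zero_smul P (1 : Module.End P S), endD_smul, zero_smul, comp_zero]
  map_add' f g := LinearMap.ext fun h => by
    show h ≫ endD L (f + g) = h ≫ endD L f + h ≫ endD L g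
    rw [endD_add, Preadditive.comp_add]
  commutes' r := LinearMap.ext fun h => by
    show h ≫ endD L (algebraMap P (Module.End P S) r) = r • h
    rw [Algebra.algebraMap_eq_smul_one, endD_smul, endD_one, Linear.comp_smul, Category.comp_id]

/-- The unit applied to `Hom(res X, L)`. -/
noncomputable def etaD :
    ((DRing.restrictD (algebraMap P S)).obj X ⟶ L) →ₗ[P] ((DRing.restrictD (algebraMap P S)).obj X ⟶ resExtD S L) :=
  Linear.rightComp P _ (unitD L)

lemma postEnd_apply (f : Module.End P S) (h : (DRing.restrictD (algebraMap P S)).obj X ⟶ resExtD S L) :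
    postEnd X L f h = h ≫ endD L f := rfl

lemma etaD_apply (v : (DRing.restrictD (algebraMap P S)).obj X ⟶ L) : etaD X L v = v ≫ unitD L := rfl

open Polynomial in
/-- The division data on `Hom(res X, res (ext L))`. -/
noncomputable def division {y : S} (hy : IsPolyVar P y) {p : P[X]} (hp : p.Monic)
    (hX : aeval y p • 𝟙 X = 0) :
    ShriekAlg.Division p (postEnd X L (LinearMap.mulLeft P y)) (preEnd X (resExtD S L) y) (etaD X L)
      (preEnd X L y) where
  monic := hp
  quot h := h ≫ endD L (hy.quot hp)
  coef k := Linear.rightComp P _ (funD L (hy.coef p k))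
  decomp h := by
    have e : (1 : Module.End P S) = Algebra.lmul P S (aeval y p) * hy.quot hp +
        ∑ k ∈ Finset.range p.natDegree,
          (LinearMap.mulLeft P y) ^ k * (Algebra.linearMap P S ∘ₗ hy.coef p k) := by
      refine LinearMap.ext fun s => ?_
      rw [Module.End.one_apply, LinearMap.add_apply, LinearMap.sum_apply]
      conv_lhs => rw [hy.decomp hp s]
      refine congrArg₂ (· + ·) rfl (Finset.sum_congr rfl fun k _ => ?_)
      rw [Module.End.mul_apply, LinearMap.pow_mulLeft]
      rfl
    have e2 := LinearMap.congr_fun (congrArg (postEnd X L) e) h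
    rw [map_one, Module.End.one_apply, map_add, map_mul, map_sum, LinearMap.add_apply,
      LinearMap.sum_apply, ← aeval_algHom_apply (Algebra.lmul P S) y p, ← aeval_algHom_apply] at e2
    refine e2.trans (congrArg₂ (· + ·) rfl (Finset.sum_congr rfl fun k _ => ?_))
    rw [map_mul, map_pow, Module.End.mul_apply]
    refine congrArg _ ?_
    show h ≫ endD L _ = (h ≫ funD L _) ≫ unitD L
    rw [Category.assoc, funD_unitD]
  injective := by
    have e : hy.quot hp * Algebra.lmul P S (aeval y p) = 1 := LinearMap.ext fun s => hy.quot_mul hp s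
    have e2 := congrArg (postEnd X L) e
    rw [map_mul, map_one, ← aeval_algHom_apply (Algebra.lmul P S) y p, ← aeval_algHom_apply] at e2
    intro a b hab
    have := congrArg (postEnd X L (hy.quot hp)) hab
    rwa [← Module.End.mul_apply, ← Module.End.mul_apply, show LinearMap.mulLeft P y = Algebra.lmul P S y from rfl, e2,
      Module.End.one_apply, Module.End.one_apply] at this
  coef_mul k h := by
    have e : hy.coef p k ∘ₗ Algebra.lmul P S (aeval y p) = 0 := LinearMap.ext fun s => hy.coef_mul hp k s
    rw [show LinearMap.mulLeft P y = Algebra.lmul P S y from rfl, aeval_algHom_apply, aeval_algHom_apply]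
    show (h ≫ endD L _) ≫ funD L _ = 0
    rw [Category.assoc, endD_funD, e, funD_zero, Limits.comp_zero]
  coef_monom j k v hj _ := by
    rw [← map_pow, LinearMap.pow_mulLeft]
    show ((v ≫ unitD L) ≫ endD L _) ≫ funD L _ = _
    rw [Category.assoc, Category.assoc, endD_funD, unitD_funD, Linear.comp_smul, Category.comp_id,
      LinearMap.comp_apply, LinearMap.mulLeft_apply, mul_one, hy.coef_pow hp j k hj]
    split_ifs with hjk
    · rw [one_smul]
    · rw [zero_smul]
  commute := LinearMap.ext fun h => show (actD X y ≫ h) ≫ endD L (LinearMap.mulLeft P y) =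
      actD X y ≫ h ≫ endD L (LinearMap.mulLeft P y) from Category.assoc _ _ _
  eta_comm v := Category.assoc (actD X y) v (unitD L)
  killS := by
    rw [aeval_algHom_apply]
    refine LinearMap.ext fun h => ?_
    rw [preEnd_apply, actD, hX, Functor.map_zero, Limits.zero_comp, LinearMap.zero_apply]
  killV := by
    rw [aeval_algHom_apply]
    refine LinearMap.ext fun h => ?_
    rw [preEnd_apply, actD, hX, Functor.map_zero, Limits.zero_comp, LinearMap.zero_apply]

lemma coef_pre {y : S} (hy : IsPolyVar P y) {p : Polynomial P} (hp : p.Monic)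
    (hX : Polynomial.aeval y p • 𝟙 X = 0) (k : ℕ)
    (h : (DRing.restrictD (algebraMap P S)).obj X ⟶ resExtD S L) :
    (division X L hy hp hX).coef k (preEnd X (resExtD S L) y h) =
      preEnd X L y ((division X L hy hp hX).coef k h) :=
  show (actD X y ≫ h) ≫ funD L (hy.coef p k) = actD X y ≫ h ≫ funD L (hy.coef p k) from Category.assoc _ _ _

variable {X L}

/-- The adjunction bijection. -/
noncomputable def adjEquiv (X : Dual.D S) (N : Dual.D S) :
    ((extRes P (S := S)).obj X ⟶ N) ≃
      ((DRing.restrictD (algebraMap P S)).obj X ⟶ (DRing.restrictD (algebraMap P S)).obj N) :=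
  (extResAdj P S).homEquiv _ _

lemma adjEquiv_add (X N : Dual.D S) (f g : (extRes P (S := S)).obj X ⟶ N) :
    adjEquiv X N (f + g) = adjEquiv X N f + adjEquiv X N g := by
  simp only [adjEquiv, Adjunction.homEquiv_unit]
  exact (congrArg _ (Functor.map_add _)).trans (Preadditive.comp_add _ _ _ _ _ _)

lemma adjEquiv_sub (X N : Dual.D S) (f g : (extRes P (S := S)).obj X ⟶ N) :
    adjEquiv X N (f - g) = adjEquiv X N f - adjEquiv X N g := by
  rw [eq_sub_iff_add_eq, ← adjEquiv_add, sub_add_cancel]

/-- `ext v` as a morphism out of `extRes X`. -/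
noncomputable abbrev mapExt (v : (DRing.restrictD (algebraMap P S)).obj X ⟶ L) :
    (extRes P (S := S)).obj X ⟶ (extD P S).obj L := (extD P S).map v

lemma adjEquiv_uD (y : S) (X N : Dual.D S) (f : (extRes P (S := S)).obj X ⟶ N) :
    adjEquiv X N (uD P y X ≫ f) = adjEquiv X N f ≫ actD N y - actD X y ≫ adjEquiv X N f := by
  have e : uD P y X ≫ f = f ≫ (y • 𝟙 N) - (extRes P (S := S)).map (y • 𝟙 X) ≫ f := by
    rw [uD, Preadditive.sub_comp, Linear.smul_comp, Category.id_comp, Linear.comp_smul, Category.comp_id]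
  rw [e, adjEquiv_sub]
  refine congrArg₂ (· - ·) ((extResAdj P S).homEquiv_naturality_right f (y • 𝟙 N)) ?_
  exact (extResAdj P S).homEquiv_naturality_left (actD X y) f

lemma adjEquiv_extD (X : Dual.D S) (v : (DRing.restrictD (algebraMap P S)).obj X ⟶ L) :
    adjEquiv X ((extD P S).obj L) ((extD P S).map v) = v ≫ unitD L := by
  rw [adjEquiv, Adjunction.homEquiv_unit]
  exact ((extResAdj P S).unit.naturality v).symm

variable {y : S} (hy : IsPolyVar P y) {p : Polynomial P} (hp : p.Monic)
  (hX : Polynomial.aeval y p • 𝟙 X = 0)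

include hy hp hX in
lemma uD_comp_eq_zero (f : (extRes P (S := S)).obj X ⟶ (extD P S).obj L) (hf : uD P y X ≫ f = 0) : f = 0 := by
  have h := congrArg (adjEquiv X _) hf
  rw [adjEquiv_uD, endD_mulLeft, show adjEquiv (P := P) X ((extD P S).obj L) 0 = 0 by
    simp [adjEquiv, Adjunction.homEquiv_unit]] at h
  have h2 : adjEquiv X _ f = 0 := (division X L hy hp hX).sub_injective (h.trans (map_zero _).symm)
  rw [← (adjEquiv X _).symm_apply_apply f, h2]
  simp [adjEquiv, Adjunction.homEquiv_counit]

include hy hp hX in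
lemma eq_zero_of_extD_eq (v : (DRing.restrictD (algebraMap P S)).obj X ⟶ L)
    (f : (extRes P (S := S)).obj X ⟶ (extD P S).obj L) (hf : (extD P S).map v = uD P y X ≫ f) : v = 0 := by
  have h := congrArg (adjEquiv X _) hf
  rw [adjEquiv_uD, endD_mulLeft, adjEquiv_extD] at h
  exact (division X L hy hp hX).eq_zero_of_mem_range (coef_pre X L hy hp hX) v (adjEquiv X _ f) h

include hy hp hX in
lemma exists_extD_add (f : (extRes P (S := S)).obj X ⟶ (extD P S).obj L) :
    ∃ (v : (DRing.restrictD (algebraMap P S)).obj X ⟶ L) (f' : (extRes P (S := S)).obj X ⟶ (extD P S).obj L),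
      f = mapExt v + uD P y X ≫ f' := by
  obtain ⟨v, h', e⟩ := (division X L hy hp hX).exists_eq_add (adjEquiv X _ f)
  refine ⟨v, (adjEquiv X _).symm h', (adjEquiv X _).injective (e.trans ?_)⟩
  have e1 : adjEquiv (P := P) X ((extD P S).obj L) (mapExt v + uD P y X ≫ (adjEquiv X _).symm h') =
      adjEquiv X _ (mapExt v) + adjEquiv X _ (uD P y X ≫ (adjEquiv X _).symm h') := adjEquiv_add _ _ _ _
  rw [e1, adjEquiv_extD, adjEquiv_uD, Equiv.apply_symm_apply, endD_mulLeft]
  rfl

include hy hp hX in
/-- `v ↦ δ ≫ (ext v)[1]` is bijective. -/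
theorem bijective_delta :
    Function.Bijective fun v : (DRing.restrictD (algebraMap P S)).obj X ⟶ L =>
      (deltaD hy).app X ≫ ((extD P S).map v)⟦(1 : ℤ)⟧' := by
  obtain ⟨m, hT⟩ := exists_triangle hy X
  let M := (extD P S).obj L
  let c : (extD P S).obj (L⟦(1 : ℤ)⟧) ≅ M⟦(1 : ℤ)⟧ := ((extD P S).commShiftIso (1 : ℤ)).app L
  have hδu : (deltaD hy).app X ≫ (uD P y X)⟦(1 : ℤ)⟧' = 0 := comp_distTriang_mor_zero₃₁ _ hT
  constructor
  · intro v w hvw
    rw [← sub_eq_zero]
    have h0 : (deltaD hy).app X ≫ ((extD P S).map (v - w))⟦(1 : ℤ)⟧' = 0 := by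
      rw [Functor.map_sub, Functor.map_sub, Preadditive.comp_sub, sub_eq_zero]
      exact hvw
    obtain ⟨g, hg⟩ := Triangle.yoneda_exact₂ _ (rot_of_distTriang _ (rot_of_distTriang _ hT)) _ h0
    obtain ⟨f, rfl⟩ := (shiftFunctor (Dual.D S) (1 : ℤ)).map_surjective g
    let f₀ : (extRes P (S := S)).obj X ⟶ (extD P S).obj L := f
    refine eq_zero_of_extD_eq hy hp hX (v - w) (-f₀) ((shiftFunctor (Dual.D S) (1 : ℤ)).map_injective ?_)
    rw [Preadditive.comp_neg, Functor.map_neg, Functor.map_comp, ← Preadditive.neg_comp]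
    exact hg
  · intro g
    have hm : m ≫ g = 0 := by
      have h0 : uD P y X ≫ m ≫ g ≫ c.inv = 0 := by
        rw [← Category.assoc, show uD P y X ≫ m = 0 from comp_distTriang_mor_zero₁₂ _ hT, Limits.zero_comp]
      have h1 := uD_comp_eq_zero hy hp hX _ h0
      rw [← cancel_mono c.inv, Category.assoc, h1, Limits.zero_comp]
    obtain ⟨f1, hf1⟩ := Triangle.yoneda_exact₂ _ (rot_of_distTriang _ hT) g hm
    obtain ⟨f, rfl⟩ := (shiftFunctor (Dual.D S) (1 : ℤ)).map_surjective f1
    obtain ⟨v, f', rfl⟩ := exists_extD_add hy hp hX f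
    refine ⟨v, ?_⟩
    refine Eq.trans ?_ hf1.symm
    show _ = (deltaD hy).app X ≫ (mapExt v + uD P y X ≫ f')⟦(1 : ℤ)⟧'
    rw [Functor.map_add, Preadditive.comp_add, Functor.map_comp, ← Category.assoc, hδu, Limits.zero_comp,
      add_zero]

end Flat

end Groth.DualCore

namespace Groth.DualCore

variable {P S : Type u} [CommRing P] [CommRing S] [Algebra P S] [Module.Flat P S] {A : Type u} [CommRing A]

/-- One variable: `Hom(Z|_P, L) ≃ Hom(Z|_S, (S ⊗ L)[1])`. -/
noncomputable def stepHomIso {y : S} (hy : IsPolyVar P y) (χ : S →+* A) (χP : P →+* A)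
    (h : χP = χ.comp (algebraMap P S)) {p : Polynomial P} (hp : p.Monic) (hχ : χ (Polynomial.aeval y p) = 0)
    (L : Dual.D P) :
    HomIso (DRing.restrictD χP) L (DRing.restrictD χ) (((extD P S).obj L)⟦(1 : ℤ)⟧) :=
  (HomIso.congr (restrictDComp (algebraMap P S) χ χP h) (Iso.refl L)).trans
    { equiv := fun Z => Equiv.ofBijective _ (bijective_delta (X := (DRing.restrictD χ).obj Z) (L := L) hy hp (by
        have h1 := resD_map_smul_id χ (Polynomial.aeval y p) Z
        rw [hχ, zero_smul, Functor.map_zero] at h1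
        exact h1.symm))
      natural := fun {Z Z'} g v => by
        show (deltaD hy).app ((DRing.restrictD χ).obj Z') ≫
            ((extD P S).map ((DRing.restrictD (algebraMap P S)).map ((DRing.restrictD χ).map g) ≫ v))⟦(1 : ℤ)⟧' =
          (DRing.restrictD χ).map g ≫
            (deltaD hy).app ((DRing.restrictD χ).obj Z) ≫ ((extD P S).map v)⟦(1 : ℤ)⟧'
        rw [Functor.map_comp, Functor.map_comp]
        exact (Category.assoc _ _ _).symm.trans ((congrArg (· ≫ _)
          ((deltaD hy).naturality ((DRing.restrictD χ).map g)).symm).trans (Category.assoc _ _ _)) }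

end Groth.DualCore
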