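import Groth.Agent.DualCore.ShriekAdj
import Mathlib.RingTheory.Polynomial.Basic
import Mathlib.Algebra.Polynomial.Basis
import Mathlib.Algebra.Homology.DerivedCategory.ShortExact
import Mathlib.Algebra.Homology.HomologicalComplexAbelian

/-!
For `S = P[y]`, the natural triangle `S ⊗ X → S ⊗ X → X → (S ⊗ X)[1]` on `D(S)`.
-/

set_option autoImplicit false

universe u

open CategoryTheory CategoryTheory.Limits DerivedCategory HomologicalComplex TensorProduct
open CategoryTheory.Pretriangulated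

attribute [local instance] HasDerivedCategory.standard

namespace Groth.DualCore

local notation "up" => ComplexShape.up ℤ

variable {P S : Type u} [CommRing P] [CommRing S] [Algebra P S]

/-- `S` is the polynomial ring over `P` in `y`. -/
def IsPolyVar (P : Type u) {S : Type u} [CommRing P] [CommRing S] [Algebra P S] (y : S) : Prop :=
  Function.Bijective (Polynomial.aeval (R := P) y)

namespace IsPolyVar

variable {y : S} (hy : IsPolyVar P y)

/-- The basis of powers of `y`. -/
noncomputable def basis : Module.Basis ℕ P S :=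
  (Polynomial.basisMonomials P).map (AlgEquiv.ofBijective (Polynomial.aeval (R := P) y) hy).toLinearEquiv

lemma basis_apply (k : ℕ) : hy.basis k = y ^ k := by
  simp [basis]

include hy in
lemma free : Module.Free P S := Module.Free.of_basis hy.basis

include hy in
lemma flat : Module.Flat P S :=
  haveI := hy.free
  inferInstance

lemma hom_ext {N : Type*} [AddCommGroup N] [Module P N] (hy : IsPolyVar P y) {f g : S →ₗ[P] N}
    (h : ∀ k, f (y ^ k) = g (y ^ k)) : f = g :=
  hy.basis.ext fun k => by rw [hy.basis_apply, h]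

variable (M : Type u) [AddCommGroup M] [Module P M] (ym : M →ₗ[P] M)

/-- The candidate contraction `y^k ⊗ m ↦ ∑ y^i ⊗ y^(k-1-i) m`. -/
noncomputable def contraction : S ⊗[P] M →ₗ[P] S ⊗[P] M :=
  TensorProduct.lift (hy.basis.constr P fun k =>
    ∑ i ∈ Finset.range k, (TensorProduct.mk P S M (y ^ i)) ∘ₗ (ym ^ (k - 1 - i)))

lemma contraction_tmul (k : ℕ) (m : M) :
    hy.contraction M ym ((y ^ k) ⊗ₜ m) = ∑ i ∈ Finset.range k, (y ^ i) ⊗ₜ[P] (ym ^ (k - 1 - i)) m := by
  rw [contraction, TensorProduct.lift.tmul, ← hy.basis_apply, Module.Basis.constr_basis, LinearMap.sum_apply]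
  rfl

/-- `y ⊗ 1 - 1 ⊗ y`. -/
noncomputable def diffMap (y : S) (M : Type u) [AddCommGroup M] [Module P M] (ym : M →ₗ[P] M) :
    S ⊗[P] M →ₗ[P] S ⊗[P] M :=
  (LinearMap.mulLeft P y).rTensor M - ym.lTensor S

lemma diffMap_tmul (s : S) (m : M) :
    diffMap y M ym (s ⊗ₜ m) = (y * s) ⊗ₜ m - s ⊗ₜ ym m := by
  simp [diffMap]

lemma contraction_diffMap (z : S ⊗[P] M) : hy.contraction M ym (diffMap y M ym z) = z := by
  suffices (hy.contraction M ym) ∘ₗ diffMap y M ym = LinearMap.id from LinearMap.congr_fun this z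
  refine TensorProduct.ext' fun s m => LinearMap.congr_fun (hy.hom_ext
    (f := (hy.contraction M ym ∘ₗ diffMap y M ym) ∘ₗ (TensorProduct.mk P S M).flip m)
    (g := LinearMap.id ∘ₗ (TensorProduct.mk P S M).flip m) fun k => ?_) s
  show hy.contraction M ym (diffMap y M ym ((y ^ k) ⊗ₜ m)) = (y ^ k) ⊗ₜ m
  rw [diffMap_tmul, map_sub, ← pow_succ', hy.contraction_tmul, hy.contraction_tmul, Finset.sum_range_succ]
  rw [show k + 1 - 1 - k = 0 by omega, pow_zero, Module.End.one_apply]
  have h : ∀ i ∈ Finset.range k, (y ^ i) ⊗ₜ[P] (ym ^ (k + 1 - 1 - i)) m = (y ^ i) ⊗ₜ (ym ^ (k - 1 - i)) (ym m) := by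
    intro i hi
    rw [← Module.End.mul_apply, ← pow_succ]
    have := Finset.mem_range.1 hi
    congr 3
    omega
  rw [Finset.sum_congr rfl h]
  abel

lemma diffMap_contraction (z : S ⊗[P] M) (e : S ⊗[P] M →ₗ[P] M)
    (he : ∀ k m, e ((y ^ k) ⊗ₜ m) = (ym ^ k) m) :
    diffMap y M ym (hy.contraction M ym z) = z - (1 : S) ⊗ₜ e z := by
  suffices (diffMap y M ym) ∘ₗ hy.contraction M ym = LinearMap.id - (TensorProduct.mk P S M 1) ∘ₗ e from
    LinearMap.congr_fun this z
  refine TensorProduct.ext' fun s m => ?_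
  suffices H : ((diffMap y M ym ∘ₗ hy.contraction M ym) ∘ₗ (TensorProduct.mk P S M).flip m) =
      ((LinearMap.id - (TensorProduct.mk P S M 1) ∘ₗ e) ∘ₗ (TensorProduct.mk P S M).flip m) by
    simpa using LinearMap.congr_fun H s
  refine hy.hom_ext fun k => ?_
  show diffMap y M ym (hy.contraction M ym ((y ^ k) ⊗ₜ m)) = (y ^ k) ⊗ₜ m - (1 : S) ⊗ₜ e ((y ^ k) ⊗ₜ m)
  rw [he, hy.contraction_tmul, map_sum]
  have h : ∀ i ∈ Finset.range k, diffMap y M ym ((y ^ i) ⊗ₜ[P] (ym ^ (k - 1 - i)) m) =
      (y ^ (i + 1)) ⊗ₜ (ym ^ (k - (i + 1))) m - (y ^ i) ⊗ₜ (ym ^ (k - i)) m := by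
    intro i hi
    have := Finset.mem_range.1 hi
    rw [diffMap_tmul, ← pow_succ', ← Module.End.mul_apply, ← pow_succ',
      show k - 1 - i = k - (i + 1) by omega, show k - (i + 1) + 1 = k - i by omega]
  rw [Finset.sum_congr rfl h, Finset.sum_range_sub (fun i => (y ^ i) ⊗ₜ[P] (ym ^ (k - i)) m)]
  simp

end IsPolyVar

variable (P) in
/-- `y • 1 - ext (res (y • 1))` on modules. -/
noncomputable def uMod (y : S) (M : ModuleCat.{u} S) :
    (ext P S).obj ((res (algebraMap P S)).obj M) ⟶ (ext P S).obj ((res (algebraMap P S)).obj M) :=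
  y • 𝟙 _ - (ext P S).map ((res (algebraMap P S)).map (y • 𝟙 M))

variable (P) in
/-- The counit on modules. -/
noncomputable def mMod (M : ModuleCat.{u} S) : (ext P S).obj ((res (algebraMap P S)).obj M) ⟶ M :=
  (ModuleCat.extendRestrictScalarsAdj (algebraMap P S)).counit.app M

variable (P) in
lemma mMod_extEquiv (M : ModuleCat.{u} S) (s : S) (m : (res (algebraMap P S)).obj M) :
    (mMod P M).hom (extEquiv _ (s ⊗ₜ[P] m)) = s • (m : M) := rfl

variable (P) in
lemma uMod_extEquiv (y : S) (M : ModuleCat.{u} S) (z : S ⊗[P] ((res (algebraMap P S)).obj M : Type u)) :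
    (uMod P y M).hom (extEquiv _ z) =
      extEquiv _ (IsPolyVar.diffMap y _ ((res (algebraMap P S)).map (y • 𝟙 M)).hom z) := by
  rw [IsPolyVar.diffMap, LinearMap.sub_apply, map_sub]
  show (y • extEquiv _ z : ((ext P S).obj ((res (algebraMap P S)).obj M) : Type u)) - _ = _
  rw [ext_map_extEquiv, ← map_smul]
  congr 1

variable (P) in
lemma uMod_mMod (y : S) (M : ModuleCat.{u} S) : uMod P y M ≫ mMod P M = 0 := by
  refine ModuleCat.hom_ext (LinearMap.ext fun x => ?_)
  obtain ⟨z, rfl⟩ := (extEquiv ((res (algebraMap P S)).obj M)).surjective x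
  show (mMod P M).hom ((uMod P y M).hom _) = 0
  rw [uMod_extEquiv]
  induction z with
  | zero => simp
  | add a b ha hb => rw [map_add, map_add, map_add, ha, hb, add_zero]
  | tmul s m =>
    rw [IsPolyVar.diffMap_tmul, map_sub, map_sub, mMod_extEquiv, mMod_extEquiv]
    show (y * s) • (m : M) - s • (y • (m : M)) = 0
    rw [smul_smul, mul_comm, sub_self]

variable (P) in
/-- The module sequence. -/
noncomputable def seqMod (y : S) (M : ModuleCat.{u} S) : ShortComplex (ModuleCat.{u} S) :=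
  ShortComplex.mk (uMod P y M) (mMod P M) (uMod_mMod P y M)

lemma seqMod_shortExact {y : S} (hy : IsPolyVar P y) (M : ModuleCat.{u} S) : (seqMod P y M).ShortExact := by
  let N := (res (algebraMap P S)).obj M
  let ym : N →ₗ[P] N := ((res (algebraMap P S)).map (y • 𝟙 M)).hom
  have hym : ∀ (k : ℕ) (m : N), (ym ^ k) m = (y ^ k • (m : M) : M) := by
    intro k
    induction k with
    | zero => intro m; exact (one_smul S (m : M)).symm.trans (by rw [pow_zero])
    | succ k ih =>
      intro m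
      rw [pow_succ', Module.End.mul_apply, ih, pow_succ', ← smul_smul]
      rfl
  refine { exact := ?_, mono_f := ?_, epi_g := ?_ }
  · refine (ShortComplex.moduleCat_exact_iff _).2 fun x hx => ?_
    obtain ⟨z, rfl⟩ := (extEquiv N).surjective x
    let e : S ⊗[P] N →ₗ[P] N :=
      { toFun := fun w => (mMod P M).hom (extEquiv N w)
        map_add' := fun a b => by rw [map_add, map_add]; rfl
        map_smul' := fun r w => by
          rw [← IsScalarTower.algebraMap_smul S r w, map_smul, map_smul]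
          rfl }
    refine ⟨extEquiv N (hy.contraction N ym z), ?_⟩
    show (uMod P y M).hom _ = _
    rw [uMod_extEquiv, hy.diffMap_contraction N ym z e (fun k m => by
      rw [hym]; exact mMod_extEquiv P M _ _), show e z = 0 from hx, TensorProduct.tmul_zero, sub_zero]
  · refine (ModuleCat.mono_iff_injective _).2 fun a b hab => ?_
    obtain ⟨z, rfl⟩ := (extEquiv N).surjective a
    obtain ⟨w, rfl⟩ := (extEquiv N).surjective b
    have h := (extEquiv N).injective ((uMod_extEquiv P y M z).symm.trans (hab.trans (uMod_extEquiv P y M w)))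
    rw [← hy.contraction_diffMap N ym z, ← hy.contraction_diffMap N ym w]
    exact congrArg _ (congrArg _ h)
  · refine (ModuleCat.epi_iff_surjective _).2 fun m => ⟨extEquiv N ((1 : S) ⊗ₜ (m : N)), ?_⟩
    exact (mMod_extEquiv P M 1 m).trans (one_smul S _)

section Derived

variable (P) (y : S)

/-- `y - (1 ⊗ y)` on complexes. -/
noncomputable def uCx (E : CochainComplex (ModuleCat.{u} S) ℤ) :
    (resC (algebraMap P S) ⋙ extC P S).obj E ⟶ (resC (algebraMap P S) ⋙ extC P S).obj E :=
  y • 𝟙 _ - (resC (algebraMap P S) ⋙ extC P S).map (y • 𝟙 E)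

/-- The counit on complexes. -/
noncomputable def mCx (E : CochainComplex (ModuleCat.{u} S) ℤ) :
    (resC (algebraMap P S) ⋙ extC P S).obj E ⟶ E where
  f i := mMod P (E.X i)
  comm' i j _ := ((ModuleCat.extendRestrictScalarsAdj (algebraMap P S)).counit.naturality (E.d i j)).symm

/-- The complex sequence. -/
noncomputable def seqCx (E : CochainComplex (ModuleCat.{u} S) ℤ) :
    ShortComplex (CochainComplex (ModuleCat.{u} S) ℤ) :=
  ShortComplex.mk (uCx P y E) (mCx P E) (by ext i : 1; exact uMod_mMod P y (E.X i))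

variable [Module.Flat P S]

/-- `X ↦ S ⊗ X`. -/
noncomputable abbrev extRes : Dual.D S ⥤ Dual.D S := DRing.restrictD (algebraMap P S) ⋙ extD P S

/-- `extRes` on complexes. -/
noncomputable def extResFac :
    Q ⋙ extRes P (S := S) ≅ (resC (algebraMap P S) ⋙ extC P S) ⋙ Q :=
  (Functor.associator _ _ _).symm ≪≫
    Functor.isoWhiskerRight (res (algebraMap P S)).mapDerivedCategoryFactors _ ≪≫ Functor.associator _ _ _ ≪≫
    Functor.isoWhiskerLeft _ (ext P S).mapDerivedCategoryFactors ≪≫ (Functor.associator _ _ _).symm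

/-- `y - (1 ⊗ y)` on the derived category. -/
noncomputable def uD (X : Dual.D S) : (extRes P (S := S)).obj X ⟶ (extRes P (S := S)).obj X :=
  y • 𝟙 _ - (extRes P (S := S)).map (y • 𝟙 X)

variable {P y}

lemma seqCx_shortExact (hy : IsPolyVar P y) (E : CochainComplex (ModuleCat.{u} S) ℤ) :
    (seqCx P y E).ShortExact :=
  shortExact_of_degreewise_shortExact _ fun i => ShortComplex.shortExact_of_iso
    (ShortComplex.isoMk (Iso.refl _) (Iso.refl _) (Iso.refl _) (by simp [seqMod, seqCx, uMod, uCx]; rfl)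
      (by simp [seqMod, seqCx, mCx]; rfl) :
        seqMod P y (E.X i) ≅ (seqCx P y E).map (eval _ up i))
    (seqMod_shortExact hy (E.X i))

/-- Morphisms of the sequences. -/
noncomputable def seqCxMap {E E' : CochainComplex (ModuleCat.{u} S) ℤ} (f : E ⟶ E') :
    seqCx P y E ⟶ seqCx P y E' :=
  ShortComplex.homMk ((resC (algebraMap P S) ⋙ extC P S).map f) ((resC (algebraMap P S) ⋙ extC P S).map f) f
    (by
      show (resC (algebraMap P S) ⋙ extC P S).map f ≫
          (y • 𝟙 _ - (resC (algebraMap P S) ⋙ extC P S).map (y • 𝟙 E')) =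
        (y • 𝟙 _ - (resC (algebraMap P S) ⋙ extC P S).map (y • 𝟙 E)) ≫
          (resC (algebraMap P S) ⋙ extC P S).map f
      rw [Preadditive.comp_sub, Preadditive.sub_comp, Linear.comp_smul, Linear.smul_comp, Category.comp_id,
        Category.id_comp, ← Functor.map_comp, ← Functor.map_comp, Linear.comp_smul, Linear.smul_comp,
        Category.comp_id, Category.id_comp])
    (by
      ext i : 1
      exact (ModuleCat.extendRestrictScalarsAdj (algebraMap P S)).counit.naturality (f.f i))

/-- The connecting morphisms on complexes. -/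
noncomputable def deltaCx (hy : IsPolyVar P y) :
    (Q : CochainComplex (ModuleCat.{u} S) ℤ ⥤ Dual.D S) ⟶
      Q ⋙ extRes P (S := S) ⋙ shiftFunctor (Dual.D S) (1 : ℤ) where
  app E := triangleOfSESδ (seqCx_shortExact hy E) ≫ ((extResFac P).inv.app E)⟦1⟧'
  naturality E E' f := by
    show Q.map f ≫ triangleOfSESδ (seqCx_shortExact hy E') ≫ _ =
      (triangleOfSESδ (seqCx_shortExact hy E) ≫ _) ≫ ((extRes P (S := S)).map (Q.map f))⟦1⟧'
    have h := triangleOfSESδ_naturality (seqCx_shortExact hy E) (seqCx_shortExact hy E') (seqCxMap f)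
    have hn : (Q.map ((resC (algebraMap P S) ⋙ extC P S).map f))⟦(1 : ℤ)⟧' ≫ ((extResFac P).inv.app E')⟦(1 : ℤ)⟧' =
        ((extResFac P).inv.app E)⟦(1 : ℤ)⟧' ≫ ((extRes P (S := S)).map (Q.map f))⟦(1 : ℤ)⟧' :=
      ((shiftFunctor (Dual.D S) (1 : ℤ)).map_comp _ _).symm.trans
        ((congrArg (fun z => (shiftFunctor (Dual.D S) (1 : ℤ)).map z) ((extResFac P).inv.naturality f)).trans
          ((shiftFunctor (Dual.D S) (1 : ℤ)).map_comp _ _))
    exact (Category.assoc _ _ _).symm.trans ((congrArg (· ≫ _) h.symm).trans ((Category.assoc _ _ _).trans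
      ((congrArg (triangleOfSESδ (seqCx_shortExact hy E) ≫ ·) hn).trans (Category.assoc _ _ _).symm)))

/-- The connecting morphism `X → (S ⊗ X)[1]`, natural in `X`. -/
noncomputable def deltaD (hy : IsPolyVar P y) :
    𝟭 (Dual.D S) ⟶ extRes P (S := S) ⋙ shiftFunctor (Dual.D S) (1 : ℤ) :=
  letI : Localization.Lifting Q (quasiIso (ModuleCat.{u} S) up) Q (𝟭 (Dual.D S)) := ⟨Functor.rightUnitor _⟩
  letI : Localization.Lifting Q (quasiIso (ModuleCat.{u} S) up)
      (Q ⋙ extRes P (S := S) ⋙ shiftFunctor (Dual.D S) (1 : ℤ))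
      (extRes P (S := S) ⋙ shiftFunctor (Dual.D S) (1 : ℤ)) := ⟨Iso.refl _⟩
  Localization.liftNatTrans Q (quasiIso (ModuleCat.{u} S) up) Q
    (Q ⋙ extRes P (S := S) ⋙ shiftFunctor (Dual.D S) (1 : ℤ)) _ _ (deltaCx hy)

lemma deltaD_app_Q (hy : IsPolyVar P y) (E : CochainComplex (ModuleCat.{u} S) ℤ) :
    (deltaD hy).app (Q.obj E) = triangleOfSESδ (seqCx_shortExact hy E) ≫ ((extResFac P).inv.app E)⟦1⟧' := by
  rw [deltaD, Localization.liftNatTrans_app]
  simp [Localization.Lifting.iso, deltaCx]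
  rfl

lemma uD_naturality {X Y : Dual.D S} (f : X ⟶ Y) :
    (extRes P (S := S)).map f ≫ uD P y Y = uD P y X ≫ (extRes P (S := S)).map f := by
  rw [uD, uD, Preadditive.comp_sub, Preadditive.sub_comp, Linear.comp_smul, Linear.smul_comp, Category.comp_id,
    Category.id_comp, ← Functor.map_comp, ← Functor.map_comp, Linear.comp_smul, Linear.smul_comp,
    Category.comp_id, Category.id_comp]

lemma uD_Q (E : CochainComplex (ModuleCat.{u} S) ℤ) :
    uD P y (Q.obj E) ≫ (extResFac P).hom.app E = (extResFac P).hom.app E ≫ Q.map (uCx P y E) := by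
  have h1 : Q.map (uCx P y E) = y • 𝟙 (Q.obj ((resC (algebraMap P S) ⋙ extC P S).obj E)) -
      Q.map ((resC (algebraMap P S) ⋙ extC P S).map (y • 𝟙 E)) := by
    rw [uCx]
    rw [Functor.map_sub, Functor.map_smul, CategoryTheory.Functor.map_id]
  rw [h1, uD, Preadditive.sub_comp]
  refine Eq.trans ?_ (Preadditive.comp_sub _ _ _).symm
  refine congrArg₂ (· - ·) ?_ ?_
  · exact (Linear.smul_comp _ _ _ _ _ _).trans ((congrArg (y • ·) ((Category.id_comp _).trans
      (Category.comp_id _).symm)).trans (Linear.comp_smul _ _ _ _ _ _).symm)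
  · rw [show (y • 𝟙 (Q.obj E)) = Q.map (y • 𝟙 E) by rw [Functor.map_smul, CategoryTheory.Functor.map_id]]
    exact (extResFac P).hom.naturality (y • 𝟙 E)

/-- The natural triangle. -/
theorem exists_triangle (hy : IsPolyVar P y) (X : Dual.D S) :
    ∃ m : (extRes P (S := S)).obj X ⟶ X,
      Triangle.mk (uD P y X) m ((deltaD hy).app X) ∈ distTriang (Dual.D S) := by
  let E := (Q (C := ModuleCat.{u} S)).objPreimage X
  let e : Q.obj E ≅ X := (Q (C := ModuleCat.{u} S)).objObjPreimageIso X
  let a : Q.obj ((resC (algebraMap P S) ⋙ extC P S).obj E) ≅ (extRes P (S := S)).obj X :=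
    ((extResFac P).app E).symm ≪≫ (extRes P (S := S)).mapIso e
  refine ⟨a.inv ≫ Q.map (mCx P E) ≫ e.hom, isomorphic_distinguished _
    (triangleOfSES_distinguished (seqCx_shortExact hy E)) _ (Iso.symm (Triangle.isoMk _ _ a a e ?_ ?_ ?_))⟩
  · show Q.map (uCx P y E) ≫ a.hom = a.hom ≫ uD P y X
    show _ ≫ (extResFac P).inv.app E ≫ (extRes P (S := S)).map e.hom =
      ((extResFac P).inv.app E ≫ (extRes P (S := S)).map e.hom) ≫ uD P y X
    rw [Category.assoc, uD_naturality, ← Category.assoc, ← Category.assoc]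
    congr 1
    rw [← cancel_epi ((extResFac P).hom.app E), Iso.hom_inv_id_app_assoc]
    exact (Category.assoc _ _ _).symm.trans ((congrArg (· ≫ _) (uD_Q (y := y) E).symm).trans
      ((Category.assoc _ _ _).trans ((congrArg (uD P y (Q.obj E) ≫ ·) ((extResFac P).hom_inv_id_app E)).trans
        (Category.comp_id _))))
  · show Q.map (mCx P E) ≫ e.hom = a.hom ≫ a.inv ≫ Q.map (mCx P E) ≫ e.hom
    rw [Iso.hom_inv_id_assoc]
  · show triangleOfSESδ (seqCx_shortExact hy E) ≫ a.hom⟦1⟧' = e.hom ≫ (deltaD hy).app X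
    refine Eq.trans ?_ ((deltaD hy).naturality e.hom).symm
    rw [deltaD_app_Q]
    show _ = (_ ≫ _) ≫ ((extRes P (S := S)).map e.hom)⟦1⟧'
    rw [Category.assoc, ← Functor.map_comp]
    rfl

end Derived

end Groth.DualCore
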