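import Groth.Agent.DualCore.FiniteMap
import Groth.Agent.DualCore.Regular
import Groth.Agent.DualCore.Representing

/-!
# Triangles from short exact sequences `0 → I → A → A/I → 0`
-/

set_option autoImplicit false

universe u

open CategoryTheory CategoryTheory.Limits CategoryTheory.Pretriangulated DerivedCategory HomologicalComplex

attribute [local instance] HasDerivedCategory.standard

namespace Groth.DualCore

variable {A : Type u} [CommRing A] {B : Type u} [CommRing B] [Algebra A B]

/-- `res (coext I) ≅ Hom_A(B, I)`. -/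
noncomputable def InjRep.resCoextIso {ω : Dual.D A} (r : InjRep ω) :
    (resC (algebraMap A B)).obj ((coextC (algebraMap A B)).obj r.I) ≅ r.DC B :=
  HomologicalComplex.Hom.isoOfComponents
    (fun n =>
      ({
          toFun := fun g => (ModuleCat.CoextendScalars.equiv (algebraMap A B) (r.I.X n) g) ∘ₗ
            (restrictSelf A B).toLinearMap
          invFun := fun g => (ModuleCat.CoextendScalars.equiv (algebraMap A B) (r.I.X n)).symm
            (g ∘ₗ (restrictSelf A B).symm.toLinearMap)
          left_inv := fun g => ModuleCat.CoextendScalars.ext (LinearMap.ext fun _ => rfl)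
          right_inv := fun g => LinearMap.ext fun _ => rfl
          map_add' := fun g g' => LinearMap.ext fun _ => rfl
          map_smul' := fun a g => LinearMap.ext fun b => by
            have key : ∀ g : (ModuleCat.coextendScalars.{u, u, u} (algebraMap A B)).obj (r.I.X n),
                g (b * algebraMap A B a) = a • g b := fun g =>
              (congrArg g (mul_comm b _)).trans
                (LinearMap.map_smul (ModuleCat.CoextendScalars.equiv (algebraMap A B) (r.I.X n) g) a b)
            exact key g } :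
        ((res (algebraMap A B)).obj
          ((ModuleCat.coextendScalars.{u, u, u} (algebraMap A B)).obj (r.I.X n)) : Type u) ≃ₗ[A]
            (B →ₗ[A] r.I.X n)).toModuleIso)
    (fun i j _ => by ext g; rfl)

/-- `res (R ω) ≅ Hom_A(B, I)` for a representing object. -/
lemma InjRep.nonempty_res_iso {ω : Dual.D A} (r : InjRep ω) {W : Dual.D B}
    {ε : (DRing.restrictD (algebraMap A B)).obj W ⟶ ω} (h : Represents (algebraMap A B) ε) :
    Nonempty ((DRing.restrictD (algebraMap A B)).obj W ≅ Q.obj (r.DC B)) := by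
  obtain ⟨e, -⟩ := h.exists_iso (r.represents_coext (φ := algebraMap A B))
  exact ⟨(DRing.restrictD (algebraMap A B)).mapIso e ≪≫
    (res (algebraMap A B)).mapDerivedCategoryFactors.app _ ≪≫ Q.mapIso r.resCoextIso⟩

/-- The triangle of `0 → M → A → N → 0`, moved along isomorphisms. -/
lemma InjRep.exists_triangle {ω : Dual.D A} (r : InjRep ω) {M N : Type u} [AddCommGroup M] [Module A M]
    [AddCommGroup N] [Module A N] (f : M →ₗ[A] A) (g : A →ₗ[A] N) (hf : Function.Injective f)
    (hg : Function.Surjective g) (hfg : Function.Exact f g) {X Z : Dual.D A}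
    (eX : X ≅ Q.obj (r.DC N)) (eZ : Q.obj (r.DC M) ≅ Z) :
    ∃ (u : X ⟶ ω) (w : Z ⟶ X⟦(1 : ℤ)⟧), Triangle.mk u
      ((Q.mapIso r.evOneIso ≪≫ r.iso).inv ≫ Q.map (r.Dmap f) ≫ eZ.hom) w ∈ distTriang (Dual.D A) := by
  let T := triangleOfSES (r.DCses_shortExact f g hf hg hfg)
  let cA := Q.mapIso r.evOneIso ≪≫ r.iso
  refine ⟨eX.hom ≫ Q.map (r.Dmap g) ≫ cA.hom, eZ.inv ≫ T.mor₃ ≫ eX.inv⟦(1 : ℤ)⟧', ?_⟩
  refine isomorphic_distinguished T (triangleOfSES_distinguished _) _
    (Triangle.isoMk _ T eX cA.symm eZ.symm ?_ ?_ ?_)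
  · show (eX.hom ≫ Q.map (r.Dmap g) ≫ cA.hom) ≫ cA.inv = eX.hom ≫ Q.map (r.Dmap g)
    simp
  · show (cA.inv ≫ Q.map (r.Dmap f) ≫ eZ.hom) ≫ eZ.inv = cA.inv ≫ Q.map (r.Dmap f)
    simp
  · have key : ∀ {P P' X' X'' : Dual.D A} (a : P ⟶ P') (b : P' ⟶ X''⟦(1 : ℤ)⟧) (e : X' ≅ X''),
        (a ≫ b ≫ e.inv⟦(1 : ℤ)⟧') ≫ e.hom⟦(1 : ℤ)⟧' = a ≫ b := by
      intro P P' X' X'' a b e
      simp [← Functor.map_comp]
    exact key eZ.inv T.mor₃ eX

end Groth.DualCore
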