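import Groth.Agent.DualCore.PolyIter
import Groth.Prelude.Def_DualSh

/-!
The upper shriek of a finite type algebra through a polynomial presentation, compared through a larger one.
-/

set_option autoImplicit false

universe u

open CategoryTheory CategoryTheory.Limits DerivedCategory

attribute [local instance] HasDerivedCategory.standard

namespace Groth.DualCore

/-- The universal property of the shriek. -/
theorem nonempty_shriekHomIso {R A : Type u} [CommRing R] [CommRing A] (n : ℕ)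
    {ψ : MvPolynomial (Fin n) R →+* A} [DRing.HasLBaseChange (algebraMap R (MvPolynomial (Fin n) R))]
    {Rψ : Dual.D (MvPolynomial (Fin n) R) ⥤ Dual.D A} (adj : DRing.restrictD ψ ⊣ Rψ) (K : Dual.D R) :
    Nonempty (HomIso (𝟭 (Dual.D A)) (Dual2.shriekVia n Rψ K) (DRing.restrictD ψ)
      (((extD R (MvPolynomial (Fin n) R)).obj K)⟦(n : ℤ)⟧)) := by
  letI := adj.rightAdjointCommShift ℤ
  let M := (DRing.LBaseChange (algebraMap R (MvPolynomial (Fin n) R))).obj K
  exact ⟨((HomIso.congr (Iso.refl _) (((Rψ.commShiftIso (n : ℤ)).app M).symm : (Rψ.obj M)⟦(n : ℤ)⟧ ≅ _)).trans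
    (HomIso.ofAdj adj (M⟦(n : ℤ)⟧))).trans
      (HomIso.congr (Iso.refl _) ((shiftFunctor _ (n : ℤ)).mapIso ((LBaseChangeIso R _).app K)))⟩

/-- Pushing `Hom(Z|_P, (P ⊗ K)[n])` to a larger polynomial ring. -/
theorem nonempty_homIso_tower {R P Q A : Type u} [CommRing R] [CommRing P] [CommRing Q] [CommRing A] [Algebra R P]
    [Algebra P Q] [Algebra R Q] [IsScalarTower R P Q] [Module.Flat R P] [Module.Flat P Q] [Module.Flat R Q]
    {k : ℕ} (e : MvPolynomial (Fin k) P ≃ₐ[P] Q) (χ : Q →+* A) (χP : P →+* A) (h : χP = χ.comp (algebraMap P Q))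
    (hint : ∀ i, χP.IsIntegralElem (χ (e (MvPolynomial.X i)))) (a b : ℤ) (hab : a + k = b) (K : Dual.D R) :
    Nonempty (HomIso (DRing.restrictD χP) (((extD R P).obj K)⟦a⟧) (DRing.restrictD χ) (((extD R Q).obj K)⟦b⟧)) := by
  obtain ⟨E⟩ := nonempty_homIso k e χ χP h hint (((extD R P).obj K)⟦a⟧)
  exact ⟨E.trans (HomIso.congr (Iso.refl _)
    ((shiftFunctor (Dual.D Q) (k : ℤ)).mapIso (((extD P Q).commShiftIso a).app ((extD R P).obj K) ≪≫
      (shiftFunctor (Dual.D Q) a).mapIso ((extDComp R P Q).app K)) ≪≫ shiftAddIso _ _ _ _ hab))⟩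

/-- `R[σ]` as an algebra over `R[Fin n]` by an injection of variables with free complement. -/
theorem nonempty_homIso_rename {R A : Type u} [CommRing R] [CommRing A] {n k : ℕ} {σ : Type} (em : Fin k ⊕ Fin n ≃ σ)
    (Ψ : MvPolynomial σ R →+* A) (ψ : MvPolynomial (Fin n) R →+* A)
    (h : ψ = Ψ.comp (MvPolynomial.rename (R := R) (em ∘ Sum.inr)).toRingHom) (hψ : Function.Surjective ψ)
    (K : Dual.D R) :
    Nonempty (HomIso (DRing.restrictD ψ) (((extD R (MvPolynomial (Fin n) R)).obj K)⟦(n : ℤ)⟧)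
      (DRing.restrictD Ψ) (((extD R (MvPolynomial σ R)).obj K)⟦((n + k : ℕ) : ℤ)⟧)) := by
  letI : Algebra (MvPolynomial (Fin n) R) (MvPolynomial σ R) :=
    (MvPolynomial.rename (R := R) (em ∘ Sum.inr)).toRingHom.toAlgebra
  haveI : IsScalarTower R (MvPolynomial (Fin n) R) (MvPolynomial σ R) :=
    IsScalarTower.of_algebraMap_eq fun r => ((MvPolynomial.rename (R := R) (em ∘ Sum.inr)).commutes r).symm
  let e0 := (MvPolynomial.sumAlgEquiv R (Fin k) (Fin n)).symm.trans (MvPolynomial.renameEquiv R em)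
  let e : MvPolynomial (Fin k) (MvPolynomial (Fin n) R) ≃ₐ[MvPolynomial (Fin n) R] MvPolynomial σ R :=
    AlgEquiv.ofRingEquiv (f := e0.toRingEquiv) fun q => by
      show e0 (MvPolynomial.C q) = MvPolynomial.rename (em ∘ Sum.inr) q
      refine AlgHom.congr_fun (φ₁ := e0.toAlgHom.comp (IsScalarTower.toAlgHom R (MvPolynomial (Fin n) R)
        (MvPolynomial (Fin k) (MvPolynomial (Fin n) R)))) (φ₂ := MvPolynomial.rename (em ∘ Sum.inr))
        (MvPolynomial.algHom_ext fun i => ?_) q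
      simp [e0, MvPolynomial.sumAlgEquiv_symm_C_X]
  haveI : Module.Flat (MvPolynomial (Fin n) R) (MvPolynomial σ R) := Module.Flat.of_linearEquiv e.symm.toLinearEquiv
  exact nonempty_homIso_tower e Ψ ψ h (fun i => by
    obtain ⟨q, hq⟩ := hψ (Ψ (e (MvPolynomial.X i)))
    rw [← hq]
    exact ψ.isIntegralElem_map) _ _ (by push_cast; ring) K

end Groth.DualCore
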