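import Groth.Agent.DualCore.SmoothBC
import Groth.Agent.DualCore.FiniteHomUnbounded
import Groth.Agent.DualCore.PerfectTwist
import Groth.Agent.DualCore.ShriekIndep
import Groth.Agent.DTenCalc.BaseChangeHom
import Groth.Agent.LocCohTransform.RHomDual

/-!
Flat base change of `RHom_A(M, ω)` for unbounded `M` with finite cohomology and `ω` of finite injective
dimension, and `RHomCx` as the internal Hom.
-/

set_option autoImplicit false
set_option linter.style.haveILetI false

universe u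

open CategoryTheory CategoryTheory.Limits CategoryTheory.Pretriangulated DerivedCategory DTen TensorProduct
open Groth.DTenCalc

attribute [local instance] HasDerivedCategory.standard

namespace Groth.DualCore

section RHomCx

variable {A : Type u} [CommRing A]

theorem additive_tensorRightD [HasLTen A] [HasRHom A] (M : Dual.D A) : (tensorRightD A M).Additive := by
  haveI : PreservesColimitsOfSize.{0, 0} (tensorRightD A M) := (rhomAdj A M).leftAdjoint_preservesColimits
  haveI := preservesBinaryBiproducts_of_preservesBinaryCoproducts (tensorRightD A M)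
  exact Functor.additive_of_preservesBinaryBiproducts _

theorem wr_add [HasLTen A] [HasRHom A] {T T' : Dual.D A} (f g : T ⟶ T') (M : Dual.D A) :
    wr (f + g) M = wr f M + wr g M :=
  haveI := additive_tensorRightD M
  (tensorRightD A M).map_add

theorem wr_zero [HasLTen A] [HasRHom A] (T T' : Dual.D A) (M : Dual.D A) : wr (0 : T ⟶ T') M = 0 :=
  haveI := additive_tensorRightD M
  (tensorRightD A M).map_zero _ _

/-- `RHom_A(E, -)` is the internal Hom. -/
theorem nonempty_rhomCx_iso_rhomR [HasLTen A] [HasRHom A] (E : DRing.Cx A) [DRing.HasRHomCx E] (Y X : Dual.D A)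
    (eY : DRing.toD E ≅ Y) : Nonempty ((DRing.RHomCx E).obj X ≅ (RHomR A Y).obj X) := by
  obtain ⟨L, hL, ⟨e⟩⟩ := Groth.DerivedCoh.KInjRes.exists_kInjective_iso X
  haveI := hL
  haveI := isIso_toRHom eY e (Or.inr hL)
  exact ⟨(DRing.RHomCx E).mapIso e.symm ≪≫ (DAlg.RHomCx.objIso E L).symm ≪≫ asIso (toRHom eY e)⟩

open CochainComplex.HomComplex in
/-- `Hom•(E, L⟦n⟧) ≅ Hom•(E, L)⟦n⟧`. -/
noncomputable def homCxShiftIso (E L : DRing.Cx A) (n : ℤ) :
    (DRing.homCx E L)⟦n⟧ ≅ DRing.homCx E (L⟦n⟧) :=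
  HomologicalComplex.Hom.isoOfComponents
    (fun j => (Cochain.rightShiftLinearEquiv A E L (j + n) n j rfl).toModuleIso)
    (fun i j _ => ModuleCat.hom_ext (LinearMap.ext fun (z : Cochain E L (i + n)) => by
      show δ i j (z.rightShift n i rfl) =
        Cochain.rightShift (n.negOnePow • δ (i + n) (j + n) z : Cochain E L (j + n)) n j rfl
      rw [Cochain.δ_rightShift z n i j rfl (j + n) rfl, Cochain.rightShift_units_smul]))

/-- `RHom_A(E, -)` commutes with shifts. -/
theorem nonempty_rhomCx_shift (E : DRing.Cx A) [DRing.HasRHomCx E] (X : Dual.D A) (n : ℤ) :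
    Nonempty ((DRing.RHomCx E).obj (X⟦n⟧) ≅ ((DRing.RHomCx E).obj X)⟦n⟧) := by
  obtain ⟨L, hL, ⟨e⟩⟩ := Groth.DerivedCoh.KInjRes.exists_kInjective_iso X
  haveI := hL
  exact ⟨(DRing.RHomCx E).mapIso ((CategoryTheory.shiftFunctor (Dual.D A) n).mapIso e.symm ≪≫ ((Q.commShiftIso n).app L).symm) ≪≫
    (DAlg.RHomCx.objIso E (L⟦n⟧)).symm ≪≫ Q.mapIso (homCxShiftIso E L n).symm ≪≫ (Q.commShiftIso n).app _ ≪≫
    (CategoryTheory.shiftFunctor (Dual.D A) n).mapIso (DAlg.RHomCx.objIso E L ≪≫ (DRing.RHomCx E).mapIso e)⟩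

end RHomCx

variable {A B : Type u} [CommRing A] [CommRing B] [Algebra A B] [Module.Flat A B]

variable (B) in
/-- `θ` is bijective at `X` against the shift `i` of `Y`. -/
def GoodAt (X Y : Dual.D A) (i : ℤ) : Prop := Function.Bijective (θ (B := B) X (Y⟦i⟧))

lemma GoodAt.shiftOne {X Y : Dual.D A} {i : ℤ} (h : GoodAt B X Y (i - 1)) :
    Function.Bijective (θ (B := B) (X⟦(1 : ℤ)⟧) (Y⟦i⟧)) :=
  θ_iso_right ((shiftFunctorAdd' (Dual.D A) (i - 1) 1 i (by lia)).app Y).symm (θ_shift 1 h)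

lemma GoodAt.shiftNegOne {X Y : Dual.D A} {i : ℤ} (h : GoodAt B X Y (i + 1)) :
    Function.Bijective (θ (B := B) (X⟦(-1 : ℤ)⟧) (Y⟦i⟧)) :=
  θ_iso_right ((shiftFunctorAdd' (Dual.D A) (i + 1) (-1) i (by lia)).app Y).symm (θ_shift (-1) h)

lemma goodAt_of_triangle {T : Triangle (Dual.D A)} (hT : T ∈ distTriang (Dual.D A)) {Y : Dual.D A} {i : ℤ}
    (h₁ : GoodAt B T.obj₁ Y i) (h₁' : GoodAt B T.obj₁ Y (i - 1))
    (h₃ : GoodAt B T.obj₃ Y i) (h₃' : GoodAt B T.obj₃ Y (i + 1)) : GoodAt B T.obj₂ Y i := by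
  have hr := rot_of_distTriang _ hT
  have hi := inv_rot_of_distTriang _ hT
  refine ⟨four_injective (preExact (Y⟦i⟧) T hT) (preExact (Y⟦i⟧) T.rotate hr) h₁.1 h₃.1 h₁'.shiftOne.2, ?_⟩
  exact four_surjective (preExact (Y⟦i⟧) T.invRotate hi) (preExact (Y⟦i⟧) T hT) h₃'.shiftNegOne.1 h₁.2 h₃.2

lemma goodAt_of_subsingleton {X Y : Dual.D A} {i : ℤ} (h : Subsingleton (X ⟶ Y⟦i⟧))
    (h' : Subsingleton ((extD A B).obj X ⟶ (extD A B).obj (Y⟦i⟧))) : GoodAt B X Y i :=
  ⟨fun _ _ _ => Subsingleton.elim _ _, fun v => ⟨0, Subsingleton.elim _ _⟩⟩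

variable [IsNoetherianRing A]

set_option maxHeartbeats 800000 in
/-- `Hom(M, ω⟦i⟧) ⊗ B ≅ Hom(M ⊗ B, ω⟦i⟧ ⊗ B)` for all `M` with finite cohomology. -/
theorem good_of_injRep {ω : Dual.D A} (r : InjRep ω) (r' : InjRep ((extD A B).obj ω)) (M : Dual.D A)
    (hfin : ∀ j, Module.Finite A (Dual.HD A M j)) : Good B M ω := by
  intro i
  let t := (TStructure.t : Triangulated.TStructure (Dual.D A))
  haveI := r.isGE_self
  have hlow : ∀ (X : Dual.D A) (p j : ℤ) [IsLE X p], j + p < r.a → GoodAt B X ω j := by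
    intro X p j _ hj
    haveI : IsGE (ω⟦j⟧) (r.a - j) := TStructure.t.isGE_shift ω r.a j (r.a - j)
    haveI := isLE_extD (B := B) X p
    haveI := isGE_extD (B := B) (ω⟦j⟧) (r.a - j)
    exact goodAt_of_subsingleton
      ⟨fun u v => (TStructure.t.zero u p (r.a - j) (by omega)).trans
        (TStructure.t.zero v p (r.a - j) (by omega)).symm⟩
      ⟨fun u v => (TStructure.t.zero u p (r.a - j) (by omega)).trans
        (TStructure.t.zero v p (r.a - j) (by omega)).symm⟩
  have hhigh : ∀ (X : Dual.D A) (p j : ℤ) [IsGE X p], r.b < p + j → r'.b < p + j → GoodAt B X ω j := by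
    intro X p j _ hj hj'
    haveI := isGE_extD (B := B) X p
    haveI := r'.subsingleton_hom_of_isGE ((extD A B).obj X) p j hj'
    exact goodAt_of_subsingleton (r.subsingleton_hom_of_isGE X p j hj)
      (@Equiv.subsingleton ((extD A B).obj X ⟶ (extD A B).obj (ω⟦j⟧)) ((extD A B).obj X ⟶ ((extD A B).obj ω)⟦j⟧)
        (Iso.homCongr (Iso.refl _) (((extD A B).commShiftIso j).app ω)) inferInstance)
  let lo : ℤ := r.a - i - 1
  let hi : ℤ := max (max lo (r.b - i + 1)) (r'.b - i + 1)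
  let T := (t.triangleLEGE (hi - 1) hi (by lia)).obj M
  have hT : T ∈ distTriang (Dual.D A) := t.triangleLEGE_distinguished (hi - 1) hi _ M
  let X := T.obj₁
  haveI hXle : IsLE X (hi - 1) := inferInstanceAs (t.IsLE ((t.truncLE (hi - 1)).obj M) (hi - 1))
  haveI h3M : IsGE T.obj₃ hi := inferInstanceAs (t.IsGE ((t.truncGE hi).obj M) hi)
  let T' := (t.triangleLEGE (lo - 1) lo (by lia)).obj X
  have hT' : T' ∈ distTriang (Dual.D A) := t.triangleLEGE_distinguished (lo - 1) lo _ X
  haveI h1 : IsLE T'.obj₁ (lo - 1) := inferInstanceAs (t.IsLE ((t.truncLE (lo - 1)).obj X) (lo - 1))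
  haveI h3 : IsGE T'.obj₃ lo := inferInstanceAs (t.IsGE ((t.truncGE lo).obj X) lo)
  haveI h3' : IsLE T'.obj₃ (hi - 1) := by
    rw [isLE_iff]
    intro q hq
    exact (HomologySequence.exact₃ T' hT' q (q + 1) rfl).isZero_X₂
      ((isZero_of_isLE X (hi - 1) q hq).eq_of_src _ _)
      ((isZero_of_isLE T'.obj₁ (lo - 1) (q + 1) (by lia)).eq_of_tgt _ _)
  have hmid : Good B T'.obj₃ ω := by
    refine good_of_bounded T'.obj₃ ω lo (hi - 1) r.a fun q => ?_
    rcases lt_or_ge q lo with hq | hq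
    · haveI : Subsingleton (Dual.HD A T'.obj₃ q) :=
        ModuleCat.isZero_iff_subsingleton.1 (isZero_of_isGE T'.obj₃ lo q hq)
      exact Module.Finite.of_finite
    rcases lt_or_ge (hi - 1) q with hq' | hq'
    · haveI : Subsingleton (Dual.HD A T'.obj₃ q) :=
        ModuleCat.isZero_iff_subsingleton.1 (isZero_of_isLE T'.obj₃ (hi - 1) q hq')
      exact Module.Finite.of_finite
    haveI : Epi ((homologyFunctor (ModuleCat.{u} A) q).map T.mor₁) :=
      (HomologySequence.epi_homologyMap_mor₁_iff T hT q).2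
        ((isZero_of_isGE T.obj₃ hi q (by lia)).eq_of_tgt _ _)
    haveI : Mono ((homologyFunctor (ModuleCat.{u} A) q).map T.mor₁) :=
      (HomologySequence.mono_homologyMap_mor₁_iff T hT (q - 1) q (by lia)).2
        ((isZero_of_isGE T.obj₃ hi (q - 1) (by lia)).eq_of_src _ _)
    haveI := isIso_of_mono_of_epi ((homologyFunctor (ModuleCat.{u} A) q).map T.mor₁)
    haveI : Module.Finite A ((homologyFunctor (ModuleCat.{u} A) q).obj T.obj₂) := hfin q
    haveI : Module.Finite A ((homologyFunctor (ModuleCat.{u} A) q).obj T'.obj₂) :=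
      Module.Finite.equiv (asIso ((homologyFunctor (ModuleCat.{u} A) q).map T.mor₁)).toLinearEquiv.symm
    haveI : Epi ((homologyFunctor (ModuleCat.{u} A) q).map T'.mor₂) :=
      (HomologySequence.epi_homologyMap_mor₂_iff T' hT' q (q + 1) rfl).2
        ((isZero_of_isLE T'.obj₁ (lo - 1) (q + 1) (by lia)).eq_of_tgt _ _)
    exact Module.Finite.of_surjective ((homologyFunctor (ModuleCat.{u} A) q).map T'.mor₂).hom
      ((ModuleCat.epi_iff_surjective _).1 inferInstance)
  have hX : ∀ j, j = i ∨ j = i - 1 → GoodAt B X ω j := fun j hj =>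
    goodAt_of_triangle hT' (hlow T'.obj₁ (lo - 1) j (by lia)) (hlow T'.obj₁ (lo - 1) (j - 1) (by lia))
      (hmid j) (hmid (j + 1))
  exact goodAt_of_triangle hT (hX i (Or.inl rfl)) (hX (i - 1) (Or.inr rfl))
    (hhigh T.obj₃ hi i (by lia) (by lia)) (hhigh T.obj₃ hi (i + 1) (by lia) (by lia))

section BC

variable [HasLBase (algebraMap A B)] [HasLTen A] [HasLTen B] [HasResTen (algebraMap A B)]
  [ResLegIso (algebraMap A B)] [HasRHom A] [HasRHom B] [HasLTen₃ A] [IsSymMonoidal A]
  [HasLTen₃ B] [IsSymMonoidal B]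

/-- Flat base change of `RHom_A(M, ω)`. -/
theorem nonempty_rhom_bc {ω : Dual.D A} (r : InjRep ω) (r' : InjRep ((extD A B).obj ω)) (M : Dual.D A)
    (hfin : ∀ j, Module.Finite A (Dual.HD A M j)) :
    Nonempty ((LBase (algebraMap A B)).obj ((RHomR A M).obj ω) ≅
      (RHomR B ((LBase (algebraMap A B)).obj M)).obj ((LBase (algebraMap A B)).obj ω)) := by
  let φ := algebraMap A B
  let L := LBase φ
  let W := (RHomR A M).obj ω
  let c : extD A B ≅ L := Adjunction.leftAdjointUniq (extResAdj (A := A) (B := B)) (baseAdj φ)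
  haveI := isIso_mbar φ W M
  let u : L.obj W ⟶ (RHomR B (L.obj M)).obj (L.obj ω) :=
    rhomHomEquiv _ _ _ (inv (mbar φ W M) ≫ L.map (ev M ω))
  have hgood := good_of_injRep (B := B) r r' M hfin
  have hiso : IsIso u := by
    refine isIso_of_bijective_comp u fun i => ?_
    let X := (Dual.inD A A)⟦-i⟧
    let v : Dual.inD A A ≅ DTen.unit A := (singleFunctorIsoCompQ (ModuleCat.{u} A) 0).app _
    obtain ⟨w⟩ := nonempty_ten_shift_unit M (-i)
    let eXM : ten X M ≅ M⟦-i⟧ :=
      (LTen₂ A).mapIso (Iso.prod ((CategoryTheory.shiftFunctor (Dual.D A) (-i)).mapIso v) (Iso.refl M)) ≪≫ w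
    let e : L.obj X ≅ (Dual.inD B B)⟦-i⟧ :=
      c.symm.app X ≪≫ ((extD A B).commShiftIso (-i)).app _ ≪≫ (CategoryTheory.shiftFunctor _ (-i)).mapIso
        (((ext A B).mapDerivedCategorySingleFunctor 0).app (ModuleCat.of A A) ≪≫
          (singleFunctor (ModuleCat.{u} B) 0).mapIso
            ((extEquiv (ModuleCat.of A A)).symm.trans (TensorProduct.AlgebraTensorModule.rid A B B)).toModuleIso)
    have hW : Function.Bijective (θ (B := B) X W) :=
      θ_iso_right ((shiftFunctorCompIsoId (Dual.D A) i (-i) (add_neg_cancel i)).app W)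
        (θ_shift (-i) (θ_inD_self (B := B) (W⟦i⟧)))
    have hM : Function.Bijective (θ (B := B) (ten X M) ω) :=
      θ_iso_left eXM.symm (θ_iso_right ((shiftFunctorZero (Dual.D A) ℤ).app ω) ((hgood.shift (-i)) 0))
    haveI := isIso_mbar φ X M
    let ℓ : (X ⟶ W) ≃ₗ[A] (ten X M ⟶ ω) :=
      LinearEquiv.ofBijective
        { toFun := fun g => wr g M ≫ ev M ω
          map_add' := fun g g' => by rw [wr_add, Preadditive.add_comp]
          map_smul' := fun a g => by rw [RingHom.id_apply, wr_smul, Linear.smul_comp] }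
        (by
          convert (rhomHomEquiv X M ω).symm.bijective using 1
          funext g
          exact (homEquiv_symm' _ g).symm)
    let Θ : ∀ (Y Z : Dual.D A), B ⊗[A] (Y ⟶ Z) → (L.obj Y ⟶ L.obj Z) := fun Y Z z =>
      c.inv.app Y ≫ θ Y Z z ≫ c.hom.app Z
    have hΘ : ∀ (Y Z : Dual.D A), Function.Bijective (θ (B := B) Y Z) → Function.Bijective (Θ Y Z) := fun Y Z h =>
      ((c.app Y).homCongr (c.app Z)).bijective.comp h
    have hΘt : ∀ (Y Z : Dual.D A) (b : B) (g : Y ⟶ Z), Θ Y Z (b ⊗ₜ g) = b • L.map g := fun Y Z b g => by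
      show c.inv.app Y ≫ θ Y Z (b ⊗ₜ g) ≫ c.hom.app Z = b • L.map g
      rw [θ_tmul, Linear.smul_comp, Linear.comp_smul]
      congr 1
      rw [c.hom.naturality g]
      exact Iso.inv_hom_id_app_assoc c Y _
    have key : ∀ z, Θ X W z ≫ u =
        rhomHomEquiv _ _ _ (inv (mbar φ X M) ≫ Θ (ten X M) ω ((ℓ.baseChange A B _ _) z)) := by
      intro z
      apply (rhomHomEquiv _ _ _).symm.injective
      rw [Equiv.symm_apply_apply, homEquiv_symm', wr_comp_assoc',
        show wr u (L.obj M) ≫ ev (L.obj M) (L.obj ω) = inv (mbar φ W M) ≫ L.map (ev M ω) from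
          (homEquiv_symm' _ u).symm.trans (Equiv.symm_apply_apply _ _)]
      induction z using TensorProduct.induction_on with
      | zero => simp [Θ, wr_zero]
      | tmul b g =>
        rw [hΘt, LinearEquiv.baseChange_tmul, hΘt, wr_smul, Linear.smul_comp, Linear.comp_smul]
        congr 1
        rw [IsIso.eq_inv_comp, ← reassoc_of% (mbar_natural_left φ g M), IsIso.hom_inv_id_assoc,
          ← Functor.map_comp]
        rfl
      | add z z' h h' =>
        have hadd : ∀ Y Z z z', Θ Y Z (z + z') = Θ Y Z z + Θ Y Z z' := fun Y Z z z' => by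
          simp [Θ]
        rw [hadd, map_add, hadd, wr_add, Preadditive.add_comp, Preadditive.comp_add, h, h']
    have h2 : Function.Bijective fun g : L.obj X ⟶ L.obj W => g ≫ u := by
      refine (Function.Bijective.of_comp_iff _ (hΘ X W hW)).1 ?_
      rw [show (fun g => g ≫ u) ∘ Θ X W = rhomHomEquiv _ _ _ ∘ (fun k => inv (mbar φ X M) ≫ k) ∘
        Θ (ten X M) ω ∘ (ℓ.baseChange A B _ _) from funext key]
      exact (Equiv.bijective _).comp ((asIso (inv (mbar φ X M))).symm.homFromEquiv.bijective.comp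
        ((hΘ _ _ hM).comp (LinearEquiv.bijective _)))
    have e3 : (fun g : (Dual.inD B B)⟦-i⟧ ⟶ _ => g ≫ u) =
        (Iso.homFromEquiv e) ∘ (fun g => g ≫ u) ∘ (Iso.homFromEquiv e).symm := by
      funext g
      simp
    rw [e3]
    exact (Equiv.bijective _).comp (h2.comp (Equiv.bijective _))
  exact ⟨asIso u⟩

end BC

end Groth.DualCore
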