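import Groth.Agent.DualCore.ModuleHom
import Groth.Agent.DualCore.Normalized
import Groth.Agent.DualCore.Regular
import Mathlib.RingTheory.Regular.RegularSequence

/-!
`Ext^*(S/(l), S)` for a regular sequence `l` of length `c` is `S/(l)` placed in degree `c`.
-/

set_option autoImplicit false
set_option linter.style.haveILetI false

universe u

open CategoryTheory CategoryTheory.Limits DerivedCategory RingTheory.Sequence

attribute [local instance] HasDerivedCategory.standard

namespace Groth.DualCore

variable {S : Type u} [CommRing S]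

/-- **`Ext` from a regular quotient into the ring.** -/
theorem hom_quot_regular : ∀ (l : List S), IsWeaklyRegular S l →
    (∀ i : ℤ, i ≠ l.length → Subsingleton (Dual.inD S (S ⧸ Ideal.ofList l) ⟶ (Dual.inD S S)⟦i⟧)) ∧
      Nonempty ((Dual.inD S (S ⧸ Ideal.ofList l) ⟶ (Dual.inD S S)⟦(l.length : ℤ)⟧) ≃ₗ[S]
        (S ⧸ Ideal.ofList l)) := by
  intro l
  induction l using List.reverseRecOn with
  | nil =>
    intro _
    let eS : (S ⧸ Ideal.ofList ([] : List S)) ≃ₗ[S] S :=
      Submodule.quotEquivOfEqBot _ (Ideal.ofList_nil)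
    let e : ∀ i : ℤ, (Dual.inD S (S ⧸ Ideal.ofList ([] : List S)) ⟶ (Dual.inD S S)⟦i⟧) ≃ₗ[S]
        Dual.HD S (Dual.inD S S) i := fun i =>
      (Linear.homCongr S ((singleFunctor (ModuleCat.{u} S) 0).mapIso eS.toModuleIso) (Iso.refl _)).trans
        (homAEquiv _ i)
    refine ⟨fun i hi => ?_, ⟨(e 0).trans ((HDinDEquiv S).trans eS.symm)⟩⟩
    haveI := subsingleton_HD_inD (A := S) S i (by simpa using hi)
    exact (e i).toEquiv.subsingleton
  | append_singleton l x ih =>
    intro hreg
    obtain ⟨hl, hx⟩ := (isWeaklyRegular_append_iff S l [x]).1 hreg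
    obtain ⟨hvan, ⟨e⟩⟩ := ih hl
    let J := Ideal.ofList l
    let J' := Ideal.ofList (l ++ [x])
    have hJ' : J' = J ⊔ Ideal.span {x} := by
      simp [J, J', Ideal.ofList_append]
    have hJJ : J ≤ J' := hJ' ▸ le_sup_left
    have hxN : IsSMulRegular (S ⧸ J) x := by
      have h := (isWeaklyRegular_cons_iff _ x []).1 hx
      let q : (S ⧸ (J • ⊤ : Submodule S S)) ≃ₗ[S] S ⧸ J :=
        Submodule.quotEquivOfEq _ _ (by rw [smul_eq_mul, Ideal.mul_top])
      exact (q.isSMulRegular_congr x).1 h.1
    let f : (S ⧸ J) →ₗ[S] (S ⧸ J) := x • LinearMap.id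
    let g : (S ⧸ J) →ₗ[S] (S ⧸ J') := Submodule.factor hJJ
    have hf : Function.Injective f := smul_injective hxN
    have hg : Function.Surjective g := Submodule.factor_surjective hJJ
    have hmem : ∀ y : S, Submodule.Quotient.mk (p := J) y ∈ LinearMap.range f ↔ y ∈ J' := fun y => by
      rw [hJ', Submodule.mem_sup]
      constructor
      · rintro ⟨w, hw⟩
        obtain ⟨w, rfl⟩ := Submodule.Quotient.mk_surjective _ w
        exact ⟨y - x * w, (Submodule.Quotient.eq J).1 hw.symm, x * w,
          Ideal.mem_span_singleton'.2 ⟨w, mul_comm _ _⟩, sub_add_cancel _ _⟩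
      · rintro ⟨a, ha, b, hb, rfl⟩
        obtain ⟨c, rfl⟩ := Ideal.mem_span_singleton'.1 hb
        refine ⟨Submodule.Quotient.mk c, ((Submodule.Quotient.eq J).2 ?_)⟩
        show x * c - (a + c * x) ∈ J
        rw [show x * c - (a + c * x) = -a by ring]
        exact J.neg_mem ha
    have hfg : Function.Exact f g := fun y => by
      obtain ⟨y, rfl⟩ := Submodule.Quotient.mk_surjective _ y
      exact (Submodule.Quotient.mk_eq_zero J').trans (hmem y).symm
    let K := Dual.inD S S
    have hc : ((l ++ [x]).length : ℤ) = (l.length : ℤ) + 1 := by simp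
    refine ⟨fun i hi => ?_, ?_⟩
    · rw [hc] at hi
      by_cases hil : i = l.length
      · subst hil
        haveI := hvan ((l.length : ℤ) - 1) (by lia)
        refine subsingleton_of_forall_eq 0 fun u => ?_
        have h1 : x • map1 K (l.length : ℤ) g u = 0 := by
          rw [← map1_smul_id, ← map1_comp,
            show g ∘ₗ (x • LinearMap.id : (S ⧸ J) →ₗ[S] S ⧸ J) = g ∘ₗ f from rfl,
            hfg.linearMap_comp_eq_zero]
          simp [map1_apply, inDmap_zero]
        have h2 : map1 K (l.length : ℤ) g u = 0 :=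
          e.injective (hxN (by
            show x • e _ = x • e _
            rw [← map_smul, h1]
            simp))
        obtain ⟨v, hv⟩ := (map1_exact_right f g hf hg hfg K ((l.length : ℤ) - 1) (l.length : ℤ) (by lia) u).1 h2
        rw [← hv, Subsingleton.elim v 0, map_zero]
      · haveI := hvan (i - 1) (by lia)
        haveI := hvan i hil
        refine subsingleton_of_forall_eq 0 fun u => ?_
        obtain ⟨v, hv⟩ := (map1_exact_right f g hf hg hfg K (i - 1) i (by lia) u).1 (Subsingleton.elim _ _)
        rw [← hv, Subsingleton.elim v 0, map_zero]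
    · rw [hc]
      let δ := delta f g hf hg hfg K (l.length : ℤ) ((l.length : ℤ) + 1) rfl
      let h : S →ₗ[S] (Dual.inD S (S ⧸ J') ⟶ K⟦((l.length : ℤ) + 1)⟧) :=
        δ ∘ₗ e.symm.toLinearMap ∘ₗ Submodule.mkQ J
      have hsurj : Function.Surjective h := by
        intro u
        haveI := hvan ((l.length : ℤ) + 1) (by lia)
        obtain ⟨v, hv⟩ := (map1_exact_right f g hf hg hfg K _ _ rfl u).1 (Subsingleton.elim _ _)
        obtain ⟨y, hy⟩ := Submodule.mkQ_surjective J (e v)
        exact ⟨y, by show δ (e.symm (Submodule.mkQ J y)) = u; rw [hy, e.symm_apply_apply]; exact hv⟩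
      have hker : LinearMap.ker h = J' := by
        ext y
        rw [LinearMap.mem_ker, ← hmem y]
        refine (map1_exact_left f g hf hg hfg K (l.length : ℤ) _ rfl _).trans ⟨?_, ?_⟩
        · rintro ⟨v, hv⟩
          refine ⟨e v, ?_⟩
          show x • e v = _
          rw [← map_smul, ← map1_smul_id K (l.length : ℤ) x v]
          exact (congrArg e hv).trans (e.apply_symm_apply _)
        · rintro ⟨w, hw⟩
          refine ⟨e.symm w, (map1_smul_id K (l.length : ℤ) x (e.symm w)).trans ?_⟩
          rw [← map_smul]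
          exact congrArg e.symm hw
      exact ⟨((Submodule.quotEquivOfEq _ _ hker.symm).trans (h.quotKerEquivOfSurjective hsurj)).symm⟩

end Groth.DualCore
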