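import Groth.Agent.DualCore.PerfectTwist
import Groth.Agent.DualCore.GorensteinInvertible

/-!
Uniqueness of relative dualizing complexes.
-/

set_option autoImplicit false
set_option linter.style.haveILetI false

universe u

open CategoryTheory CategoryTheory.Limits CategoryTheory.Pretriangulated DerivedCategory MonoidalCategory DTen
open scoped TensorProduct ZeroObject

attribute [local instance] HasDerivedCategory.standard

namespace Groth.DualCore

section Koszul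

variable {B A : Type u} [CommRing B] [CommRing A] (μ : B →+* A)

/-- Scalars killing two maps of a triangle act by square zero on the third object. -/
lemma sq_smul_eq_zero {T : Triangle (Dual.D B)} (hT : T ∈ distTriang (Dual.D B)) (r : B)
    (h₂ : r • T.mor₂ = 0) (h₃ : r • T.mor₃ = 0) : (r * r) • 𝟙 T.obj₃ = 0 := by
  obtain ⟨v, hv⟩ := Triangle.yoneda_exact₃ T hT (r • 𝟙 T.obj₃) (by rw [Linear.comp_smul, Category.comp_id, h₂])
  obtain ⟨w, hw⟩ := Triangle.coyoneda_exact₃ T hT (r • 𝟙 T.obj₃) (by rw [Linear.smul_comp, Category.id_comp, h₃])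
  have h : (r • 𝟙 T.obj₃) ≫ (r • 𝟙 T.obj₃) = 0 := by
    conv_lhs => arg 2; rw [hv]
    conv_lhs => arg 1; rw [hw]
    rw [Category.assoc, comp_distTriang_mor_zero₂₃_assoc T hT, zero_comp, comp_zero]
  rwa [Linear.smul_comp, Category.id_comp, smul_smul] at h

lemma smul_mor_eq_zero {X Y : Dual.D B} (f : X ⟶ Y) (r : B) (h : r • 𝟙 X = 0) : r • f = 0 := by
  rw [← Category.id_comp f, ← Linear.smul_comp, h, zero_comp]

lemma smul_mor_eq_zero' {X Y : Dual.D B} (f : X ⟶ Y) (r : B) (h : r • 𝟙 Y = 0) : r • f = 0 := by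
  rw [← Category.comp_id f, ← Linear.comp_smul, h, comp_zero]

/-- Bounded below objects orthogonal to the modules over a quotient, up to objects on which the kernel is
torsion. -/
lemma exists_torsion (X : Dual.D B) (b : ℤ) [IsGE X b]
    (hX : ∀ Z : Dual.D A, Subsingleton ((DRing.restrictD μ).obj Z ⟶ X)) (s : Finset B)
    (hs : ∀ x ∈ s, μ x = 0) :
    ∃ Y : Dual.D B, (∃ c : ℤ, IsGE Y c) ∧
      (∀ Z : Dual.D A, Subsingleton ((DRing.restrictD μ).obj Z ⟶ Y)) ∧
        ((∀ Z : Dual.D A, Subsingleton (Y ⟶ (DRing.restrictD μ).obj Z)) →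
          ∀ Z : Dual.D A, Subsingleton (X ⟶ (DRing.restrictD μ).obj Z)) ∧
          ∀ x ∈ s, ∃ N : ℕ, x ^ N • 𝟙 Y = 0 := by
  classical
  induction s using Finset.induction_on with
  | empty => exact ⟨X, ⟨b, inferInstance⟩, hX, id, fun x hx => absurd hx (Finset.notMem_empty x)⟩
  | insert y s hys ih =>
    obtain ⟨Y, ⟨c, hc⟩, horth, hback, hN⟩ := ih fun x hx => hs x (Finset.mem_insert_of_mem hx)
    obtain ⟨Y', p, δ, hT⟩ := distinguished_cocone_triangle (y • 𝟙 Y)
    let T := Triangle.mk (y • 𝟙 Y) p δ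
    have hy0 : μ y = 0 := hs y (Finset.mem_insert_self y s)
    haveI := hc
    refine ⟨Y', ⟨c - 1, ?_⟩, fun Z => ?_, fun h => hback fun Z => ?_, fun x hx => ?_⟩
    · refine (isGE_iff Y' (c - 1)).2 fun i hi => ?_
      exact (HomologySequence.exact₃ T hT i (i + 1) rfl).isZero_X₂
        ((isZero_of_isGE Y c i (by omega)).eq_of_src _ _) ((isZero_of_isGE Y c (i + 1) (by omega)).eq_of_tgt _ _)
    · refine subsingleton_of_forall_eq 0 fun f => ?_
      have h1 : Subsingleton ((DRing.restrictD μ).obj Z ⟶ Y) := horth Z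
      have h2 : Subsingleton ((DRing.restrictD μ).obj Z ⟶ Y⟦(1 : ℤ)⟧) := by
        have h3 : Subsingleton (((DRing.restrictD μ).obj Z)⟦(-1 : ℤ)⟧ ⟶ Y) :=
          @Equiv.subsingleton _ _ (Iso.homFromEquiv (((DRing.restrictD μ).commShiftIso (-1 : ℤ)).app Z)).symm
            (horth (Z⟦(-1 : ℤ)⟧))
        exact @Equiv.subsingleton _ _ ((shiftEquiv' (Dual.D B) (-1 : ℤ) 1 (by omega)).toAdjunction.homEquiv
          ((DRing.restrictD μ).obj Z) Y).symm h3
      obtain ⟨g, hg⟩ := Triangle.coyoneda_exact₃ T hT f (h2.elim _ _)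
      exact hg.trans ((congrArg (· ≫ T.mor₂) (h1.elim g 0)).trans zero_comp)
    · refine subsingleton_of_forall_eq 0 fun f => ?_
      have hzero : (y • 𝟙 Y) ≫ f = 0 := by
        rw [Linear.smul_comp, Category.id_comp]
        refine smul_mor_eq_zero' f y ?_
        rw [← resD_map_smul_id, hy0, zero_smul, Functor.map_zero]
      obtain ⟨g, hg⟩ := Triangle.yoneda_exact₂ T hT f hzero
      exact hg.trans ((congrArg (T.mor₂ ≫ ·) ((h Z).elim g 0)).trans comp_zero)
    · rcases Finset.mem_insert.1 hx with rfl | hx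
      · refine ⟨2, ?_⟩
        rw [pow_two]
        refine sq_smul_eq_zero hT x ?_ ?_
        · show x • p = 0
          have h0 : (x • 𝟙 Y) ≫ p = 0 := comp_distTriang_mor_zero₁₂ T hT
          rwa [Linear.smul_comp, Category.id_comp] at h0
        · show x • δ = 0
          have h0 : δ ≫ (x • 𝟙 Y)⟦(1 : ℤ)⟧' = 0 := comp_distTriang_mor_zero₃₁ T hT
          rwa [Functor.map_smul, CategoryTheory.Functor.map_id, Linear.comp_smul, Category.comp_id] at h0
      · obtain ⟨N, hN⟩ := hN x hx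
        refine ⟨N + N, ?_⟩
        rw [pow_add]
        refine sq_smul_eq_zero hT _ (smul_mor_eq_zero p _ hN) (smul_mor_eq_zero' δ _ ?_)
        show x ^ N • 𝟙 (Y⟦(1 : ℤ)⟧) = 0
        rw [← CategoryTheory.Functor.map_id, ← Functor.map_smul, hN, Functor.map_zero]

/-- The bottom cohomology of a complex in degrees `≥ 0`. -/
lemma exists_bottom_map (Y : Dual.D B) [IsGE Y 0] :
    ∃ (M : ModuleCat.{u} B) (g : (singleFunctor (ModuleCat.{u} B) 0).obj M ⟶ Y),
      IsIso ((homologyFunctor (ModuleCat.{u} B) 0).map g) := by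
  let ts := (TStructure.t : Triangulated.TStructure (Dual.D B))
  let T := (ts.triangleLEGE 0 1 rfl).obj Y
  have hT : T ∈ distTriang (Dual.D B) := ts.triangleLEGE_distinguished 0 1 rfl Y
  haveI h1 : IsLE T.obj₁ 0 := inferInstanceAs (ts.IsLE ((ts.truncLE 0).obj Y) 0)
  haveI h3 : IsGE T.obj₃ 1 := inferInstanceAs (ts.IsGE ((ts.truncGE 1).obj Y) 1)
  haveI h2 : IsGE T.obj₂ 0 := ‹IsGE Y 0›
  have hiso : ∀ j ≤ (0 : ℤ), IsIso ((homologyFunctor (ModuleCat.{u} B) j).map T.mor₁) := fun j hj => by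
    haveI : Mono ((homologyFunctor (ModuleCat.{u} B) j).map T.mor₁) :=
      (HomologySequence.mono_homologyMap_mor₁_iff T hT (j - 1) j (by lia)).2
        ((isZero_of_isGE T.obj₃ 1 (j - 1) (by lia)).eq_of_src _ _)
    haveI : Epi ((homologyFunctor (ModuleCat.{u} B) j).map T.mor₁) :=
      (HomologySequence.epi_homologyMap_mor₁_iff T hT j).2
        ((isZero_of_isGE T.obj₃ 1 j (by lia)).eq_of_tgt _ _)
    exact isIso_of_mono_of_epi _
  haveI : IsGE T.obj₁ 0 := (isGE_iff T.obj₁ 0).2 fun j hj =>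
    (isZero_of_isGE T.obj₂ 0 j hj).of_iso
      (@asIso _ _ _ _ ((homologyFunctor (ModuleCat.{u} B) j).map T.mor₁) (hiso j hj.le))
  obtain ⟨M, ⟨e⟩⟩ := exists_iso_singleFunctor_obj_of_isGE_of_isLE T.obj₁ 0
  haveI := hiso 0 le_rfl
  exact ⟨M, (e.inv ≫ T.mor₁ : _ ⟶ T.obj₂),
    (show IsIso ((homologyFunctor (ModuleCat.{u} B) 0).map (e.inv ≫ T.mor₁)) by
      rw [Functor.map_comp]; infer_instance)⟩

/-- Scalars killing an object kill its cohomology. -/
lemma smul_HD_eq_zero {Y : Dual.D B} (r : B) (h : r • 𝟙 Y = 0) (v : Dual.HD B Y 0) : r • v = 0 := by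
  obtain ⟨w, rfl⟩ := (evalOne_bijective Y).2 v
  rw [← map_smul, smul_mor_eq_zero' w r h, map_zero]

/-- A nonzero module on which a power of an ideal acts as zero has a nonzero element killed by the ideal. -/
lemma exists_killed {M : Type*} [AddCommGroup M] [Module B M] [Nontrivial M] (J : Ideal B) (k : ℕ)
    (h : ∀ r ∈ J ^ k, ∀ z : M, r • z = 0) : ∃ z : M, z ≠ 0 ∧ ∀ r ∈ J, r • z = 0 := by
  have hind : ∀ k : ℕ, ∀ z : M, z ≠ 0 → (∀ r ∈ J ^ k, r • z = 0) → ∃ z : M, z ≠ 0 ∧ ∀ r ∈ J, r • z = 0 := by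
    intro k
    induction k with
    | zero => exact fun z hz h => absurd (by simpa using h 1 (by simp)) hz
    | succ k ih =>
      intro z hz h
      by_cases hz' : ∀ r ∈ J, r • z = 0
      · exact ⟨z, hz, hz'⟩
      · push Not at hz'
        obtain ⟨r, hr, hrz⟩ := hz'
        refine ih _ hrz fun r' hr' => ?_
        rw [smul_smul]
        exact h _ (by rw [pow_succ]; exact Ideal.mul_mem_mul hr' hr)
  obtain ⟨z, hz⟩ := exists_ne (0 : M)
  exact hind k z hz fun r hr => h r hr z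

/-- The bottom cohomology, as a module mapping to the complex. -/
lemma exists_bottom_module (Y : Dual.D B) [IsGE Y 0] [Nontrivial (Dual.HD B Y 0)] :
    ∃ (M : ModuleCat.{u} B) (g : (singleFunctor (ModuleCat.{u} B) 0).obj M ⟶ Y),
      Mono ((homologyFunctor (ModuleCat.{u} B) 0).map g) ∧ Nontrivial (M : Type u) ∧
        ∀ r : B, r • 𝟙 Y = 0 → ∀ z : (M : Type u), r • z = 0 := by
  obtain ⟨M, g, hg⟩ := exists_bottom_map Y
  haveI := hg
  let eM : (M : Type u) ≃ₗ[B] Dual.HD B Y 0 :=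
    ((singleFunctorCompHomologyFunctorIso (ModuleCat.{u} B) 0).app M).symm.toLinearEquiv.trans
      (asIso ((homologyFunctor (ModuleCat.{u} B) 0).map g)).toLinearEquiv
  refine ⟨M, g, inferInstance, eM.toEquiv.nontrivial, fun r hr z => eM.injective ?_⟩
  rw [map_smul, map_zero]
  exact smul_HD_eq_zero r hr (eM z)

/-- A map of modules which dies in the complex is zero. -/
lemma eq_zero_of_comp_bottom {Y : Dual.D B} {N M : ModuleCat.{u} B}
    (g : (singleFunctor (ModuleCat.{u} B) 0).obj M ⟶ Y) [Mono ((homologyFunctor (ModuleCat.{u} B) 0).map g)]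
    (f : N ⟶ M) (h0 : (singleFunctor (ModuleCat.{u} B) 0).map f ≫ g = 0) : f = 0 := by
  have h1 : (homologyFunctor (ModuleCat.{u} B) 0).map ((singleFunctor (ModuleCat.{u} B) 0).map f) = 0 := by
    rw [← cancel_mono ((homologyFunctor (ModuleCat.{u} B) 0).map g), ← Functor.map_comp, h0, Functor.map_zero,
      zero_comp]
  let σ : 𝟭 (ModuleCat.{u} B) ≅ singleFunctor (ModuleCat.{u} B) 0 ⋙ homologyFunctor (ModuleCat.{u} B) 0 :=
    (singleFunctorCompHomologyFunctorIso (ModuleCat.{u} B) 0).symm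
  have h2 : f ≫ σ.hom.app M = 0 := by
    refine (σ.hom.naturality f).trans ?_
    rw [Functor.comp_map, h1]
    exact Limits.comp_zero
  calc f = (f ≫ σ.hom.app M) ≫ σ.inv.app M := by
        rw [Category.assoc, Iso.hom_inv_id_app]; exact (Category.comp_id f).symm
    _ = 0 := by rw [h2]; exact Limits.zero_comp

/-- A nonzero complex in degrees `≥ 0` with nonzero `H⁰` killed by a power of the kernel receives a nonzero map
from the quotient. -/
lemma nontrivial_hom_quot (hμ : Function.Surjective μ) (Y : Dual.D B) [IsGE Y 0]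
    [Nontrivial (Dual.HD B Y 0)] (k : ℕ) (hk : ∀ r ∈ RingHom.ker μ ^ k, r • 𝟙 Y = 0) :
    ∃ (_ : Algebra B A), algebraMap B A = μ ∧ Nontrivial (Dual.inD B A ⟶ Y) := by
  obtain ⟨M, g, hg, hM, hkill⟩ := exists_bottom_module Y
  haveI := hg
  haveI := hM
  obtain ⟨z, hz0, hz⟩ := exists_killed (M := (M : Type u)) (RingHom.ker μ) k fun r hr => hkill r (hk r hr)
  letI : Algebra B A := μ.toAlgebra
  refine ⟨inferInstance, rfl, ?_⟩
  have hker : RingHom.ker μ = LinearMap.ker (Algebra.linearMap B A) := rfl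
  obtain ⟨f, hf⟩ : ∃ f : A →ₗ[B] (M : Type u), f 1 = z := by
    let q : (B ⧸ LinearMap.ker (Algebra.linearMap B A)) ≃ₗ[B] A :=
      LinearMap.quotKerEquivOfSurjective (Algebra.linearMap B A) hμ
    refine ⟨(Submodule.liftQ (LinearMap.ker (Algebra.linearMap B A)) (LinearMap.toSpanSingleton B _ z)
      fun r hr => hz r (hker ▸ hr)) ∘ₗ q.symm.toLinearMap, ?_⟩
    have h1 : q (Submodule.Quotient.mk 1) = 1 := map_one μ
    rw [LinearMap.comp_apply, LinearEquiv.coe_coe, ← h1, LinearEquiv.symm_apply_apply]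
    show (LinearMap.toSpanSingleton B _ z) 1 = z
    simp
  by_contra hsub
  rw [not_nontrivial_iff_subsingleton] at hsub
  have h3 : ModuleCat.ofHom f = (0 : ModuleCat.of B A ⟶ M) := eq_zero_of_comp_bottom g _ (hsub.elim _ _)
  exact hz0 (hf.symm.trans congr(($h3).hom (1 : A)))

/-- Nothing bounded below is orthogonal to the modules over a quotient by a finitely generated ideal, unless its
base change to the quotient vanishes. -/
theorem subsingleton_hom_res_of_orthogonal (hμ : Function.Surjective μ) (hJ : (RingHom.ker μ).FG) (X : Dual.D B)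
    (b : ℤ) [IsGE X b]
    (hX : ∀ Z : Dual.D A, Subsingleton ((DRing.restrictD μ).obj Z ⟶ X)) (W : Dual.D A) :
    Subsingleton (X ⟶ (DRing.restrictD μ).obj W) := by
  obtain ⟨s, hs⟩ := hJ
  obtain ⟨Y, ⟨c, hc⟩, horth, hback, hN⟩ := exists_torsion μ X b hX s fun x hx =>
    RingHom.mem_ker.1 (hs ▸ Submodule.subset_span hx)
  suffices hY : IsZero Y from hback (fun Z => ⟨fun f g => hY.eq_of_src f g⟩) W
  let I : Ideal B := LinearMap.ker (LinearMap.toSpanSingleton B (Y ⟶ Y) (𝟙 Y))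
  obtain ⟨k, hk⟩ : ∃ k : ℕ, RingHom.ker μ ^ k ≤ I := by
    refine Ideal.exists_pow_le_of_le_radical_of_fg ?_ ⟨s, hs⟩
    rw [← hs]
    refine Submodule.span_le.2 fun x hx => ?_
    obtain ⟨N, hN'⟩ := hN x hx
    exact ⟨N, LinearMap.mem_ker.2 hN'⟩
  haveI := hc
  by_contra hY
  obtain ⟨i, hi⟩ : ∃ i, Nontrivial (Dual.HD B Y i) := by
    by_contra! hall
    haveI : IsGE Y 1 := isGE_of_HD Y 1 fun i _ => hall i
    haveI : IsLE Y 0 := (isLE_iff Y 0).2 fun i _ => ModuleCat.isZero_iff_subsingleton.2 (hall i)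
    exact hY (isZero_of_isGE_of_isLE Y 1 0 (by omega))
  obtain ⟨t, ht, hmin⟩ := Int.exists_least_of_bdd (P := fun j => Nontrivial (Dual.HD B Y j))
    ⟨c, fun j hj => by
      by_contra! hlt
      exact not_subsingleton_iff_nontrivial.2 hj
        (ModuleCat.isZero_iff_subsingleton.1 (isZero_of_isGE Y c j hlt))⟩ ⟨i, hi⟩
  haveI : IsGE (Y⟦t⟧) 0 := isGE_of_HD _ 0 fun j hj => by
    haveI : Subsingleton (Dual.HD B Y (t + j)) :=
      not_nontrivial_iff_subsingleton.1 fun h => absurd (hmin _ h) (by omega)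
    exact (HDShiftEquiv Y t j _ rfl).toEquiv.subsingleton
  haveI : Nontrivial (Dual.HD B (Y⟦t⟧) 0) :=
    haveI := ht
    (HDShiftEquiv Y t 0 t (add_zero t)).toEquiv.nontrivial
  obtain ⟨_, hal, hnt⟩ := nontrivial_hom_quot μ hμ (Y⟦t⟧) k fun r hr => by
    rw [← CategoryTheory.Functor.map_id, ← Functor.map_smul,
      show r • 𝟙 Y = 0 from LinearMap.mem_ker.1 (hk hr), Functor.map_zero]
  subst hal
  let Rr := DRing.restrictD (algebraMap B A)
  have h1 : Subsingleton ((Dual.inD B A)⟦-t⟧ ⟶ Y) :=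
    @Equiv.subsingleton _ _ (Iso.homFromEquiv ((Rr.commShiftIso (-t)).app (Dual.inD A A) ≪≫
      (shiftFunctor _ (-t)).mapIso (resInD (A := B) (B := A) A))).symm (horth ((Dual.inD A A)⟦-t⟧))
  exact not_subsingleton_iff_nontrivial.2 hnt (@Equiv.subsingleton _ _
    ((shiftEquiv' (Dual.D B) (-t) t (neg_add_cancel t)).toAdjunction.homEquiv (Dual.inD B A) Y).symm h1)

end Koszul

section Linear

variable {C : Type*} [Category.{u + 1} C] [Preadditive C] {A : Type u} [CommRing A] [Linear A C]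

/-- A natural bijection between maps into a fixed object is linear. -/
theorem HomIso.nonempty_linearEquiv {D : Type*} [Category.{u + 1} D] [Preadditive D] [Linear A D] {F : C ⥤ D}
    [F.Additive] {W : C} {L : D} (e : HomIso (𝟭 C) W F L)
    (hF : ∀ (a : A) (Z : C), F.map (a • 𝟙 Z) = a • 𝟙 (F.obj Z)) (Z : C) :
    Nonempty ((Z ⟶ W) ≃ₗ[A] (F.obj Z ⟶ L)) := by
  have hg : ∀ g : Z ⟶ W, e.equiv Z g = F.map g ≫ e.equiv W (𝟙 W) := fun g => by
    refine Eq.trans ?_ (e.natural g (𝟙 W))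
    exact congrArg (e.equiv Z) (Category.comp_id g).symm
  refine ⟨{ e.equiv Z with map_add' := fun g g' => ?_, map_smul' := fun a g => ?_ }⟩
  · show e.equiv Z (g + g') = e.equiv Z g + e.equiv Z g'
    rw [hg, hg g, hg g', Functor.map_add, Preadditive.add_comp]
  · show e.equiv Z (a • g) = a • e.equiv Z g
    rw [hg, hg g, show a • g = (a • 𝟙 Z) ≫ g by rw [Linear.smul_comp, Category.id_comp], Functor.map_comp, hF,
      Linear.smul_comp, Category.id_comp, Linear.smul_comp]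

end Linear

section Diagonal

variable {R A : Type u} [CommRing R] [CommRing A] [Algebra R A] [Algebra.FinitePresentation R A]
  [Module.Flat R A] {n : ℕ} (ψ : MvPolynomial (Fin n) R →ₐ[R] A) (hψ : Function.Surjective ψ)
  [DRing.HasLBaseChange (algebraMap R (MvPolynomial (Fin n) R))]
  (Rψ : Dual.D (MvPolynomial (Fin n) R) ⥤ Dual.D A) (adj : DRing.restrictD ψ.toRingHom ⊣ Rψ)
  [DRing.HasLBaseChange (Algebra.TensorProduct.includeLeftRingHom : A →+* A ⊗[R] A)]
  (Rμ : Dual.D (A ⊗[R] A) ⥤ Dual.D A)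
  (adjμ : DRing.restrictD (Algebra.TensorProduct.lmul' R (S := A)).toRingHom ⊣ Rμ)

/-- The maps `ω⟦i⟧ ⟶ L` and `A⟦i⟧ ⟶ RHom_{A⊗A}(A, pr₁^* L)`. -/
def DiagHom (L : Dual.D A) : Prop :=
  ∀ i : ℤ, Nonempty (((Dual2.shriekVia n Rψ (Dual.inD R R))⟦i⟧ ⟶ L) ≃ₗ[A]
    ((Dual.inD A A)⟦i⟧ ⟶ Rμ.obj ((DRing.LBaseChange
      (Algebra.TensorProduct.includeLeftRingHom : A →+* A ⊗[R] A)).obj L)))

include hψ adj adjμ in
/-- **`RHom_A(ω, L) = RHom_{A ⊗ A}(A, pr₁^* L)`.** -/
theorem diagHom (L : Dual.D A) : DiagHom (R := R) Rψ Rμ L := by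
  let B := A ⊗[R] A
  let Q := MvPolynomial (Fin n) A
  let μ := (Algebra.TensorProduct.lmul' R (S := A)).toRingHom
  let left : A →+* B := Algebra.TensorProduct.includeLeftRingHom
  let right : A →+* B := (Algebra.TensorProduct.includeRight : A →ₐ[R] B).toRingHom
  let ψ₂ : Q →ₐ[A] B := MvPolynomial.aeval fun i => (1 : A) ⊗ₜ[R] ψ (MvPolynomial.X i)
  have hψ₂ : Function.Surjective ψ₂ := fun z => by
    induction z using TensorProduct.induction_on with
    | zero => exact ⟨0, map_zero ψ₂⟩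
    | tmul r a =>
      obtain ⟨p, rfl⟩ := hψ a
      refine ⟨MvPolynomial.C r * MvPolynomial.map (algebraMap R A) p, ?_⟩
      have hp : ψ₂ (MvPolynomial.map (algebraMap R A) p) = (1 : A) ⊗ₜ[R] ψ p := by
        induction p using MvPolynomial.induction_on with
        | C c =>
          rw [MvPolynomial.map_C, MvPolynomial.aeval_C,
            show ψ (MvPolynomial.C c) = algebraMap R A c from ψ.commutes c]
          exact Algebra.TensorProduct.tmul_one_eq_one_tmul c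
        | add p q hp hq => rw [map_add, map_add, map_add, hp, hq, TensorProduct.tmul_add]
        | mul_X p i hp =>
          rw [map_mul, map_mul, hp, MvPolynomial.map_X, MvPolynomial.aeval_X, map_mul,
            Algebra.TensorProduct.tmul_mul_tmul, one_mul]
      rw [map_mul, hp, MvPolynomial.aeval_C]
      show (r ⊗ₜ[R] (1 : A)) * ((1 : A) ⊗ₜ[R] ψ p) = r ⊗ₜ[R] ψ p
      rw [Algebra.TensorProduct.tmul_mul_tmul, mul_one, one_mul]
    | add a b ha hb =>
      obtain ⟨p, hp⟩ := ha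
      obtain ⟨q, hq⟩ := hb
      exact ⟨p + q, by rw [map_add, hp, hq]⟩
  let φ := ψ₂.toRingHom
  haveI : DRing.HasLBaseChange (algebraMap A Q) := DAlg.hasLBaseChange _
  haveI : DRing.HasLBaseChange right := DAlg.hasLBaseChange _
  haveI : DRing.HasLBaseChange (algebraMap R A) := DAlg.hasLBaseChange _
  haveI : DRing.HasLBaseChange μ := DAlg.hasLBaseChange _
  haveI := DTenCalc.hasLBase φ
  haveI := DTenCalc.hasLBase μ
  haveI := DTenCalc.hasLTen (A := Q)
  haveI := DTenCalc.hasLTen (A := B)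
  haveI := DTenCalc.hasLTen (A := A)
  haveI := DTenCalc.hasLTen₃ (A := Q)
  haveI := DTenCalc.hasLTen₃ (A := B)
  haveI := DTenCalc.hasLTen₃ (A := A)
  haveI := DTenCalc.isSymMonoidal (A := Q)
  haveI := DTenCalc.isSymMonoidal (A := B)
  haveI := DTenCalc.isSymMonoidal (A := A)
  haveI := DTenCalc.hasResTen φ
  haveI := DTenCalc.resLegIso φ
  haveI := DTenCalc.hasResTen μ
  haveI := DTenCalc.resLegIso μ
  haveI : DTen.HasRHom B := DTenCalc.hasRHom
  haveI : DTen.HasRHom A := DTenCalc.hasRHom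
  haveI := isLeftAdjoint_restrictD φ
  haveI : DTen.HasRHomRel φ := ⟨inferInstance⟩
  let M := (DTen.RHomRel φ).obj (DTen.unit Q)
  -- the dualizing module of `B` over `Q`
  have hN : DRing.IsPerfect Q (DTenCalc.algD φ) := isPerfect_algD ψ₂ hψ₂
  have hM : Function.Bijective (fun a : B => a • 𝟙 M) ∧ ∀ i : ℤ, i ≠ 0 → Subsingleton (M ⟶ M⟦i⟧) := by
    letI : Algebra Q B := φ.toAlgebra
    exact (relDual_core (P := Q) (A := B) (DTen.RHomRel φ) (DTen.relAdj φ) hψ₂ hN).2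
  haveI := DTenCalc.isIso_candMap φ hN
  -- the left base change through `Q`
  let LQ := DRing.LBaseChange (algebraMap A Q)
  let base : LQ ⋙ DTen.LBase φ ≅ DRing.LBaseChange left :=
    Adjunction.leftAdjointUniq
      (((DAlg.lBaseChangeAdj (algebraMap A Q)).comp (DTen.baseAdj φ)).ofNatIsoRight
        (restrictDComp (algebraMap A Q) φ left (RingHom.ext fun a => (ψ₂.commutes a).symm)).symm)
      (DAlg.lBaseChangeAdj left)
  let Y := LQ.obj L
  let Fμ := DRing.restrictD μ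
  let T := (LTen B).obj M
  -- twist
  have hw := fun Z => DTenCalc.bijective_wl_all φ hN hM.1 hM.2 (Fμ.obj Z) Y
  let b₀ : HomIso Fμ ((DRing.LBaseChange left).obj L) Fμ ((DTen.LBase φ).obj Y) :=
    HomIso.congr (Iso.refl _) (base.app L).symm
  let b₁ : HomIso Fμ ((DTen.LBase φ).obj Y) (Fμ ⋙ T) ((DTenCalc.cand φ).obj Y) :=
    { equiv := fun Z => Equiv.ofBijective _ (hw Z)
      natural := fun h g => DTenCalc.wl_comp M (Fμ.map h) g }
  let b₂ : HomIso (Fμ ⋙ T) ((DTenCalc.cand φ).obj Y) (Fμ ⋙ T) ((DTen.RHomRel φ).obj Y) :=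
    HomIso.congr (Iso.refl _) (asIso ((DTenCalc.candMap φ).app Y))
  let b₃ : HomIso (Fμ ⋙ T) ((DTen.RHomRel φ).obj Y) ((Fμ ⋙ T) ⋙ DRing.restrictD φ) Y :=
    HomIso.ofAdjComp (Fμ ⋙ T) (DTen.relAdj φ) Y
  let Ω := (DTen.LBase μ).obj M
  let G := DTen.tensorRightD A Ω
  haveI : ∀ a b : Dual.D B, IsIso (DTenCalc.sym a b) := fun a b =>
    inferInstanceAs (IsIso ((DTen.symm B).app (a, b)))
  let j : Fμ ⋙ T ≅ G ⋙ Fμ := NatIso.ofComponents
    (fun Z => asIso (DTenCalc.sym (Fμ.obj Z) M) ≪≫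
      @asIso _ _ _ _ (DTen.projPF μ Z M) (DTenCalc.isIso_projPF μ Z M))
    (fun {Z Z'} h => by
      show DTenCalc.wl M (Fμ.map h) ≫ DTenCalc.sym (Fμ.obj Z') M ≫ DTen.projPF μ Z' M =
        (DTenCalc.sym (Fμ.obj Z) M ≫ DTen.projPF μ Z M) ≫ Fμ.map (DTenCalc.wr h Ω)
      rw [reassoc_of% (DTenCalc.symm_nat (Fμ.map h) M), DTenCalc.projPF_natural_left, Category.assoc])
  let χ : Q →+* A := μ.comp φ
  let j₂ : (Fμ ⋙ T) ⋙ DRing.restrictD φ ≅ G ⋙ DRing.restrictD χ :=
    Functor.isoWhiskerRight j _ ≪≫ Functor.associator _ _ _ ≪≫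
      Functor.isoWhiskerLeft G (restrictDComp φ μ χ rfl).symm
  let L' := L⟦(-(n : ℤ))⟧
  let eY : Y ≅ ((extD A Q).obj L')⟦(n : ℤ)⟧ :=
    (LBaseChangeIso A Q).app L ≪≫
      (extD A Q).mapIso ((shiftFunctorCompIsoId (Dual.D A) (-(n : ℤ)) n (neg_add_cancel _)).app L).symm ≪≫
      ((extD A Q).commShiftIso (n : ℤ)).app L'
  obtain ⟨E⟩ := nonempty_homIso n AlgEquiv.refl χ (algebraMap A A)
    (RingHom.ext fun a => by
      show a = μ (ψ₂ (MvPolynomial.C a))
      rw [MvPolynomial.aeval_C]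
      show a = Algebra.TensorProduct.lmul' R (S := A) (a ⊗ₜ[R] (1 : A))
      rw [Algebra.TensorProduct.lmul'_apply_tmul, mul_one]) (fun i => Algebra.IsIntegral.isIntegral _) L'
  let b₄ : HomIso ((Fμ ⋙ T) ⋙ DRing.restrictD φ) Y G L' :=
    ((HomIso.congr j₂ eY).trans (E.symm.precomp G)).trans
      (HomIso.congr (Functor.isoWhiskerLeft G (restrictDId _ rfl) ≪≫ G.rightUnitor) (Iso.refl _))
  let S := shiftEquiv' (Dual.D A) (n : ℤ) (-(n : ℤ)) (add_neg_cancel _)
  let b₅ : HomIso G L' (G ⋙ shiftFunctor (Dual.D A) (n : ℤ)) L := HomIso.ofAdjComp G S.toAdjunction L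
  let all : HomIso (𝟭 (Dual.D A)) (Rμ.obj ((DRing.LBaseChange left).obj L))
      (G ⋙ shiftFunctor (Dual.D A) (n : ℤ)) L :=
    (HomIso.ofAdj adjμ _).trans (b₀.trans (b₁.trans (b₂.trans (b₃.trans (b₄.trans b₅)))))
  have hG : ∀ (a : A) (Z : Dual.D A), (G ⋙ shiftFunctor (Dual.D A) (n : ℤ)).map (a • 𝟙 Z) =
      a • 𝟙 ((G ⋙ shiftFunctor (Dual.D A) (n : ℤ)).obj Z) := fun a Z => by
    show (DTenCalc.wr (a • 𝟙 Z) Ω)⟦(n : ℤ)⟧' = a • 𝟙 ((DTenCalc.ten Z Ω)⟦(n : ℤ)⟧)
    rw [wr_smul_id, Functor.map_smul, CategoryTheory.Functor.map_id]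
  -- the value of `Ω`
  let uA : Dual.inD A A ≅ DTen.unit A := (singleFunctorIsoCompQ (ModuleCat.{u} A) 0).app _
  let R₂ := DTen.RHomRel φ
  obtain ⟨bc⟩ : Nonempty ((DRing.LBaseChange right).obj (Dual2.shriekVia n Rψ (Dual.inD R R)) ≅
      Dual2.shriekVia n R₂ ((DRing.LBaseChange (algebraMap R A)).obj (Dual.inD R R))) := by
    letI : Algebra A B := Algebra.TensorProduct.rightAlgebra
    exact nonempty_shriek_baseChange_of_flat_fp R A A n ψ hψ Rψ adj n ψ₂ hψ₂ R₂ (DTen.relAdj φ) (Dual.inD R R)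
  obtain ⟨u₁⟩ := nonempty_LBaseChange_inD (algebraMap R A)
  obtain ⟨u₂⟩ := nonempty_LBaseChange_inD (algebraMap A Q)
  let eM : Dual2.shriekVia n R₂ ((DRing.LBaseChange (algebraMap R A)).obj (Dual.inD R R)) ≅ M⟦(n : ℤ)⟧ :=
    (shiftFunctor _ (n : ℤ)).mapIso (R₂.mapIso (LQ.mapIso u₁ ≪≫ u₂ ≪≫
      (singleFunctorIsoCompQ (ModuleCat.{u} Q) 0).app _))
  letI := (DTen.baseAdj μ).leftAdjointCommShift ℤ
  let retract : DRing.LBaseChange right ⋙ DTen.LBase μ ≅ 𝟭 (Dual.D A) :=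
    Adjunction.leftAdjointUniq
      (((DAlg.lBaseChangeAdj right).comp (DTen.baseAdj μ)).ofNatIsoRight
        ((restrictDComp right μ (RingHom.id A) (RingHom.ext fun a => by
          show a = Algebra.TensorProduct.lmul' R (S := A) ((1 : A) ⊗ₜ[R] a)
          rw [Algebra.TensorProduct.lmul'_apply_tmul, one_mul])).symm ≪≫ restrictDId _ rfl))
      Adjunction.id
  let eΩ : Ω⟦(n : ℤ)⟧ ≅ Dual2.shriekVia n Rψ (Dual.inD R R) :=
    ((DTen.LBase μ).commShiftIso (n : ℤ)).symm.app M ≪≫ (DTen.LBase μ).mapIso (bc ≪≫ eM).symm ≪≫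
      retract.app _
  intro i
  obtain ⟨es⟩ := DTenCalc.nonempty_ten_shift_unit Ω i
  let eF : (G ⋙ shiftFunctor (Dual.D A) (n : ℤ)).obj ((Dual.inD A A)⟦i⟧) ≅
      (Dual2.shriekVia n Rψ (Dual.inD R R))⟦i⟧ :=
    (shiftFunctor _ (n : ℤ)).mapIso (G.mapIso ((shiftFunctor _ i).mapIso uA) ≪≫ es) ≪≫
      shiftComm Ω i (n : ℤ) ≪≫ (shiftFunctor _ i).mapIso eΩ
  haveI : G.Additive := by
    haveI : PreservesColimitsOfSize.{0, 0} G := (DTen.rhomAdj A Ω).leftAdjoint_preservesColimits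
    haveI := preservesBinaryBiproducts_of_preservesBinaryCoproducts G
    exact Functor.additive_of_preservesBinaryBiproducts G
  obtain ⟨e⟩ := all.nonempty_linearEquiv hG ((Dual.inD A A)⟦i⟧)
  exact ⟨(Linear.homCongr A eF (Iso.refl L)).symm.trans e.symm⟩

omit [Algebra.FinitePresentation R A] in
/-- Relative perfect complexes are bounded below. -/
theorem exists_isGE_of_isRelPerfect {K : Dual.D A} (hK : Dual2.IsRelPerfect R A K) : ∃ a : ℤ, IsGE K a := by
  obtain ⟨-, a, b, h⟩ := hK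
  exact ⟨a, isGE_of_HD K a fun i hi =>
    (DAlg.resHD_subsingleton_iff (algebraMap R A) K i).1 (DAlg.TorAmp.subsingleton_HD h (Or.inl hi))⟩

include hψ adj adjμ in
/-- A complex bounded below orthogonal to `ω` is zero. -/
theorem isZero_of_subsingleton_hom (C : Dual.D A) (c : ℤ) [IsGE C c]
    (h : ∀ i : ℤ, Subsingleton ((Dual2.shriekVia n Rψ (Dual.inD R R))⟦i⟧ ⟶ C)) : IsZero C := by
  let B := A ⊗[R] A
  let left : A →+* B := Algebra.TensorProduct.includeLeftRingHom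
  let μ := (Algebra.TensorProduct.lmul' R (S := A)).toRingHom
  let X := (DRing.LBaseChange left).obj C
  have hz : ∀ i : ℤ, Subsingleton ((Dual.inD A A)⟦i⟧ ⟶ Rμ.obj X) := fun i => by
    obtain ⟨e⟩ := diagHom ψ hψ Rψ adj Rμ adjμ C i
    haveI := h i
    exact e.symm.toEquiv.subsingleton
  haveI : IsIso (0 : Rμ.obj X ⟶ 0) := DTenCalc.isIso_of_bijective_unit _ fun i =>
    ⟨fun a b _ => (hz i).elim a b, fun b => ⟨0, (isZero_zero _).eq_of_tgt _ _⟩⟩
  have hX0 : IsZero (Rμ.obj X) := (isZero_zero _).of_iso (asIso (0 : Rμ.obj X ⟶ 0))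
  haveI : IsGE X c := by
    haveI : Module.Flat A B := inferInstance
    have e : (DRing.LBaseChange (algebraMap A B)).obj C ≅ (extD A B).obj C := (LBaseChangeIso A B).app C
    haveI := isGE_extD (B := B) C c
    exact TStructure.t.isGE_of_iso e.symm c
  haveI hret : ∀ W : Dual.D A, Subsingleton (X ⟶ (DRing.restrictD μ).obj W) :=
    subsingleton_hom_res_of_orthogonal μ
      (fun a => ⟨a ⊗ₜ 1, by show Algebra.TensorProduct.lmul' R (S := A) _ = a; simp⟩)
      (KaehlerDifferential.ideal_fg R A)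
      X c (fun Z => ⟨fun f g => (adjμ.homEquiv _ _).injective (hX0.eq_of_tgt _ _)⟩)
  rw [IsZero.iff_id_eq_zero]
  let r : (DRing.restrictD left).obj ((DRing.restrictD μ).obj C) ≅ C :=
    ((restrictDComp left μ (RingHom.id A) (RingHom.ext fun a => by
      show a = Algebra.TensorProduct.lmul' R (S := A) (a ⊗ₜ[R] (1 : A))
      rw [Algebra.TensorProduct.lmul'_apply_tmul, mul_one])).app C).symm ≪≫ (restrictDId _ rfl).app C
  haveI : Subsingleton (C ⟶ (DRing.restrictD left).obj ((DRing.restrictD μ).obj C)) :=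
    ((DAlg.lBaseChangeAdj left).homEquiv C _).symm.subsingleton
  have : r.inv = 0 := Subsingleton.elim _ _
  rw [← r.inv_hom_id, this, zero_comp]

include hψ adj adjμ in
/-- **Uniqueness.** A relative dualizing complex is isomorphic to the shriek of `R`. -/
theorem nonempty_iso_shriek_of_isRelDualizing (K : Dual.D A) (hK : Dual2.IsRelDualizing R A Rμ K) :
    Nonempty (Dual2.shriekVia n Rψ (Dual.inD R R) ≅ K) := by
  let ω := Dual2.shriekVia n Rψ (Dual.inD R R)
  obtain ⟨hperf, ⟨eK⟩⟩ := hK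
  obtain ⟨hend, hext⟩ := bijective_smul_id_shriek_self_fp ψ hψ Rψ adj
  have hω : ∀ i : ℤ, i ≠ 0 → Subsingleton (ω⟦i⟧ ⟶ ω) := fun i hi =>
    @Equiv.subsingleton _ _ ((shiftEquiv' (Dual.D A) i (-i) (add_neg_cancel i)).toAdjunction.homEquiv ω ω)
      (hext (-i) (neg_ne_zero.2 hi))
  have hA : ∀ i : ℤ, i ≠ 0 → Subsingleton ((Dual.inD A A)⟦i⟧ ⟶ Dual.inD A A) := fun i hi => by
    haveI := subsingleton_HD_inD (A := A) A (-i) (neg_ne_zero.2 hi)
    exact @Equiv.subsingleton _ _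
      ((shiftEquiv' (Dual.D A) i (-i) (add_neg_cancel i)).toAdjunction.homEquiv (Dual.inD A A) (Dual.inD A A))
      (homAEquiv (Dual.inD A A) (-i)).toEquiv.subsingleton
  have hK' : ∀ i : ℤ, Nonempty ((ω⟦i⟧ ⟶ K) ≃ₗ[A] ((Dual.inD A A)⟦i⟧ ⟶ Dual.inD A A)) := fun i => by
    obtain ⟨e⟩ := diagHom ψ hψ Rψ adj Rμ adjμ K i
    exact ⟨e.trans (Linear.homCongr A (Iso.refl _) eK)⟩
  obtain ⟨E⟩ : Nonempty ((ω ⟶ K) ≃ₗ[A] A) := by
    obtain ⟨e⟩ := hK' 0
    exact ⟨(Linear.homCongr A ((shiftFunctorZero (Dual.D A) ℤ).app ω).symm (Iso.refl K)).trans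
      (e.trans ((Linear.homCongr A ((shiftFunctorZero (Dual.D A) ℤ).app _) (Iso.refl _)).trans
        ((LinearEquiv.ofBijective _ (evalOne_bijective (Dual.inD A A))).trans (HDinDEquiv A))))⟩
  let α : ω ⟶ K := E.symm 1
  obtain ⟨C, p, δ, hT⟩ := distinguished_cocone_triangle α
  let T := Triangle.mk α p δ
  obtain ⟨a, ha⟩ := exists_isGE_of_isRelPerfect hperf
  obtain ⟨a', ha'⟩ := exists_isGE_of_isRelPerfect (isRelPerfect_shriek_self_fp ψ hψ Rψ adj)
  haveI := ha
  haveI : IsGE C (min a (a' - 1)) := (isGE_iff C _).2 fun i hi =>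
    (HomologySequence.exact₃ T hT i (i + 1) rfl).isZero_X₂
      ((isZero_of_isGE K a i (by omega)).eq_of_src _ _)
      ((haveI := ha'; isZero_of_isGE ω a' (i + 1) (by omega)).eq_of_tgt _ _)
  have hmul : ∀ g : ω ⟶ K, ∃ c : A, g = c • α := fun g => ⟨E g, E.injective (by simp [α])⟩
  have hC : IsZero C := isZero_of_subsingleton_hom ψ hψ Rψ adj Rμ adjμ C (min a (a' - 1)) fun i => by
    refine subsingleton_of_forall_eq 0 fun f => ?_
    have hfd : f ≫ δ = 0 := by
      by_cases hi : i = 1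
      · subst hi
        obtain ⟨f₀, hf₀⟩ := (shiftFunctor (Dual.D A) (1 : ℤ)).map_surjective (f ≫ δ)
        obtain ⟨c, rfl⟩ := hend.2 f₀
        have h1 : (f ≫ δ) ≫ α⟦(1 : ℤ)⟧' = 0 := by
          rw [Category.assoc, show δ ≫ α⟦(1 : ℤ)⟧' = 0 from comp_distTriang_mor_zero₃₁ T hT, comp_zero]
        rw [← hf₀, ← Functor.map_comp, Linear.smul_comp, Category.id_comp] at h1
        have h2 : c • α = 0 := (shiftFunctor (Dual.D A) (1 : ℤ)).map_injective (h1.trans (Functor.map_zero _ _ _).symm)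
        have h3 : c = 0 := by simpa [α] using congrArg E h2
        rw [← hf₀]
        show (shiftFunctor (Dual.D A) (1 : ℤ)).map (c • 𝟙 ω) = 0
        rw [h3, zero_smul, Functor.map_zero]
      · haveI := hω (i - 1) (by omega)
        let e : ω⟦i⟧ ≅ (ω⟦i - 1⟧)⟦(1 : ℤ)⟧ := (shiftFunctorAdd' (Dual.D A) (i - 1) 1 i (by omega)).app ω
        obtain ⟨f₀, hf₀⟩ := (shiftFunctor (Dual.D A) (1 : ℤ)).map_surjective (e.inv ≫ f ≫ δ)
        rw [← cancel_epi e.inv, ← hf₀, Subsingleton.elim f₀ 0, Functor.map_zero, comp_zero]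
    obtain ⟨g, hgf⟩ := Triangle.coyoneda_exact₃ T hT f hfd
    suffices key : ∀ g : ω⟦i⟧ ⟶ K, g ≫ p = 0 from hgf.trans (key g)
    intro g
    by_cases hi : i = 0
    · subst hi
      let z := (shiftFunctorZero (Dual.D A) ℤ).app ω
      obtain ⟨c, hc⟩ := hmul (z.inv ≫ g)
      have hg : g = z.hom ≫ (c • α) := by rw [← hc, Iso.hom_inv_id_assoc]
      rw [hg, Category.assoc, Linear.smul_comp, show α ≫ p = 0 from comp_distTriang_mor_zero₁₂ T hT, smul_zero,
        comp_zero]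
    · obtain ⟨e⟩ := hK' i
      haveI := hA i hi
      rw [show g = 0 from e.injective (Subsingleton.elim _ _), zero_comp]
  haveI : IsIso α := (Triangle.isZero₃_iff_isIso₁ T hT).1 hC
  exact ⟨asIso α⟩

end Diagonal

end Groth.DualCore

namespace Groth.DualCore

/-- Relative dualizing complexes are stable under isomorphism. -/
theorem isRelDualizing_of_iso {R A : Type u} [CommRing R] [CommRing A] [Algebra R A]
    [DRing.HasLBaseChange (Algebra.TensorProduct.includeLeftRingHom : A →+* A ⊗[R] A)]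
    {Rμ : Dual.D (A ⊗[R] A) ⥤ Dual.D A} {K L : Dual.D A} (e : K ≅ L) (h : Dual2.IsRelDualizing R A Rμ K) :
    Dual2.IsRelDualizing R A Rμ L := by
  obtain ⟨⟨hpc, a, b, hab⟩, ⟨eK⟩⟩ := h
  obtain ⟨E, c, hE, hF, ⟨eE⟩⟩ := hpc
  exact ⟨⟨⟨E, c, hE, hF, ⟨eE ≪≫ e⟩⟩, a, b,
      DAlg.TorAmp.of_iso hab ((DRing.restrictD (algebraMap R A)).mapIso e)⟩,
    ⟨Rμ.mapIso ((DRing.LBaseChange _).mapIso e.symm) ≪≫ eK⟩⟩

/-- A presentation of a finitely presented algebra, with its upper shriek. -/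
theorem exists_presentation (R A : Type u) [CommRing R] [CommRing A] [Algebra R A]
    [Algebra.FinitePresentation R A] :
    ∃ (n : ℕ) (ψ : MvPolynomial (Fin n) R →ₐ[R] A) (_ : Function.Surjective ψ)
      (_ : DRing.HasLBaseChange (algebraMap R (MvPolynomial (Fin n) R)))
      (Rψ : Dual.D (MvPolynomial (Fin n) R) ⥤ Dual.D A), Nonempty (DRing.restrictD ψ.toRingHom ⊣ Rψ) := by
  obtain ⟨n, ψ, hψ, -⟩ := Algebra.FinitePresentation.out (R := R) (A := A)
  haveI := isLeftAdjoint_restrictD ψ.toRingHom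
  exact ⟨n, ψ, hψ, DAlg.hasLBaseChange _, _, ⟨Adjunction.ofIsLeftAdjoint _⟩⟩

end Groth.DualCore
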