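import Groth.Agent.DualCore.RelDualizing
import Groth.Agent.DualCore.FiniteMap
import Groth.Agent.DualCore.Devissage
import Mathlib.RingTheory.LocalRing.Module

/-!
A complex with cohomology bounded above and finite over a local ring is determined, up to isomorphism, by its
derived fibre when that is a shifted line.
-/

set_option autoImplicit false
set_option linter.style.haveILetI false

universe u

open CategoryTheory CategoryTheory.Limits CategoryTheory.Pretriangulated DerivedCategory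
open scoped TensorProduct

attribute [local instance] HasDerivedCategory.standard

namespace Groth.DualCore

section Field

variable {k : Type u} [Field k]

lemma id_inD_ne_zero : 𝟙 (Dual.inD k k) ≠ 0 := fun h => by
  let E : (Dual.inD k k ⟶ Dual.inD k k) ≃ₗ[k] k :=
    (LinearEquiv.ofBijective _ (evalOne_bijective (Dual.inD k k))).trans (HDinDEquiv k)
  obtain ⟨f, hf⟩ := E.surjective 1
  exact one_ne_zero (α := k) (by rw [← hf, ← Category.comp_id f, h, comp_zero, map_zero])

/-- An endomorphism of a line is zero or an isomorphism. -/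
lemma isIso_of_ne_zero_inD (c : Dual.inD k k ⟶ Dual.inD k k) (hc : c ≠ 0) : IsIso c := by
  let E : (Dual.inD k k ⟶ Dual.inD k k) ≃ₗ[k] k :=
    (LinearEquiv.ofBijective _ (evalOne_bijective (Dual.inD k k))).trans (HDinDEquiv k)
  have hid : E (𝟙 _) ≠ 0 := fun h => hc (by
    rw [← Category.comp_id c, E.map_eq_zero_iff.1 h, comp_zero])
  have hs : c = (E c / E (𝟙 _)) • 𝟙 (Dual.inD k k) := E.injective (by
    rw [map_smul, smul_eq_mul, div_mul_cancel₀ _ hid])
  have hn : E c / E (𝟙 _) ≠ 0 := fun h => hc (by rw [hs, h, zero_smul])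
  obtain ⟨r, hr, rfl⟩ : ∃ r : k, r ≠ 0 ∧ c = r • 𝟙 (Dual.inD k k) := ⟨_, hn, hs⟩
  exact ⟨r⁻¹ • 𝟙 _, by simp [Linear.comp_smul, smul_smul, inv_mul_cancel₀ hr, mul_inv_cancel₀ hr]⟩

/-- There are no maps between a line and its nonzero shifts. -/
lemma subsingleton_shift_inD_hom (j : ℤ) (hj : j ≠ 0) :
    Subsingleton ((Dual.inD k k)⟦j⟧ ⟶ Dual.inD k k) := by
  let K := Dual.inD k k
  haveI := subsingleton_HD_inD (A := k) k (-j) (neg_ne_zero.2 hj)
  haveI : Subsingleton (K ⟶ K⟦-j⟧) := (homAEquiv K (-j)).toEquiv.subsingleton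
  let c := (shiftFunctorCompIsoId (Dual.D k) j (-j) (add_neg_cancel j)).app K
  exact Function.Injective.subsingleton (f := fun f : K⟦j⟧ ⟶ K => (c.inv ≫ f⟦-j⟧' : K ⟶ K⟦-j⟧))
    fun f g h => (shiftFunctor (Dual.D k) (-j)).map_injective ((cancel_epi c.inv).1 h)

end Field

variable {A : Type u} [CommRing A] [IsNoetherianRing A] [IsLocalRing A] {k : Type u} [Field k] [Algebra A k]
  [IsLocalHom (algebraMap A k)]

omit [IsNoetherianRing A] in
/-- A nonzero finite module has a nonzero map to the field. -/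
lemma exists_linearMap_ne_zero (M : Type u) [AddCommGroup M] [Module A M] [Module.Finite A M] [Nontrivial M] :
    ∃ f : M →ₗ[A] k, ∃ x, f x ≠ 0 := by
  let κ := IsLocalRing.ResidueField A
  haveI : Nontrivial (κ ⊗[A] M) := by
    rw [← not_subsingleton_iff_nontrivial, IsLocalRing.subsingleton_tensorProduct]
    exact not_subsingleton M
  obtain ⟨y, hy⟩ := exists_ne (0 : κ ⊗[A] M)
  obtain ⟨g, hg⟩ := Module.Projective.exists_dual_ne_zero κ hy
  let ι : κ →ₗ[A] k :=
    { toFun := IsLocalRing.ResidueField.lift (algebraMap A k)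
      map_add' := map_add _
      map_smul' := fun a x => by
        rw [Algebra.smul_def, map_mul, Algebra.smul_def]
        rfl }
  have hι : Function.Injective ι := (IsLocalRing.ResidueField.lift (algebraMap A k)).injective
  obtain ⟨x, rfl⟩ := TensorProduct.mk_surjective A M κ IsLocalRing.residue_surjective y
  exact ⟨ι ∘ₗ (g.restrictScalars A) ∘ₗ TensorProduct.mk A κ M 1, x, fun h => hg (hι (h.trans ι.map_zero.symm))⟩

omit [IsNoetherianRing A] in
/-- A complex with nonzero top cohomology has maps `A ⟶ Y ⟶ k` with nonzero composite. -/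
lemma exists_comp_ne_zero (Y : Dual.D A) [IsLE Y 0] [Module.Finite A (Dual.HD A Y 0)]
    [Nontrivial (Dual.HD A Y 0)] :
    ∃ (h : Dual.inD A A ⟶ Y) (g : Y ⟶ Dual.inD A k), h ≫ g ≠ 0 := by
  obtain ⟨T, hT, h1, ⟨e₂⟩, -, ⟨e₃⟩⟩ := exists_top_triangle Y 0 (-1) (by lia)
  let M : Type u := Dual.HD A Y 0
  obtain ⟨f, x, hx⟩ := exists_linearMap_ne_zero (A := A) (k := k) M
  let H := homologyFunctor (ModuleCat.{u} A) 0
  haveI : Epi (H.map T.mor₂) :=
    (HomologySequence.epi_homologyMap_mor₂_iff T hT 0 1 rfl).2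
      ((isZero_of_isLE T.obj₁ (-1) 1 (by lia)).eq_of_tgt _ _)
  let p : Y ⟶ (singleFunctor (ModuleCat.{u} A) 0).obj (H.obj Y) := e₂.inv ≫ T.mor₂ ≫ e₃.hom
  haveI : Epi (H.map p) := by
    simp only [p, Functor.map_comp]
    infer_instance
  let g : Y ⟶ Dual.inD A k := p ≫ (singleFunctor (ModuleCat.{u} A) 0).map (ModuleCat.ofHom f)
  obtain ⟨z, hz⟩ := (ModuleCat.epi_iff_surjective (H.map p)).1 inferInstance
    (((singleFunctorCompHomologyFunctorIso (ModuleCat.{u} A) 0).inv.app (ModuleCat.of A M)).hom x)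
  obtain ⟨h, hh⟩ := (evalOne_bijective Y).2 z
  refine ⟨h, g, fun h0 => hx ?_⟩
  have h2 : (H.map g).hom z = 0 := by
    rw [← hh, ← evalOne_comp, h0, map_zero]
  have hgz : H.map g = H.map p ≫ H.map ((singleFunctor (ModuleCat.{u} A) 0).map (ModuleCat.ofHom f)) :=
    H.map_comp _ _
  rw [hgz, ModuleCat.hom_comp, LinearMap.comp_apply, hz] at h2
  let s := singleFunctorCompHomologyFunctorIso (ModuleCat.{u} A) 0
  have h3 := ConcreteCategory.congr_hom (s.inv.naturality (ModuleCat.ofHom f)) x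
  have h4 : (s.inv.app (ModuleCat.of A k)).hom (f x) = 0 := h3.trans h2
  let σ : (k : Type u) ≃ₗ[A] _ := (s.app (ModuleCat.of A k)).symm.toLinearEquiv
  exact σ.map_eq_zero_iff.1 h4

variable [DRing.HasLBaseChange (algebraMap A k)]

omit [DRing.HasLBaseChange (algebraMap A k)] in
/-- The derived fibre of a nonzero complex with bounded above finite cohomology is nonzero. -/
lemma subsingleton_HD_of_fibre (L : Dual.D A) (b : ℤ) [IsLE L b] (hfin : ∀ i, Module.Finite A (Dual.HD A L i))
    (h : ∀ Z : Dual.D k, Subsingleton (L ⟶ (DRing.restrictD (algebraMap A k)).obj Z)) (i : ℤ) :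
    Subsingleton (Dual.HD A L i) := by
  suffices key : ∀ (n : ℕ), IsLE L (b - n) by
    haveI := key (b - i + 1).toNat
    exact ModuleCat.isZero_iff_subsingleton.1 (isZero_of_isLE L (b - (b - i + 1).toNat) i (by lia))
  intro n
  induction n with
  | zero => simpa using ‹IsLE L b›
  | succ n ih =>
    refine (isLE_iff L _).2 fun j hj => ?_
    by_cases hjt : b - (n : ℤ) < j
    · exact isZero_of_isLE L (b - n) j hjt
    obtain rfl : j = b - n := by lia
    apply ModuleCat.isZero_iff_subsingleton.2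
    change Subsingleton (Dual.HD A L (b - n))
    by_contra hns
    haveI : IsLE (L⟦b - (n : ℤ)⟧) 0 :=
      DerivedCategory.TStructure.t.isLE_shift L (b - n) (b - n) 0 (add_zero _)
    let e := HDShiftEquiv L (b - (n : ℤ)) 0 _ (add_zero _)
    haveI : Module.Finite A (Dual.HD A (L⟦b - (n : ℤ)⟧) 0) := haveI := hfin (b - n); Module.Finite.equiv e.symm
    haveI : Nontrivial (Dual.HD A (L⟦b - (n : ℤ)⟧) 0) :=
      haveI := not_subsingleton_iff_nontrivial.1 hns
      e.toEquiv.nontrivial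
    obtain ⟨h', g, hg⟩ := exists_comp_ne_zero (k := k) (L⟦b - (n : ℤ)⟧)
    let a := b - (n : ℤ)
    let R := DRing.restrictD (algebraMap A k)
    let w : (R.obj ((Dual.inD k k)⟦-a⟧))⟦a⟧ ≅ Dual.inD A k :=
      (shiftFunctor _ a).mapIso ((R.commShiftIso (-a)).app (Dual.inD k k)) ≪≫
        (shiftFunctorCompIsoId (Dual.D A) (-a) a (neg_add_cancel a)).app _ ≪≫ resInD (A := A) (B := k) k
    obtain ⟨g', hg'⟩ := (shiftFunctor (Dual.D A) a).map_surjective (g ≫ w.inv)
    haveI := h ((Dual.inD k k)⟦-a⟧)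
    have h6 : g' = 0 := Subsingleton.elim _ _
    apply hg
    have : g = 0 := by
      rw [← cancel_mono w.inv, zero_comp, ← hg', h6, Functor.map_zero]
    rw [this, comp_zero]

/-- **Criterion.** A complex whose derived fibre is a shifted line is a shifted copy of the ring. -/
theorem nonempty_iso_of_fibre (K : Dual.D A) (b : ℤ) [IsLE K b] (hfin : ∀ i, Module.Finite A (Dual.HD A K i))
    (m : ℤ) (e : (DRing.LBaseChange (algebraMap A k)).obj K ≅ (Dual.inD k k)⟦m⟧) :
    Nonempty (K ≅ (Dual.inD A A)⟦m⟧) := by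
  let F := DRing.LBaseChange (algebraMap A k)
  let R := DRing.restrictD (algebraMap A k)
  let adj : F ⊣ R := DAlg.lBaseChangeAdj (algebraMap A k)
  letI : F.CommShift ℤ := adj.leftAdjointCommShift ℤ
  -- shift to degree zero
  let Y := K⟦-m⟧
  haveI : IsLE Y (b + m) := DerivedCategory.TStructure.t.isLE_shift K b (-m) (b + m) (by lia)
  let eY : F.obj Y ≅ Dual.inD k k :=
    (F.commShiftIso (-m)).app K ≪≫ (shiftFunctor _ (-m)).mapIso e ≪≫
      (shiftFunctorCompIsoId (Dual.D k) m (-m) (add_neg_cancel m)).app _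
  have hfinY : ∀ i, Module.Finite A (Dual.HD A Y i) := fun i => by
    haveI := hfin (-m + i)
    exact Module.Finite.equiv (HDShiftEquiv K (-m) i _ rfl).symm
  -- the cohomology of `Y` in positive degrees vanishes and `H⁰ ≠ 0`
  obtain ⟨t, ht, htY, hnt⟩ : ∃ t : ℤ, t = 0 ∧ IsLE Y t ∧ Nontrivial (Dual.HD A Y t) := by
    have hne : ∃ i, Nontrivial (Dual.HD A Y i) := by
      by_contra! hall
      haveI : IsLE Y (-1) := (isLE_iff Y (-1)).2 fun i _ =>
        ModuleCat.isZero_iff_subsingleton.2 (show Subsingleton (Dual.HD A Y i) from hall i)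
      haveI : IsGE Y 0 := isGE_of_HD Y 0 fun i _ => hall i
      have h0 : IsZero Y := isZero_of_isGE_of_isLE Y 0 (-1) (by lia)
      have h1 : (adj.homEquiv Y (Dual.inD k k) eY.hom) = (adj.homEquiv Y (Dual.inD k k)) 0 := h0.eq_of_src _ _
      have h2 : 𝟙 (Dual.inD k k) = 0 := by
        rw [← eY.inv_hom_id, (adj.homEquiv Y (Dual.inD k k)).injective h1, comp_zero]
      exact (id_inD_ne_zero (k := k)) h2
    obtain ⟨t, hnt, hmax⟩ := Int.exists_greatest_of_bdd (P := fun i => Nontrivial (Dual.HD A Y i))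
      ⟨b + m, fun i hi => by
        by_contra! hlt
        exact not_subsingleton_iff_nontrivial.2 hi
          (ModuleCat.isZero_iff_subsingleton.1 (isZero_of_isLE Y (b + m) i hlt))⟩ hne
    haveI hle : IsLE Y t := (isLE_iff Y t).2 fun i hi => by
      apply ModuleCat.isZero_iff_subsingleton.2
      change Subsingleton (Dual.HD A Y i)
      exact not_nontrivial_iff_subsingleton.1 fun h => absurd (hmax i h) (by lia)
    refine ⟨t, ?_, hle, hnt⟩
    by_contra htz
    haveI : IsLE (Y⟦t⟧) 0 := DerivedCategory.TStructure.t.isLE_shift Y t t 0 (add_zero _)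
    let et := HDShiftEquiv Y t 0 t (add_zero _)
    haveI : Module.Finite A (Dual.HD A (Y⟦t⟧) 0) := haveI := hfinY t; Module.Finite.equiv et.symm
    haveI : Nontrivial (Dual.HD A (Y⟦t⟧) 0) := et.toEquiv.nontrivial
    obtain ⟨h, g, hg⟩ := exists_comp_ne_zero (k := k) (Y⟦t⟧)
    haveI := subsingleton_shift_inD_hom (k := k) t htz
    let et' : F.obj (Y⟦t⟧) ≅ (Dual.inD k k)⟦t⟧ := (F.commShiftIso t).app Y ≪≫ (shiftFunctor _ t).mapIso eY
    have h1 : (adj.homEquiv _ _).symm (g ≫ (resInD (A := A) (B := k) k).inv) =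
        (adj.homEquiv (Y⟦t⟧) (Dual.inD k k)).symm 0 := by
      rw [← cancel_epi et'.inv]
      exact Subsingleton.elim _ _
    have h2 : g = 0 := (cancel_mono (resInD (A := A) (B := k) k).inv).1
      (((adj.homEquiv _ _).symm.injective h1).trans zero_comp.symm)
    exact hg (by rw [h2, comp_zero])
  subst ht
  haveI := htY
  haveI := hnt
  haveI := hfinY 0
  obtain ⟨h, g, hg⟩ := exists_comp_ne_zero (k := k) Y
  -- the base change of `h` is an isomorphism
  obtain ⟨eA⟩ := nonempty_LBaseChange_inD (algebraMap A k)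
  haveI : IsIso (F.map h) := by
    let c := eA.inv ≫ F.map h ≫ eY.hom
    haveI : IsIso c := isIso_of_ne_zero_inD c fun hc => hg <| by
      have h1 : F.map h = 0 := by
        rw [← cancel_epi eA.inv, ← cancel_mono eY.hom, Category.assoc]
        simpa [c] using hc
      have h2 : h ≫ (g ≫ (resInD (A := A) (B := k) k).inv) =
          (adj.homEquiv (Dual.inD A A) (Dual.inD k k)) (F.map h ≫ (adj.homEquiv _ _).symm
            (g ≫ (resInD (A := A) (B := k) k).inv)) := by
        rw [adj.homEquiv_naturality_left, Equiv.apply_symm_apply]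
      rw [h1, zero_comp, adj.homEquiv_unit, Functor.map_zero, comp_zero, ← Category.assoc] at h2
      exact (cancel_mono (resInD (A := A) (B := k) k).inv).1 (h2.trans zero_comp.symm)
    rw [show F.map h = eA.hom ≫ c ≫ eY.inv by simp [c]]
    infer_instance
  have hbij : ∀ Z : Dual.D k, Function.Bijective fun f : Y ⟶ R.obj Z => h ≫ f := fun Z => by
    have : (fun f : Y ⟶ R.obj Z => h ≫ f) =
        (adj.homEquiv _ Z) ∘ (fun f => F.map h ≫ f) ∘ (adj.homEquiv _ Z).symm := by
      funext f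
      simp [adj.homEquiv_naturality_left]
    rw [this]
    exact (Equiv.bijective _).comp ((show Function.Bijective (fun f : F.obj Y ⟶ Z => F.map h ≫ f) from
      ⟨fun a c hac => (cancel_epi (F.map h)).1 hac, fun a => ⟨inv (F.map h) ≫ a, by simp⟩⟩).comp
      (Equiv.bijective _))
  obtain ⟨L, p, δ, hT⟩ := distinguished_cocone_triangle h
  let T := Triangle.mk h p δ
  have hL : ∀ Z : Dual.D k, Subsingleton (L ⟶ R.obj Z) := fun Z => by
    refine subsingleton_of_forall_eq 0 fun f => ?_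
    have hpf : p ≫ f = 0 := (hbij Z).1 (by
      show h ≫ p ≫ f = h ≫ 0
      rw [← Category.assoc, show h ≫ p = 0 from comp_distTriang_mor_zero₁₂ T hT, zero_comp, comp_zero])
    obtain ⟨w, hw⟩ : ∃ w : (Dual.inD A A)⟦(1 : ℤ)⟧ ⟶ R.obj Z, f = δ ≫ w :=
      Triangle.yoneda_exact₃ T hT f hpf
    let sh := (shiftEquiv (Dual.D A) (1 : ℤ)).toAdjunction
    let r : (R.obj Z)⟦-(1 : ℤ)⟧ ≅ R.obj (Z⟦-(1 : ℤ)⟧) := ((R.commShiftIso (-(1 : ℤ))).app Z).symm
    obtain ⟨v, hv⟩ := (hbij (Z⟦-(1 : ℤ)⟧)).2 ((sh.homEquiv _ _) w ≫ r.hom)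
    have hwv : w = h⟦(1 : ℤ)⟧' ≫ (sh.homEquiv _ _).symm (v ≫ r.inv) := by
      refine Eq.trans ?_ (sh.homEquiv_naturality_left_symm h (v ≫ r.inv))
      erw [← Category.assoc, show h ≫ v = _ from hv, Category.assoc, r.hom_inv_id]
      erw [Category.comp_id, Equiv.symm_apply_apply]
    refine hw.trans ((congrArg (δ ≫ ·) hwv).trans ?_)
    exact (reassoc_of% (show δ ≫ h⟦(1 : ℤ)⟧' = 0 from comp_distTriang_mor_zero₃₁ T hT)) _ |>.trans zero_comp
  haveI hLle : IsLE L 0 := (isLE_iff L 0).2 fun i hi =>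
    (HomologySequence.exact₃ T hT i (i + 1) rfl).isZero_X₂ ((isZero_of_isLE Y 0 i hi).eq_of_src _ _)
      ((isZero_of_isLE (Dual.inD A A) 0 (i + 1) (by lia)).eq_of_tgt _ _)
  have hLfin : ∀ i, Module.Finite A (Dual.HD A L i) := fun i => by
    have hex := (ShortComplex.ShortExact.moduleCat_exact_iff_function_exact _).1 (HomologySequence.exact₃ T hT i (i + 1) rfl)
    haveI := hfinY i
    haveI := finite_HD_inD (A := A) A (i + 1)
    haveI : IsNoetherian A (Dual.HD A Y i) := isNoetherian_of_isNoetherianRing_of_finite A _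
    haveI : IsNoetherian A (Dual.HD A (Dual.inD A A) (i + 1)) := isNoetherian_of_isNoetherianRing_of_finite A _
    let g₁ : Dual.HD A Y i →ₗ[A] Dual.HD A L i := ((homologyFunctor (ModuleCat.{u} A) i).map p).hom
    let g₂ : Dual.HD A L i →ₗ[A] Dual.HD A (Dual.inD A A) (i + 1) :=
      (HomologySequence.δ T i (i + 1) rfl).hom
    haveI : IsNoetherian A (Dual.HD A L i) :=
      isNoetherian_of_range_eq_ker g₁ g₂ (LinearMap.exact_iff.1 hex).symm
    infer_instance
  have hL0 := subsingleton_HD_of_fibre (k := k) L 0 hLfin hL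
  haveI : IsLE L (-1) := (isLE_iff L (-1)).2 fun i _ => ModuleCat.isZero_iff_subsingleton.2 (hL0 i)
  haveI : IsGE L 0 := isGE_of_HD L 0 fun i _ => hL0 i
  haveI : IsIso h := (Triangle.isZero₃_iff_isIso₁ T hT).1 (isZero_of_isGE_of_isLE L 0 (-1) (by lia))
  exact ⟨((shiftFunctorCompIsoId (Dual.D A) (-m) m (neg_add_cancel m)).app K).symm ≪≫
    (shiftFunctor (Dual.D A) m).mapIso (asIso h).symm⟩

end Groth.DualCore
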