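import Groth.Agent.DualCore.FlatBC
import Groth.Agent.DualCore.ShriekIndep
import Mathlib.RingTheory.TensorProduct.MvPolynomial

/-!
Composition of upper shrieks of finite type algebras, on objects bounded below.
-/

set_option autoImplicit false

universe u

open CategoryTheory CategoryTheory.Limits DerivedCategory TensorProduct

attribute [local instance] HasDerivedCategory.standard
attribute [local instance] MvPolynomial.algebraMvPolynomial

namespace Groth.DualCore

/-- Representing objects give natural bijections. -/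
noncomputable def HomIso.ofRepresents {A B : Type u} [CommRing A] [CommRing B] {C : Type*} [Category C]
    (F : C ⥤ Dual.D B) {φ : A →+* B} {W : Dual.D B} {ω : Dual.D A} {ε : (DRing.restrictD φ).obj W ⟶ ω}
    (h : Represents φ ε) (i : ℤ) : HomIso F (W⟦i⟧) (F ⋙ DRing.restrictD φ) (ω⟦i⟧) where
  equiv Z := (h.homEquiv (F.obj Z) i).toEquiv
  natural g v := Θ_precomp φ ε (F.map g) i v

/-- Two presentations have the same functor `Z ↦ Hom(Z, (P ⊗ K)[n])`. -/
theorem nonempty_homIso_presentations {R A : Type u} [CommRing R] [CommRing A] [Algebra R A] {n m : ℕ}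
    (ψ : MvPolynomial (Fin n) R →ₐ[R] A) (hψ : Function.Surjective ψ)
    (ψ' : MvPolynomial (Fin m) R →ₐ[R] A) (hψ' : Function.Surjective ψ') (K : Dual.D R) :
    Nonempty (HomIso (DRing.restrictD ψ.toRingHom) (((extD R (MvPolynomial (Fin n) R)).obj K)⟦(n : ℤ)⟧)
      (DRing.restrictD ψ'.toRingHom) (((extD R (MvPolynomial (Fin m) R)).obj K)⟦(m : ℤ)⟧)) := by
  let Ψ : MvPolynomial (Fin n ⊕ Fin m) R →ₐ[R] A :=
    MvPolynomial.aeval (Sum.elim (fun i => ψ (MvPolynomial.X i)) (fun i => ψ' (MvPolynomial.X i)))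
  have h₁ : ψ.toRingHom = Ψ.toRingHom.comp (MvPolynomial.rename (R := R) ((Equiv.sumComm (Fin m) (Fin n)) ∘ Sum.inr)).toRingHom := by
    show _ = (Ψ.comp (MvPolynomial.rename (R := R) ((Equiv.sumComm (Fin m) (Fin n)) ∘ Sum.inr))).toRingHom
    exact congrArg AlgHom.toRingHom (MvPolynomial.algHom_ext fun i => by simp [Ψ])
  have h₂ : ψ'.toRingHom = Ψ.toRingHom.comp (MvPolynomial.rename (R := R) ((Equiv.refl (Fin n ⊕ Fin m)) ∘ Sum.inr)).toRingHom := by
    show _ = (Ψ.comp (MvPolynomial.rename (R := R) ((Equiv.refl (Fin n ⊕ Fin m)) ∘ Sum.inr))).toRingHom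
    exact congrArg AlgHom.toRingHom (MvPolynomial.algHom_ext fun i => by simp [Ψ])
  obtain ⟨b₁⟩ := nonempty_homIso_rename _ Ψ.toRingHom ψ.toRingHom h₁ hψ K
  obtain ⟨b₂⟩ := nonempty_homIso_rename _ Ψ.toRingHom ψ'.toRingHom h₂ hψ' K
  exact ⟨b₁.trans ((HomIso.congr (Iso.refl _) (eqToIso (by rw [Nat.add_comm m n]))).trans b₂.symm)⟩

/-- Transport along an isomorphism of polynomial rings. -/
theorem nonempty_homIso_algEquiv {R P Q' A : Type u} [CommRing R] [CommRing P] [CommRing Q'] [CommRing A]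
    [Algebra R P] [Algebra R Q'] [Module.Flat R P] [Module.Flat R Q'] (e : P ≃ₐ[R] Q') (χ : Q' →+* A) (χP : P →+* A)
    (h : χP = χ.comp e.toRingEquiv.toRingHom) (a : ℤ) (K : Dual.D R) :
    Nonempty (HomIso (DRing.restrictD χP) (((extD R P).obj K)⟦a⟧) (DRing.restrictD χ) (((extD R Q').obj K)⟦a⟧)) := by
  letI : Algebra P Q' := e.toRingEquiv.toRingHom.toAlgebra
  haveI : IsScalarTower R P Q' := IsScalarTower.of_algebraMap_eq fun r => (e.commutes r).symm
  let e' : P ≃ₐ[P] Q' := AlgEquiv.ofRingEquiv (f := e.toRingEquiv) fun _ => rfl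
  haveI : Module.Flat P Q' := Module.Flat.of_linearEquiv e'.symm.toLinearEquiv
  exact nonempty_homIso_tower ((MvPolynomial.isEmptyAlgEquiv P (Fin 0)).trans e') χ χP h
    (fun i => i.elim0) a a (by simp) K

/-- Composition of upper shrieks, through universal properties. -/
theorem nonempty_shriek_comp (A B C : Type u) [CommRing A] [CommRing B] [CommRing C] [IsNoetherianRing A]
    [Algebra A B] [Algebra B C] [Algebra A C] [IsScalarTower A B C]
    (n : ℕ) (ψ : MvPolynomial (Fin n) A →ₐ[A] B) (hψ : Function.Surjective ψ)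
    [DRing.HasLBaseChange (algebraMap A (MvPolynomial (Fin n) A))]
    (Rψ : Dual.D (MvPolynomial (Fin n) A) ⥤ Dual.D B) (adj : DRing.restrictD ψ.toRingHom ⊣ Rψ)
    (m : ℕ) (χ : MvPolynomial (Fin m) B →ₐ[B] C) (hχ : Function.Surjective χ)
    [DRing.HasLBaseChange (algebraMap B (MvPolynomial (Fin m) B))]
    (Rχ : Dual.D (MvPolynomial (Fin m) B) ⥤ Dual.D C) (adjχ : DRing.restrictD χ.toRingHom ⊣ Rχ)
    (k : ℕ) (θ : MvPolynomial (Fin k) A →ₐ[A] C) (hθ : Function.Surjective θ)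
    [DRing.HasLBaseChange (algebraMap A (MvPolynomial (Fin k) A))]
    (Rθ : Dual.D (MvPolynomial (Fin k) A) ⥤ Dual.D C) (adjθ : DRing.restrictD θ.toRingHom ⊣ Rθ)
    (K : Dual.D A) (c : ℤ) [IsGE K c] :
    Nonempty (Dual2.shriekVia k Rθ K ≅ Dual2.shriekVia m Rχ (Dual2.shriekVia n Rψ K)) := by
  letI : Algebra (MvPolynomial (Fin n) A) B := ψ.toRingHom.toAlgebra
  haveI : IsScalarTower A (MvPolynomial (Fin n) A) B :=
    IsScalarTower.of_algebraMap_eq fun r => (ψ.commutes r).symm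
  haveI : Module.Finite (MvPolynomial (Fin n) A) B :=
    Module.Finite.of_surjective (Algebra.linearMap (MvPolynomial (Fin n) A) B) hψ
  -- the source of the second presentation, over the first
  let L : Dual.D (MvPolynomial (Fin n) A) := ((extD A (MvPolynomial (Fin n) A)).obj K)⟦(n : ℤ)⟧
  haveI := isGE_extD (B := MvPolynomial (Fin n) A) K c
  haveI : IsGE L (c - n) := TStructure.t.isGE_shift _ c n (c - n)
  have hε : Represents (algebraMap (MvPolynomial (Fin n) A) B) (adj.counit.app L) :=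
    represents_counit (φ := ψ.toRingHom) Rψ adj L
  haveI : IsGE ((𝟭 (Dual.D (MvPolynomial (Fin n) A))).obj L) (c - n) := inferInstanceAs (IsGE L (c - n))
  have hε' := represents_extD (A' := MvPolynomial (Fin m) (MvPolynomial (Fin n) A))
    (B' := MvPolynomial (Fin m) B) hε (c - n)
  letI := adj.rightAdjointCommShift ℤ
  let i₁ : Dual2.shriekVia n Rψ K ≅ Rψ.obj L :=
    ((Rψ.commShiftIso (n : ℤ)).app _).symm ≪≫
      Rψ.mapIso ((shiftFunctor _ (n : ℤ)).mapIso ((LBaseChangeIso A _).app K))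
  obtain ⟨a₁⟩ := nonempty_shriekHomIso m adjχ (Dual2.shriekVia n Rψ K)
  let b₁ := (a₁.trans (HomIso.congr (Iso.refl _)
    ((shiftFunctor _ (m : ℤ)).mapIso ((extD B (MvPolynomial (Fin m) B)).mapIso i₁)))).trans
      (HomIso.ofRepresents (DRing.restrictD χ.toRingHom) hε' (m : ℤ))
  -- the combined presentation
  haveI : IsScalarTower A (MvPolynomial (Fin m) (MvPolynomial (Fin n) A)) (MvPolynomial (Fin m) B) :=
    IsScalarTower.of_algebraMap_eq fun r => by
      show MvPolynomial.C (algebraMap A B r) = MvPolynomial.map ψ.toRingHom (MvPolynomial.C (algebraMap A _ r))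
      rw [MvPolynomial.map_C]
      exact congrArg _ (ψ.commutes r).symm
  let Θ₀ : MvPolynomial (Fin m) (MvPolynomial (Fin n) A) →ₐ[A] C :=
    (χ.restrictScalars A).comp (IsScalarTower.toAlgHom A (MvPolynomial (Fin m) (MvPolynomial (Fin n) A))
      (MvPolynomial (Fin m) B))
  have hΘ₀ : Function.Surjective Θ₀ := hχ.comp (MvPolynomial.map_surjective _ hψ)
  let e : MvPolynomial (Fin m) (MvPolynomial (Fin n) A) ≃ₐ[A] MvPolynomial (Fin (m + n)) A :=
    (MvPolynomial.sumAlgEquiv A (Fin m) (Fin n)).symm.trans (MvPolynomial.renameEquiv A finSumFinEquiv)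
  let Θ₁ : MvPolynomial (Fin (m + n)) A →ₐ[A] C := Θ₀.comp e.symm.toAlgHom
  have hΘ₁ : Function.Surjective Θ₁ := hΘ₀.comp e.symm.surjective
  obtain ⟨b₂⟩ := nonempty_homIso_algEquiv e Θ₁.toRingHom Θ₀.toRingHom
    (RingHom.ext fun x => (congrArg Θ₀ (e.symm_apply_apply x)).symm) ((m + n : ℕ) : ℤ) K
  obtain ⟨b₃⟩ := nonempty_homIso_presentations Θ₁ hΘ₁ θ hθ K
  obtain ⟨a₃⟩ := nonempty_shriekHomIso k adjθ K
  let j : ((extD (MvPolynomial (Fin n) A) (MvPolynomial (Fin m) (MvPolynomial (Fin n) A))).obj L)⟦(m : ℤ)⟧ ≅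
      ((extD A (MvPolynomial (Fin m) (MvPolynomial (Fin n) A))).obj K)⟦((m + n : ℕ) : ℤ)⟧ :=
    (shiftFunctor _ (m : ℤ)).mapIso
      (((extD (MvPolynomial (Fin n) A) (MvPolynomial (Fin m) (MvPolynomial (Fin n) A))).commShiftIso (n : ℤ)).app _ ≪≫
        (shiftFunctor _ (n : ℤ)).mapIso
          ((extDComp A (MvPolynomial (Fin n) A) (MvPolynomial (Fin m) (MvPolynomial (Fin n) A))).app K)) ≪≫
      shiftAddIso _ _ _ _ (by push_cast; ring)
  exact (a₃.trans (((b₁.trans (HomIso.congr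
    (restrictDComp _ χ.toRingHom Θ₀.toRingHom rfl).symm j)).trans (b₂.trans b₃)).symm)).nonempty_iso

end Groth.DualCore
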