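import Groth.Agent.DualCore.ShriekTorBC
import Groth.Agent.DualCore.ShriekComp
import Groth.Agent.DualCore.RelDualizing
import Groth.Agent.HTopHyper.HTor.TorFlat

/-!
Composition of upper shrieks when the inner algebra is flat of finite presentation, without Noetherian or
boundedness assumptions.
-/

set_option autoImplicit false
set_option linter.style.haveILetI false

universe u

open CategoryTheory CategoryTheory.Limits DerivedCategory TensorProduct

attribute [local instance] HasDerivedCategory.standard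
attribute [local instance] MvPolynomial.algebraMvPolynomial

namespace Groth.DualCore

/-- Flat base change of `RHom_P(B, -)` for `B` perfect over `P`. -/
theorem nonempty_extD_rightAdjoint (P B P' B' : Type u) [CommRing P] [CommRing B] [CommRing P'] [CommRing B']
    [Algebra P B] [Algebra P P'] [Algebra B B'] [Algebra P' B'] [Algebra P B'] [IsScalarTower P B B']
    [IsScalarTower P P' B'] [Algebra.IsPushout P B P' B'] [Module.Flat P P'] [Module.Flat B B']
    (hB : DRing.IsPerfect P (DTenCalc.algD (algebraMap P B)))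
    (Rψ : Dual.D P ⥤ Dual.D B) (adj : DRing.restrictD (algebraMap P B) ⊣ Rψ)
    (R₂ : Dual.D P' ⥤ Dual.D B') (adj₂ : DRing.restrictD (algebraMap P' B') ⊣ R₂) (L : Dual.D P) :
    Nonempty ((extD B B').obj (Rψ.obj L) ≅ R₂.obj ((extD P P').obj L)) := by
  haveI : DRing.HasLBaseChange (algebraMap P P') := DAlg.hasLBaseChange _
  haveI : DRing.HasLBaseChange (algebraMap B B') := DAlg.hasLBaseChange _
  haveI := DTenCalc.hasLBase (algebraMap P B)
  haveI := DTenCalc.hasLBase (algebraMap P P')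
  haveI := DTenCalc.hasLTen (A := P)
  haveI := DTenCalc.hasLTen (A := B)
  haveI := DTenCalc.hasLTen (A := P')
  haveI := DTenCalc.hasLTen₃ (A := P)
  haveI := DTenCalc.isSymMonoidal (A := P)
  haveI := DTenCalc.hasResTen (algebraMap P B)
  haveI := DTenCalc.hasResTen (algebraMap P P')
  haveI := DTenCalc.resLegIso (algebraMap P B)
  haveI := DTenCalc.resLegIso (algebraMap P P')
  let adjρ := DAlg.lBaseChangeAdj (algebraMap P P')
  let adjα := DAlg.lBaseChangeAdj (algebraMap B B')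
  have hsq : (algebraMap B B').comp (algebraMap P B) = (algebraMap P' B').comp (algebraMap P P') := by
    rw [← IsScalarTower.algebraMap_eq, ← IsScalarTower.algebraMap_eq]
  have htor : ∀ p : ℕ, 1 ≤ p → Subsingleton (DRing.Tor P p B P') := fun p hp => by
    obtain ⟨q, rfl⟩ := Nat.exists_eq_add_of_le' hp
    exact HTorLib.subsingleton_tor_of_flat_right B P' q
  have hcmp := DAlg.isIso_cmp htor adjρ adjα hsq
  haveI := (TrivBC.isIso_bcMap_iff adjρ adjα hsq adj adj₂ hcmp L (hcmp _)).2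
    (TrivBC.evMap_bijective_of_isPerfect adj hB L)
  exact ⟨((LBaseChangeIso B B').app _).symm ≪≫
    asIso (_root_.TrivBC.bcMap adjρ adjα hsq adj adj₂ L (hcmp _)) ≪≫ R₂.mapIso ((LBaseChangeIso P P').app L)⟩

/-- Composition of upper shrieks, the inner algebra being flat of finite presentation. -/
theorem nonempty_shriek_comp_of_flat (A B C : Type u) [CommRing A] [CommRing B] [CommRing C]
    [Algebra A B] [Module.Flat A B] [Algebra.FinitePresentation A B]
    [Algebra B C] [Algebra A C] [IsScalarTower A B C]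
    (n : ℕ) (ψ : MvPolynomial (Fin n) A →ₐ[A] B) (hψ : Function.Surjective ψ)
    [DRing.HasLBaseChange (algebraMap A (MvPolynomial (Fin n) A))]
    (Rψ : Dual.D (MvPolynomial (Fin n) A) ⥤ Dual.D B) (adj : DRing.restrictD ψ.toRingHom ⊣ Rψ)
    (m : ℕ) (χ : MvPolynomial (Fin m) B →ₐ[B] C) (hχ : Function.Surjective χ)
    [DRing.HasLBaseChange (algebraMap B (MvPolynomial (Fin m) B))]
    (Rχ : Dual.D (MvPolynomial (Fin m) B) ⥤ Dual.D C) (adjχ : DRing.restrictD χ.toRingHom ⊣ Rχ)
    (k : ℕ) (θ : MvPolynomial (Fin k) A →ₐ[A] C) (hθ : Function.Surjective θ)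
    [DRing.HasLBaseChange (algebraMap A (MvPolynomial (Fin k) A))]
    (Rθ : Dual.D (MvPolynomial (Fin k) A) ⥤ Dual.D C) (adjθ : DRing.restrictD θ.toRingHom ⊣ Rθ)
    (K : Dual.D A) :
    Nonempty (Dual2.shriekVia k Rθ K ≅ Dual2.shriekVia m Rχ (Dual2.shriekVia n Rψ K)) := by
  letI : Algebra (MvPolynomial (Fin n) A) B := ψ.toRingHom.toAlgebra
  haveI : IsScalarTower A (MvPolynomial (Fin n) A) B :=
    IsScalarTower.of_algebraMap_eq fun r => (ψ.commutes r).symm
  let L : Dual.D (MvPolynomial (Fin n) A) := ((extD A (MvPolynomial (Fin n) A)).obj K)⟦(n : ℤ)⟧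
  haveI := isLeftAdjoint_restrictD
    (algebraMap (MvPolynomial (Fin m) (MvPolynomial (Fin n) A)) (MvPolynomial (Fin m) B))
  let R₂ := (DRing.restrictD
    (algebraMap (MvPolynomial (Fin m) (MvPolynomial (Fin n) A)) (MvPolynomial (Fin m) B))).rightAdjoint
  let adj₂ : DRing.restrictD
      (algebraMap (MvPolynomial (Fin m) (MvPolynomial (Fin n) A)) (MvPolynomial (Fin m) B)) ⊣ R₂ :=
    Adjunction.ofIsLeftAdjoint _
  obtain ⟨t⟩ := nonempty_extD_rightAdjoint (MvPolynomial (Fin n) A) B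
    (MvPolynomial (Fin m) (MvPolynomial (Fin n) A)) (MvPolynomial (Fin m) B) (isPerfect_algD ψ hψ)
    Rψ adj R₂ adj₂ L
  letI := adj.rightAdjointCommShift ℤ
  let i₁ : Dual2.shriekVia n Rψ K ≅ Rψ.obj L :=
    ((Rψ.commShiftIso (n : ℤ)).app _).symm ≪≫
      Rψ.mapIso ((shiftFunctor _ (n : ℤ)).mapIso ((LBaseChangeIso A _).app K))
  obtain ⟨a₁⟩ := nonempty_shriekHomIso m adjχ (Dual2.shriekVia n Rψ K)
  letI := adj₂.rightAdjointCommShift ℤ
  let b₁ := (a₁.trans (HomIso.congr (Iso.refl _)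
    ((shiftFunctor _ (m : ℤ)).mapIso ((extD B (MvPolynomial (Fin m) B)).mapIso i₁ ≪≫ t) ≪≫
      ((R₂.commShiftIso (m : ℤ)).app _).symm))).trans
      (HomIso.ofAdjComp (DRing.restrictD χ.toRingHom) adj₂ _)
  -- the combined presentation
  haveI : IsScalarTower A (MvPolynomial (Fin m) (MvPolynomial (Fin n) A)) (MvPolynomial (Fin m) B) :=
    IsScalarTower.of_algebraMap_eq fun r => by
      show MvPolynomial.C (algebraMap A B r) = MvPolynomial.map ψ.toRingHom (MvPolynomial.C (algebraMap A _ r))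
      rw [MvPolynomial.map_C]
      exact congrArg _ (ψ.commutes r).symm
  let Θ₀ : MvPolynomial (Fin m) (MvPolynomial (Fin n) A) →ₐ[A] C :=
    (χ.restrictScalars A).comp (IsScalarTower.toAlgHom A (MvPolynomial (Fin m) (MvPolynomial (Fin n) A))
      (MvPolynomial (Fin m) B))
  have hΘ₀ : Function.Surjective Θ₀ := hχ.comp (MvPolynomial.map_surjective _ hψ)
  let e : MvPolynomial (Fin m) (MvPolynomial (Fin n) A) ≃ₐ[A] MvPolynomial (Fin (m + n)) A :=
    (MvPolynomial.sumAlgEquiv A (Fin m) (Fin n)).symm.trans (MvPolynomial.renameEquiv A finSumFinEquiv)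
  let Θ₁ : MvPolynomial (Fin (m + n)) A →ₐ[A] C := Θ₀.comp e.symm.toAlgHom
  have hΘ₁ : Function.Surjective Θ₁ := hΘ₀.comp e.symm.surjective
  obtain ⟨b₂⟩ := nonempty_homIso_algEquiv e Θ₁.toRingHom Θ₀.toRingHom
    (RingHom.ext fun x => (congrArg Θ₀ (e.symm_apply_apply x)).symm) ((m + n : ℕ) : ℤ) K
  obtain ⟨b₃⟩ := nonempty_homIso_presentations Θ₁ hΘ₁ θ hθ K
  obtain ⟨a₃⟩ := nonempty_shriekHomIso k adjθ K
  let j : ((extD (MvPolynomial (Fin n) A) (MvPolynomial (Fin m) (MvPolynomial (Fin n) A))).obj L)⟦(m : ℤ)⟧ ≅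
      ((extD A (MvPolynomial (Fin m) (MvPolynomial (Fin n) A))).obj K)⟦((m + n : ℕ) : ℤ)⟧ :=
    (shiftFunctor _ (m : ℤ)).mapIso
      (((extD (MvPolynomial (Fin n) A) (MvPolynomial (Fin m) (MvPolynomial (Fin n) A))).commShiftIso (n : ℤ)).app _ ≪≫
        (shiftFunctor _ (n : ℤ)).mapIso
          ((extDComp A (MvPolynomial (Fin n) A) (MvPolynomial (Fin m) (MvPolynomial (Fin n) A))).app K)) ≪≫
      shiftAddIso _ _ _ _ (by push_cast; ring)
  exact (a₃.trans (((b₁.trans (HomIso.congr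
    (restrictDComp _ χ.toRingHom Θ₀.toRingHom rfl).symm j)).trans (b₂.trans b₃)).symm)).nonempty_iso

end Groth.DualCore
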