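import Groth.Agent.DualCore.RHomBC
import Groth.Agent.DualCore.RelDualizing
import Groth.Agent.DualCore.BidualityCx

/-!
The upper shriek through duality: `φ^!(RHom_A(M, ω)) ≅ RHom_B(M ⊗ B, φ^!ω)`.
-/

set_option autoImplicit false
set_option linter.style.haveILetI false

universe u

open CategoryTheory CategoryTheory.Limits DerivedCategory DTen
open Groth.DTenCalc

attribute [local instance] HasDerivedCategory.standard

namespace Groth.DualCore

/-- The right adjoint of restriction and internal Homs. -/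
theorem nonempty_rightAdjoint_rhom {P B : Type u} [CommRing P] [CommRing B] (ψ : P →+* B)
    [HasLBase ψ] [HasLTen P] [HasLTen B] [HasResTen ψ] [ResLegIso ψ] [HasRHom P] [HasRHom B]
    [HasLTen₃ P] [IsSymMonoidal P]
    (Rψ : Dual.D P ⥤ Dual.D B) (adj : DRing.restrictD ψ ⊣ Rψ) (M X : Dual.D P) :
    Nonempty (Rψ.obj ((RHomR P M).obj X) ≅ (RHomR B ((LBase ψ).obj M)).obj (Rψ.obj X)) := by
  let G := tensorRightD B ((LBase ψ).obj M)
  haveI : ∀ Z, IsIso (projPF ψ Z M) := fun Z => isIso_projPF ψ Z M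
  let α : DRing.restrictD ψ ⋙ tensorRightD P M ≅ G ⋙ DRing.restrictD ψ :=
    NatIso.ofComponents (fun Z => asIso (projPF ψ Z M)) (fun f => projPF_natural_left ψ f M)
  let b₁ := (HomIso.ofAdj adj ((RHomR P M).obj X)).trans
    (HomIso.ofAdjComp (DRing.restrictD ψ) (rhomAdj P M) X)
  let b₂ := (HomIso.congr α (Iso.refl X)).trans (HomIso.ofAdjComp G adj X).symm
  exact (b₁.trans (b₂.trans (HomIso.ofAdj (rhomAdj B ((LBase ψ).obj M)) _).symm)).nonempty_iso

/-- The upper shriek of a dual, in terms of the dual of the base change. -/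
theorem nonempty_shriek_iso_dual (A B : Type u) [CommRing A] [CommRing B] [IsNoetherianRing A]
    [IsNoetherianRing B] [Algebra A B] (n : ℕ) (ψ : MvPolynomial (Fin n) A →ₐ[A] B)
    [DRing.HasLBaseChange (algebraMap A (MvPolynomial (Fin n) A))]
    (Rψ : Dual.D (MvPolynomial (Fin n) A) ⥤ Dual.D B) (adj : DRing.restrictD ψ.toRingHom ⊣ Rψ)
    [DRing.HasLBaseChange (algebraMap A B)] (ω : Dual.D A) (hω : Dual.IsDualizing A ω)
    (K : DRing.Cx A) [DRing.HasRHomCx K] (hK : ∀ i : ℤ, Module.Finite A (Dual.HD A (DRing.toD K) i))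
    (E : DRing.Cx B) [DRing.HasRHomCx E]
    (hE : Nonempty (DRing.toD E ≅ (DRing.LBaseChange (algebraMap A B)).obj ((DRing.RHomCx K).obj ω))) :
    Nonempty (Dual2.shriekVia n Rψ (DRing.toD K) ≅ (DRing.RHomCx E).obj (Dual2.shriekVia n Rψ ω)) := by
  let P := MvPolynomial (Fin n) A
  let f := algebraMap A P
  let φ := ψ.toRingHom
  obtain ⟨eE⟩ := hE
  haveI : Algebra.Smooth A P := ⟨inferInstance, inferInstance⟩
  obtain ⟨a, b, h⟩ := hω.finite_injective_dimension
  obtain ⟨r⟩ := exists_injRep ω a b h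
  obtain ⟨a', b', h'⟩ := (isDualizing_extD_of_smooth (B := P) hω).finite_injective_dimension
  obtain ⟨r'⟩ := exists_injRep ((extD A P).obj ω) a' b' h'
  let F := DRing.homCx K r.I
  let eF : DRing.toD F ≅ (DRing.RHomCx K).obj ω := DAlg.RHomCx.objIso K r.I ≪≫ (DRing.RHomCx K).mapIso r.iso
  have hK' : ∀ i : ℤ, Module.Finite A (K.homology i) := fun i =>
    haveI : Module.Finite A ((Q ⋙ homologyFunctor (ModuleCat.{u} A) i).obj K) := hK i
    Module.Finite.equiv ((homologyFunctorFactors (ModuleCat.{u} A) i).app K).toLinearEquiv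
  have hF : ∀ i : ℤ, Module.Finite A (Dual.HD A (DRing.toD F) i) := fun i => by
    haveI : Module.Finite A ((HomologicalComplex.homologyFunctor (ModuleCat.{u} A) (ComplexShape.up ℤ) i).obj F) :=
      BidualityCx.finite_homology_homCx r hω.finite_cohomology K hK' i
    exact Module.Finite.equiv ((homologyFunctorFactors (ModuleCat.{u} A) i).app F).symm.toLinearEquiv
  haveI := BidualityCx.quasiIso_δC r hω K hK'
  haveI : IsIso (Q.map (DoubleDual.δC r.I K)) := (isIso_Q_map_iff_quasiIso _ _).2 inferInstance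
  haveI := hasLTen (A := A)
  haveI := hasLTen (A := B)
  haveI := hasLTen (A := P)
  haveI := hasLTen₃ (A := A)
  haveI := hasLTen₃ (A := P)
  haveI := hasLTen₃ (A := B)
  haveI := isSymMonoidal (A := A)
  haveI := isSymMonoidal (A := P)
  haveI := isSymMonoidal (A := B)
  haveI : HasRHom A := DTenCalc.hasRHom
  haveI : HasRHom P := DTenCalc.hasRHom
  haveI : HasRHom B := DTenCalc.hasRHom
  haveI := hasLBase f
  haveI := hasLBase φ
  haveI := hasResTen f
  haveI := hasResTen φ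
  haveI := resLegIso f
  haveI := resLegIso φ
  haveI := DAlg.RHomCx.hasRHomCx F
  -- biduality
  obtain ⟨d⟩ := nonempty_rhomCx_iso_rhomR F (DRing.toD F) ω (Iso.refl _)
  let eK : DRing.toD K ≅ (RHomR A (DRing.toD F)).obj ω :=
    asIso (Q.map (DoubleDual.δC r.I K)) ≪≫ DAlg.RHomCx.objIso F r.I ≪≫ (DRing.RHomCx F).mapIso r.iso ≪≫ d
  -- over the polynomial ring
  obtain ⟨bc⟩ := nonempty_rhom_bc (B := P) r r' (DRing.toD F) hF
  let LP := DRing.LBaseChange f
  let c : LP ≅ LBase f := Adjunction.leftAdjointUniq (DAlg.lBaseChangeAdj f) (baseAdj f)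
  let eP : LP.obj (DRing.toD K) ≅ (RHomR P ((LBase f).obj (DRing.toD F))).obj (LP.obj ω) :=
    c.app _ ≪≫ (LBase f).mapIso eK ≪≫ bc ≪≫ (RHomR P _).mapIso (c.app ω).symm
  -- down to B
  obtain ⟨t⟩ := nonempty_rightAdjoint_rhom φ Rψ adj ((LBase f).obj (DRing.toD F)) (LP.obj ω)
  let base : LBase f ⋙ LBase φ ≅ DRing.LBaseChange (algebraMap A B) :=
    Adjunction.leftAdjointUniq
      (((baseAdj f).comp (baseAdj φ)).ofNatIsoRight
        (restrictDComp f φ (algebraMap A B) (RingHom.ext fun x => (ψ.commutes x).symm)).symm)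
      (DAlg.lBaseChangeAdj (algebraMap A B))
  let eY : DRing.toD E ≅ (LBase φ).obj ((LBase f).obj (DRing.toD F)) :=
    eE ≪≫ (DRing.LBaseChange (algebraMap A B)).mapIso eF.symm ≪≫ (base.app _).symm
  obtain ⟨s⟩ := nonempty_rhomCx_iso_rhomR E _ (Rψ.obj (LP.obj ω)) eY
  obtain ⟨sh⟩ := nonempty_rhomCx_shift E (Rψ.obj (LP.obj ω)) (n : ℤ)
  exact ⟨(CategoryTheory.shiftFunctor _ (n : ℤ)).mapIso (Rψ.mapIso eP ≪≫ t ≪≫ s.symm) ≪≫ sh.symm⟩

end Groth.DualCore
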