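import Groth.Agent.DualCore.ShriekBC
import Groth.Agent.DualCore.OpenImm
import Groth.Prelude.Def_Disc

/-!
The upper shriek of a finite map followed by an open immersion, and its `H⁰`.
-/

set_option autoImplicit false

universe u

open CategoryTheory CategoryTheory.Limits DerivedCategory TensorProduct

attribute [local instance] HasDerivedCategory.standard
attribute [local instance] MvPolynomial.algebraMvPolynomial

namespace Groth.DualCore

variable {A B' : Type u} [CommRing A] [CommRing B'] [Algebra A B']

/-- `H⁰(RHom_A(B', A)) ≅ Hom_A(B', A)`. -/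
theorem nonempty_HD_zero_omega {W : Dual.D B'} {ε : (DRing.restrictD (algebraMap A B')).obj W ⟶ Dual.inD A A}
    (h : Represents (algebraMap A B') ε) : Nonempty (Dual.HD B' W 0 ≃ₗ[B'] Disc.Omega A B') := by
  let F := singleFunctor (ModuleCat.{u} A) 0
  have hff : Function.Bijective fun f : B' →ₗ[A] A => inDmap f := by
    refine ⟨fun f g hfg => ?_, fun g => ?_⟩
    · exact congrArg ModuleCat.Hom.hom (F.map_injective hfg)
    · obtain ⟨f, hf⟩ := F.map_surjective g
      exact ⟨f.hom, hf⟩
  let e := Equiv.ofBijective _ hff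
  have he : ∀ x, inDmap (e.symm x) = x := e.apply_symm_apply
  let φ : (Dual.inD B' B' ⟶ W) →ₗ[B'] Disc.Omega A B' :=
    { toFun := fun g => ⟨e.symm ((resInD (A := A) (B := B') B').inv ≫ (DRing.restrictD (algebraMap A B')).map g ≫ ε)⟩
      map_add' := fun g g' => by
        refine Disc.Omega.ext (e.injective ?_)
        show inDmap _ = inDmap (_ + _)
        rw [inDmap_add, he, he, he, Functor.map_add, Preadditive.add_comp, Preadditive.comp_add]
      map_smul' := fun b g => by
        refine Disc.Omega.ext (e.injective ?_)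
        show inDmap _ = inDmap ((e.symm _) ∘ₗ LinearMap.mulLeft A b)
        have hb : b • g = inDmap (b • LinearMap.id : B' →ₗ[B'] B') ≫ g := by
          rw [inDmap_smul, inDmap_id, Linear.smul_comp, Category.id_comp]
        rw [inDmap_comp, he, he, hb, Functor.map_comp, Category.assoc,
          ← cancel_epi (resInD (A := A) (B := B') B').hom, Iso.hom_inv_id_assoc,
          show inDmap (LinearMap.mulLeft A b) = inDmap ((b • LinearMap.id : B' →ₗ[B'] B').restrictScalars A) from rfl,
          ← reassoc_of% (resInD_naturality (A := A) (b • LinearMap.id : B' →ₗ[B'] B')), Iso.hom_inv_id_assoc] }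
  have hφ : Function.Bijective φ := by
    have h1 : Function.Bijective fun g : Dual.inD B' B' ⟶ W =>
        (resInD (A := A) (B := B') B').inv ≫ (DRing.restrictD (algebraMap A B')).map g ≫ ε :=
      (Iso.homFromEquiv (resInD (A := A) (B := B') B')).bijective.comp (h _)
    have h2 : Function.Bijective fun f : B' →ₗ[A] A => (⟨f⟩ : Disc.Omega A B') :=
      ⟨fun f g hfg => congrArg Disc.Omega.toLinearMap hfg, fun ω => ⟨ω.toLinearMap, rfl⟩⟩
    exact h2.comp (e.symm.bijective.comp h1)
  exact ⟨(LinearEquiv.ofBijective (evalOne W) (evalOne_bijective W)).symm.trans (LinearEquiv.ofBijective φ hφ)⟩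

variable {B : Type u} [CommRing B] [Algebra A B] [Algebra B' B] [IsScalarTower A B' B] [IsNoetherianRing A]
  [Module.Finite A B']

/-- `φ^! = B ⊗ RHom_A(B', -)` for a finite map followed by an open immersion. -/
theorem nonempty_shriek_quasiFinite
    (hopen : AlgebraicGeometry.IsOpenImmersion (AlgebraicGeometry.Spec.map (CommRingCat.ofHom (algebraMap B' B))))
    [Module.Flat B' B] (n : ℕ) (ψ : MvPolynomial (Fin n) A →ₐ[A] B) (hψ : Function.Surjective ψ)
    [DRing.HasLBaseChange (algebraMap A (MvPolynomial (Fin n) A))]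
    (Rψ : Dual.D (MvPolynomial (Fin n) A) ⥤ Dual.D B) (adj : DRing.restrictD ψ.toRingHom ⊣ Rψ) (K : Dual.D A)
    (c : ℤ) [IsGE K c] {W : Dual.D B'} {ε : (DRing.restrictD (algebraMap A B')).obj W ⟶ K}
    (hε : Represents (algebraMap A B') ε) :
    Nonempty (Dual2.shriekVia n Rψ K ≅ (extD B' B).obj W) := by
  let χ : MvPolynomial (Fin n) B' →ₐ[B'] B := MvPolynomial.aeval fun i => ψ (MvPolynomial.X i)
  have hχψ : χ.toRingHom.comp (algebraMap (MvPolynomial (Fin n) A) (MvPolynomial (Fin n) B')) = ψ.toRingHom := by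
    refine MvPolynomial.ringHom_ext (fun r => ?_) fun i => ?_
    · show χ (MvPolynomial.map (algebraMap A B') (MvPolynomial.C r)) = ψ (MvPolynomial.C r)
      rw [MvPolynomial.map_C, MvPolynomial.aeval_C, ← IsScalarTower.algebraMap_apply]
      exact (ψ.commutes r).symm
    · show χ (MvPolynomial.map (algebraMap A B') (MvPolynomial.X i)) = ψ (MvPolynomial.X i)
      rw [MvPolynomial.map_X, MvPolynomial.aeval_X]
  have hχ : Function.Surjective χ := fun b => by
    obtain ⟨p, rfl⟩ := hψ b
    exact ⟨algebraMap _ _ p, RingHom.congr_fun hχψ p⟩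
  haveI : IsScalarTower A (MvPolynomial (Fin n) A) (MvPolynomial (Fin n) B') :=
    IsScalarTower.of_algebraMap_eq fun r => (MvPolynomial.map_C (algebraMap A B') r).symm
  have hε' := represents_extD (A' := MvPolynomial (Fin n) A) (B' := MvPolynomial (Fin n) B') hε c
  obtain ⟨b₁⟩ := nonempty_homIso_openImmersion n hopen χ hχ W
  let b₂ := HomIso.ofRepresents (DRing.restrictD χ.toRingHom) hε' (n : ℤ)
  obtain ⟨a⟩ := nonempty_shriekHomIso n adj K
  exact (a.trans (((b₁.symm.trans b₂).trans (HomIso.congr
    (restrictDComp _ χ.toRingHom ψ.toRingHom hχψ.symm).symm (Iso.refl _))).symm)).nonempty_iso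

end Groth.DualCore
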