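import Groth.Agent.DualCore.SmoothBC
import Groth.Agent.DualCore.CMGrade
import Groth.Agent.DualCore.FibreCodim

/-!
The degree function of a dualizing complex along a flat map with Gorenstein fibres, and smooth maps.
-/

set_option autoImplicit false
set_option linter.style.haveILetI false

universe u

open CategoryTheory CategoryTheory.Limits DerivedCategory TensorProduct IsLocalRing AlgebraicGeometry Topology

attribute [local instance] HasDerivedCategory.standard

namespace Groth.DualCore

variable {A : Type u} [CommRing A] [IsNoetherianRing A] {ω : Dual.D A} (hω : Dual.IsDualizing A ω)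
  (p : Ideal A) [p.IsPrime]

include hω in
/-- The degree at `p` seen in a flat algebra over `A_p`: `RHom(R/pR, ω_R)` is `R/pR` in degree `d`. -/
theorem fibre_degree_eq (d : ℤ)
    (hd : Nontrivial (Dual.inD (Localization.AtPrime p) (ResidueField (Localization.AtPrime p)) ⟶
      ((extD A (Localization.AtPrime p)).obj ω)⟦d⟧))
    {R : Type u} [CommRing R] [Algebra A R] [Module.Flat A R] [Algebra (Localization.AtPrime p) R]
    [IsScalarTower A (Localization.AtPrime p) R] :
    (∀ i, i ≠ d → Subsingleton (Dual.inD R (R ⧸ p.map (algebraMap A R)) ⟶ ((extD A R).obj ω)⟦i⟧)) ∧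
    Nonempty ((Dual.inD R (R ⧸ p.map (algebraMap A R)) ⟶ ((extD A R).obj ω)⟦d⟧) ≃ₗ[R]
      (R ⧸ p.map (algebraMap A R))) := by
  let Ap := Localization.AtPrime p
  obtain ⟨a, b, ha, -⟩ := exists_bounds hω
  haveI := isGE_extD (B := Ap) ω a
  haveI : IsNoetherianRing Ap := IsLocalization.isNoetherianRing p.primeCompl _ inferInstance
  obtain ⟨d', hres⟩ := exists_hasResidue (isDualizing_atPrime p hω)
  let E := fun i : ℤ => Dual.inD A (A ⧸ p) ⟶ ω⟦i⟧
  let F := fun i : ℤ => Dual.inD Ap (ResidueField Ap) ⟶ ((extD A Ap).obj ω)⟦i⟧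
  have hvan : ∀ i, i ≠ d' → Subsingleton (F i) := fun i hi => by
    haveI := hres.vanish (i - d') (sub_ne_zero.2 hi)
    exact (homShiftEquiv (Dual.inD Ap (ResidueField Ap)) ((extD A Ap).obj ω) d' i (i - d')
      (by lia)).symm.toEquiv.subsingleton
  obtain rfl : d = d' := by
    by_contra hne
    exact (not_nontrivial_iff_subsingleton.2 (hvan d hne)) hd
  let eF : ∀ i, Ap ⊗[A] E i ≃ₗ[Ap] F i := fun i =>
    (extHomInDEquiv (B := Ap) (A ⧸ p) ω a i).trans (Linear.homCongr Ap
      ((singleFunctor (ModuleCat.{u} Ap) 0).mapIso (tensorQuotEquivResidueField p).toModuleIso)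
      (Iso.refl _))
  let eR : ∀ i, R ⊗[A] E i ≃ₗ[R]
      (Dual.inD R (R ⧸ p.map (algebraMap A R)) ⟶ ((extD A R).obj ω)⟦i⟧) := fun i =>
    (extHomInDEquiv (B := R) (A ⧸ p) ω a i).trans
      (Linear.homCongr R ((singleFunctor (ModuleCat.{u} R) 0).mapIso
        (Algebra.TensorProduct.quotIdealMapEquivTensorQuot R p).symm.toLinearEquiv.toModuleIso) (Iso.refl _))
  let eA : ∀ i, R ⊗[A] E i ≃ₗ[R] R ⊗[Ap] F i := fun i =>
    (AlgebraTensorModule.cancelBaseChange A Ap R R (E i)).symm.trans
      (AlgebraTensorModule.congr (LinearEquiv.refl R R) (eF i))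
  refine ⟨fun i hi => ?_, ?_⟩
  · haveI := hvan i hi
    exact ((eR i).symm.trans (eA i)).toEquiv.subsingleton
  · obtain ⟨e0⟩ := hres.equiv
    exact ⟨(eR d).symm.trans ((eA d).trans
      (((AlgebraTensorModule.congr (LinearEquiv.refl R R)
        (((homShiftEquiv (Dual.inD Ap (ResidueField Ap)) ((extD A Ap).obj ω) d d 0 (add_zero d)).symm.trans
          e0).trans (tensorQuotEquivResidueField p).symm)).trans
        (AlgebraTensorModule.cancelBaseChange A Ap R R (A ⧸ p))).trans
          (Algebra.TensorProduct.quotIdealMapEquivTensorQuot R p).symm.toLinearEquiv))⟩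

include hω in
/-- The degree moves up by the dimension of a Gorenstein closed fibre. -/
theorem nontrivial_residue_of_fibre (d : ℤ)
    (hd : Nontrivial (Dual.inD (Localization.AtPrime p) (ResidueField (Localization.AtPrime p)) ⟶
      ((extD A (Localization.AtPrime p)).obj ω)⟦d⟧))
    {R : Type u} [CommRing R] [IsLocalRing R] [IsNoetherianRing R] [Algebra A R] [Module.Flat A R]
    [Algebra (Localization.AtPrime p) R] [IsScalarTower A (Localization.AtPrime p) R]
    (hP : p.map (algebraMap A R) ≠ ⊤) {k : ℕ}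
    (hk : GrothGoren.InjLT (R ⧸ p.map (algebraMap A R)) (R ⧸ p.map (algebraMap A R)) k) (c : ℕ)
    (hc : ringKrullDim (R ⧸ p.map (algebraMap A R)) = c) :
    Nontrivial (Dual.inD R (ResidueField R) ⟶ ((extD A R).obj ω)⟦d + c⟧) := by
  obtain ⟨hvan, ⟨e⟩⟩ := fibre_degree_eq hω p d hd (R := R)
  obtain ⟨a, b, ha, -⟩ := exists_bounds hω
  haveI := isGE_extD (B := R) ω a
  have hres := hasResidue_of_quotient (p.map (algebraMap A R)) hP ((extD A R).obj ω) a d hvan e hk c hc
  obtain ⟨e0⟩ := hres.equiv
  haveI := e0.toEquiv.nontrivial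
  exact (homShiftEquiv (Dual.inD R (ResidueField R)) ((extD A R).obj ω) (d + c) (d + c) 0
    (add_zero _)).symm.toEquiv.nontrivial

omit [IsNoetherianRing A] in
set_option maxHeartbeats 1000000 in
/-- The local dimension of the fibre through `q` of a smooth map of relative dimension `n`, split by transcendence
degree. -/
theorem ringKrullDim_fibre_add_trdeg (B : Type u) [CommRing B] [Algebra A B] [Algebra.FiniteType A B] (n : ℕ)
    [SmoothOfRelativeDimension n (Spec.map (CommRingCat.ofHom (algebraMap A B)))] (q : Ideal B) [q.IsPrime]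
    (hq : q.comap (algebraMap A B) = p) (t : ℕ)
    (ht : @Algebra.trdeg p.ResidueField q.ResidueField _ _
      (Ideal.ResidueField.map p q (algebraMap A B) hq.symm).toAlgebra = (t : Cardinal.{u})) :
    ringKrullDim (Localization.AtPrime q ⧸ p.map (algebraMap A (Localization.AtPrime q))) + (t : WithBot ℕ∞) =
      (n : WithBot ℕ∞) := by
  subst hq
  let pp := q.comap (algebraMap A B)
  let x : PrimeSpectrum B := ⟨q, inferInstance⟩
  let E := PrimeSpectrum.preimageHomeomorphFiber A B ⟨pp, inferInstance⟩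
  let Qs : PrimeSpectrum (pp.Fiber B) := E ⟨x, rfl⟩
  have hQ : Qs.asIdeal.comap (Algebra.TensorProduct.includeRight : B →ₐ[A] pp.Fiber B) = q :=
    congrArg (fun y => y.1.asIdeal) (E.symm_apply_apply ⟨x, rfl⟩)
  have hn : FlatMor.localDim (PrimeSpectrum (pp.Fiber B)) Qs = n := by
    have h := Groth.FibreDim.fibreDimAt_eq_of_range (Spec.map (CommRingCat.ofHom (algebraMap A B)))
      ⟨pp, inferInstance⟩
      (A := PrimeSpectrum (pp.Fiber B)) (e := fun Q => ((E.symm Q).1 : PrimeSpectrum B))
      ((IsEmbedding.subtypeVal (p := fun y => y ∈ PrimeSpectrum.comap (algebraMap A B) ⁻¹' {⟨pp, inferInstance⟩})).comp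
        E.symm.isEmbedding)
      ((E.symm.surjective.range_comp Subtype.val).trans Subtype.range_coe) (E ⟨x, rfl⟩)
    rw [E.symm_apply_apply] at h
    have hs : FlatMor.fibreDimAt (Spec.map (CommRingCat.ofHom (algebraMap A B))) x = (n : WithBot ℕ∞) :=
      Groth.FibreDim.fibreDimAt_eq_of_smoothOfRelativeDimension n (Spec.map (CommRingCat.ofHom (algebraMap A B))) x
    exact h.symm.trans hs
  obtain ⟨eP⟩ := nonempty_fibre_equiv_quot pp Qs.asIdeal q hQ
  rw [← ringKrullDim_eq_of_ringEquiv eP, ← hn]
  let ι : B →+* pp.Fiber B := (Algebra.TensorProduct.includeRight : B →ₐ[A] pp.Fiber B).toRingHom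
  have hι : ι.SurjectiveOnStalks := pp.surjectiveOnStalks_residueField.baseChange'
  have hbij : Function.Bijective (Ideal.ResidueField.map q Qs.asIdeal ι hQ.symm) :=
    RingHom.SurjectiveOnStalks.residueFieldMap_bijective hι q Qs.asIdeal hQ.symm
  letI : Algebra pp.ResidueField q.ResidueField := (Ideal.ResidueField.map pp q (algebraMap A B) rfl).toAlgebra
  obtain ⟨t', ht', hP⟩ := exists_trdeg_dim (AlgHom.id pp.ResidueField (pp.Fiber B)) Function.surjective_id
    Qs.asIdeal _ hbij (fun a => by
      revert a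
      refine RingHom.congr_fun
        (f := (Ideal.ResidueField.map q Qs.asIdeal ι hQ.symm).comp (Ideal.ResidueField.map pp q (algebraMap A B) rfl))
        (g := (algebraMap (pp.Fiber B) Qs.asIdeal.ResidueField).comp (algebraMap pp.ResidueField (pp.Fiber B)))
        (Ideal.ResidueField.ringHom_ext (RingHom.ext fun y => ?_))
      refine ((congrArg (Ideal.ResidueField.map q Qs.asIdeal ι hQ.symm)
        (Ideal.ResidueField.map_algebraMap pp q (algebraMap A B) rfl y)).trans
        (Ideal.ResidueField.map_algebraMap q Qs.asIdeal ι hQ.symm _)).trans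
        (congrArg (algebraMap (pp.Fiber B) Qs.asIdeal.ResidueField) ?_)
      exact ((Algebra.TensorProduct.includeRight : B →ₐ[A] pp.Fiber B).commutes y).trans
        (IsScalarTower.algebraMap_apply A pp.ResidueField (pp.Fiber B) y)) n hn
  obtain rfl : t = t' := Nat.cast_injective (R := Cardinal.{u}) (ht.symm.trans ht')
  rw [hn]
  exact hP.symm

end Groth.DualCore
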