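import Groth.Agent.DTenCalc.RightAdjoint

/-!
Linearity of the derived tensor product, and duals of perfect complexes.
-/

set_option autoImplicit false

universe u

open CategoryTheory CategoryTheory.Limits MonoidalCategory HomologicalComplex DTen
open scoped TensorProduct
open Groth.DAlg.KFlatMod (IsKFlatCx)
open Groth.DTenCalc
open Groth.DTenCalc.StrictDual (dualCx)

attribute [local instance] HasDerivedCategory.standard
set_option backward.isDefEq.respectTransparency false

namespace Groth.DualCore

variable {A : Type u} [CommRing A]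

theorem smul_id_whiskerRight (r : A) (K L : DRing.Cx A) :
    (r • 𝟙 K) ▷ L = r • 𝟙 (K ⊗ L) := by
  refine HomologicalComplex.hom_ext _ _ fun n =>
    HomologicalComplex.mapBifunctor.hom_ext fun p q h => ?_
  refine (Groth.DAlg.Pairing.ι_whiskerRight (r • 𝟙 K) L p q n h).trans ?_
  refine ModuleCat.hom_ext (TensorProduct.ext' fun x y => ?_)
  show (ιTensorObj K L p q n h).hom ((r • x) ⊗ₜ y) = r • (ιTensorObj K L p q n h).hom (x ⊗ₜ y)
  rw [← TensorProduct.smul_tmul', map_smul]

variable [HasLTen A] [HasLTen₃ A] [IsSymMonoidal A]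

theorem wr_smul_id (r : A) (a b : Dual.D A) : wr (r • 𝟙 a) b = r • 𝟙 (ten a b) := by
  obtain ⟨X, hX, ⟨eX⟩⟩ := exists_kFlat_rep a
  obtain ⟨Y, -, ⟨eY⟩⟩ := exists_kFlat_rep b
  have h1 : wr (r • 𝟙 (DerivedCategory.Q.obj X)) (DerivedCategory.Q.obj Y) =
      r • 𝟙 (ten (DerivedCategory.Q.obj X) (DerivedCategory.Q.obj Y)) := by
    have := isIso_cmp_left hX Y
    have e : DerivedCategory.Q.map (r • 𝟙 X) = r • 𝟙 (DerivedCategory.Q.obj X) := by
      rw [Functor.map_smul, CategoryTheory.Functor.map_id]
    rw [← cancel_mono (DTenCalc.cmp X Y), ← e, wr_cmp, smul_id_whiskerRight, Functor.map_smul,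
      CategoryTheory.Functor.map_id, Linear.smul_comp, Linear.comp_smul, Category.comp_id, Category.id_comp]
  let g := (LTen₂ A).map (Prod.mkHom eX.hom eY.hom)
  have hg : IsIso g := by
    have : IsIso (Prod.mkHom eX.hom eY.hom) := inferInstance
    infer_instance
  rw [← cancel_epi g]
  have h2 : g ≫ wr (r • 𝟙 a) b = wr (r • 𝟙 (DerivedCategory.Q.obj X)) (DerivedCategory.Q.obj Y) ≫ g := by
    rw [← Functor.map_comp, ← Functor.map_comp, prod_comp, prod_comp, Category.comp_id, Category.id_comp,
      Linear.comp_smul, Category.comp_id, Linear.smul_comp, Category.id_comp]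
  rw [h2, h1, Linear.smul_comp, Category.id_comp, Linear.comp_smul, Category.comp_id]

theorem wr_smul (r : A) {a a' : Dual.D A} (f : a ⟶ a') (b : Dual.D A) : wr (r • f) b = r • wr f b := by
  rw [← Category.id_comp f, ← Linear.smul_comp, wr_comp, wr_smul_id, Linear.smul_comp, Category.id_comp,
    Category.id_comp]

/-- A duality, linearly. -/
noncomputable def adjRLinearEquiv (P D : DRing.Cx A) [ExactPairing P D] (hP : IsKFlatCx A P)
    (hD : IsKFlatCx A D) (T L : Dual.D A) :
    (ten T (DerivedCategory.Q.obj P) ⟶ L) ≃ₗ[A] (T ⟶ ten L (DerivedCategory.Q.obj D)) :=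
  LinearEquiv.symm <| LinearEquiv.mk
    { toFun := ((adjR P D hP hD).homEquiv T L).symm
      map_add' := fun f g => by
        have : PreservesColimitsOfSize.{0, 0} (tensorRightD A (DerivedCategory.Q.obj P)) :=
          (adjR P D hP hD).leftAdjoint_preservesColimits
        have := preservesBinaryBiproducts_of_preservesBinaryCoproducts (tensorRightD A (DerivedCategory.Q.obj P))
        have := Functor.additive_of_preservesBinaryBiproducts (tensorRightD A (DerivedCategory.Q.obj P))
        rw [Adjunction.homEquiv_counit, Adjunction.homEquiv_counit, Adjunction.homEquiv_counit,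
          Functor.map_add, Preadditive.add_comp]
      map_smul' := fun r f => by
        rw [RingHom.id_apply, Adjunction.homEquiv_counit, Adjunction.homEquiv_counit]
        show wr (r • f) _ ≫ _ = _
        rw [wr_smul, Linear.smul_comp]
        rfl }
    ((adjR P D hP hD).homEquiv T L)
    ((adjR P D hP hD).homEquiv T L).apply_symm_apply
    ((adjR P D hP hD).homEquiv T L).symm_apply_apply

omit [HasLTen A] [HasLTen₃ A] [IsSymMonoidal A] in
/-- A perfect object has a dual which is a bounded complex of finite projective modules. -/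
theorem exists_dual {N : Dual.D A} (hN : DRing.IsPerfect A N) :
    ∃ (P D : DRing.Cx A) (_ : ExactPairing P D), IsKFlatCx A P ∧ IsKFlatCx A D ∧
      Nonempty (DerivedCategory.Q.obj P ≅ N) ∧
      ∃ a b : ℤ, DRing.VanishesOutside D a b ∧ DRing.TermwiseFiniteProjective D := by
  obtain ⟨P, a, b, hv, hp, ⟨e⟩⟩ := hN
  have hf : ∀ i, Module.Finite A (P.X i) ∧ Module.Projective A (P.X i) := hp
  let bs : ∀ q : ℤ, StrictDual.Basis (P.X (-q)) := fun q =>
    have := (hf (-q)).1
    have := (hf (-q)).2
    Classical.choice (StrictDual.nonempty_basis (P.X (-q)))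
  have hP : StrictDual.Supp P (-b) (b - a + 1).toNat := fun q hq => hv (-q) (by omega)
  have hfl : ∀ (X : DRing.Cx A) (c : ℤ), (∀ i, c < i → IsZero (X.X i)) →
      (∀ i, Module.Flat A (X.X i)) → IsKFlatCx A X :=
    fun X c h₁ h₂ => Groth.DAlg.KFlatMod.isKFlatCx_of_flat X (b := c) h₁ h₂
  have hz : DRing.VanishesOutside (dualCx P) (-b) (-a) := fun i hi => by
    have := ModuleCat.subsingleton_of_isZero (hv (-i) (by omega))
    exact ModuleCat.isZero_iff_subsingleton.2
      (inferInstanceAs (Subsingleton (Module.Dual A (P.X (-i)))))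
  have hd : DRing.TermwiseFiniteProjective (dualCx P) := fun i => by
    have := (hf (-i)).1
    have := (hf (-i)).2
    exact ⟨inferInstanceAs (Module.Finite A (Module.Dual A (P.X (-i)))),
      inferInstanceAs (Module.Projective A (Module.Dual A (P.X (-i))))⟩
  refine ⟨P, dualCx P, StrictDual.exactPairing P bs (-b) _ hP, ?_, ?_, ⟨e⟩, -b, -a, hz, hd⟩
  · refine hfl P b (fun i hi => hv i (Or.inr hi)) fun i => ?_
    have := (hf i).2
    infer_instance
  · refine hfl (dualCx P) (-a) (fun i hi => hz i (Or.inr hi)) fun i => ?_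
    have := (hd i).2
    infer_instance

end Groth.DualCore
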