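import Groth.Agent.HTopHyper.HTor.Devissage
import Mathlib.RingTheory.LocalRing.Module
import Mathlib.RingTheory.PicardGroup

/-!
The top cohomology of a tensor product of bounded above complexes is the tensor product of the top cohomologies.
-/

set_option autoImplicit false

universe u

open CategoryTheory CategoryTheory.Limits HomologicalComplex
open scoped TensorProduct

namespace Groth.DualCore.TensorTop

open Groth.HTorLib

variable {A : Type u} [CommRing A]

theorem kun_surjective_top (L M : DRing.Cx A) (hL : DRing.TermwiseFlat L) (a c n : ℤ)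
    (hbL : DRing.VanishesAbove L a) (hM : ∀ j, c < j → Subsingleton (M.homology j)) (hn : a + c = n) :
    Function.Surjective (kun L M n) := by
  rw [← LinearMap.range_eq_top, ← ker_eq_range, eq_top_iff]
  intro x _
  have := subsingleton_homology_tensor' L (cone M) hL a hbL (c - 1)
    (fun j hj => subsingleton_homology_cone M j (hM (j + 1) (by omega))) n (by omega)
  exact LinearMap.mem_ker.2 (Subsingleton.elim _ _)

/-- The Künneth map is bijective in the top degree. -/
theorem kun_bijective_top (L M : DRing.Cx A) (hL : DRing.TermwiseFlat L) (a c n : ℤ)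
    (hbL : DRing.VanishesAbove L a) (hM : ∀ j, c < j → Subsingleton (M.homology j)) (hn : a + c = n) :
    Function.Bijective (kun L M n) :=
  ⟨kun_injective L M (n - 1) n (by omega) (kun_surjective_top L (cone M) hL a (c - 1) (n - 1) hbL
      (fun j hj => subsingleton_homology_cone M j (hM (j + 1) (by omega))) (by omega)),
    kun_surjective_top L M hL a c n hbL hM hn⟩

/-- `H^{a+c}(L ⊗ M) ≅ H^a L ⊗ H^c M`. -/
theorem nonempty_top_equiv (L M : DRing.Cx A) (hL : DRing.TermwiseFlat L) (a c n : ℤ)
    (hbL : DRing.VanishesAbove L a) (hM : ∀ j, c < j → Subsingleton (M.homology j)) (hn : a + c = n) :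
    Nonempty ((L.homology a ⊗[A] M.homology c) ≃ₗ[A] (HTor.tensorCx L M).homology n) := by
  classical
  let ij₀ : HTor.Antidiag n := ⟨(a, c), hn⟩
  let ι := DirectSum.lof A (HTor.Antidiag n) (fun ij => L.homology ij.1.1 ⊗[A] M.homology ij.1.2) ij₀
  have hother : ∀ ij : HTor.Antidiag n, ij ≠ ij₀ →
      Subsingleton (L.homology ij.1.1 ⊗[A] M.homology ij.1.2) := by
    intro ij hij
    rcases lt_trichotomy a ij.1.1 with h | h | h
    · have := subsingleton_homology_of_isZero L ij.1.1 (hbL _ h)
      exact subsingleton_of_forall_eq 0 fun z => by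
        induction z with
        | zero => rfl
        | tmul x y => rw [Subsingleton.elim x 0, TensorProduct.zero_tmul]
        | add x y hx hy => rw [hx, hy, add_zero]
    · refine absurd (Subtype.ext (Prod.ext h.symm ?_)) hij
      have := ij.2
      show ij.1.2 = c
      omega
    · have := hM ij.1.2 (by have := ij.2; omega)
      exact subsingleton_of_forall_eq 0 fun z => by
        induction z with
        | zero => rfl
        | tmul x y => rw [Subsingleton.elim y 0, TensorProduct.tmul_zero]
        | add x y hx hy => rw [hx, hy, add_zero]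
  have hι : Function.Bijective ι := by
    refine ⟨DirectSum.of_injective ij₀, fun x => ⟨x ij₀, DFinsupp.ext fun ij => ?_⟩⟩
    by_cases h : ij = ij₀
    · subst h
      exact DirectSum.of_eq_same _ _
    · have := hother ij h
      exact Subsingleton.elim _ _
  exact ⟨(LinearEquiv.ofBijective ι hι).trans
    (LinearEquiv.ofBijective (kun L M n) (kun_bijective_top L M hL a c n hbL hM hn))⟩

variable [IsLocalRing A]

/-- Nonzero finite modules over a local ring have nonzero tensor product. -/
theorem nontrivial_tensor (M N : Type u) [AddCommGroup M] [Module A M] [Module.Finite A M] [Nontrivial M]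
    [AddCommGroup N] [Module A N] [Module.Finite A N] [Nontrivial N] : Nontrivial (M ⊗[A] N) := by
  let k := IsLocalRing.ResidueField A
  have key : ∀ (X : Type u) [AddCommGroup X] [Module A X] [Module.Finite A X] [Nontrivial X],
      ∃ (f : X →ₗ[A] k) (x : X), f x ≠ 0 := by
    intro X _ _ _ _
    have : Nontrivial (k ⊗[A] X) := by
      rw [← not_subsingleton_iff_nontrivial, IsLocalRing.subsingleton_tensorProduct]
      exact not_subsingleton X
    obtain ⟨φ, hφ⟩ : ∃ φ : k ⊗[A] X →ₗ[k] k, φ ≠ 0 := by
      obtain ⟨z, hz⟩ := exists_ne (0 : k ⊗[A] X)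
      obtain ⟨φ, hφ⟩ := Module.Projective.exists_dual_ne_zero k hz
      exact ⟨φ, fun h => hφ (by rw [h]; rfl)⟩
    refine ⟨(φ.restrictScalars A).comp (TensorProduct.mk A k X 1), ?_⟩
    by_contra h
    push Not at h
    refine hφ (TensorProduct.AlgebraTensorModule.ext fun c x => ?_)
    rw [show c ⊗ₜ[A] x = c • ((1 : k) ⊗ₜ[A] x) by rw [TensorProduct.smul_tmul', smul_eq_mul, mul_one],
      map_smul]
    simp [show φ ((1 : k) ⊗ₜ[A] x) = 0 from h x]
  obtain ⟨f, x, hx⟩ := key M
  obtain ⟨g, y, hy⟩ := key N
  refine nontrivial_of_ne (x ⊗ₜ y) 0 fun h => ?_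
  have := congrArg (TensorProduct.lift ((LinearMap.mul A k).compl₁₂ f g)) h
  simp only [TensorProduct.lift.tmul, map_zero, LinearMap.compl₁₂_apply, LinearMap.mul_apply'] at this
  exact mul_ne_zero hx hy this

/-- A finite module with an inverse over a local ring is free of rank one. -/
theorem nonempty_equiv_ring {M N : Type u} [AddCommGroup M] [Module A M] [AddCommGroup N] [Module A N]
    (e : M ⊗[A] N ≃ₗ[A] A) : Nonempty (M ≃ₗ[A] A) ∧ Nonempty (N ≃ₗ[A] A) := by
  haveI : Module.Invertible A M := Module.Invertible.left e
  haveI : Module.Invertible A N := Module.Invertible.left ((TensorProduct.comm A N M).trans e)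
  exact ⟨Module.Invertible.free_iff_linearEquiv.1 Module.free_of_flat_of_isLocalRing,
    Module.Invertible.free_iff_linearEquiv.1 Module.free_of_flat_of_isLocalRing⟩

end Groth.DualCore.TensorTop
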