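import Groth.Agent.DualCore.DualHomology
import Groth.Agent.DualCore.Local

/-!
# `G K M j = Hom_{D(A)}(Hom(M, ω), K⟦j⟧)` and the maps `M → G K M 0`

`ω` is given through an injective representative `r`; `K` is arbitrary.  If `G K κ j = 0` for `j ≠ 0`
then the same holds for all finite modules, and a morphism `α : ω ⟶ K` which is bijective on the
residue field gives `M ≅ G K M 0` for all finite `M`.
-/

set_option autoImplicit false

universe u

open CategoryTheory CategoryTheory.Limits CategoryTheory.Pretriangulated DerivedCategory IsLocalRing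
open scoped Pointwise

attribute [local instance] HasDerivedCategory.standard

namespace Groth.DualCore

variable {A : Type u} [CommRing A]

section FiniteHom

variable [IsNoetherianRing A]

/-- `Hom(X, Y⟦i⟧)` is finite for bounded `X` and bounded below `Y` with finite cohomology. -/
theorem finite_hom_bounded (X Y : Dual.D A) (a b c : ℤ) [IsGE X a] [IsLE X b] [IsGE Y c]
    (hX : ∀ i, Module.Finite A (Dual.HD A X i)) (hY : ∀ i, Module.Finite A (Dual.HD A Y i)) (i : ℤ) :
    Module.Finite A (X ⟶ Y⟦i⟧) := by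
  refine devissage (fun X => ∀ i : ℤ, Module.Finite A (X ⟶ Y⟦i⟧))
    (fun e h i => haveI := h i; Module.Finite.equiv (Linear.homCongr A e (Iso.refl (Y⟦i⟧))))
    (fun X hX i => haveI : Subsingleton (X ⟶ Y⟦i⟧) := ⟨fun u v => hX.eq_of_src u v⟩
      Module.Finite.of_finite)
    (fun T hT h₁ h₃ i => ?_) a (fun M _ _ _ n _ i => ?_) X b hX i
  · haveI := h₁ i
    haveI := h₃ i
    haveI : IsNoetherian A (T.obj₁ ⟶ Y⟦i⟧) := isNoetherian_of_isNoetherianRing_of_finite A _
    haveI : IsNoetherian A (T.obj₃ ⟶ Y⟦i⟧) := isNoetherian_of_isNoetherianRing_of_finite A _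
    have hex : Function.Exact (pre A T.mor₂ Y i) (pre A T.mor₁ Y i) := fun u =>
      (exact_mid T hT Y i u).trans ⟨fun ⟨v, hv⟩ => ⟨v, hv⟩, fun ⟨v, hv⟩ => ⟨v, hv⟩⟩
    haveI := isNoetherian_of_range_eq_ker _ _ (LinearMap.exact_iff.1 hex).symm
    infer_instance
  · haveI := finite_hom Y c hY (i + n) M
    haveI : IsNoetherian A (Dual.inD A M ⟶ Y⟦i + n⟧) := isNoetherian_of_isNoetherianRing_of_finite A _
    refine Module.Finite.of_injective
      ({ toFun := fun u => (singleShiftIso M n).inv ≫ u⟦n⟧' ≫
            (shiftFunctorAdd' (Dual.D A) i n (i + n) rfl).inv.app Y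
         map_add' := fun u v => by simp
         map_smul' := fun r u => by simp [Functor.map_smul] } :
        ((singleFunctor (ModuleCat.{u} A) n).obj (ModuleCat.of A M) ⟶ Y⟦i⟧) →ₗ[A]
          (Dual.inD A M ⟶ Y⟦i + n⟧)) ?_
    intro u v h
    exact (shiftFunctor (Dual.D A) n).map_injective ((cancel_mono _).1 ((cancel_epi _).1 h))

end FiniteHom

/-- Nakayama. -/
lemma subsingleton_of_smul_eq [IsLocalRing A] {V : Type*} [AddCommGroup V] [Module A V]
    [Module.Finite A V] {x : A} (hx : x ∈ maximalIdeal A) (h : ∀ u : V, ∃ v, x • v = u) :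
    Subsingleton V := by
  refine subsingleton_of_forall_eq 0 fun u => ?_
  have := Submodule.eq_bot_of_le_smul_of_le_jacobson_bot (maximalIdeal A)
    (⊤ : Submodule A V) Module.Finite.fg_top
    (fun w _ => by obtain ⟨v, rfl⟩ := h w; exact Submodule.smul_mem_smul hx trivial)
    (maximalIdeal_le_jacobson _)
  exact (Submodule.mem_bot A).1 (this ▸ Submodule.mem_top)

namespace InjRep

variable {ω : Dual.D A} (r : InjRep ω) (K : Dual.D A)

/-- `G K M j = Hom(DC M, K⟦j⟧)`. -/
abbrev G (M : Type u) [AddCommGroup M] [Module A M] (j : ℤ) : Type (u + 1) := Q.obj (r.DC M) ⟶ K⟦j⟧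

variable {M N P : Type u} [AddCommGroup M] [Module A M] [AddCommGroup N] [Module A N]
  [AddCommGroup P] [Module A P]

/-- Covariant functoriality of `G`. -/
noncomputable abbrev Gmap (j : ℤ) (f : M →ₗ[A] N) : r.G K M j →ₗ[A] r.G K N j :=
  pre A (Q.map (r.Dmap f)) K j

lemma Gmap_id (j : ℤ) (u : r.G K M j) : r.Gmap K j LinearMap.id u = u := by
  show Q.map (r.Dmap _) ≫ u = u
  rw [Dmap_id, CategoryTheory.Functor.map_id, Category.id_comp]

lemma Gmap_smul_id (j : ℤ) (x : A) (u : r.G K M j) :
    r.Gmap K j (x • LinearMap.id) u = x • u := by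
  show Q.map (r.Dmap _) ≫ u = _
  rw [Dmap_smul, Dmap_id, Functor.map_smul, CategoryTheory.Functor.map_id, Linear.smul_comp,
    Category.id_comp]

lemma subsingleton_G_of_subsingleton [Subsingleton M] (j : ℤ) : Subsingleton (r.G K M j) := by
  refine subsingleton_of_forall_eq 0 fun u => ?_
  rw [← r.Gmap_id K j u, show (LinearMap.id : M →ₗ[A] M) = (0 : A) • LinearMap.id from
    LinearMap.ext fun x => Subsingleton.elim _ _, Gmap_smul_id, zero_smul]

section SES

variable (f : M →ₗ[A] N) (g : N →ₗ[A] P) (hf : Function.Injective f)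
  (hg : Function.Surjective g) (hfg : Function.Exact f g)

include hf hg in
lemma Gexact_mid (j : ℤ) (hfg : Function.Exact f g) :
    Function.Exact (r.Gmap K j f) (r.Gmap K j g) := fun u =>
  (exact_mid _ (triangleOfSES_distinguished (r.DCses_shortExact f g hf hg hfg)) K j u).trans
    ⟨fun ⟨v, hv⟩ => ⟨v, hv⟩, fun ⟨v, hv⟩ => ⟨v, hv⟩⟩

include hf hg hfg in
lemma Gmap_surjective_of (j k : ℤ) (h : j + 1 = k) [Subsingleton (r.G K M k)] :
    Function.Surjective (r.Gmap K j g) := fun u => by
  obtain ⟨v, hv⟩ := (exact_left (R := A) _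
    (triangleOfSES_distinguished (r.DCses_shortExact f g hf hg hfg)) K j k h u).1
    (Subsingleton.elim (α := r.G K M k) _ _)
  exact ⟨v, hv⟩

include hf hg hfg in
lemma Gmap_injective_of (i j : ℤ) (h : i + 1 = j) [Subsingleton (r.G K P i)] :
    Function.Injective (r.Gmap K j f) := by
  rw [← LinearMap.ker_eq_bot, LinearMap.ker_eq_bot']
  intro u hu
  obtain ⟨v, hv⟩ := (exact_right (R := A) _
    (triangleOfSES_distinguished (r.DCses_shortExact f g hf hg hfg)) K i j h u).1 hu
  exact hv.symm.trans ((congrArg _ (Subsingleton.elim (α := r.G K P i) v 0)).trans (map_zero _))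

include hf hg hfg in
lemma subsingleton_G_of_exact (j : ℤ) [Subsingleton (r.G K M j)] [Subsingleton (r.G K P j)] :
    Subsingleton (r.G K N j) := by
  refine subsingleton_of_forall_eq 0 fun u => ?_
  obtain ⟨v, rfl⟩ := (r.Gexact_mid K f g hf hg j hfg u).1 (Subsingleton.elim _ _)
  rw [Subsingleton.elim v 0, map_zero]

end SES

/-- The map `M → G K M 0` attached to `α : ω ⟶ K`. -/
noncomputable def etaK (α : ω ⟶ K) : M →ₗ[A] r.G K M 0 where
  toFun m := Q.map (r.ev m) ≫ r.iso.hom ≫ α ≫ (shiftFunctorZero (Dual.D A) ℤ).inv.app K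
  map_add' m m' := by rw [map_add, Functor.map_add, Preadditive.add_comp]
  map_smul' c m := by rw [map_smul, Functor.map_smul, Linear.smul_comp, RingHom.id_apply]

lemma Gmap_etaK (α : ω ⟶ K) (f : M →ₗ[A] N) (m : M) :
    r.Gmap K 0 f (r.etaK K α m) = r.etaK K α (f m) := by
  show Q.map (r.Dmap f) ≫ Q.map (r.ev m) ≫ _ = Q.map (r.ev (f m)) ≫ _
  rw [← Category.assoc, ← Functor.map_comp, Dmap_ev]

lemma G_congr (e : M ≃ₗ[A] N) (j : ℤ) [Subsingleton (r.G K M j)] : Subsingleton (r.G K N j) := by
  refine subsingleton_of_forall_eq 0 fun u => ?_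
  have h : r.Gmap K j e.toLinearMap (r.Gmap K j e.symm.toLinearMap u) = u := by
    show Q.map (r.Dmap _) ≫ Q.map (r.Dmap _) ≫ u = u
    rw [← Category.assoc, ← Functor.map_comp, ← Dmap_comp,
      show e.toLinearMap ∘ₗ e.symm.toLinearMap = LinearMap.id from LinearMap.ext e.apply_symm_apply,
      Dmap_id, CategoryTheory.Functor.map_id, Category.id_comp]
  rw [← h, Subsingleton.elim (r.Gmap K j e.symm.toLinearMap u) 0, map_zero]

lemma etaK_bijective_congr (α : ω ⟶ K) (e : M ≃ₗ[A] N)
    (h : Function.Bijective (r.etaK K α (M := M))) : Function.Bijective (r.etaK K α (M := N)) := by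
  have hinv : ∀ v : r.G K N 0, r.Gmap K 0 e.toLinearMap (r.Gmap K 0 e.symm.toLinearMap v) = v := by
    intro v
    show Q.map (r.Dmap _) ≫ Q.map (r.Dmap _) ≫ v = v
    rw [← Category.assoc, ← Functor.map_comp, ← Dmap_comp,
      show e.toLinearMap ∘ₗ e.symm.toLinearMap = LinearMap.id from LinearMap.ext e.apply_symm_apply,
      Dmap_id, CategoryTheory.Functor.map_id, Category.id_comp]
  refine ⟨fun x y hxy => e.symm.injective (h.1 ?_), fun v => ?_⟩
  · have := congrArg (r.Gmap K 0 e.symm.toLinearMap) hxy
    rwa [Gmap_etaK, Gmap_etaK] at this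
  · obtain ⟨x, hx⟩ := h.2 (r.Gmap K 0 e.symm.toLinearMap v)
    exact ⟨e x, by rw [← hinv v, ← hx, Gmap_etaK]; rfl⟩

variable (M) in
lemma isGE_DC : IsGE (Q.obj (r.DC M)) r.a := by
  haveI := r.hGE
  haveI : (r.DC M).IsStrictlyGE r.a := (CochainComplex.isStrictlyGE_iff _ _).2 fun i hi => by
    haveI : Subsingleton (r.I.X i) :=
      ModuleCat.isZero_iff_subsingleton.1 (CochainComplex.isZero_of_isStrictlyGE r.I r.a i hi)
    exact ModuleCat.isZero_iff_subsingleton.2 (inferInstanceAs (Subsingleton (M →ₗ[A] r.I.X i)))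
  infer_instance

variable (M) in
lemma isLE_DC : IsLE (Q.obj (r.DC M)) r.b := by
  haveI := r.hLE
  haveI : (r.DC M).IsStrictlyLE r.b := (CochainComplex.isStrictlyLE_iff _ _).2 fun i hi => by
    haveI : Subsingleton (r.I.X i) :=
      ModuleCat.isZero_iff_subsingleton.1 (CochainComplex.isZero_of_isStrictlyLE r.I r.b i hi)
    exact ModuleCat.isZero_iff_subsingleton.2 (inferInstanceAs (Subsingleton (M →ₗ[A] r.I.X i)))
  infer_instance

variable [IsNoetherianRing A]

include r in
lemma isGE_self : IsGE ω r.a := by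
  haveI := r.hGE
  haveI : IsGE (Q.obj r.I) r.a := inferInstance
  exact TStructure.t.isGE_of_iso r.iso r.a

lemma finite_G (hω : ∀ i, Module.Finite A (Dual.HD A ω i)) (c : ℤ) [IsGE K c]
    (hK : ∀ i, Module.Finite A (Dual.HD A K i)) [Module.Finite A M] (j : ℤ) :
    Module.Finite A (r.G K M j) := by
  haveI := r.isGE_DC M
  haveI := r.isLE_DC M
  haveI := r.isGE_self
  refine finite_hom_bounded (Q.obj (r.DC M)) K r.a r.b c (fun i => ?_) hK j
  haveI := finite_hom ω r.a hω i M
  exact Module.Finite.equiv (r.HDEquiv M i).symm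

section Local

variable [IsLocalRing A] (hω : ∀ i, Module.Finite A (Dual.HD A ω i)) (c : ℤ) [IsGE K c]
  (hK : ∀ i, Module.Finite A (Dual.HD A K i))
  (hκ : ∀ j : ℤ, j ≠ 0 → Subsingleton (r.G K (ResidueField A) j))

include hω c hK hκ in
/-- `G K M j = 0` for `j ≠ 0` as soon as this holds for the residue field. -/
lemma subsingleton_G : ∀ (n : ℕ) (M : Type u) [AddCommGroup M] [Module A M] [Module.Finite A M],
    Module.supportDim A M < (n : ℕ) → ∀ j : ℤ, j ≠ 0 → Subsingleton (r.G K M j) := by
  intro n
  induction n with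
  | zero =>
    intro M _ _ _ h j _
    haveI : Subsingleton M := by
      by_contra hM
      rw [not_subsingleton_iff_nontrivial] at hM
      obtain ⟨d, hd⟩ := exists_supportDim_eq A M
      rw [hd, natCast_lt_natCast] at h
      exact Nat.not_lt_zero d h
    exact r.subsingleton_G_of_subsingleton K j
  | succ n ih =>
    intro M _ _ hM h
    rw [lt_natCast_succ_iff] at h
    induction hM using IsNoetherianRing.induction_on_isQuotientEquivQuotientPrime A with
    | subsingleton N => intro j _; exact r.subsingleton_G_of_subsingleton K j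
    | exact N₁ N₂ N₃ f g hf hg hfg h₁ h₃ =>
      intro j hj
      haveI := h₁ ((Module.supportDim_le_of_injective f hf).trans h) j hj
      haveI := h₃ ((Module.supportDim_le_of_surjective g hg).trans h) j hj
      exact r.subsingleton_G_of_exact K f g hf hg hfg j
    | quotient N p e =>
      intro j hj
      by_cases hp : p.1 = maximalIdeal A
      · haveI : Subsingleton (r.G K (A ⧸ maximalIdeal A) j) := hκ j hj
        exact r.G_congr K (e.trans (Submodule.quotEquivOfEq _ _ hp)).symm j
      · obtain ⟨x, hxm, hreg, hQ⟩ := exists_regular_of_prime N p e hp h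
        haveI := ih _ hQ j hj
        haveI := r.finite_G K hω c hK (M := N) j
        refine subsingleton_of_smul_eq hxm fun u => ?_
        obtain ⟨v, hv⟩ := (r.Gexact_mid K (x • LinearMap.id : N →ₗ[A] N)
          (Submodule.mkQ (x • (⊤ : Submodule A N))) (smul_injective hreg) (Submodule.mkQ_surjective _) j
          (smul_exact N x) u).1 (Subsingleton.elim _ _)
        exact ⟨v, (r.Gmap_smul_id K j x v).symm.trans hv⟩

include hω c hK hκ in
/-- A transformation bijective on the residue field is bijective on all finite modules. -/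
theorem etaK_bijective (α : ω ⟶ K)
    (hα : Function.Bijective (r.etaK K α (M := ResidueField A))) :
    ∀ (n : ℕ) (M : Type u) [AddCommGroup M] [Module A M] [Module.Finite A M],
      Module.supportDim A M < (n : ℕ) → Function.Bijective (r.etaK K α (M := M)) := by
  have hvan : ∀ (M : Type u) [AddCommGroup M] [Module A M] [Module.Finite A M] (j : ℤ), j ≠ 0 →
      Subsingleton (r.G K M j) := by
    intro M _ _ _ j hj
    rcases subsingleton_or_nontrivial M with hM | hM
    · exact r.subsingleton_G_of_subsingleton K j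
    · obtain ⟨d, hd⟩ := exists_supportDim_eq A M
      exact r.subsingleton_G K hω c hK hκ (d + 1) M (lt_natCast_succ_iff.2 hd.le) j hj
  have triv : ∀ (M : Type u) [AddCommGroup M] [Module A M], Subsingleton M →
      Function.Bijective (r.etaK K α (M := M)) := fun M _ _ _ =>
    haveI := r.subsingleton_G_of_subsingleton K (M := M) 0
    ⟨fun x y _ => Subsingleton.elim x y, fun v => ⟨0, Subsingleton.elim _ _⟩⟩
  intro n
  induction n with
  | zero =>
    intro M _ _ _ h
    refine triv M ?_
    by_contra hM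
    rw [not_subsingleton_iff_nontrivial] at hM
    obtain ⟨d, hd⟩ := exists_supportDim_eq A M
    rw [hd, natCast_lt_natCast] at h
    exact Nat.not_lt_zero d h
  | succ n ih =>
    intro M _ _ hM h
    rw [lt_natCast_succ_iff] at h
    induction hM using IsNoetherianRing.induction_on_isQuotientEquivQuotientPrime A with
    | subsingleton N => exact triv N inferInstance
    | exact N₁ N₂ N₃ f g hf hg hfg h₁ h₃ =>
      have b₁ := h₁ ((Module.supportDim_le_of_injective f hf).trans h)
      have b₃ := h₃ ((Module.supportDim_le_of_surjective g hg).trans h)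
      haveI := hvan N₃ (-1) (by lia)
      have hfi := r.Gmap_injective_of K f g hf hg hfg (-1) 0 (by lia)
      refine ⟨?_, fun v => ?_⟩
      · rw [← LinearMap.ker_eq_bot, LinearMap.ker_eq_bot']
        intro m hm
        have h3 : g m = 0 := b₃.1 (by rw [← Gmap_etaK, hm, map_zero, map_zero])
        obtain ⟨k, rfl⟩ := (hfg m).1 h3
        rw [← Gmap_etaK] at hm
        have : k = 0 := b₁.1 ((hfi (hm.trans (map_zero _).symm)).trans (map_zero _).symm)
        rw [this, map_zero]
      · obtain ⟨w, hw⟩ := b₃.2 (r.Gmap K 0 g v)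
        obtain ⟨m, rfl⟩ := hg w
        obtain ⟨t, ht⟩ := (r.Gexact_mid K f g hf hg 0 hfg (v - r.etaK K α m)).1 (by
          rw [map_sub, Gmap_etaK, hw, sub_self])
        obtain ⟨k, rfl⟩ := b₁.2 t
        exact ⟨m + f k, by rw [map_add, ← r.Gmap_etaK K α f, ht, add_sub_cancel]⟩
    | quotient N p e =>
      by_cases hp : p.1 = maximalIdeal A
      · exact r.etaK_bijective_congr K α (e.trans (Submodule.quotEquivOfEq _ _ hp)).symm hα
      · obtain ⟨x, hxm, hreg, hQ⟩ := exists_regular_of_prime N p e hp h
        have bQ := ih _ hQ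
        haveI := r.finite_G K hω c hK (M := N) 0
        haveI := hvan (N ⧸ x • (⊤ : Submodule A N)) (-1) (by lia)
        let mu : N →ₗ[A] N := x • LinearMap.id
        let q := Submodule.mkQ (x • (⊤ : Submodule A N))
        have hinj : Function.Injective (r.Gmap K 0 mu) :=
          r.Gmap_injective_of K mu q (smul_injective hreg) (Submodule.mkQ_surjective _) (smul_exact N x) (-1) 0 (by lia)
        have hjac : Ideal.span {x} ≤ (⊥ : Ideal A).jacobson :=
          ((Ideal.span_singleton_le_iff_mem _).2 hxm).trans (maximalIdeal_le_jacobson _)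
        refine ⟨?_, ?_⟩
        · rw [← LinearMap.ker_eq_bot]
          refine Submodule.eq_bot_of_le_smul_of_le_jacobson_bot (Ideal.span {x}) _
            (IsNoetherian.noetherian _) (fun k (hk : r.etaK K α k = 0) => ?_) hjac
          have h3 : q k = 0 := bQ.1 (by rw [← Gmap_etaK, hk, map_zero, map_zero])
          obtain ⟨k', rfl⟩ := (smul_exact N x k).1 h3
          refine Submodule.smul_mem_smul (Ideal.mem_span_singleton_self x) (show r.etaK K α k' = 0 from
            hinj ?_)
          rw [map_zero, Gmap_etaK]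
          exact hk
        · rw [← LinearMap.range_eq_top, eq_top_iff]
          refine Submodule.le_of_le_smul_of_le_jacobson_bot Module.Finite.fg_top hjac fun v _ => ?_
          obtain ⟨w, hw⟩ := bQ.2 (r.Gmap K 0 q v)
          obtain ⟨m, rfl⟩ := Submodule.mkQ_surjective _ w
          obtain ⟨t, ht⟩ := (r.Gexact_mid K mu q (smul_injective hreg) (Submodule.mkQ_surjective _) 0 (smul_exact N x)
            (v - r.etaK K α m)).1 (by rw [map_sub, Gmap_etaK, hw, sub_self])
          rw [Gmap_smul_id] at ht
          refine Submodule.mem_sup.2 ⟨_, ⟨m, rfl⟩, x • t,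
            Submodule.smul_mem_smul (Ideal.mem_span_singleton_self x) Submodule.mem_top, ?_⟩
          rw [ht, add_sub_cancel]

end Local

end InjRep

end Groth.DualCore
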