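import Groth.Agent.DTenCalc.RightAdjoint
import Groth.Agent.DAlg.BaseChangeCmp

/-!
In a commutative square `R → A, R'` → `A'`, the actions of `A` and of `R'` on an object of `D(A')`
restricted to `R` commute.
-/

set_option autoImplicit false

universe u

open CategoryTheory CategoryTheory.Limits MonoidalCategory HomologicalComplex DTen
open scoped TensorProduct
open Groth.DAlg.KFlatMod (IsKFlatCx)
open Groth.DTenCalc
open Groth.DTenCalc.StrictDual (tm tm_whiskerLeft tm_whiskerRight tm_associator scal leftUnitor_tm)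

attribute [local instance] HasDerivedCategory.standard
set_option backward.isDefEq.respectTransparency false

namespace Groth.DualCore.TrivBC

section One

variable {R S : Type u} [CommRing R] [CommRing S] (φ : R →+* S)

/-- The action of the algebra on a restricted complex. -/
noncomputable def actCx (Y : DRing.Cx S) : algCx φ ⊗ (resCx φ).obj Y ⟶ (resCx φ).obj Y :=
  resTenCx φ (𝟙_ (DRing.Cx S)) Y ≫ (resCx φ).map (λ_ Y).hom

theorem actCx_tm (Y : DRing.Cx S) {n : ℤ} (s : S) (y : Y.X n) :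
    (actCx φ Y).f n (tm (algCx φ) ((resCx φ).obj Y) (zero_add n)
        (Ext.dn φ (𝟙_ (DRing.Cx S)) (scal s) ⊗ₜ Ext.dn φ Y y)) = Ext.dn φ Y (s • y) := by
  show (λ_ Y).hom.f n ((resTenCx φ (𝟙_ (DRing.Cx S)) Y).f n _) = _
  erw [Ext.resTenCx_tm φ (𝟙_ (DRing.Cx S)) Y (zero_add n) (scal s) y, leftUnitor_tm]

variable [HasLBase φ] [HasLTen R] [HasLTen S] [HasResTen φ] [ResLegIso φ]

theorem act_eq (X : Dual.D S) :
    act φ X = (resPF φ).app (DTen.unit S, X) ≫ (DRing.restrictD φ).map ((unitL S).app X) := by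
  have h1 : (unitL S).app ((LBase φ).obj ((DRing.restrictD φ).obj X)) ≫ (baseAdj φ).counit.app X =
      wl (DTen.unit S) ((baseAdj φ).counit.app X) ≫ (unitL S).app X :=
    ((unitL S).naturality _).symm
  have h2 := resPF_natural φ (𝟙 (DTen.unit S)) ((baseAdj φ).counit.app X)
  rw [CategoryTheory.Functor.map_id] at h2
  rw [act, piD, projPF, Category.assoc, Category.assoc, ← Functor.map_comp, h1, Functor.map_comp,
    ← reassoc_of% h2, ← wl_comp_assoc', Adjunction.right_triangle_components, wl_id, Category.id_comp]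

theorem act_natural {X X' : Dual.D S} (g : X ⟶ X') :
    wl (algD φ) ((DRing.restrictD φ).map g) ≫ act φ X' = act φ X ≫ (DRing.restrictD φ).map g := by
  rw [act, act, reassoc_of% (piD_natural φ ((DRing.restrictD φ).map g)), Category.assoc,
    ← Functor.map_comp, ← Functor.map_comp]
  congr 2
  exact (baseAdj φ).counit.naturality g

/-- The action, computed on a complex. -/
theorem act_Q (Y : DRing.Cx S) :
    act φ (DerivedCategory.Q.obj Y) ≫ (rf φ Y).hom =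
      (LTen₂ R).map (Prod.mkHom (rf φ (𝟙_ (DRing.Cx S))).hom (rf φ Y).hom) ≫
        DTenCalc.cmp (algCx φ) ((resCx φ).obj Y) ≫ DerivedCategory.Q.map (actCx φ Y) := by
  have hq : (DRing.restrictD φ).map (DerivedCategory.Q.map (λ_ Y).hom) ≫ (rf φ Y).hom =
      (rf φ (𝟙_ (DRing.Cx S) ⊗ Y)).hom ≫ DerivedCategory.Q.map ((resCx φ).map (λ_ Y).hom) :=
    (resFactors φ).hom.naturality (λ_ Y).hom
  rw [act_eq, unitL_app, Functor.map_comp, Category.assoc, Category.assoc, hq,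
    reassoc_of% (resPF_cmp φ (𝟙_ (DRing.Cx S)) Y), actCx, Functor.map_comp]

end One

section Square

variable {R A R' A' : Type u} [CommRing R] [CommRing A] [CommRing R'] [CommRing A']
  {φ : R →+* A} {ρ : R →+* R'} {α : A →+* A'} {φ' : R' →+* A'} (h : α.comp φ = φ'.comp ρ)

/-- The two restrictions of a complex agree. -/
noncomputable def resCommIso (Z : DRing.Cx A') :
    (resCx φ).obj ((resCx α).obj Z) ≅ (resCx ρ).obj ((resCx φ').obj Z) :=
  (NatIso.mapHomologicalComplex (_root_.TrivBC.resCommMod h) (ComplexShape.up ℤ)).app Z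

theorem resCommIso_hom_apply (Z : DRing.Cx A') {n : ℤ} (z : Z.X n) :
    (resCommIso h Z).hom.f n (Ext.dn φ ((resCx α).obj Z) (Ext.dn α Z z)) =
      Ext.dn ρ ((resCx φ').obj Z) (Ext.dn φ' Z z) := rfl

theorem resCommIso_inv_apply (Z : DRing.Cx A') {n : ℤ} (z : Z.X n) :
    (resCommIso h Z).inv.f n (Ext.dn ρ ((resCx φ').obj Z) (Ext.dn φ' Z z)) =
      Ext.dn φ ((resCx α).obj Z) (Ext.dn α Z z) := rfl

/-- The action of `A` from the right, on complexes. -/
noncomputable def actRCx (Z : DRing.Cx A') :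
    (resCx ρ).obj ((resCx φ').obj Z) ⊗ algCx φ ⟶ (resCx ρ).obj ((resCx φ').obj Z) :=
  (braidCx _ _).hom ≫ algCx φ ◁ (resCommIso h Z).inv ≫ actCx φ ((resCx α).obj Z) ≫ (resCommIso h Z).hom

theorem actRCx_tm (Z : DRing.Cx A') {n : ℤ} (a : A) (z : Z.X n) :
    (actRCx h Z).f n (tm ((resCx ρ).obj ((resCx φ').obj Z)) (algCx φ) (add_zero n)
        (Ext.dn ρ ((resCx φ').obj Z) (Ext.dn φ' Z z) ⊗ₜ Ext.dn φ (𝟙_ (DRing.Cx A)) (scal a))) =
      Ext.dn ρ ((resCx φ').obj Z) (Ext.dn φ' Z (α a • z)) := by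
  have h1 : (braidCx ((resCx ρ).obj ((resCx φ').obj Z)) (algCx φ)).hom.f n
      (tm ((resCx ρ).obj ((resCx φ').obj Z)) (algCx φ) (add_zero n)
        (Ext.dn ρ ((resCx φ').obj Z) (Ext.dn φ' Z z) ⊗ₜ Ext.dn φ (𝟙_ (DRing.Cx A)) (scal a))) =
      tm (algCx φ) ((resCx ρ).obj ((resCx φ').obj Z)) (zero_add n)
        (Ext.dn φ (𝟙_ (DRing.Cx A)) (scal a) ⊗ₜ Ext.dn ρ ((resCx φ').obj Z) (Ext.dn φ' Z z)) := by
    refine (LinearMap.congr_fun (congrArg ModuleCat.Hom.hom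
      (ι_braidCx_hom ((resCx ρ).obj ((resCx φ').obj Z)) (algCx φ) n 0 n (add_zero n))) _).trans ?_
    rw [mul_zero, Int.negOnePow_zero, one_smul]
    rfl
  have h2 : (algCx φ ◁ (resCommIso h Z).inv).f n
      (tm (algCx φ) ((resCx ρ).obj ((resCx φ').obj Z)) (zero_add n)
        (Ext.dn φ (𝟙_ (DRing.Cx A)) (scal a) ⊗ₜ Ext.dn ρ ((resCx φ').obj Z) (Ext.dn φ' Z z))) =
      tm (algCx φ) ((resCx φ).obj ((resCx α).obj Z)) (zero_add n)
        (Ext.dn φ (𝟙_ (DRing.Cx A)) (scal a) ⊗ₜ Ext.dn φ ((resCx α).obj Z) (Ext.dn α Z z)) :=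
    (tm_whiskerLeft (algCx φ) (resCommIso h Z).inv (zero_add n) _ _).trans
      (congrArg (fun w => tm (algCx φ) ((resCx φ).obj ((resCx α).obj Z)) (zero_add n)
        (Ext.dn φ (𝟙_ (DRing.Cx A)) (scal a) ⊗ₜ w)) (resCommIso_inv_apply h Z z))
  exact (congrArg (fun w => (resCommIso h Z).hom.f n ((actCx φ ((resCx α).obj Z)).f n w))
    ((congrArg (fun w => (algCx φ ◁ (resCommIso h Z).inv).f n w) h1).trans h2)).trans
    ((congrArg (fun w => (resCommIso h Z).hom.f n w)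
      (actCx_tm φ ((resCx α).obj Z) a (Ext.dn α Z z))).trans (resCommIso_hom_apply h Z _))

/-- The two actions commute, on complexes. -/
theorem actCx_comm (Z : DRing.Cx A') :
    (α_ (algCx ρ) ((resCx ρ).obj ((resCx φ').obj Z)) (algCx φ)).hom ≫
        algCx ρ ◁ actRCx h Z ≫ actCx ρ ((resCx φ').obj Z) =
      actCx ρ ((resCx φ').obj Z) ▷ algCx φ ≫ actRCx h Z := by
  refine HomologicalComplex.hom_ext _ _ fun n => ?_
  refine HomologicalComplex.mapBifunctor₁₂.hom_ext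
    (F₁₂ := curriedTensor (ModuleCat.{u} R)) (G := curriedTensor (ModuleCat.{u} R))
    (c₁₂ := ComplexShape.up ℤ) fun i j k hijk => ?_
  have hn : i + j + k = n := hijk
  by_cases hi : i = 0
  swap
  · refine IsZero.eq_of_src ?_ _ _
    refine Functor.map_isZero (tensorRight _) (Functor.map_isZero (tensorRight _) ?_)
    exact Functor.map_isZero (resM ρ) (isZero_single_obj_X (ComplexShape.up ℤ) 0 (𝟙_ (ModuleCat.{u} R')) i hi)
  by_cases hk : k = 0
  swap
  · refine IsZero.eq_of_src ?_ _ _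
    refine Functor.map_isZero (tensorLeft _) ?_
    exact Functor.map_isZero (resM φ) (isZero_single_obj_X (ComplexShape.up ℤ) 0 (𝟙_ (ModuleCat.{u} A)) k hk)
  subst hi hk
  obtain rfl : j = n := by omega
  rw [HomologicalComplex.mapBifunctor₁₂.ι_eq _ _ _ _ _ _ _ 0 j 0 j j (zero_add j)
    (show (ComplexShape.up ℤ).π (ComplexShape.up ℤ) (ComplexShape.up ℤ) (j, 0) = j from add_zero j)]
  refine ModuleCat.MonoidalCategory.tensor_ext₃' fun r z₁ a => ?_
  obtain ⟨r, rfl⟩ : ∃ r' : R', r = Ext.dn ρ (𝟙_ (DRing.Cx R')) (scal r') :=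
    ⟨(singleObjXSelf (ComplexShape.up ℤ) 0 (𝟙_ (ModuleCat.{u} R'))).hom.hom r,
      (Iso.hom_inv_id_apply (singleObjXSelf (ComplexShape.up ℤ) 0 (𝟙_ (ModuleCat.{u} R'))) r).symm⟩
  obtain ⟨a, rfl⟩ : ∃ a' : A, a = Ext.dn φ (𝟙_ (DRing.Cx A)) (scal a') :=
    ⟨(singleObjXSelf (ComplexShape.up ℤ) 0 (𝟙_ (ModuleCat.{u} A))).hom.hom a,
      (Iso.hom_inv_id_apply (singleObjXSelf (ComplexShape.up ℤ) 0 (𝟙_ (ModuleCat.{u} A))) a).symm⟩
  let z : Z.X j := z₁
  let V := (resCx ρ).obj ((resCx φ').obj Z)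
  let Z' := (resCx φ').obj Z
  let r₀ := Ext.dn ρ (𝟙_ (DRing.Cx R')) (scal r)
  let a₀ := Ext.dn φ (𝟙_ (DRing.Cx A)) (scal a)
  let z₀ : V.X j := Ext.dn ρ Z' (Ext.dn φ' Z z)
  let e := fun w : Z.X j => Ext.dn ρ Z' (Ext.dn φ' Z w)
  let p := tm (algCx ρ ⊗ V) (algCx φ) (add_zero j) (tm (algCx ρ) V (zero_add j) (r₀ ⊗ₜ z₀) ⊗ₜ a₀)
  have l1 : (α_ (algCx ρ) V (algCx φ)).hom.f j p =
      tm (algCx ρ) (V ⊗ algCx φ) (zero_add j) (r₀ ⊗ₜ tm V (algCx φ) (add_zero j) (z₀ ⊗ₜ a₀)) :=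
    tm_associator (algCx ρ) V (algCx φ) (zero_add j) (add_zero j) (zero_add j) (add_zero j) r₀ z₀ a₀
  have l2 : (algCx ρ ◁ actRCx h Z).f j
      (tm (algCx ρ) (V ⊗ algCx φ) (zero_add j) (r₀ ⊗ₜ tm V (algCx φ) (add_zero j) (z₀ ⊗ₜ a₀))) =
      tm (algCx ρ) V (zero_add j) (r₀ ⊗ₜ e (α a • z)) :=
    (tm_whiskerLeft (algCx ρ) (actRCx h Z) (zero_add j) r₀ _).trans
      (congrArg (fun w => tm (algCx ρ) V (zero_add j) (r₀ ⊗ₜ w)) (actRCx_tm h Z a z))
  have l3 : (actCx ρ Z').f j (tm (algCx ρ) V (zero_add j) (r₀ ⊗ₜ e (α a • z))) = e (φ' r • α a • z) :=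
    actCx_tm ρ Z' r (Ext.dn φ' Z (α a • z))
  have r1 : (actCx ρ Z' ▷ algCx φ).f j p =
      tm V (algCx φ) (add_zero j) (e (φ' r • z) ⊗ₜ a₀) :=
    (tm_whiskerRight (actCx ρ Z') (algCx φ) (add_zero j) _ a₀).trans
      (congrArg (fun w => tm V (algCx φ) (add_zero j) (w ⊗ₜ a₀)) (actCx_tm ρ Z' r (Ext.dn φ' Z z)))
  have r2 : (actRCx h Z).f j (tm V (algCx φ) (add_zero j) (e (φ' r • z) ⊗ₜ a₀)) = e (α a • φ' r • z) :=
    actRCx_tm h Z a (φ' r • z)
  show (actCx ρ Z').f j ((algCx ρ ◁ actRCx h Z).f j ((α_ (algCx ρ) V (algCx φ)).hom.f j p)) =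
    (actRCx h Z).f j ((actCx ρ Z' ▷ algCx φ).f j p)
  exact ((congrArg (fun w => (actCx ρ Z').f j w)
    ((congrArg (fun w => (algCx ρ ◁ actRCx h Z).f j w) l1).trans l2)).trans l3).trans
    ((congrArg e (smul_comm (φ' r) (α a) z)).trans
      ((congrArg (fun w => (actRCx h Z).f j w) r1).trans r2).symm)

variable [HasLBase φ] [HasLBase ρ] [HasLTen R] [HasLTen A] [HasLTen R']
  [HasResTen φ] [ResLegIso φ] [HasResTen ρ] [ResLegIso ρ] [HasLTen₃ R] [IsSymMonoidal R]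

/-- The double restriction of an object of `D(A')`. -/
noncomputable abbrev resV (φ' : R' →+* A') (ρ : R →+* R') (Z : Dual.D A') : Dual.D R :=
  (DRing.restrictD ρ).obj ((DRing.restrictD φ').obj Z)

/-- The action of `A` from the right. -/
noncomputable def actR (Z : Dual.D A') : ten (resV φ' ρ Z) (algD φ) ⟶ resV φ' ρ Z :=
  sym (algD φ) (resV φ' ρ Z) ≫ wl (algD φ) ((_root_.TrivBC.resComm h).inv.app Z) ≫
    act φ ((DRing.restrictD α).obj Z) ≫ (_root_.TrivBC.resComm h).hom.app Z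

/-- The identification of the double restriction on complexes. -/
noncomputable def rfV (Z : DRing.Cx A') :
    resV φ' ρ (DerivedCategory.Q.obj Z) ≅ DerivedCategory.Q.obj ((resCx ρ).obj ((resCx φ').obj Z)) :=
  (DRing.restrictD ρ).mapIso (rf φ' Z) ≪≫ rf ρ ((resCx φ').obj Z)

omit [HasLBase φ] [HasLBase ρ] [HasLTen R] [HasLTen A] [HasLTen R'] [HasResTen φ] [ResLegIso φ]
  [HasResTen ρ] [ResLegIso ρ] [HasLTen₃ R] [IsSymMonoidal R] in
theorem resCommCx_app (Z : DRing.Cx A') :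
    (_root_.TrivBC.resCommCx h).hom.app Z = DerivedCategory.Q.map (resCommIso h Z).hom := by
  simp only [_root_.TrivBC.resCommCx, Iso.trans_hom, NatTrans.comp_app, Functor.associator_hom_app,
    Functor.isoWhiskerRight_hom, Functor.whiskerRight_app, Category.id_comp, Category.comp_id, Iso.symm_hom,
    Functor.associator_inv_app]
  rfl

omit [HasLBase φ] [HasLBase ρ] [HasLTen R] [HasLTen A] [HasLTen R'] [HasResTen φ] [ResLegIso φ]
  [HasResTen ρ] [ResLegIso ρ] [HasLTen₃ R] [IsSymMonoidal R] in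
theorem resComm_Q (Z : DRing.Cx A') :
    (_root_.TrivBC.resComm h).hom.app (DerivedCategory.Q.obj Z) ≫ (rfV (φ' := φ') (ρ := ρ) Z).hom =
      (DRing.restrictD φ).map (rf α Z).hom ≫ (rf φ ((resCx α).obj Z)).hom ≫
        DerivedCategory.Q.map (resCommIso h Z).hom := by
  rw [DAlg.resComm_app_Q, resCommCx_app]
  simp only [rfV, rf, Iso.app_hom, Iso.trans_hom, Functor.mapIso_hom, Category.assoc]
  rw [← Functor.map_comp_assoc (DRing.restrictD ρ)]
  simp

omit [HasLBase ρ] [HasLTen R'] [HasResTen ρ] [ResLegIso ρ] in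
theorem actR_Q (Z : DRing.Cx A') :
    actR h (DerivedCategory.Q.obj Z) ≫ (rfV (φ' := φ') (ρ := ρ) Z).hom =
      (LTen₂ R).map (Prod.mkHom (rfV (φ' := φ') (ρ := ρ) Z).hom (rf φ (𝟙_ (DRing.Cx A))).hom) ≫
        DTenCalc.cmp ((resCx ρ).obj ((resCx φ').obj Z)) (algCx φ) ≫
        DerivedCategory.Q.map (actRCx h Z) := by
  have hnat := act_natural φ (rf α Z).hom
  have hs : sym (algD φ) (resV φ' ρ (DerivedCategory.Q.obj Z)) ≫
      (LTen₂ R).map (Prod.mkHom (rf φ (𝟙_ (DRing.Cx A))).hom (rfV (φ' := φ') (ρ := ρ) Z).hom) =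
      (LTen₂ R).map (Prod.mkHom (rfV (φ' := φ') (ρ := ρ) Z).hom (rf φ (𝟙_ (DRing.Cx A))).hom) ≫
        sym (DerivedCategory.Q.obj (algCx φ))
          (DerivedCategory.Q.obj ((resCx ρ).obj ((resCx φ').obj Z))) :=
    ((symm R).naturality
      (Prod.mkHom (rf φ (𝟙_ (DRing.Cx A))).hom (rfV (φ' := φ') (ρ := ρ) Z).hom)).symm
  have hc : (_root_.TrivBC.resComm h).inv.app (DerivedCategory.Q.obj Z) ≫
      (DRing.restrictD φ).map (rf α Z).hom ≫ (rf φ ((resCx α).obj Z)).hom =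
      (rfV (φ' := φ') (ρ := ρ) Z).hom ≫ DerivedCategory.Q.map (resCommIso h Z).inv := by
    rw [← cancel_mono (DerivedCategory.Q.map (resCommIso h Z).hom), Category.assoc, Category.assoc, Category.assoc,
      ← resComm_Q, Iso.inv_hom_id_app_assoc, ← Functor.map_comp, Iso.inv_hom_id,
      CategoryTheory.Functor.map_id]
    exact (Category.comp_id _).symm
  rw [actR]
  simp only [Category.assoc]
  rw [resComm_Q, ← reassoc_of% hnat, reassoc_of% (act_Q φ ((resCx α).obj Z)), ← wl_comp_assoc',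
    ← Functor.map_comp DerivedCategory.Q]
  have e : wl (algD φ) ((_root_.TrivBC.resComm h).inv.app (DerivedCategory.Q.obj Z) ≫
        (DRing.restrictD φ).map (rf α Z).hom) ≫
      (LTen₂ R).map (Prod.mkHom (rf φ (𝟙_ (DRing.Cx A))).hom (rf φ ((resCx α).obj Z)).hom) =
      (LTen₂ R).map (Prod.mkHom (rf φ (𝟙_ (DRing.Cx A))).hom (rfV (φ' := φ') (ρ := ρ) Z).hom) ≫
        wl (DerivedCategory.Q.obj (algCx φ)) (DerivedCategory.Q.map (resCommIso h Z).inv) := by
    rw [← Functor.map_comp, ← Functor.map_comp, prod_comp, prod_comp, Category.id_comp, Category.assoc, hc]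
    simp
  rw [reassoc_of% e, reassoc_of% hs, reassoc_of% (wl_cmp (algCx φ) (resCommIso h Z).inv),
    reassoc_of% (symm_cmp (algCx φ) ((resCx ρ).obj ((resCx φ').obj Z)))]
  simp only [← Functor.map_comp, actRCx]

omit [HasLTen₃ R] [IsSymMonoidal R] in
theorem actρ_Q (Z : DRing.Cx A') :
    act ρ ((DRing.restrictD φ').obj (DerivedCategory.Q.obj Z)) ≫ (rfV (φ' := φ') (ρ := ρ) Z).hom =
      (LTen₂ R).map (Prod.mkHom (rf ρ (𝟙_ (DRing.Cx R'))).hom (rfV (φ' := φ') (ρ := ρ) Z).hom) ≫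
        DTenCalc.cmp (algCx ρ) ((resCx ρ).obj ((resCx φ').obj Z)) ≫
        DerivedCategory.Q.map (actCx ρ ((resCx φ').obj Z)) := by
  rw [rfV, Iso.trans_hom, Functor.mapIso_hom, ← reassoc_of% (act_natural ρ (rf φ' Z).hom),
    act_Q ρ ((resCx φ').obj Z), ← Functor.map_comp_assoc, prod_comp, Category.id_comp]

/-- The two actions commute. -/
theorem act_comm (Z : Dual.D A') :
    (associator (algD ρ) (resV φ' ρ Z) (algD φ)).hom ≫ wl (algD ρ) (actR h Z) ≫
        act ρ ((DRing.restrictD φ').obj Z) =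
      wr (act ρ ((DRing.restrictD φ').obj Z)) (algD φ) ≫ actR h Z := by
  obtain ⟨Z₀, -, ⟨eZ⟩⟩ := exists_kFlat_rep Z
  let Z' := DerivedCategory.Q.obj Z₀
  -- naturality in `Z`
  let g := (DRing.restrictD ρ).map ((DRing.restrictD φ').map eZ.hom)
  have hR : wr g (algD φ) ≫ actR h Z = actR h Z' ≫ g := by
    rw [actR, actR]
    simp only [Category.assoc]
    have e1 : wr g (algD φ) ≫ sym (algD φ) (resV φ' ρ Z) =
        sym (algD φ) (resV φ' ρ Z') ≫ wl (algD φ) g :=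
      (symm R).naturality (Prod.mkHom (𝟙 (algD φ)) g)
    have e2 : g ≫ (_root_.TrivBC.resComm h).inv.app Z =
        (_root_.TrivBC.resComm h).inv.app Z' ≫ (DRing.restrictD φ).map ((DRing.restrictD α).map eZ.hom) :=
      (_root_.TrivBC.resComm h).inv.naturality eZ.hom
    have e3 : (DRing.restrictD φ).map ((DRing.restrictD α).map eZ.hom) ≫
        (_root_.TrivBC.resComm h).hom.app Z = (_root_.TrivBC.resComm h).hom.app Z' ≫ g :=
      (_root_.TrivBC.resComm h).hom.naturality eZ.hom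
    rw [reassoc_of% e1, ← wl_comp_assoc', e2, wl_comp_assoc',
      reassoc_of% (act_natural φ ((DRing.restrictD α).map eZ.hom)), e3]
  have hρ : wl (algD ρ) g ≫ act ρ ((DRing.restrictD φ').obj Z) =
      act ρ ((DRing.restrictD φ').obj Z') ≫ g := act_natural ρ _
  suffices H : (associator (algD ρ) (resV φ' ρ Z') (algD φ)).hom ≫ wl (algD ρ) (actR h Z') ≫
      act ρ ((DRing.restrictD φ').obj Z') =
      wr (act ρ ((DRing.restrictD φ').obj Z')) (algD φ) ≫ actR h Z' by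
    rw [← cancel_epi (wr (wl (algD ρ) g) (algD φ)), reassoc_of% (assoc_nat_mid (algD ρ) g (algD φ)),
      ← wl_comp_assoc', hR, wl_comp_assoc', hρ, reassoc_of% H, ← wr_comp_assoc', hρ, wr_comp_assoc', hR]
  let eK := rf ρ (𝟙_ (DRing.Cx R'))
  let eN := rf φ (𝟙_ (DRing.Cx A))
  let eV := rfV (φ' := φ') (ρ := ρ) Z₀
  let V₀ := (resCx ρ).obj ((resCx φ').obj Z₀)
  rw [← cancel_mono eV.hom]
  simp only [Category.assoc]
  rw [actρ_Q, actR_Q]
  have eR : wl (algD ρ) (actR h Z') ≫ (LTen₂ R).map (Prod.mkHom eK.hom eV.hom) =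
      (LTen₂ R).map (Prod.mkHom eK.hom ((LTen₂ R).map (Prod.mkHom eV.hom eN.hom))) ≫
        wl (DerivedCategory.Q.obj (algCx ρ)) (DTenCalc.cmp V₀ (algCx φ) ≫
          DerivedCategory.Q.map (actRCx h Z₀)) := by
    rw [← Functor.map_comp, ← Functor.map_comp, prod_comp, prod_comp, Category.id_comp, actR_Q]
    simp
    rfl
  have eL : wr (act ρ ((DRing.restrictD φ').obj Z')) (algD φ) ≫ (LTen₂ R).map (Prod.mkHom eV.hom eN.hom) =
      (LTen₂ R).map (Prod.mkHom ((LTen₂ R).map (Prod.mkHom eK.hom eV.hom)) eN.hom) ≫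
        wr (DTenCalc.cmp (algCx ρ) V₀ ≫ DerivedCategory.Q.map (actCx ρ ((resCx φ').obj Z₀)))
          (DerivedCategory.Q.obj (algCx φ)) := by
    rw [← Functor.map_comp, ← Functor.map_comp, prod_comp, prod_comp, Category.id_comp, actρ_Q]
    simp
    rfl
  rw [reassoc_of% eR, reassoc_of% eL,
    ← reassoc_of% (associator_naturality' eK.hom eV.hom eN.hom), wl_comp_assoc',
    reassoc_of% (wl_cmp (algCx ρ) (actRCx h Z₀)), reassoc_of% (assoc_cmp (algCx ρ) V₀ (algCx φ)),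
    wr_comp_assoc', reassoc_of% (wr_cmp (actCx ρ ((resCx φ').obj Z₀)) (algCx φ)),
    ← Functor.map_comp, ← Functor.map_comp, ← Functor.map_comp, actCx_comm]

end Square

end Groth.DualCore.TrivBC
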