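import Groth.Agent.DualCore.TrivBCAct

/-!
The base change map of trivial duality is the evaluation map.
-/

set_option autoImplicit false

universe u

open CategoryTheory CategoryTheory.Limits MonoidalCategory DTen
open Groth.DAlg.KFlatMod (IsKFlatCx)
open Groth.DTenCalc

attribute [local instance] HasDerivedCategory.standard
set_option backward.isDefEq.respectTransparency false
set_option linter.unusedSectionVars false

namespace Groth.DualCore.TrivBC

section Counit

variable {A : Type u} [CommRing A] [HasLTen A] [HasLTen₃ A] [IsSymMonoidal A] (P D : DRing.Cx A)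
  [ExactPairing P D] (hP : IsKFlatCx A P) (hD : IsKFlatCx A D)

/-- The counit of a duality is compatible with tensor products. -/
theorem adjR_counit_tensor_rep (K L : DRing.Cx A) (hK : IsKFlatCx A K) :
    (associator (DerivedCategory.Q.obj K) (ten (DerivedCategory.Q.obj L) (DerivedCategory.Q.obj D))
        (DerivedCategory.Q.obj P)).hom ≫
        wl (DerivedCategory.Q.obj K) ((adjR P D hP hD).counit.app (DerivedCategory.Q.obj L)) =
      wr (associator (DerivedCategory.Q.obj K) (DerivedCategory.Q.obj L) (DerivedCategory.Q.obj D)).inv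
          (DerivedCategory.Q.obj P) ≫
        (adjR P D hP hD).counit.app (ten (DerivedCategory.Q.obj K) (DerivedCategory.Q.obj L)) := by
  have := isIso_cmp_left hK L
  rw [← cancel_mono (DTenCalc.cmp K L)]
  have hn : (adjR P D hP hD).counit.app (ten (DerivedCategory.Q.obj K) (DerivedCategory.Q.obj L)) ≫
      DTenCalc.cmp K L = wr (wr (DTenCalc.cmp K L) (DerivedCategory.Q.obj D)) (DerivedCategory.Q.obj P) ≫
        (adjR P D hP hD).counit.app (DerivedCategory.Q.obj (K ⊗ L)) :=
    ((adjR P D hP hD).counit.naturality (DTenCalc.cmp K L)).symm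
  have h1 : (associator (DerivedCategory.Q.obj K) (DerivedCategory.Q.obj L)
        (DerivedCategory.Q.obj D)).inv ≫ wr (DTenCalc.cmp K L) (DerivedCategory.Q.obj D) ≫
          DTenCalc.cmp (K ⊗ L) D =
      wl (DerivedCategory.Q.obj K) (DTenCalc.cmp L D) ≫ DTenCalc.cmp K (L ⊗ D) ≫
        DerivedCategory.Q.map (α_ K L D).inv := by
    rw [Iso.inv_comp_eq, reassoc_of% (assoc_cmp K L D), ← Functor.map_comp, Iso.hom_inv_id,
      CategoryTheory.Functor.map_id, Category.comp_id]
  rw [Category.assoc, Category.assoc, hn, adjR_counit, adjR_counit,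
    ← wr_comp_assoc', ← wr_comp_assoc', Category.assoc, h1, wr_comp, wr_comp, Category.assoc,
    Category.assoc, reassoc_of% (wr_cmp (α_ K L D).inv P), ← Functor.map_comp,
    wl_comp, wl_comp, Category.assoc, Category.assoc, wl_cmp,
    ← reassoc_of% (assoc_nat_mid (DerivedCategory.Q.obj K) (DTenCalc.cmp L D) (DerivedCategory.Q.obj P)),
    reassoc_of% (assoc_cmp K (L ⊗ D) P), ← Functor.map_comp, counit_tensor]

theorem adjR_counit_tensor (a b : Dual.D A) :
    (associator a (ten b (DerivedCategory.Q.obj D)) (DerivedCategory.Q.obj P)).hom ≫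
        wl a ((adjR P D hP hD).counit.app b) =
      wr (associator a b (DerivedCategory.Q.obj D)).inv (DerivedCategory.Q.obj P) ≫
        (adjR P D hP hD).counit.app (ten a b) := by
  obtain ⟨K, hK, ⟨eK⟩⟩ := exists_kFlat_rep a
  obtain ⟨L, -, ⟨eL⟩⟩ := exists_kFlat_rep b
  let P' := DerivedCategory.Q.obj P
  let D' := DerivedCategory.Q.obj D
  let g := (LTen₂ A).map (Prod.mkHom ((LTen₂ A).map (Prod.mkHom eK.hom (wr eL.hom D'))) (𝟙 P'))
  rw [← cancel_epi g]
  have e0 : g = (LTen₂ A).map (Prod.mkHom ((LTen₂ A).map (Prod.mkHom eK.hom (wr eL.hom D'))) (𝟙 P')) := rfl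
  have e1 : g ≫ (associator a (ten b D') P').hom ≫ wl a ((adjR P D hP hD).counit.app b) =
      (associator _ _ P').hom ≫ (LTen₂ A).map (Prod.mkHom eK.hom
        ((adjR P D hP hD).counit.app (DerivedCategory.Q.obj L) ≫ eL.hom)) := by
    rw [e0, reassoc_of% (associator_naturality' eK.hom (wr eL.hom D') (𝟙 P')), ← Functor.map_comp,
      prod_comp, Category.comp_id]
    congr 3
    exact (adjR P D hP hD).counit.naturality eL.hom
  have e3 : (LTen₂ A).map (Prod.mkHom eK.hom
      ((adjR P D hP hD).counit.app (DerivedCategory.Q.obj L) ≫ eL.hom)) =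
      wl (DerivedCategory.Q.obj K) ((adjR P D hP hD).counit.app (DerivedCategory.Q.obj L)) ≫
        (LTen₂ A).map (Prod.mkHom eK.hom eL.hom) := by
    rw [← Functor.map_comp, prod_comp, Category.id_comp]
  have e2 : (LTen₂ A).map (Prod.mkHom eK.hom (wr eL.hom D')) ≫ (associator a b D').inv =
      (associator _ _ D').inv ≫ wr ((LTen₂ A).map (Prod.mkHom eK.hom eL.hom)) D' := by
    rw [Iso.eq_inv_comp, ← Category.assoc, Iso.comp_inv_eq]
    exact (associator_naturality' eK.hom eL.hom (𝟙 D')).symm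
  rw [e1, e3]
  refine ((reassoc_of% (adjR_counit_tensor_rep P D hP hD K L hK)) _).trans ?_
  rw [e0, ← wr_comp_assoc', e2, wr_comp_assoc']
  congr 1
  exact ((adjR P D hP hD).counit.naturality ((LTen₂ A).map (Prod.mkHom eK.hom eL.hom))).symm

end Counit

variable {R A R' A' : Type u} [CommRing R] [CommRing A] [CommRing R'] [CommRing A']
  {φ : R →+* A} {ρ : R →+* R'} {α : A →+* A'} {φ' : R' →+* A'}
  [DRing.HasLBaseChange ρ] [DRing.HasLBaseChange α]
  (adjρ : DRing.LBaseChange ρ ⊣ DRing.restrictD ρ) (adjα : DRing.LBaseChange α ⊣ DRing.restrictD α)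
  (h : α.comp φ = φ'.comp ρ) {Rφ : Dual.D R ⥤ Dual.D A} (adj : DRing.restrictD φ ⊣ Rφ)
  {Rφ' : Dual.D R' ⥤ Dual.D A'} (adj' : DRing.restrictD φ' ⊣ Rφ')
  [HasLBase φ] [HasLBase ρ] [HasLTen R] [HasLTen A] [HasLTen R']
  [HasResTen φ] [ResLegIso φ] [HasResTen ρ] [ResLegIso ρ] [HasLTen₃ R] [IsSymMonoidal R]

/-- The pairing defining `RHom(A, K)`, restricted to `R`. -/
noncomputable def pairing (K : Dual.D R) :
    ten ((DRing.restrictD φ).obj (Rφ.obj K)) (algD φ) ⟶ K :=
  sym (algD φ) ((DRing.restrictD φ).obj (Rφ.obj K)) ≫ act φ (Rφ.obj K) ≫ adj.counit.app K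

/-- The map whose bijectivity is that of the evaluation map. -/
noncomputable def evMap (K : Dual.D R) (S : Dual.D R)
    (g : S ⟶ ten (algD ρ) ((DRing.restrictD φ).obj (Rφ.obj K))) :
    ten S (algD φ) ⟶ ten (algD ρ) K :=
  wr g (algD φ) ≫ (associator (algD ρ) ((DRing.restrictD φ).obj (Rφ.obj K)) (algD φ)).hom ≫
    wl (algD ρ) (pairing adj K)

theorem pairing_bijective (K S : Dual.D R) :
    Function.Bijective fun g : S ⟶ (DRing.restrictD φ).obj (Rφ.obj K) =>
      wr g (algD φ) ≫ pairing adj K := by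
  have := isIso_piD φ S
  have : IsIso (sym (algD φ) S) := inferInstanceAs (IsIso ((symm R).app (algD φ, S)))
  let e : (S ⟶ (DRing.restrictD φ).obj (Rφ.obj K)) ≃ (ten S (algD φ) ⟶ K) :=
    ((baseAdj φ).homEquiv S (Rφ.obj K)).symm.trans ((adj.homEquiv _ K).symm.trans
      ((preEquiv (asIso (piD φ S)) K).trans (preEquiv (asIso (sym (algD φ) S)) K)))
  suffices hk : (fun g => wr g (algD φ) ≫ pairing adj K) = e by exact hk ▸ e.bijective
  funext g
  have e1 : wr g (algD φ) ≫ sym (algD φ) ((DRing.restrictD φ).obj (Rφ.obj K)) =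
      sym (algD φ) S ≫ wl (algD φ) g :=
    (symm R).naturality (Prod.mkHom (𝟙 (algD φ)) g)
  simp only [e, Equiv.trans_apply, preEquiv_apply, asIso_hom]
  rw [pairing, reassoc_of% e1, Adjunction.homEquiv_counit (adj := adj),
    reassoc_of% (piD_adjunct φ (((baseAdj φ).homEquiv S (Rφ.obj K)).symm g)), Equiv.apply_symm_apply]

/-- The pairing of `W = RHom(A', K')`. -/
noncomputable def pairing' (K' : Dual.D R') :
    ten (resV φ' ρ (Rφ'.obj K')) (algD φ) ⟶ (DRing.restrictD ρ).obj K' :=
  actR h (Rφ'.obj K') ≫ (DRing.restrictD ρ).map (adj'.counit.app K')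

theorem pairing'_bijective (hcmp : ∀ M, IsIso (_root_.TrivBC.cmp adjρ adjα h M)) (K' : Dual.D R')
    (S : Dual.D R) :
    Function.Bijective fun g : S ⟶ resV φ' ρ (Rφ'.obj K') => wr g (algD φ) ≫ pairing' h adj' K' := by
  let W := Rφ'.obj K'
  let M := (LBase φ).obj S
  have := hcmp M
  have := isIso_piD φ S
  have : IsIso (sym (algD φ) S) := inferInstanceAs (IsIso ((symm R).app (algD φ, S)))
  let e : (S ⟶ resV φ' ρ W) ≃ (ten S (algD φ) ⟶ (DRing.restrictD ρ).obj K') :=
    (postEquiv S ((_root_.TrivBC.resComm h).app W)).symm.trans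
      (((baseAdj φ).homEquiv S ((DRing.restrictD α).obj W)).symm.trans
        ((adjα.homEquiv M W).symm.trans ((adj'.homEquiv _ K').symm.trans
          ((preEquiv (asIso (_root_.TrivBC.cmp adjρ adjα h M)) K').trans ((adjρ.homEquiv _ K').trans
            ((preEquiv (asIso (piD φ S)) _).trans (preEquiv (asIso (sym (algD φ) S)) _)))))))
  suffices hk : (fun g => wr g (algD φ) ≫ pairing' h adj' K') = e by exact hk ▸ e.bijective
  funext g
  let g₀ := g ≫ (_root_.TrivBC.resComm h).inv.app W
  let k := ((baseAdj φ).homEquiv S ((DRing.restrictD α).obj W)).symm g₀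
  let kt := (adjα.homEquiv M W).symm k
  have hk : adjα.unit.app M ≫ (DRing.restrictD α).map kt = k :=
    (adjα.homEquiv_unit _ _ _).symm.trans (Equiv.apply_symm_apply _ k)
  have e1 : wr g (algD φ) ≫ sym (algD φ) (resV φ' ρ W) = sym (algD φ) S ≫ wl (algD φ) g :=
    (symm R).naturality (Prod.mkHom (𝟙 (algD φ)) g)
  have e2 : (adjρ.homEquiv _ K') (_root_.TrivBC.cmp adjρ adjα h M ≫
      (DRing.restrictD φ').map kt ≫ adj'.counit.app K') =
      (DRing.restrictD φ).map k ≫ (_root_.TrivBC.resComm h).hom.app W ≫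
        (DRing.restrictD ρ).map (adj'.counit.app K') := by
    rw [Adjunction.homEquiv_naturality_right, _root_.TrivBC.cmp, Equiv.apply_symm_apply, Functor.map_comp,
      Category.assoc, ← hk, Functor.map_comp, Category.assoc]
    congr 1
    exact (reassoc_of% ((_root_.TrivBC.resComm h).hom.naturality kt).symm) _
  have e3 : e g = sym (algD φ) S ≫ piD φ S ≫ (adjρ.homEquiv _ K') (_root_.TrivBC.cmp adjρ adjα h M ≫
      (DRing.restrictD φ').map kt ≫ adj'.counit.app K') := by
    simp only [e, Equiv.trans_apply, preEquiv_apply, asIso_hom, Adjunction.homEquiv_counit (adj := adj')]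
    rfl
  rw [e3, e2, reassoc_of% (piD_adjunct φ k), Equiv.apply_symm_apply, pairing', actR]
  simp only [Category.assoc]
  rw [reassoc_of% e1, ← wl_comp_assoc']

theorem counit_unit_eq (K : Dual.D R) (hc : IsIso (_root_.TrivBC.cmp adjρ adjα h (Rφ.obj K))) :
    (DRing.restrictD φ).map (adjα.homEquiv _ _ (_root_.TrivBC.bcMap adjρ adjα h adj adj' K hc)) ≫
        (_root_.TrivBC.resComm h).hom.app (Rφ'.obj ((DRing.LBaseChange ρ).obj K)) ≫
        (DRing.restrictD ρ).map (adj'.counit.app ((DRing.LBaseChange ρ).obj K)) =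
      adj.counit.app K ≫ adjρ.unit.app K := by
  have := hc
  let X := Rφ.obj K
  let c := _root_.TrivBC.cmp adjρ adjα h X
  let B := _root_.TrivBC.bcMap adjρ adjα h adj adj' K hc
  have h1 : (DRing.restrictD φ').map B ≫ adj'.counit.app _ =
      inv c ≫ (DRing.LBaseChange ρ).map (adj.counit.app K) :=
    (Adjunction.homEquiv_counit (adj := adj') _ _ _).symm.trans (Equiv.symm_apply_apply _ _)
  have h2 : (DRing.restrictD φ).map (adjα.unit.app X) ≫ (_root_.TrivBC.resComm h).hom.app _ =
      adjρ.unit.app _ ≫ (DRing.restrictD ρ).map c :=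
    ((adjρ.homEquiv_unit _ _ _).symm.trans (Equiv.apply_symm_apply _ _)).symm
  have h3 : (DRing.restrictD φ).map ((DRing.restrictD α).map B) ≫ (_root_.TrivBC.resComm h).hom.app _ =
      (_root_.TrivBC.resComm h).hom.app _ ≫ (DRing.restrictD ρ).map ((DRing.restrictD φ').map B) :=
    (_root_.TrivBC.resComm h).hom.naturality B
  rw [Adjunction.homEquiv_unit, Functor.map_comp, Category.assoc, reassoc_of% h3, ← Functor.map_comp, h1,
    Functor.map_comp, reassoc_of% h2, ← Functor.map_comp_assoc, IsIso.hom_inv_id,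
    CategoryTheory.Functor.map_id, Category.id_comp]
  exact (adjρ.unit.naturality (adj.counit.app K)).symm

/-- The base change map is an isomorphism iff the evaluation is bijective. -/
theorem isIso_bcMap_iff (hcmp : ∀ M, IsIso (_root_.TrivBC.cmp adjρ adjα h M)) (K : Dual.D R)
    (hc : IsIso (_root_.TrivBC.cmp adjρ adjα h (Rφ.obj K))) :
    IsIso (_root_.TrivBC.bcMap adjρ adjα h adj adj' K hc) ↔
      ∀ S, Function.Bijective (evMap (ρ := ρ) adj K S) := by
  have := hc
  let X := Rφ.obj K
  let Y := (DRing.restrictD φ).obj X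
  let K' := (DRing.LBaseChange ρ).obj K
  let W := Rφ'.obj K'
  let c := _root_.TrivBC.cmp adjρ adjα h X
  let B := _root_.TrivBC.bcMap adjρ adjα h adj adj' K hc
  let b := adjα.homEquiv _ _ B
  let f : Y ⟶ resV φ' ρ W := (DRing.restrictD φ).map b ≫ (_root_.TrivBC.resComm h).hom.app W
  let ξ : ten (algD ρ) Y ⟶ resV φ' ρ W := wl (algD ρ) f ≫ act ρ ((DRing.restrictD φ').obj W)
  let u := Adjunction.leftAdjointUniq (baseAdj ρ) adjρ
  -- `ξ` is an isomorphism iff the base change map is one
  have hf : adjρ.homEquiv _ _ (c ≫ (DRing.restrictD φ').map B) = f := by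
    have h3 : (DRing.restrictD φ).map ((DRing.restrictD α).map B) ≫ (_root_.TrivBC.resComm h).hom.app _ =
        (_root_.TrivBC.resComm h).hom.app _ ≫ (DRing.restrictD ρ).map ((DRing.restrictD φ').map B) :=
      (_root_.TrivBC.resComm h).hom.naturality B
    have hcd : c = (adjρ.homEquiv _ _).symm ((DRing.restrictD φ).map (adjα.unit.app X) ≫
        (_root_.TrivBC.resComm h).hom.app _) := rfl
    rw [Adjunction.homEquiv_naturality_right, hcd]
    erw [Equiv.apply_symm_apply]
    simp only [f, b, Adjunction.homEquiv_unit, Functor.map_comp, Category.assoc]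
    rw [h3]
  have hu : ∀ {T : Dual.D R} {T' : Dual.D R'} (g : (DRing.LBaseChange ρ).obj T ⟶ T'),
      piD ρ T ≫ (DRing.restrictD ρ).map (u.hom.app T ≫ g) =
        wl (algD ρ) (adjρ.homEquiv _ _ g) ≫ act ρ T' := fun g => by
    rw [piD_adjunct]
    congr 2
    rw [Adjunction.homEquiv_unit, Adjunction.homEquiv_unit, Functor.map_comp,
      Adjunction.unit_leftAdjointUniq_hom_app_assoc]
  have hξ : ξ = piD ρ Y ≫ (DRing.restrictD ρ).map (u.hom.app Y ≫ c ≫ (DRing.restrictD φ').map B) := by
    rw [hu, hf]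
  have hiff : IsIso B ↔ IsIso ξ := by
    have := isIso_piD ρ Y
    constructor
    · intro hB
      have : IsIso ((DRing.restrictD φ').map B) := inferInstance
      have hmid : IsIso (u.hom.app Y ≫ c ≫ (DRing.restrictD φ').map B) := inferInstance
      rw [hξ]
      infer_instance
    · intro hI
      rw [hξ] at hI
      have h1 : IsIso ((DRing.restrictD ρ).map (u.hom.app Y ≫ c ≫ (DRing.restrictD φ').map B)) :=
        IsIso.of_isIso_comp_left (piD ρ Y) _
      have h2 := isIso_of_isIso_restrictD ρ (u.hom.app Y ≫ c ≫ (DRing.restrictD φ').map B) h1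
      have h3 : IsIso (c ≫ (DRing.restrictD φ').map B) := IsIso.of_isIso_comp_left (u.hom.app Y) _
      have h4 : IsIso ((DRing.restrictD φ').map B) := IsIso.of_isIso_comp_left c _
      exact isIso_of_isIso_restrictD φ' B h4
  -- the identity
  let q : ten (algD ρ) K ⟶ (DRing.restrictD ρ).obj K' :=
    wl (algD ρ) (adjρ.unit.app K) ≫ act ρ K'
  have hq : IsIso q := by
    have := isIso_piD ρ K
    have e : q = piD ρ K ≫ (DRing.restrictD ρ).map (u.hom.app K ≫ 𝟙 _) := by
      rw [hu, Adjunction.homEquiv_id]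
    rw [e]
    infer_instance
  have hkey : wr ξ (algD φ) ≫ pairing' h adj' K' =
      (associator (algD ρ) Y (algD φ)).hom ≫ wl (algD ρ) (pairing adj K) ≫ q := by
    have e1 : wr f (algD φ) ≫ actR h W ≫ (DRing.restrictD ρ).map (adj'.counit.app K') =
        pairing adj K ≫ adjρ.unit.app K := by
      have e2 : wr f (algD φ) ≫ sym (algD φ) (resV φ' ρ W) = sym (algD φ) Y ≫ wl (algD φ) f :=
        (symm R).naturality (Prod.mkHom (𝟙 (algD φ)) f)
      rw [actR]
      simp only [Category.assoc]
      rw [reassoc_of% e2, ← wl_comp_assoc']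
      simp only [f, Category.assoc, Iso.hom_inv_id_app]
      erw [Category.comp_id]
      rw [reassoc_of% (act_natural φ b), counit_unit_eq, pairing]
      simp only [Category.assoc]
      rfl
    have ha : wl (algD ρ) ((DRing.restrictD ρ).map (adj'.counit.app K')) ≫ act ρ K' =
        act ρ ((DRing.restrictD φ').obj W) ≫ (DRing.restrictD ρ).map (adj'.counit.app K') := act_natural ρ _
    rw [pairing', show ξ = _ from rfl, wr_comp_assoc', ← reassoc_of% (act_comm h W),
      ← ha,
      reassoc_of% (assoc_nat_mid (algD ρ) f (algD φ))]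
    simp only [q]
    rw [← wl_comp_assoc', ← wl_comp_assoc', ← wl_comp_assoc']
    simp only [Category.assoc]
    rw [e1]
  have hev : ∀ S (g : S ⟶ ten (algD ρ) Y),
      wr (g ≫ ξ) (algD φ) ≫ pairing' h adj' K' = evMap (ρ := ρ) adj K S g ≫ q := fun S g => by
    rw [wr_comp_assoc', hkey, evMap]
    simp only [Category.assoc]
    rfl
  have hbij : ∀ S, Function.Bijective (fun g : S ⟶ ten (algD ρ) Y => g ≫ ξ) ↔
      Function.Bijective (evMap (ρ := ρ) adj K S) := fun S => by
    have hp := pairing'_bijective adjρ adjα h adj' hcmp K' S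
    have e : (fun g : S ⟶ resV φ' ρ W => wr g (algD φ) ≫ pairing' h adj' K') ∘
        (fun g : S ⟶ ten (algD ρ) Y => g ≫ ξ) =
        postEquiv _ (asIso q) ∘ evMap (ρ := ρ) adj K S := funext (hev S)
    exact (hp.of_comp_iff' _).symm.trans ((iff_of_eq (congrArg Function.Bijective e)).trans
      ((Equiv.bijective _).of_comp_iff' _))
  rw [hiff]
  exact ⟨fun hI S => (hbij S).1 ((asIso ξ).homToEquiv.bijective),
    fun hall => isIso_of_yoneda_map_bijective _ fun S => (hbij S).2 (hall S)⟩

/-- With internal homs, the evaluation map. -/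
theorem evMap_bijective_iff [HasRHom R] (K : Dual.D R) :
    (∀ S, Function.Bijective (evMap (ρ := ρ) adj K S)) ↔ IsIso (evalTen (algD ρ) K (algD φ)) := by
  let Y := (DRing.restrictD φ).obj (Rφ.obj K)
  let θ : Y ⟶ (RHomR R (algD φ)).obj K := rhomHomEquiv Y (algD φ) K (pairing adj K)
  have hθ' : wr θ (algD φ) ≫ ev (algD φ) K = pairing adj K :=
    (homEquiv_symm' _ θ).symm.trans (Equiv.symm_apply_apply _ _)
  have hθ : IsIso θ := by
    refine isIso_of_yoneda_map_bijective _ fun S => ?_
    have e : (fun g : S ⟶ Y => g ≫ θ) = rhomHomEquiv S (algD φ) K ∘ fun g => wr g (algD φ) ≫ pairing adj K := by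
      funext g
      exact ((rhomAdj R (algD φ)).homEquiv_naturality_left g (pairing adj K)).symm
    rw [e]
    exact (Equiv.bijective _).comp (pairing_bijective adj K S)
  let η := wl (algD ρ) θ ≫ evalTen (algD ρ) K (algD φ)
  have he : ∀ S, evMap (ρ := ρ) adj K S =
      (rhomHomEquiv S (algD φ) (ten (algD ρ) K)).symm ∘ fun g => g ≫ η := fun S => by
    funext g
    rw [Function.comp_apply, homEquiv_symm', wr_comp_assoc', wr_comp_assoc', wr_evalTen,
      reassoc_of% (assoc_nat_mid (algD ρ) θ (algD φ)), ← wl_comp, hθ']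
    rfl
  have : ∀ S, Function.Bijective (evMap (ρ := ρ) adj K S) ↔
      Function.Bijective (fun g : S ⟶ ten (algD ρ) Y => g ≫ η) := fun S =>
    (iff_of_eq (congrArg Function.Bijective (he S))).trans ((Equiv.bijective _).of_comp_iff' _)
  have h2 : IsIso η ↔ IsIso (evalTen (algD ρ) K (algD φ)) :=
    ⟨fun _ => IsIso.of_isIso_comp_left (wl (algD ρ) θ) _, fun _ => inferInstance⟩
  rw [← h2]
  exact ⟨fun hall => isIso_of_yoneda_map_bijective _ fun S => (this S).1 (hall S),
    fun _ S => (this S).2 ((asIso η).homToEquiv.bijective)⟩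

/-- The evaluation is bijective for a perfect algebra. -/
theorem evMap_bijective_of_isPerfect (hN : DRing.IsPerfect R (algD φ)) (K S : Dual.D R) :
    Function.Bijective (evMap (ρ := ρ) adj K S) := by
  obtain ⟨P, p, q, hv, hp, ⟨eN⟩⟩ := hN
  obtain ⟨D, ⟨_⟩, hP, hD⟩ := StrictDual.exists_exactPairing P hv hp
  let P' := DerivedCategory.Q.obj P
  let D' := DerivedCategory.Q.obj D
  let K0 := algD ρ
  let Y := (DRing.restrictD φ).obj (Rφ.obj K)
  let a := adjR P D hP hD
  let γ : ten Y P' ⟶ K := wl Y eN.hom ≫ pairing adj K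
  let u := a.homEquiv Y K γ
  have hγ : wr u P' ≫ a.counit.app K = γ :=
    (a.homEquiv_counit _ _ _).symm.trans (Equiv.symm_apply_apply _ _)
  have hu : IsIso u := by
    refine isIso_of_yoneda_map_bijective _ fun T => ?_
    have e : (fun g : T ⟶ Y => g ≫ u) = a.homEquiv T K ∘
        preEquiv (asIso (wl T eN.hom)) K ∘ fun g => wr g (algD φ) ≫ pairing adj K := by
      funext g
      refine (a.homEquiv_naturality_left g γ).symm.trans (congrArg _ ?_)
      show wr g P' ≫ wl Y eN.hom ≫ pairing adj K = wl T eN.hom ≫ wr g (algD φ) ≫ pairing adj K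
      rw [reassoc_of% (exchange g eN.hom)]
    rw [e]
    exact (Equiv.bijective _).comp ((Equiv.bijective _).comp (pairing_bijective adj K T))
  let w : ten K0 Y ⟶ ten (ten K0 K) D' := wl K0 u ≫ (associator K0 K D').inv
  have hw : IsIso w := inferInstanceAs (IsIso (wl K0 u ≫ _))
  have e : preEquiv (asIso (wl S eN.hom)) (ten K0 K) ∘ evMap (ρ := ρ) adj K S =
      (a.homEquiv S (ten K0 K)).symm ∘ fun g => g ≫ w := by
    funext g
    show wl S eN.hom ≫ evMap (ρ := ρ) adj K S g = (a.homEquiv _ _).symm (g ≫ w)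
    rw [Adjunction.homEquiv_counit (adj := a)]
    show _ = wr (g ≫ wl K0 u ≫ (associator K0 K D').inv) P' ≫ a.counit.app (ten K0 K)
    rw [wr_comp_assoc', wr_comp_assoc', ← adjR_counit_tensor P D hP hD K0 K]
    erw [reassoc_of% (assoc_nat_mid K0 u P')]
    rw [← wl_comp, hγ, evMap, ← reassoc_of% (exchange g eN.hom),
      reassoc_of% (assoc_nat_right K0 Y eN.hom), ← wl_comp]
  refine ((Equiv.bijective _).of_comp_iff' _).1 (show Function.Bijective (preEquiv (asIso (wl S eN.hom)) (ten K0 K) ∘ _) from ?_)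
  rw [e]
  exact (Equiv.bijective _).comp (asIso w).homToEquiv.bijective

end Groth.DualCore.TrivBC
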