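import Groth.Agent.DualCore.Local
import Mathlib.RingTheory.PicardGroup
import Mathlib.RingTheory.Flat.CategoryTheory
import Mathlib.RingTheory.Finiteness.Projective
import Mathlib.Algebra.Category.ModuleCat.Monoidal.Basic
import Mathlib.Algebra.Category.ModuleCat.Monoidal.Closed

/-!
# Twisting an object of `D(A)` by finite projective modules
-/

set_option autoImplicit false

universe u

open CategoryTheory CategoryTheory.Limits DerivedCategory MonoidalCategory TensorProduct

attribute [local instance] HasDerivedCategory.standard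

namespace Groth.DualCore

variable {A : Type u} [CommRing A]

/-- A finite dual basis. -/
theorem exists_dual_basis (M : Type u) [AddCommGroup M] [Module A M] [Module.Finite A M]
    [Module.Projective A M] :
    ∃ (k : ℕ) (s : Fin k → (M →ₗ[A] A)) (t : Fin k → (A →ₗ[A] M)), ∀ m, ∑ j, t j (s j m) = m := by
  classical
  obtain ⟨k, f, g, -, -, hfg⟩ := Module.Finite.exists_comp_eq_id_of_projective A M
  refine ⟨k, fun j => LinearMap.proj j ∘ₗ g, fun j => f ∘ₗ LinearMap.single A (fun _ : Fin k => A) j,
    fun m => ?_⟩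
  simp only [LinearMap.comp_apply, LinearMap.proj_apply, LinearMap.coe_single]
  rw [← map_sum, Finset.univ_sum_single]
  exact LinearMap.congr_fun hfg m

variable (K : CochainComplex (ModuleCat.{u} A) ℤ)

/-- `M ↦ K ⊗ M` in the derived category. -/
noncomputable def twist : ModuleCat.{u} A ⥤ Dual.D A where
  obj M := Q.obj (((tensorRight M).mapHomologicalComplex (ComplexShape.up ℤ)).obj K)
  map g := Q.map ((NatTrans.mapHomologicalComplex ((tensoringRight (ModuleCat.{u} A)).map g) _).app K)
  map_id M := by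
    rw [CategoryTheory.Functor.map_id]
    exact (congrArg (fun h => Q.map h) (HomologicalComplex.hom_ext _ (𝟙 _) fun i => rfl)).trans (Q.map_id _)
  map_comp g h := by
    rw [CategoryTheory.Functor.map_comp, ← Q.map_comp]
    exact congrArg (fun h => Q.map h) (HomologicalComplex.hom_ext _ _ fun i => rfl)

instance : (twist K).Additive where
  map_add {M N g h} := by
    refine (congrArg (fun h => Q.map h) ?_).trans Q.map_add
    exact HomologicalComplex.hom_ext _ _ fun i => by
      show K.X i ◁ (g + h) = K.X i ◁ g + K.X i ◁ h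
      exact MonoidalPreadditive.whiskerLeft_add (X := K.X i) g h

instance : (twist K).Linear A where
  map_smul {M N} g r := by
    refine (congrArg (fun h => Q.map h) ?_).trans (Functor.map_smul Q r _)
    exact HomologicalComplex.hom_ext _ _ fun i => by
      show K.X i ◁ (r • g) = r • (K.X i ◁ g)
      exact MonoidalLinear.whiskerLeft_smul _ r g

/-- `K ⊗ A ≅ K`. -/
noncomputable def twistSelfIso : (twist K).obj (ModuleCat.of A A) ≅ Q.obj K :=
  Q.mapIso (HomologicalComplex.Hom.isoOfComponents (fun i => ρ_ (K.X i)) fun i j _ =>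
    (rightUnitor_naturality (K.d i j)).symm)

/-- `LTensor` by a flat module is the twist. -/
theorem nonempty_LTensor_iso (M : ModuleCat.{u} A) [Module.Flat A M] [DRing.HasLTensor A M] :
    Nonempty ((DRing.LTensor A M).obj (Q.obj K) ≅ (twist K).obj M) := by
  haveI : PreservesFiniteColimits (tensorRight M) :=
    preservesFiniteColimits_of_natIso (BraidedCategory.tensorLeftIsoTensorRight M)
  haveI := Functor.isLeftDerivedFunctor_of_inverts
    (HomotopyCategory.quasiIso (ModuleCat.{u} A) (ComplexShape.up ℤ)) (tensorRight M).mapDerivedCategory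
    (tensorRight M).mapDerivedCategoryFactorsh
  let e : DRing.LTensor A M ≅ (tensorRight M).mapDerivedCategory :=
    Functor.leftDerivedUnique (F := DRing.tensorKh A M) (L := Qh)
      (LF := DRing.LTensor A M) (LF' := (tensorRight M).mapDerivedCategory)
      (α := (DRing.tensorKh A M).totalLeftDerivedCounit Qh
        (HomotopyCategory.quasiIso (ModuleCat.{u} A) (ComplexShape.up ℤ)))
      (α'₂ := (tensorRight M).mapDerivedCategoryFactorsh.hom)
      (HomotopyCategory.quasiIso (ModuleCat.{u} A) (ComplexShape.up ℤ))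
  exact ⟨e.app _ ≪≫ (tensorRight M).mapDerivedCategoryFactors.app K⟩

variable (M N : ModuleCat.{u} A) [Module.Finite A M] [Module.Projective A M]

/-- The twist is a summand of finitely many copies. -/
theorem exists_twist_split : ∃ (k : ℕ) (a : Fin k → ((twist K).obj M ⟶ Q.obj K))
    (b : Fin k → (Q.obj K ⟶ (twist K).obj M)), ∑ j, a j ≫ b j = 𝟙 _ := by
  obtain ⟨k, s, t, h⟩ := exists_dual_basis (A := A) (M : Type u)
  refine ⟨k, fun j => (twist K).map (ModuleCat.ofHom (s j)) ≫ (twistSelfIso K).hom,
    fun j => (twistSelfIso K).inv ≫ (twist K).map (ModuleCat.ofHom (t j)), ?_⟩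
  simp only [Category.assoc, Iso.hom_inv_id_assoc, ← Functor.map_comp]
  rw [← Functor.map_sum, ← (twist K).map_id]
  congr 1
  ext m
  simp [h]

lemma twist_map_smul_id (c : A) : (twist K).map (ModuleCat.ofHom (c • LinearMap.id : A →ₗ[A] A)) =
    c • 𝟙 ((twist K).obj (ModuleCat.of A A)) := by
  rw [show ModuleCat.ofHom (c • LinearMap.id : A →ₗ[A] A) = c • 𝟙 (ModuleCat.of A A) from rfl,
    Functor.map_smul, CategoryTheory.Functor.map_id]

variable [Module.Finite A N] [Module.Projective A N]

/-- The twist is fully faithful on finite projective modules. -/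
theorem twist_map_bijective (hEnd : Function.Bijective (fun a : A => a • 𝟙 (Q.obj K))) :
    Function.Bijective ((twist K).map : (M ⟶ N) → _) := by
  obtain ⟨k, s, t, hM⟩ := exists_dual_basis (A := A) (M : Type u)
  obtain ⟨l, s', t', hN⟩ := exists_dual_basis (A := A) (N : Type u)
  let ε := twistSelfIso K
  have hsum : ∀ (g : M ⟶ N), ∑ j, ∑ i, ModuleCat.ofHom (t' i ∘ₗ s' i ∘ₗ g.hom ∘ₗ t j ∘ₗ s j) = g := by
    intro g
    ext m
    simp only [ModuleCat.hom_sum, ModuleCat.hom_ofHom, LinearMap.sum_apply, LinearMap.comp_apply, hN]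
    rw [← map_sum, hM]
  refine ⟨fun g g' hg => ?_, fun u => ?_⟩
  · rw [← sub_eq_zero] at hg ⊢
    rw [← Functor.map_sub] at hg
    generalize g - g' = g at hg ⊢
    have hz : ∀ i j, (s' i ∘ₗ g.hom ∘ₗ t j : A →ₗ[A] A) = 0 := by
      intro i j
      let c : A := s' i (g.hom (t j 1))
      have hc : (s' i ∘ₗ g.hom ∘ₗ t j : A →ₗ[A] A) = c • LinearMap.id := by
        ext
        simp [c]
      have h1 : (twist K).map (ModuleCat.ofHom (s' i ∘ₗ g.hom ∘ₗ t j)) = 0 := by
        show (twist K).map (ModuleCat.ofHom (t j) ≫ g ≫ ModuleCat.ofHom (s' i)) = 0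
        rw [Functor.map_comp, Functor.map_comp, hg, zero_comp, comp_zero]
      rw [hc, twist_map_smul_id] at h1
      have h2 : c • 𝟙 (Q.obj K) = (0 : A) • 𝟙 (Q.obj K) := by
        have := congrArg (fun v => ε.inv ≫ v ≫ ε.hom) h1
        simpa [ε] using this
      rw [hc, hEnd.1 h2, zero_smul]
    rw [← hsum g]
    refine Finset.sum_eq_zero fun j _ => Finset.sum_eq_zero fun i _ => ?_
    ext m
    show t' i ((s' i ∘ₗ g.hom ∘ₗ t j) (s j m)) = 0
    rw [hz]
    simp
  · choose c hc using fun i j => hEnd.2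
      (ε.inv ≫ (twist K).map (ModuleCat.ofHom (t j)) ≫ u ≫ (twist K).map (ModuleCat.ofHom (s' i)) ≫ ε.hom)
    refine ⟨∑ j, ∑ i, ModuleCat.ofHom (t' i ∘ₗ (c i j • LinearMap.id) ∘ₗ s j), ?_⟩
    have h1 : ∀ i j, (twist K).map (ModuleCat.ofHom (t j)) ≫ u ≫ (twist K).map (ModuleCat.ofHom (s' i)) =
        (twist K).map (ModuleCat.ofHom (c i j • LinearMap.id : A →ₗ[A] A)) := by
      intro i j
      have := congrArg (fun v => ε.hom ≫ v ≫ ε.inv) (hc i j)
      simp [ε] at this
      rw [twist_map_smul_id]
      exact this.symm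
    rw [Functor.map_sum]
    calc ∑ j, (twist K).map (∑ i, ModuleCat.ofHom (t' i ∘ₗ (c i j • LinearMap.id) ∘ₗ s j))
        = ∑ j, ∑ i, (twist K).map (ModuleCat.ofHom (s j) ≫ ModuleCat.ofHom (c i j • LinearMap.id : A →ₗ[A] A) ≫
            ModuleCat.ofHom (t' i)) := by
          simp only [Functor.map_sum]
          rfl
      _ = ∑ j, ∑ i, ((twist K).map (ModuleCat.ofHom (s j)) ≫ (twist K).map (ModuleCat.ofHom (t j))) ≫ u ≫
            (twist K).map (ModuleCat.ofHom (s' i)) ≫ (twist K).map (ModuleCat.ofHom (t' i)) := by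
          refine Finset.sum_congr rfl fun j _ => Finset.sum_congr rfl fun i _ => ?_
          rw [Functor.map_comp, Functor.map_comp, ← h1]
          simp only [Category.assoc]
      _ = u := by
          simp only [← Functor.map_comp]
          simp only [← Preadditive.comp_sum, ← Preadditive.sum_comp, ← Functor.map_sum]
          have eM : ∑ j, ModuleCat.ofHom (s j) ≫ ModuleCat.ofHom (t j) = 𝟙 M := by
            ext m; simp [hM]
          have eN : ∑ i, ModuleCat.ofHom (s' i) ≫ ModuleCat.ofHom (t' i) = 𝟙 N := by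
            ext m; simp [hN]
          rw [eM, eN, CategoryTheory.Functor.map_id, CategoryTheory.Functor.map_id, Category.id_comp,
            Category.comp_id]

/-- Vanishing between twists. -/
theorem subsingleton_twist_hom (i : ℤ) [Subsingleton (Q.obj K ⟶ (Q.obj K)⟦i⟧)] :
    Subsingleton ((twist K).obj M ⟶ ((twist K).obj N)⟦i⟧) := by
  obtain ⟨k, a, b, hab⟩ := exists_twist_split K M
  obtain ⟨l, a', b', hab'⟩ := exists_twist_split K N
  refine subsingleton_of_forall_eq 0 fun f => ?_
  have hf : f = (∑ j, a j ≫ b j) ≫ f ≫ (∑ j, a' j ≫ b' j)⟦i⟧' := by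
    rw [hab, hab', CategoryTheory.Functor.map_id, Category.id_comp, Category.comp_id]
  rw [hf, Functor.map_sum, Preadditive.comp_sum]
  simp only [Preadditive.sum_comp, Preadditive.comp_sum, Category.assoc, Functor.map_comp]
  refine Finset.sum_eq_zero fun i' _ => Finset.sum_eq_zero fun j _ => ?_
  rw [← Category.assoc (b _), ← Category.assoc (b _ ≫ f), Subsingleton.elim ((b _ ≫ f) ≫ _) 0, zero_comp, comp_zero]

variable {K M N}

/-- Twisting by an invertible module preserves dualizing complexes. -/
theorem isDualizing_twist (P : Type u) [AddCommGroup P] [Module A P] [Module.Invertible A P]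
    (h : Dual.IsDualizing A (Q.obj K)) : Dual.IsDualizing A ((twist K).obj (ModuleCat.of A P)) := by
  haveI := h.isNoetherianRing
  obtain ⟨k, a, b, hab⟩ := exists_twist_split K (ModuleCat.of A P)
  refine ⟨inferInstance, ?_, fun i => ?_, ?_, fun i hi => ?_⟩
  · obtain ⟨lo, hi, hinj⟩ := h.finite_injective_dimension
    refine ⟨lo, hi, fun M _ _ i hi' => ?_⟩
    haveI := hinj M i hi'
    refine subsingleton_of_forall_eq 0 fun f => ?_
    rw [← Category.comp_id f, ← CategoryTheory.Functor.map_id, ← hab, Functor.map_sum, Preadditive.comp_sum]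
    refine Finset.sum_eq_zero fun j _ => ?_
    rw [Functor.map_comp, ← Category.assoc, Subsingleton.elim (f ≫ (a j)⟦i⟧') 0, zero_comp]
  · let F := homologyFunctor (ModuleCat.{u} A) i
    haveI := h.finite_cohomology i
    let B : (Fin k → Dual.HD A (Q.obj K) i) →ₗ[A] Dual.HD A ((twist K).obj (ModuleCat.of A P)) i :=
      ∑ j, (F.map (b j)).hom ∘ₗ LinearMap.proj j
    refine Module.Finite.of_surjective B fun x => ⟨fun j => (F.map (a j)).hom x, ?_⟩
    rw [LinearMap.sum_apply]
    have h1 : ∑ j, F.map (a j) ≫ F.map (b j) = 𝟙 _ := by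
      rw [← CategoryTheory.Functor.map_id, ← hab, Functor.map_sum]
      simp only [Functor.map_comp]
    conv_rhs => rw [← show (∑ j, F.map (a j) ≫ F.map (b j)).hom x = x by rw [h1]; rfl]
    rw [ModuleCat.hom_sum, LinearMap.sum_apply]
    rfl
  · have hb := twist_map_bijective K (ModuleCat.of A P) (ModuleCat.of A P) h.toEnd_bijective
    have key : ∀ c : A, (twist K).map (c • 𝟙 (ModuleCat.of A P)) = c • 𝟙 _ := fun c => by
      rw [Functor.map_smul, CategoryTheory.Functor.map_id]
    refine ⟨fun c d hcd => ?_, fun v => ?_⟩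
    · have h1 : c • 𝟙 (ModuleCat.of A P) = d • 𝟙 (ModuleCat.of A P) :=
        hb.1 ((key c).trans (hcd.trans (key d).symm))
      exact (Module.Invertible.toModuleEnd_bijective A P).1
        (LinearMap.ext fun p => ConcreteCategory.congr_hom h1 p)
    · obtain ⟨g, rfl⟩ := hb.2 v
      obtain ⟨c, hc⟩ := (Module.Invertible.toModuleEnd_bijective A P).2 g.hom
      refine ⟨c, (key c).symm.trans (congrArg _ (ModuleCat.hom_ext ?_))⟩
      rw [← hc]
      rfl
  · haveI := h.ext_self_subsingleton i hi
    exact subsingleton_twist_hom K (ModuleCat.of A P) (ModuleCat.of A P) i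

/-- Uniqueness of the twisting data. -/
theorem twist_unique [Nontrivial A] (P P' : Type u) [AddCommGroup P] [Module A P] [Module.Invertible A P]
    [AddCommGroup P'] [Module A P'] [Module.Invertible A P'] (h : Dual.IsDualizing A (Q.obj K)) (n n' : ℤ)
    (e : ((twist K).obj (ModuleCat.of A P))⟦n⟧ ≅ ((twist K).obj (ModuleCat.of A P'))⟦n'⟧) :
    n = n' ∧ Nonempty (P ≃ₗ[A] P') := by
  obtain rfl : n = n' := by
    by_contra hne
    let d := n' - n
    haveI := h.ext_self_subsingleton d (sub_ne_zero.2 (Ne.symm hne))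
    haveI := subsingleton_twist_hom K (ModuleCat.of A P) (ModuleCat.of A P') d
    let X := (twist K).obj (ModuleCat.of A P)
    let Y := (twist K).obj (ModuleCat.of A P')
    let c : Y⟦n'⟧ ≅ (Y⟦d⟧)⟦n⟧ := (shiftFunctorAdd' (Dual.D A) d n n' (by simp [d])).app Y
    have h0 : (shiftFunctor (Dual.D A) n).map (𝟙 X) = 0 := by
      obtain ⟨g, hg⟩ := (shiftFunctor (Dual.D A) n).map_surjective (e.hom ≫ c.hom)
      rw [Subsingleton.elim g 0, Functor.map_zero] at hg
      rw [CategoryTheory.Functor.map_id, ← (e ≪≫ c).hom_inv_id, Iso.trans_hom, ← hg, zero_comp]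
    have h1 : 𝟙 X = 0 := (shiftFunctor (Dual.D A) n).map_injective (h0.trans (Functor.map_zero _ _ _).symm)
    have h2 : 𝟙 (ModuleCat.of A P) = 0 :=
      (twist_map_bijective K (ModuleCat.of A P) (ModuleCat.of A P) h.toEnd_bijective).1
        (by rw [CategoryTheory.Functor.map_id, Functor.map_zero]; exact h1)
    apply zero_ne_one (α := A)
    apply (Module.Invertible.toModuleEnd_bijective A P).1
    ext p
    have h3 : p = 0 := ConcreteCategory.congr_hom h2 p
    simp [h3]
  refine ⟨rfl, ?_⟩
  let e' := (shiftFunctor (Dual.D A) n).preimageIso e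
  obtain ⟨g, hg⟩ := (twist_map_bijective K (ModuleCat.of A P) (ModuleCat.of A P') h.toEnd_bijective).2 e'.hom
  obtain ⟨g', hg'⟩ := (twist_map_bijective K (ModuleCat.of A P') (ModuleCat.of A P) h.toEnd_bijective).2 e'.inv
  have i1 : g ≫ g' = 𝟙 _ := (twist_map_bijective K _ _ h.toEnd_bijective).1
    (by rw [Functor.map_comp, hg, hg', e'.hom_inv_id, CategoryTheory.Functor.map_id])
  have i2 : g' ≫ g = 𝟙 _ := (twist_map_bijective K _ _ h.toEnd_bijective).1
    (by rw [Functor.map_comp, hg, hg', e'.inv_hom_id, CategoryTheory.Functor.map_id])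
  exact ⟨Iso.toLinearEquiv (⟨g, g', i1, i2⟩ : ModuleCat.of A P ≅ ModuleCat.of A P')⟩

end Groth.DualCore
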