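import Groth.Agent.DualCore.Twist
import Groth.Agent.DualCore.AtPrime
import Groth.Agent.DualCore.Transform
import Groth.Agent.DualCore.Unique
import Mathlib.RingTheory.Spectrum.Prime.Noetherian

/-!
# Dualizing complexes on a connected spectrum differ by a shift and a twist
-/

set_option autoImplicit false

universe u

open CategoryTheory CategoryTheory.Limits DerivedCategory TensorProduct

attribute [local instance] HasDerivedCategory.standard

namespace Groth.DualCore

variable {A : Type u} [CommRing A] [IsNoetherianRing A] {ω ω' : Dual.D A}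
  (hω : Dual.IsDualizing A ω) (hω' : Dual.IsDualizing A ω')

include hω hω' in
lemma finite_hom_dualizing_pair (i : ℤ) : Module.Finite A (ω ⟶ ω'⟦i⟧) := by
  obtain ⟨a, b, ha, hb⟩ := exists_bounds hω
  obtain ⟨a', b', ha', hb'⟩ := exists_bounds hω'
  exact finite_hom_bounded ω ω' a b a' hω.finite_cohomology hω'.finite_cohomology i

include hω hω' in
/-- Each prime is in the support of exactly one `Hom(ω, ω'⟦i⟧)`. -/
theorem existsUnique_mem_support (p : PrimeSpectrum A) :
    ∃! i : ℤ, p ∈ Module.support A (ω ⟶ ω'⟦i⟧) := by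
  obtain ⟨a, b, ha, hb⟩ := exists_bounds hω
  obtain ⟨a', b', ha', hb'⟩ := exists_bounds hω'
  let L := Localization.AtPrime p.asIdeal
  haveI : IsNoetherianRing L := IsLocalization.isNoetherianRing p.asIdeal.primeCompl _ inferInstance
  have h1 := isDualizing_atPrime p.asIdeal hω
  have h2 := isDualizing_atPrime p.asIdeal hω'
  obtain ⟨n, ⟨e⟩⟩ := exists_shift_iso h1 h2
  have key : ∀ i, (p ∈ Module.support A (ω ⟶ ω'⟦i⟧)) ↔
      Nontrivial ((extD A L).obj ω ⟶ ((extD A L).obj ω)⟦n + i⟧) := by
    intro i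
    rw [Module.mem_support_iff]
    refine (mem_support_iff_tensor p.asIdeal _).trans
      ((extHomEquiv (B := L) ω ω' a b a' hω.finite_cohomology i).toEquiv.nontrivial_congr.trans
        (Linear.homCongr L (Iso.refl _) ((shiftFunctor (Dual.D L) i).mapIso e ≪≫
          ((shiftFunctorAdd' (Dual.D L) n i (n + i) rfl).app _).symm)).toEquiv.nontrivial_congr)
  refine ⟨-n, (key _).2 ?_, fun i hi => ?_⟩
  · rw [add_neg_cancel]
    exact ((Linear.homCongr L (Iso.refl _) ((shiftFunctorZero (Dual.D L) ℤ).app _).symm).toEquiv.nontrivial_congr).1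
      ((Equiv.ofBijective _ h1.toEnd_bijective).nontrivial_congr.1 inferInstance)
  · by_contra hne
    haveI := (key i).1 hi
    exact not_subsingleton _ (h1.ext_self_subsingleton (n + i) (by lia))

include hω hω' in
/-- On a connected spectrum one degree serves all primes. -/
theorem exists_support_eq_univ [ConnectedSpace (PrimeSpectrum A)] :
    ∃ n : ℤ, ∀ p : PrimeSpectrum A, p ∈ Module.support A (ω ⟶ ω'⟦n⟧) := by
  let S : ℤ → Set (PrimeSpectrum A) := fun i => Module.support A (ω ⟶ ω'⟦i⟧)
  have hex : ∀ p, ∃! i, p ∈ S i := existsUnique_mem_support hω hω'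
  choose d hd hd' using hex
  have hclosed : ∀ i, IsClosed (S i) := fun i =>
    haveI := finite_hom_dualizing_pair hω hω' i
    Module.isClosed_support
  obtain ⟨p₀⟩ : Nonempty (PrimeSpectrum A) := inferInstance
  refine ⟨d p₀, fun p => ?_⟩
  let T : Set ℤ := d '' {q | q.asIdeal ∈ minimalPrimes A}
  have hT : T.Finite := by
    refine Set.Finite.image d ?_
    exact (minimalPrimes.finite_of_isNoetherianRing A).preimage (fun x _ y _ h => PrimeSpectrum.ext h)
  have hmemT : ∀ q, d q ∈ T := fun q => by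
    obtain ⟨m, hm, hmq⟩ := Ideal.exists_minimalPrimes_le (I := (⊥ : Ideal A)) (J := q.asIdeal) bot_le
    let r : PrimeSpectrum A := ⟨m, hm.1.1⟩
    refine ⟨r, hm, hd' q (d r) ?_⟩
    exact Module.mem_support_mono (R := A) (M := ω ⟶ ω'⟦d r⟧) (p := r) (q := q) hmq (hd r)
  have hcompl : (S (d p₀))ᶜ = ⋃ i ∈ T \ {d p₀}, S i := by
    ext q
    simp only [Set.mem_compl_iff, Set.mem_iUnion, Set.mem_sdiff, Set.mem_singleton_iff, exists_prop]
    constructor
    · intro hq
      exact ⟨d q, ⟨hmemT q, fun h => hq (h ▸ hd q)⟩, hd q⟩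
    · rintro ⟨i, ⟨-, hi⟩, hqi⟩ hq
      exact hi ((hd' q i hqi).trans (hd' q _ hq).symm)
  have hclopen : IsClopen (S (d p₀)) := ⟨hclosed _, isClosed_compl_iff.1 (by
    rw [hcompl]
    exact (hT.subset Set.sdiff_subset).isClosed_biUnion fun i _ => hclosed i)⟩
  exact Set.eq_univ_iff_forall.1 (hclopen.eq_univ ⟨p₀, hd p₀⟩) p

section Pair

variable (hsupp : ∀ p : PrimeSpectrum A, p ∈ Module.support A (ω ⟶ ω'))

include hω hω' hsupp

/-- Locally the two complexes are isomorphic. -/
theorem nonempty_iso_atPrime (p : PrimeSpectrum A) :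
    Nonempty ((extD A (Localization.AtPrime p.asIdeal)).obj ω ≅
      (extD A (Localization.AtPrime p.asIdeal)).obj ω') := by
  obtain ⟨a, b, ha, hb⟩ := exists_bounds hω
  obtain ⟨a', b', ha', hb'⟩ := exists_bounds hω'
  let L := Localization.AtPrime p.asIdeal
  haveI : IsNoetherianRing L := IsLocalization.isNoetherianRing p.asIdeal.primeCompl _ inferInstance
  have h1 := isDualizing_atPrime p.asIdeal hω
  have h2 := isDualizing_atPrime p.asIdeal hω'
  obtain ⟨n, ⟨e⟩⟩ := exists_shift_iso h1 h2
  have hnt : Nontrivial (L ⊗[A] (ω ⟶ ω')) := (mem_support_iff_tensor p.asIdeal _).1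
    ((Module.mem_support_iff).1 (hsupp p))
  obtain rfl : n = 0 := by
    by_contra hne
    haveI := h1.ext_self_subsingleton n hne
    haveI := (Linear.homCongr L (Iso.refl ((extD A L).obj ω)) e).toEquiv.subsingleton
    have hθ : Function.Bijective (θ (B := L) ω ω') :=
      θ_iso_right ((shiftFunctorZero (Dual.D A) ℤ).app ω')
        (good_of_bounded (B := L) ω ω' a b a' hω.finite_cohomology 0)
    exact not_subsingleton _ (Equiv.ofBijective _ hθ).subsingleton
  exact ⟨(e ≪≫ (shiftFunctorZero (Dual.D L) ℤ).app _).symm⟩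

/-- The scalar of a composite does not depend on the order. -/
theorem coeff_eq {x : ω ⟶ ω'} {y : ω' ⟶ ω} {c c' : A} (hc : c • 𝟙 ω = x ≫ y) (hc' : c' • 𝟙 ω' = y ≫ x) :
    c = c' := by
  refine Module.eq_of_localization_maximal (R := A) (M := A) (fun P _ => Localization.AtPrime P)
    (fun P _ => Algebra.linearMap A (Localization.AtPrime P)) c c' fun m hm => ?_
  let L := Localization.AtPrime m
  haveI : IsNoetherianRing L := IsLocalization.isNoetherianRing m.primeCompl _ inferInstance
  obtain ⟨e⟩ := nonempty_iso_atPrime hω hω' hsupp ⟨m, inferInstance⟩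
  have h1 := isDualizing_atPrime m hω
  obtain ⟨α, hα⟩ := h1.toEnd_bijective.2 ((extD A L).map x ≫ e.inv)
  obtain ⟨β, hβ⟩ := h1.toEnd_bijective.2 (e.hom ≫ (extD A L).map y)
  have hx : (extD A L).map x = α • e.hom := by
    have := congrArg (· ≫ e.hom) hα
    simpa using this.symm
  have hy : (extD A L).map y = β • e.inv := by
    have := congrArg (e.inv ≫ ·) hβ
    simpa using this.symm
  have hEc : algebraMap A L c • 𝟙 ((extD A L).obj ω) = (α * β) • 𝟙 _ := by
    rw [← CategoryTheory.Functor.map_id, ← extD_map_smul, hc, Functor.map_comp, hx, hy, Linear.smul_comp,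
      Linear.comp_smul, smul_smul, e.hom_inv_id, CategoryTheory.Functor.map_id]
  have hEc' : algebraMap A L c' • 𝟙 ((extD A L).obj ω') = (α * β) • 𝟙 _ := by
    rw [← CategoryTheory.Functor.map_id, ← extD_map_smul, hc', Functor.map_comp, hx, hy, Linear.smul_comp,
      Linear.comp_smul, smul_smul, e.inv_hom_id, CategoryTheory.Functor.map_id, mul_comm]
  exact (h1.toEnd_bijective.1 hEc).trans ((isDualizing_atPrime m hω').toEnd_bijective.1 hEc').symm

/-- The composites generate the unit ideal. -/
theorem exists_partition : ∃ (k : ℕ) (x : Fin k → (ω ⟶ ω')) (y : Fin k → (ω' ⟶ ω)),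
    ∑ j, x j ≫ y j = 𝟙 ω := by
  classical
  choose c hc using fun z : (ω ⟶ ω') × (ω' ⟶ ω) => hω.toEnd_bijective.2 (z.1 ≫ z.2)
  replace hc : ∀ z, c z • 𝟙 ω = z.1 ≫ z.2 := hc
  have htop : Ideal.span (Set.range c) = ⊤ := by
    by_contra hne
    obtain ⟨m, hm, hle⟩ := Ideal.exists_le_maximal _ hne
    obtain ⟨a, b, ha, hb⟩ := exists_bounds hω
    obtain ⟨a', b', ha', hb'⟩ := exists_bounds hω'
    let L := Localization.AtPrime m
    haveI : IsNoetherianRing L := IsLocalization.isNoetherianRing m.primeCompl _ inferInstance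
    obtain ⟨e⟩ := nonempty_iso_atPrime hω hω' hsupp ⟨m, inferInstance⟩
    have hlift : ∀ {X Y : Dual.D A}, Function.Surjective (θ (B := L) X Y) →
        ∀ g : (extD A L).obj X ⟶ (extD A L).obj Y, ∃ (s : m.primeCompl) (h : X ⟶ Y),
          algebraMap A L s • g = (extD A L).map h := by
      intro X Y hs g
      obtain ⟨z, rfl⟩ := hs g
      induction z using TensorProduct.induction_on with
      | zero => exact ⟨1, 0, by rw [map_zero, smul_zero, Functor.map_zero]⟩
      | tmul l h =>
        obtain ⟨⟨r, s⟩, hrs⟩ := IsLocalization.surj m.primeCompl l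
        refine ⟨s, r • h, ?_⟩
        rw [θ_tmul, smul_smul, mul_comm, hrs, extD_map_smul]
      | add z z' hz hz' =>
        obtain ⟨s, h, he⟩ := hz
        obtain ⟨s', h', he'⟩ := hz'
        refine ⟨s * s', (s' : A) • h + (s : A) • h', ?_⟩
        rw [map_add, smul_add, Functor.map_add, extD_map_smul, extD_map_smul, ← he, ← he']
        simp only [smul_smul, ← map_mul, Submonoid.coe_mul, mul_comm (s' : A)]
    obtain ⟨s, h, hh⟩ := hlift
      (θ_iso_right ((shiftFunctorZero (Dual.D A) ℤ).app ω')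
        (good_of_bounded (B := L) ω ω' a b a' hω.finite_cohomology 0)).2 e.hom
    obtain ⟨t, k, hk⟩ := hlift
      (θ_iso_right ((shiftFunctorZero (Dual.D A) ℤ).app ω)
        (good_of_bounded (B := L) ω' ω a' b' a hω'.finite_cohomology 0)).2 e.inv
    have h1 : algebraMap A L (c (h, k)) = algebraMap A L s * algebraMap A L t := by
      refine (isDualizing_atPrime m hω).toEnd_bijective.1 ?_
      show algebraMap A L (c (h, k)) • 𝟙 _ = _
      rw [← CategoryTheory.Functor.map_id, ← extD_map_smul, hc, Functor.map_comp, ← hh, ← hk,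
        Linear.smul_comp, Linear.comp_smul, smul_smul, e.hom_inv_id, CategoryTheory.Functor.map_id]
    have h2 : c (h, k) ∉ m := by
      intro hmem
      have hu : IsUnit (algebraMap A L (c (h, k))) := by
        rw [h1]
        exact (IsLocalization.map_units L s).mul (IsLocalization.map_units L t)
      exact (IsLocalization.AtPrime.isUnit_to_map_iff L m _).1 hu hmem
    exact h2 (hle (Ideal.subset_span ⟨_, rfl⟩))
  obtain ⟨d, hd⟩ := Finsupp.mem_ideal_span_range_iff_exists_finsupp.1
    (show (1 : A) ∈ Ideal.span (Set.range c) by rw [htop]; exact Submodule.mem_top)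
  let ε := d.support.equivFin
  refine ⟨d.support.card, fun j => d (ε.symm j).1 • (ε.symm j).1.1, fun j => (ε.symm j).1.2, ?_⟩
  rw [ε.symm.sum_comp (fun z : d.support => (d z.1 • z.1.1) ≫ z.1.2),
    Finset.sum_coe_sort d.support (fun z => (d z • z.1) ≫ z.2)]
  conv_rhs => rw [← one_smul A (𝟙 ω), ← hd, Finsupp.sum, Finset.sum_smul]
  refine Finset.sum_congr rfl fun z _ => ?_
  rw [Linear.smul_comp, ← hc, smul_smul]

/-- The twisting module. -/
theorem exists_twist_iso (K : CochainComplex (ModuleCat.{u} A) ℤ) (eK : Q.obj K ≅ ω) :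
    ∃ (P : ModuleCat.{u} A) (_ : Module.Invertible A P), Nonempty (ω' ≅ (twist K).obj P) := by
  classical
  choose c hc using fun (x : ω ⟶ ω') (y : ω' ⟶ ω) => hω.toEnd_bijective.2 (x ≫ y)
  replace hc : ∀ x y, c x y • 𝟙 ω = x ≫ y := hc
  have hc' : ∀ x y, c x y • 𝟙 ω' = y ≫ x := fun x y => by
    obtain ⟨d, hd⟩ := hω'.toEnd_bijective.2 (y ≫ x)
    rw [coeff_eq hω hω' hsupp (hc x y) hd]
    exact hd
  obtain ⟨k, x, y, hxy⟩ := exists_partition hω hω' hsupp
  have hone : ∑ j, c (x j) (y j) = 1 := hω.toEnd_bijective.1 (by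
    show (∑ j, c (x j) (y j)) • 𝟙 ω = (1 : A) • 𝟙 ω
    rw [Finset.sum_smul, one_smul]
    exact (Finset.sum_congr rfl fun j _ => hc _ _).trans hxy)
  have hyx : ∑ j, y j ≫ x j = 𝟙 ω' := by
    rw [← Finset.sum_congr rfl fun j _ => hc' (x j) (y j), ← Finset.sum_smul, hone, one_smul]
  -- the scalar pairing
  have hinj := hω.toEnd_bijective.1
  have c_add : ∀ z z' w, c (z + z') w = c z w + c z' w := fun z z' w => hinj (by
    show c (z + z') w • 𝟙 ω = (c z w + c z' w) • 𝟙 ω
    rw [add_smul, hc, hc, hc, Preadditive.add_comp])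
  have c_smul : ∀ (r : A) z w, c (r • z) w = r * c z w := fun r z w => hinj (by
    show c (r • z) w • 𝟙 ω = (r * c z w) • 𝟙 ω
    rw [mul_smul, hc, hc, Linear.smul_comp])
  have c_add' : ∀ z w w', c z (w + w') = c z w + c z w' := fun z w w' => hinj (by
    show c z (w + w') • 𝟙 ω = (c z w + c z w') • 𝟙 ω
    rw [add_smul, hc, hc, hc, Preadditive.comp_add])
  have c_smul' : ∀ (r : A) z w, c z (r • w) = r * c z w := fun r z w => hinj (by
    show c z (r • w) • 𝟙 ω = (r * c z w) • 𝟙 ω
    rw [mul_smul, hc, hc, Linear.comp_smul])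
  let pairing : (ω ⟶ ω') →ₗ[A] (ω' ⟶ ω) →ₗ[A] A := LinearMap.mk₂ A c c_add c_smul c_add' c_smul'
  have hexp : ∀ z : ω ⟶ ω', ∑ j, c z (y j) • x j = z := fun z => by
    conv_rhs => rw [← Category.comp_id z, ← hyx, Preadditive.comp_sum]
    refine Finset.sum_congr rfl fun j _ => ?_
    rw [← Category.assoc, ← hc, Linear.smul_comp, Category.id_comp]
  have hswap : ∀ (z : ω ⟶ ω') (w : ω' ⟶ ω) (j : Fin k), c z (y j) • w = c z w • y j := fun z w j => by
    calc c z (y j) • w = w ≫ (c z (y j) • 𝟙 ω) := by rw [Linear.comp_smul, Category.comp_id]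
      _ = (w ≫ z) ≫ y j := by rw [hc, Category.assoc]
      _ = c z w • y j := by rw [← hc', Linear.smul_comp, Category.id_comp]
  haveI hfinP : Module.Finite A (ω ⟶ ω') := by
    let B : (Fin k → A) →ₗ[A] (ω ⟶ ω') := ∑ j, (LinearMap.proj j).smulRight (x j)
    exact Module.Finite.of_surjective B fun z => ⟨fun j => c z (y j), by
      simp only [B, LinearMap.sum_apply, LinearMap.smulRight_apply, LinearMap.proj_apply]
      exact hexp z⟩
  haveI hinv : Module.Invertible A (ω ⟶ ω') := by
    refine Module.Invertible.left (N := ω' ⟶ ω) (LinearEquiv.ofBijective (TensorProduct.lift pairing) ⟨?_, ?_⟩)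
    · rw [← LinearMap.ker_eq_bot, LinearMap.ker_eq_bot']
      intro t ht
      have key : ∀ t : (ω ⟶ ω') ⊗[A] (ω' ⟶ ω),
          t = TensorProduct.lift pairing t • ∑ j, x j ⊗ₜ[A] y j := by
        intro t
        induction t using TensorProduct.induction_on with
        | zero => simp
        | tmul z w =>
          conv_lhs => rw [← hexp z]
          rw [TensorProduct.sum_tmul, Finset.smul_sum]
          refine Finset.sum_congr rfl fun j _ => ?_
          rw [TensorProduct.smul_tmul, hswap]
          exact (TensorProduct.tmul_smul _ _ _)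
        | add t t' h h' => conv_lhs => rw [h, h', ← add_smul, ← map_add]
      rw [key t, ht, zero_smul]
    · intro r
      refine ⟨r • ∑ j, x j ⊗ₜ[A] y j, ?_⟩
      rw [map_smul, map_sum]
      show r • ∑ j, c (x j) (y j) = r
      rw [hone, smul_eq_mul, mul_one]
  haveI : Small.{u} (ω ⟶ ω') := by
    obtain ⟨n, p, hp⟩ := Module.Finite.exists_fin' A (ω ⟶ ω')
    exact small_of_surjective hp
  let σ := Shrink.linearEquiv.{u} A (ω ⟶ ω')
  let P := Shrink.{u} (ω ⟶ ω')
  haveI : Module.Invertible A P := Module.Invertible.congr σ.symm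
  refine ⟨ModuleCat.of A P, inferInstance, ?_⟩
  let φ : Fin k → (P →ₗ[A] A) := fun j => pairing.flip (y j) ∘ₗ σ.toLinearMap
  let b : Fin k → (A →ₗ[A] P) := fun j => LinearMap.toSpanSingleton A P (σ.symm (x j))
  let ε : (twist K).obj (ModuleCat.of A A) ≅ ω := twistSelfIso K ≪≫ eK
  have hφb : ∀ i j, ModuleCat.ofHom (b i) ≫ ModuleCat.ofHom (φ j) = c (x i) (y j) • 𝟙 (ModuleCat.of A A) := by
    intro i j
    ext
    show c (σ (LinearMap.toSpanSingleton A P (σ.symm (x i)) 1)) (y j) = c (x i) (y j) • (1 : A)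
    simp [σ]
  refine ⟨{ hom := ∑ j, y j ≫ ε.inv ≫ (twist K).map (ModuleCat.ofHom (b j))
            inv := ∑ j, (twist K).map (ModuleCat.ofHom (φ j)) ≫ ε.hom ≫ x j
            hom_inv_id := ?_
            inv_hom_id := ?_ }⟩
  · rw [Preadditive.sum_comp]
    simp only [Preadditive.comp_sum, Category.assoc]
    have : ∀ i j, (twist K).map (ModuleCat.ofHom (b i)) ≫ (twist K).map (ModuleCat.ofHom (φ j)) ≫ ε.hom ≫ x j =
        c (x i) (y j) • (ε.hom ≫ x j) := fun i j => by
      rw [← Category.assoc, ← Functor.map_comp, hφb, Functor.map_smul, CategoryTheory.Functor.map_id,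
        Linear.smul_comp, Category.id_comp]
    simp only [this, Linear.comp_smul, Iso.inv_hom_id_assoc]
    rw [← hyx]
    refine Finset.sum_congr rfl fun i _ => ?_
    conv_rhs => rw [← hexp (x i), Preadditive.comp_sum]
    exact Finset.sum_congr rfl fun j _ => (Linear.comp_smul _ _ _ _ _ _).symm
  · rw [Preadditive.sum_comp]
    simp only [Preadditive.comp_sum, Category.assoc]
    have : ∀ i j, (twist K).map (ModuleCat.ofHom (φ i)) ≫ ε.hom ≫ x i ≫ y j ≫ ε.inv ≫
        (twist K).map (ModuleCat.ofHom (b j)) =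
        (twist K).map (c (x i) (y j) • (ModuleCat.ofHom (φ i) ≫ ModuleCat.ofHom (b j))) := fun i j => by
      rw [← Category.assoc (x i), ← hc, Linear.smul_comp, Category.id_comp, Linear.comp_smul,
        Iso.hom_inv_id_assoc, Linear.comp_smul, Functor.map_smul, Functor.map_comp]
    simp only [this, ← Functor.map_sum]
    rw [← (twist K).map_id]
    congr 1
    refine ModuleCat.hom_ext (LinearMap.ext fun p => ?_)
    obtain ⟨z, rfl⟩ := σ.symm.surjective p
    apply σ.injective
    simp only [ModuleCat.hom_sum, ModuleCat.hom_smul, ModuleCat.hom_comp, ModuleCat.hom_ofHom,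
      LinearMap.sum_apply, LinearMap.smul_apply, LinearMap.comp_apply, ModuleCat.hom_id, LinearMap.id_apply,
      map_sum, map_smul]
    have hb : ∀ (j : Fin k) (r : A), σ (b j r) = r • x j := fun j r => by
      show σ (r • σ.symm (x j)) = _
      rw [map_smul, σ.apply_symm_apply]
    have hφ : ∀ i, φ i (σ.symm z) = c z (y i) := fun i => by
      show c (σ (σ.symm z)) (y i) = _
      rw [σ.apply_symm_apply]
    have hcz : ∀ j, ∑ i, c (x i) (y j) * c z (y i) = c z (y j) := fun j => by
      conv_rhs => rw [← hexp z]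
      show _ = pairing.flip (y j) (∑ i, c z (y i) • x i)
      rw [map_sum]
      refine Finset.sum_congr rfl fun i _ => ?_
      rw [map_smul, smul_eq_mul, mul_comm]
      rfl
    simp only [hφ, hb, smul_smul]
    rw [Finset.sum_comm]
    conv_rhs => rw [σ.apply_symm_apply, ← hexp z]
    exact Finset.sum_congr rfl fun j _ => by rw [← Finset.sum_smul, hcz]

end Pair

end Groth.DualCore
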